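/-
Basic API for `Cfsg.FusionSystem`.

To avoid juggling homomorphisms between dependent subgroup types we speak about a map of the system
through a total function `f : Ω → Ω`: `IsMap F P f` says that some map of `F` with source `P` agrees
with `f` on `P`. Then restriction, composition and inversion are statements about functions.
-/
import Mathlib
import Cfsg.Prelude.Def_FusionSystem

set_option autoImplicit false

namespace Cfsg.Agent.Fusion.Basic

open Cfsg Cfsg.FusionSystem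

open scoped Classical

variable {Ω : Type*} [Group Ω] {S : Subgroup Ω}

/-! ### Total functions attached to homomorphisms, images of subgroups -/

/-- A total function extending a homomorphism defined on a subgroup (junk value: identity). -/
noncomputable def ext {P : Subgroup Ω} (φ : P →* Ω) : Ω → Ω :=
  fun x => if h : x ∈ P then φ ⟨x, h⟩ else x

theorem ext_apply {P : Subgroup Ω} (φ : P →* Ω) (x : P) : ext φ x = φ x := by
  unfold ext
  rw [dif_pos x.2]

theorem ext_of_mem {P : Subgroup Ω} (φ : P →* Ω) {x : Ω} (hx : x ∈ P) : ext φ x = φ ⟨x, hx⟩ := by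
  unfold ext
  rw [dif_pos hx]

/-- The image of a subgroup under a function (the subgroup generated by the set image). -/
def img (f : Ω → Ω) (P : Subgroup Ω) : Subgroup Ω := Subgroup.closure (f '' (P : Set Ω))

/-- Conjugation as a function. -/
def cj (g : Ω) : Ω → Ω := fun x => g * x * g⁻¹

theorem cj_apply (g x : Ω) : cj g x = g * x * g⁻¹ := rfl

theorem cj_one : cj (1 : Ω) = id := by
  funext x; simp [cj]

theorem cj_mul (g h x : Ω) : cj (g * h) x = cj g (cj h x) := by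
  simp [cj, mul_assoc, mul_inv_rev]

theorem cj_inv_cj (g x : Ω) : cj g⁻¹ (cj g x) = x := by
  simp [cj, mul_assoc]

theorem cj_cj_inv (g x : Ω) : cj g (cj g⁻¹ x) = x := by
  simp [cj, mul_assoc]

/-- `IsHomOn P f`: `f` is multiplicative on the subgroup `P`. -/
def IsHomOn (P : Subgroup Ω) (f : Ω → Ω) : Prop :=
  ∀ x ∈ P, ∀ y ∈ P, f (x * y) = f x * f y

theorem IsHomOn.map_one {P : Subgroup Ω} {f : Ω → Ω} (h : IsHomOn P f) : f 1 = 1 := by
  have h1 := h 1 P.one_mem 1 P.one_mem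
  rw [one_mul] at h1
  exact left_eq_mul.mp h1

theorem IsHomOn.map_inv {P : Subgroup Ω} {f : Ω → Ω} (h : IsHomOn P f) {x : Ω} (hx : x ∈ P) :
    f x⁻¹ = (f x)⁻¹ := by
  have h1 := h x⁻¹ (P.inv_mem hx) x hx
  rw [inv_mul_cancel, h.map_one] at h1
  exact eq_inv_of_mul_eq_one_left h1.symm

theorem IsHomOn.map_conj {P : Subgroup Ω} {f : Ω → Ω} (h : IsHomOn P f) {g x : Ω} (hg : g ∈ P)
    (hx : x ∈ P) : f (g * x * g⁻¹) = f g * f x * (f g)⁻¹ := by
  rw [h _ (P.mul_mem hg hx) _ (P.inv_mem hg), h _ hg _ hx, h.map_inv hg]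

theorem IsHomOn.mono {P Q : Subgroup Ω} {f : Ω → Ω} (h : IsHomOn P f) (hQ : Q ≤ P) : IsHomOn Q f :=
  fun x hx y hy => h x (hQ hx) y (hQ hy)

theorem coe_img_of_hom {P : Subgroup Ω} {f : Ω → Ω} (h : IsHomOn P f) :
    ((img f P : Subgroup Ω) : Set Ω) = f '' (P : Set Ω) := by
  refine le_antisymm ?_ Subgroup.subset_closure
  intro y hy
  have hy' : y ∈ Subgroup.closure (f '' (P : Set Ω)) := hy
  clear hy
  induction hy' using Subgroup.closure_induction with
  | mem z hz => exact hz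
  | one => exact ⟨1, P.one_mem, h.map_one⟩
  | mul a b _ _ ha hb =>
    obtain ⟨u, hu, rfl⟩ := ha
    obtain ⟨v, hv, rfl⟩ := hb
    exact ⟨u * v, P.mul_mem hu hv, h u hu v hv⟩
  | inv a _ ha =>
    obtain ⟨u, hu, rfl⟩ := ha
    exact ⟨u⁻¹, P.inv_mem hu, h.map_inv hu⟩

theorem mem_img_self {P : Subgroup Ω} (f : Ω → Ω) {x : Ω} (hx : x ∈ P) : f x ∈ img f P :=
  Subgroup.subset_closure ⟨x, hx, rfl⟩

theorem img_le {P R : Subgroup Ω} {f : Ω → Ω} (h : ∀ x ∈ P, f x ∈ R) : img f P ≤ R := by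
  rw [img, Subgroup.closure_le]
  rintro _ ⟨x, hx, rfl⟩
  exact h x hx

theorem img_mono {P Q : Subgroup Ω} (f : Ω → Ω) (h : P ≤ Q) : img f P ≤ img f Q :=
  img_le fun _ hx => mem_img_self f (h hx)

theorem img_congr {P : Subgroup Ω} {f g : Ω → Ω} (h : ∀ x ∈ P, f x = g x) : img f P = img g P := by
  unfold img
  congr 1
  exact Set.image_congr h

theorem img_id (P : Subgroup Ω) : img id P = P := by
  simp [img, Subgroup.closure_eq]

theorem img_bot {f : Ω → Ω} (h : f 1 = 1) : img f ⊥ = ⊥ := by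
  refine le_antisymm (img_le ?_) bot_le
  intro x hx
  rw [Subgroup.mem_bot] at hx ⊢
  rw [hx, h]

theorem img_cj (g : Ω) (P : Subgroup Ω) : img (cj g) P = P.map (MulAut.conj g).toMonoidHom := by
  refine le_antisymm (img_le fun x hx => ⟨x, hx, rfl⟩) ?_
  rintro _ ⟨x, hx, rfl⟩
  exact mem_img_self (cj g) hx

theorem img_cj_eq_of_mem_normalizer {g : Ω} {P : Subgroup Ω}
    (hg : g ∈ Subgroup.normalizer (P : Set Ω)) : img (cj g) P = P := by
  rw [Subgroup.mem_normalizer_iff] at hg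
  refine le_antisymm (img_le fun x hx => (hg x).1 hx) fun x hx => ?_
  have hx' : g⁻¹ * x * g ∈ P := by
    rw [hg]
    simpa [mul_assoc] using hx
  have := mem_img_self (cj g) hx'
  simpa [cj, mul_assoc] using this

/-! ### Maps of a fusion system -/

/-- `IsMap F P f`: some map of `F` with source `P` agrees with `f` on `P`. -/
def IsMap (F : FusionSystem S) (P : Subgroup Ω) (f : Ω → Ω) : Prop :=
  ∃ φ ∈ F.Hom P, ∀ x : P, φ x = f x

variable {F : FusionSystem S} {P Q R : Subgroup Ω} {f g : Ω → Ω}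

theorem IsMap.of_hom {φ : P →* Ω} (h : φ ∈ F.Hom P) : IsMap F P (ext φ) :=
  ⟨φ, h, fun x => (ext_apply φ x).symm⟩

theorem IsMap.hom_mem (h : IsMap F P f) {φ : P →* Ω} (hφ : ∀ x : P, φ x = f x) : φ ∈ F.Hom P := by
  obtain ⟨ψ, hψ, he⟩ := h
  have : φ = ψ := MonoidHom.ext fun x => by rw [hφ, he]
  exact this ▸ hψ

theorem hom_mem_iff {φ : P →* Ω} : φ ∈ F.Hom P ↔ IsMap F P (ext φ) :=
  ⟨IsMap.of_hom, fun h => h.hom_mem fun x => (ext_apply φ x).symm⟩

theorem IsMap.le (h : IsMap F P f) : P ≤ S := by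
  obtain ⟨φ, hφ, -⟩ := h
  exact (F.le_of_mem hφ).1

theorem IsMap.mem (h : IsMap F P f) {x : Ω} (hx : x ∈ P) : f x ∈ S := by
  obtain ⟨φ, hφ, he⟩ := h
  rw [← he ⟨x, hx⟩]
  exact (F.le_of_mem hφ).2 _

theorem IsMap.isHom (h : IsMap F P f) : IsHomOn P f := by
  obtain ⟨φ, -, he⟩ := h
  intro x hx y hy
  rw [← he ⟨x, hx⟩, ← he ⟨y, hy⟩, ← he ⟨x * y, P.mul_mem hx hy⟩, ← map_mul]
  rfl

theorem IsMap.map_mul (h : IsMap F P f) {x y : Ω} (hx : x ∈ P) (hy : y ∈ P) :
    f (x * y) = f x * f y :=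
  h.isHom x hx y hy

theorem IsMap.map_one (h : IsMap F P f) : f 1 = 1 := h.isHom.map_one

theorem IsMap.map_inv (h : IsMap F P f) {x : Ω} (hx : x ∈ P) : f x⁻¹ = (f x)⁻¹ :=
  h.isHom.map_inv hx

theorem IsMap.map_conj (h : IsMap F P f) {x y : Ω} (hx : x ∈ P) (hy : y ∈ P) :
    f (x * y * x⁻¹) = f x * f y * (f x)⁻¹ :=
  h.isHom.map_conj hx hy

theorem IsMap.inj (h : IsMap F P f) {x y : Ω} (hx : x ∈ P) (hy : y ∈ P) (hxy : f x = f y) :
    x = y := by
  obtain ⟨φ, hφ, he⟩ := h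
  rw [← he ⟨x, hx⟩, ← he ⟨y, hy⟩] at hxy
  exact congrArg Subtype.val (F.injective_of_mem hφ hxy)

theorem IsMap.injOn (h : IsMap F P f) : Set.InjOn f (P : Set Ω) :=
  fun _ hx _ hy hxy => h.inj hx hy hxy

theorem IsMap.congr (h : IsMap F P f) (he : ∀ x ∈ P, f x = g x) : IsMap F P g := by
  obtain ⟨φ, hφ, hf⟩ := h
  exact ⟨φ, hφ, fun x => (hf x).trans (he x x.2)⟩

theorem isMap_cj {a : Ω} (hP : P ≤ S) (ha : a ∈ S) : IsMap F P (cj a) :=
  ⟨conjHom P a, F.conj_mem hP ha, fun _ => rfl⟩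

theorem isMap_id (hP : P ≤ S) : IsMap F P id := by
  rw [← cj_one]
  exact isMap_cj hP S.one_mem

theorem IsMap.comp (hg : IsMap F Q g) (hf : IsMap F P f) (hPQ : ∀ x ∈ P, f x ∈ Q) :
    IsMap F P (fun x => g (f x)) := by
  obtain ⟨φ, hφ, hef⟩ := hf
  obtain ⟨ψ, hψ, heg⟩ := hg
  refine ⟨ψ.comp (φ.codRestrict Q fun x => by rw [hef]; exact hPQ x x.2),
    F.comp_mem hφ hψ _, fun x => ?_⟩
  rw [MonoidHom.comp_apply, heg]
  exact congrArg g (hef x)

theorem IsMap.restrict (hf : IsMap F P f) (hQ : Q ≤ P) : IsMap F Q f :=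
  hf.comp (isMap_id (hQ.trans hf.le)) fun _ hx => hQ hx

theorem IsMap.coe_img (hf : IsMap F P f) : ((img f P : Subgroup Ω) : Set Ω) = f '' (P : Set Ω) :=
  coe_img_of_hom hf.isHom

theorem IsMap.mem_img (hf : IsMap F P f) {y : Ω} : y ∈ img f P ↔ ∃ x ∈ P, f x = y := by
  rw [← SetLike.mem_coe, hf.coe_img]
  rfl

theorem IsMap.img_le_S (hf : IsMap F P f) : img f P ≤ S := img_le fun _ hx => hf.mem hx

theorem IsMap.range_eq {φ : P →* Ω} (hφ : ∀ x : P, φ x = f x) : φ.range = img f P := by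
  refine le_antisymm ?_ (img_le fun x hx => ⟨⟨x, hx⟩, hφ ⟨x, hx⟩⟩)
  rintro _ ⟨x, rfl⟩
  rw [hφ x]
  exact mem_img_self f x.2

theorem range_eq_img (φ : P →* Ω) : φ.range = img (ext φ) P :=
  IsMap.range_eq fun x => (ext_apply φ x).symm

theorem map_subgroupOf_eq_img {φ : P →* Ω} (hφ : ∀ x : P, φ x = f x) (hQ : Q ≤ P) :
    (Q.subgroupOf P).map φ = img f Q := by
  refine le_antisymm ?_ (img_le fun x hx => ⟨⟨x, hQ hx⟩, hx, hφ ⟨x, hQ hx⟩⟩)
  rintro _ ⟨x, hx, rfl⟩
  rw [hφ x]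
  exact mem_img_self f hx

/-- A homomorphism realising a map. -/
noncomputable def IsMap.hom (hf : IsMap F P f) : P →* Ω :=
  MonoidHom.mk' (fun x => f x) fun x y => hf.map_mul x.2 y.2

@[simp] theorem IsMap.hom_apply (hf : IsMap F P f) (x : P) : hf.hom x = f x := rfl

theorem IsMap.hom_mem_self (hf : IsMap F P f) : hf.hom ∈ F.Hom P := hf.hom_mem fun _ => rfl

theorem IsMap.img_img (hf : IsMap F P f) (g : Ω → Ω) :
    img g (img f P) = img (fun x => g (f x)) P := by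
  refine le_antisymm (img_le fun y hy => ?_) (img_le fun x hx => mem_img_self g (mem_img_self f hx))
  obtain ⟨x, hx, rfl⟩ := hf.mem_img.1 hy
  exact mem_img_self (fun z => g (f z)) hx

theorem IsMap.img_inf (hf : IsMap F P f) {A B : Subgroup Ω} (hA : A ≤ P) (hB : B ≤ P) :
    img f (A ⊓ B) = img f A ⊓ img f B := by
  refine le_antisymm (le_inf (img_mono f inf_le_left) (img_mono f inf_le_right)) fun y hy => ?_
  obtain ⟨a, ha, rfl⟩ := (hf.restrict hA).mem_img.1 hy.1
  obtain ⟨b, hb, hab⟩ := (hf.restrict hB).mem_img.1 hy.2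
  have := hf.inj (hB hb) (hA ha) hab
  exact mem_img_self f ⟨ha, this ▸ hb⟩

theorem IsMap.card_img (hf : IsMap F P f) : Nat.card (img f P) = Nat.card P := by
  have h1 : Nat.card (img f P) = Nat.card (f '' (P : Set Ω)) := by rw [← hf.coe_img]; rfl
  rw [h1, Nat.card_image_of_injOn hf.injOn]
  rfl

theorem IsMap.img_sup (hf : IsMap F (P ⊔ Q) f) : img f (P ⊔ Q) = img f P ⊔ img f Q := by
  refine le_antisymm (img_le fun x hx => ?_) (sup_le (img_mono f le_sup_left) (img_mono f le_sup_right))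
  have hcl : P ⊔ Q = Subgroup.closure ((P : Set Ω) ∪ Q) := Subgroup.sup_eq_closure P Q
  have hx' : x ∈ Subgroup.closure ((P : Set Ω) ∪ Q) := hcl ▸ hx
  induction hx' using Subgroup.closure_induction with
  | mem z hz =>
    rcases hz with hz | hz
    · exact Subgroup.mem_sup_left (mem_img_self f hz)
    · exact Subgroup.mem_sup_right (mem_img_self f hz)
  | one => rw [hf.map_one]; exact Subgroup.one_mem _
  | mul a b ha hb iha ihb =>
    rw [hf.map_mul (hcl ▸ ha) (hcl ▸ hb)]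
    exact Subgroup.mul_mem _ (iha (hcl ▸ ha)) (ihb (hcl ▸ hb))
  | inv a ha iha =>
    rw [hf.map_inv (hcl ▸ ha)]
    exact Subgroup.inv_mem _ (iha (hcl ▸ ha))

/-- The inverse of a map, as a map of the system. -/
theorem IsMap.exists_inv (hf : IsMap F P f) :
    ∃ g, IsMap F (img f P) g ∧ img g (img f P) = P ∧ (∀ x ∈ P, g (f x) = x) ∧
      ∀ y ∈ img f P, f (g y) = y := by
  obtain ⟨φ, hφ, he⟩ := hf
  obtain ⟨ψ, hψ, hinv⟩ := F.inv_mem hφ
  have hr : φ.range = img f P := IsMap.range_eq he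
  have hm : IsMap F P f := ⟨φ, hφ, he⟩
  have h1 : IsMap F (img f P) (ext ψ) := hr ▸ IsMap.of_hom hψ
  have h2 : ∀ x ∈ P, ext ψ (f x) = x := fun x hx => by
    rw [← he ⟨x, hx⟩, ext_of_mem ψ ⟨⟨x, hx⟩, rfl⟩]
    exact hinv ⟨x, hx⟩
  refine ⟨ext ψ, h1, ?_, h2, fun y hy => ?_⟩
  · rw [hm.img_img, img_congr (g := id) h2, img_id]
  · obtain ⟨x, hx, rfl⟩ := hm.mem_img.1 hy
    rw [h2 x hx]

theorem isMap_mono {E : FusionSystem S} (h : F ≤ E) (hf : IsMap F P f) : IsMap E P f := by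
  obtain ⟨φ, hφ, he⟩ := hf
  exact ⟨φ, h P hφ, he⟩

theorem le_of_isMap {E : FusionSystem S} (h : ∀ (P : Subgroup Ω) (f : Ω → Ω), IsMap F P f → IsMap E P f) :
    F ≤ E :=
  fun P _ hφ => hom_mem_iff.2 (h P _ (IsMap.of_hom hφ))

theorem subset_of_isMap {T : Subgroup Ω} {E : FusionSystem T}
    (h : ∀ f : Ω → Ω, IsMap E P f → IsMap F P f) : E.Hom P ⊆ F.Hom P :=
  fun _ hφ => hom_mem_iff.2 (h _ (IsMap.of_hom hφ))

theorem isMap_of_subset {T : Subgroup Ω} {E : FusionSystem T} (h : E.IsSubsystemOf F)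
    (hf : IsMap E P f) : IsMap F P f := by
  obtain ⟨φ, hφ, he⟩ := hf
  exact ⟨φ, h P hφ, he⟩

theorem fs_ext {E : FusionSystem S} (h : ∀ P : Subgroup Ω, F.Hom P = E.Hom P) : F = E := by
  cases F
  cases E
  have := funext h
  simp_all

theorem fs_ext_le {E : FusionSystem S} (h₁ : F ≤ E) (h₂ : E ≤ F) : F = E :=
  fs_ext fun P => Set.Subset.antisymm (h₁ P) (h₂ P)

/-! ### Conjugacy of subgroups -/

theorem isConj_iff_map : F.IsConj P Q ↔ ∃ f, IsMap F P f ∧ img f P = Q := by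
  constructor
  · rintro ⟨φ, hφ, hr⟩
    exact ⟨ext φ, IsMap.of_hom hφ, by rw [← range_eq_img, hr]⟩
  · rintro ⟨f, hf, hr⟩
    exact ⟨hf.hom, hf.hom_mem_self, by rw [IsMap.range_eq (f := f) fun _ => rfl, hr]⟩

theorem IsMap.isConj (hf : IsMap F P f) : F.IsConj P (img f P) := isConj_iff_map.2 ⟨f, hf, rfl⟩

theorem isConj_refl (hP : P ≤ S) : F.IsConj P P :=
  isConj_iff_map.2 ⟨id, isMap_id hP, img_id P⟩

theorem isConj_symm (h : F.IsConj P Q) : F.IsConj Q P := by
  obtain ⟨f, hf, rfl⟩ := isConj_iff_map.1 h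
  obtain ⟨g, hg, hgi, -, -⟩ := hf.exists_inv
  exact isConj_iff_map.2 ⟨g, hg, hgi⟩

theorem isConj_trans (h₁ : F.IsConj P Q) (h₂ : F.IsConj Q R) : F.IsConj P R := by
  obtain ⟨f, hf, rfl⟩ := isConj_iff_map.1 h₁
  obtain ⟨g, hg, rfl⟩ := isConj_iff_map.1 h₂
  exact isConj_iff_map.2 ⟨_, hg.comp hf fun x hx => mem_img_self f hx, (hf.img_img g).symm⟩

theorem isConj_le (h : F.IsConj P Q) : P ≤ S ∧ Q ≤ S := by
  obtain ⟨f, hf, rfl⟩ := isConj_iff_map.1 h
  exact ⟨hf.le, hf.img_le_S⟩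

theorem isConj_card (h : F.IsConj P Q) : Nat.card Q = Nat.card P := by
  obtain ⟨f, hf, rfl⟩ := isConj_iff_map.1 h
  exact hf.card_img

/-! ### Automorphism groups -/

/-- An automorphism of `P` as a total function. -/
noncomputable def autFun {P : Subgroup Ω} (α : MulAut P) : Ω → Ω :=
  fun x => if h : x ∈ P then ((α ⟨x, h⟩ : P) : Ω) else x

theorem autFun_apply {P : Subgroup Ω} (α : MulAut P) (x : P) :
    autFun α (x : Ω) = ((α x : P) : Ω) := by
  unfold autFun
  rw [dif_pos x.2]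

theorem autFun_of_mem {P : Subgroup Ω} (α : MulAut P) {x : Ω} (hx : x ∈ P) :
    autFun α x = ((α ⟨x, hx⟩ : P) : Ω) := by
  unfold autFun
  rw [dif_pos hx]

theorem autFun_mem (α : MulAut P) {x : Ω} (hx : x ∈ P) : autFun α x ∈ P := by
  rw [autFun_of_mem α hx]
  exact SetLike.coe_mem _

theorem autFun_one : autFun (1 : MulAut P) = id := by
  funext x
  unfold autFun
  split <;> simp

theorem autFun_mul (α β : MulAut P) (x : Ω) : autFun (α * β) x = autFun α (autFun β x) := by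
  by_cases hx : x ∈ P
  · rw [autFun_of_mem _ hx, autFun_of_mem β hx, autFun_apply]
    rfl
  · simp [autFun, hx]

theorem autFun_inv_apply (α : MulAut P) (x : Ω) : autFun α⁻¹ (autFun α x) = x := by
  rw [← autFun_mul, inv_mul_cancel, autFun_one]; rfl

theorem autFun_apply_inv (α : MulAut P) (x : Ω) : autFun α (autFun α⁻¹ x) = x := by
  rw [← autFun_mul, mul_inv_cancel, autFun_one]; rfl

theorem autFun_isHom (α : MulAut P) : IsHomOn P (autFun α) := by
  intro x hx y hy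
  rw [autFun_of_mem α hx, autFun_of_mem α hy, autFun_of_mem α (P.mul_mem hx hy), ← Subgroup.coe_mul,
    ← _root_.map_mul]
  rfl

theorem autFun_img (α : MulAut P) : img (autFun α) P = P :=
  le_antisymm (img_le fun _ hx => autFun_mem α hx) fun x hx => by
    have := mem_img_self (autFun α) (autFun_mem α⁻¹ hx)
    rwa [autFun_apply_inv] at this

theorem autFun_ext {α β : MulAut P} (h : ∀ x ∈ P, autFun α x = autFun β x) : α = β := by
  apply MulEquiv.ext
  intro x
  apply Subtype.ext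
  rw [← autFun_apply, ← autFun_apply, h x x.2]

theorem mem_autGen_iff {α : MulAut P} :
    P.subtype.comp α.toMonoidHom ∈ F.Hom P ↔ IsMap F P (autFun α) :=
  ⟨fun h => ⟨_, h, fun x => (autFun_apply α x).symm⟩,
    fun h => h.hom_mem fun x => (autFun_apply α x).symm⟩

theorem isMap_autFun_inv {α : MulAut P} (h : IsMap F P (autFun α)) : IsMap F P (autFun α⁻¹) := by
  obtain ⟨g, hg, -, hgf, -⟩ := h.exists_inv
  rw [autFun_img] at hg
  refine hg.congr fun x hx => ?_
  conv_lhs => rw [← autFun_apply_inv α x]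
  rw [hgf _ (autFun_mem _ hx)]

theorem mem_autGroup_iff (hP : P ≤ S) {α : MulAut P} :
    α ∈ F.autGroup P ↔ IsMap F P (autFun α) := by
  refine ⟨fun h => ?_, fun h => Subgroup.subset_closure (mem_autGen_iff.2 h)⟩
  induction h using Subgroup.closure_induction with
  | mem β hβ => exact mem_autGen_iff.1 hβ
  | one => rw [autFun_one]; exact isMap_id hP
  | mul a b _ _ ha hb =>
    exact (ha.comp hb fun x hx => autFun_mem b hx).congr fun x _ => (autFun_mul a b x).symm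
  | inv a _ ha => exact isMap_autFun_inv ha

theorem isMap_of_mem_autGroup (hP : P ≤ S) {α : MulAut P} (h : α ∈ F.autGroup P) :
    IsMap F P (autFun α) :=
  (mem_autGroup_iff hP).1 h

/-- The automorphism of `P` given by a function that restricts to a bijection of `P`. -/
noncomputable def mkAut {P : Subgroup Ω} {f : Ω → Ω} (hhom : IsHomOn P f)
    (hinj : Set.InjOn f (P : Set Ω)) (himg : img f P = P) : MulAut P :=
  MulEquiv.ofBijective
    (MonoidHom.mk' (fun x : P => (⟨f x, le_of_eq himg (mem_img_self f x.2)⟩ : P))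
      fun x y => Subtype.ext (hhom x x.2 y y.2))
    ⟨fun x y hxy => Subtype.ext (hinj x.2 y.2 (congrArg Subtype.val hxy)), fun y => by
      have hy : (y : Ω) ∈ ((img f P : Subgroup Ω) : Set Ω) := le_of_eq himg.symm y.2
      rw [coe_img_of_hom hhom] at hy
      obtain ⟨x, hx, hxy⟩ := hy
      exact ⟨⟨x, hx⟩, Subtype.ext hxy⟩⟩

theorem autFun_mkAut {P : Subgroup Ω} {f : Ω → Ω} (hhom : IsHomOn P f)
    (hinj : Set.InjOn f (P : Set Ω)) (himg : img f P = P) {x : Ω} (hx : x ∈ P) :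
    autFun (mkAut hhom hinj himg) x = f x := by
  rw [autFun_of_mem _ hx]
  rfl

theorem IsMap.exists_aut (hf : IsMap F P f) (himg : img f P = P) :
    ∃ α ∈ F.autGroup P, ∀ x ∈ P, autFun α x = f x :=
  ⟨mkAut hf.isHom hf.injOn himg,
    (mem_autGroup_iff hf.le).2 (hf.congr fun _ hx => (autFun_mkAut _ _ _ hx).symm),
    fun _ hx => autFun_mkAut _ _ _ hx⟩

/-! ### Automorphisms induced by conjugation -/

theorem mem_normalizer_of_induced {g : Ω} {α : MulAut P}
    (hg : ∀ x : P, ((α x : P) : Ω) = g * (x : Ω) * g⁻¹) : g ∈ Subgroup.normalizer (P : Set Ω) := by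
  rw [Subgroup.mem_normalizer_iff]
  intro y
  constructor
  · intro hy
    have := hg ⟨y, hy⟩
    exact this ▸ SetLike.coe_mem _
  · intro hy
    have h1 := hg (α⁻¹ ⟨g * y * g⁻¹, hy⟩)
    rw [show α (α⁻¹ ⟨g * y * g⁻¹, hy⟩) = ⟨g * y * g⁻¹, hy⟩ from α.apply_symm_apply _] at h1
    have h2 : y = ((α⁻¹ ⟨g * y * g⁻¹, hy⟩ : P) : Ω) := by simpa using h1
    exact h2 ▸ SetLike.coe_mem _

theorem mem_autInducedBy_iff {K : Subgroup Ω} {α : MulAut P} :
    α ∈ autInducedBy K P ↔ ∃ g ∈ K, ∀ x : P, ((α x : P) : Ω) = g * (x : Ω) * g⁻¹ := by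
  refine ⟨fun h => ?_, fun h => Subgroup.subset_closure h⟩
  induction h using Subgroup.closure_induction with
  | mem β hβ => exact hβ
  | one => exact ⟨1, K.one_mem, fun x => by simp⟩
  | mul a b _ _ ha hb =>
    obtain ⟨g, hg, hga⟩ := ha
    obtain ⟨k, hk, hkb⟩ := hb
    refine ⟨g * k, K.mul_mem hg hk, fun x => ?_⟩
    show ((a (b x) : P) : Ω) = _
    rw [hga, hkb]
    simp [mul_assoc]
  | inv a _ ha =>
    obtain ⟨g, hg, hga⟩ := ha
    refine ⟨g⁻¹, K.inv_mem hg, fun x => ?_⟩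
    have := hga (a⁻¹ x)
    rw [show a (a⁻¹ x) = x from a.apply_symm_apply _] at this
    rw [this]
    simp [mul_assoc]

theorem mem_autInducedBy_iff' {K : Subgroup Ω} {α : MulAut P} :
    α ∈ autInducedBy K P ↔ ∃ g ∈ K ⊓ Subgroup.normalizer (P : Set Ω),
      ∀ x ∈ P, autFun α x = cj g x := by
  rw [mem_autInducedBy_iff]
  constructor
  · rintro ⟨g, hg, h⟩
    exact ⟨g, ⟨hg, mem_normalizer_of_induced h⟩, fun x hx => by rw [autFun_of_mem α hx]; exact h ⟨x, hx⟩⟩
  · rintro ⟨g, hg, h⟩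
    exact ⟨g, hg.1, fun x => by rw [← autFun_apply]; exact h x x.2⟩

theorem autInducedBy_le (hP : P ≤ S) : autInducedBy S P ≤ F.autGroup P := by
  intro α hα
  obtain ⟨g, hg, h⟩ := mem_autInducedBy_iff'.1 hα
  exact (mem_autGroup_iff hP).2 ((isMap_cj hP hg.1).congr fun x hx => (h x hx).symm)

theorem mem_inn_iff {α : MulAut P} : α ∈ Inn P ↔ ∃ g ∈ P, ∀ x ∈ P, autFun α x = cj g x := by
  constructor
  · rintro ⟨g, rfl⟩
    exact ⟨g, g.2, fun x hx => by rw [autFun_of_mem _ hx]; rfl⟩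
  · rintro ⟨g, hg, h⟩
    exact ⟨⟨g, hg⟩, autFun_ext fun x hx => by rw [h x hx, autFun_of_mem _ hx]; rfl⟩

theorem inn_le_autInducedBy {K : Subgroup Ω} (hPK : P ≤ K) : Inn P ≤ autInducedBy K P := by
  intro α hα
  obtain ⟨g, hg, h⟩ := mem_inn_iff.1 hα
  exact mem_autInducedBy_iff'.2 ⟨g, ⟨hPK hg, Subgroup.le_normalizer hg⟩, h⟩

theorem inn_le_autGroup (hP : P ≤ S) : Inn P ≤ F.autGroup P :=
  (inn_le_autInducedBy hP).trans (autInducedBy_le hP)

/-- The homomorphism from `N_K(P)` to `Aut(P)`. -/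
def conjAut (K P : Subgroup Ω) : ↥(K ⊓ Subgroup.normalizer (P : Set Ω)) →* MulAut P :=
  P.normalizerMonoidHom.comp (Subgroup.inclusion inf_le_right)

theorem conjAut_apply {K : Subgroup Ω} (g : ↥(K ⊓ Subgroup.normalizer (P : Set Ω))) {x : Ω}
    (hx : x ∈ P) : autFun (conjAut K P g) x = cj (g : Ω) x := by
  rw [autFun_of_mem _ hx]
  rfl

theorem conjAut_range (K P : Subgroup Ω) : (conjAut K P).range = autInducedBy K P := by
  ext α
  rw [mem_autInducedBy_iff']
  constructor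
  · rintro ⟨g, rfl⟩
    exact ⟨g, g.2, fun x hx => conjAut_apply g hx⟩
  · rintro ⟨g, hg, h⟩
    exact ⟨⟨g, hg⟩, autFun_ext fun x hx => by rw [conjAut_apply ⟨g, hg⟩ hx, h x hx]⟩

theorem conjAut_ker (K P : Subgroup Ω) :
    (conjAut K P).ker =
      (K ⊓ Subgroup.centralizer (P : Set Ω)).subgroupOf (K ⊓ Subgroup.normalizer (P : Set Ω)) := by
  rw [conjAut, ← MonoidHom.comap_ker, Subgroup.normalizerMonoidHom_ker]
  ext g
  simp only [Subgroup.mem_comap, Subgroup.mem_subgroupOf, Subgroup.mem_inf, Subgroup.coe_inclusion]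
  exact ⟨fun h => ⟨g.2.1, h⟩, fun h => h.2⟩

theorem card_autInducedBy_mul (K P : Subgroup Ω) :
    Nat.card (autInducedBy K P) * Nat.card ↥(K ⊓ Subgroup.centralizer (P : Set Ω)) =
      Nat.card ↥(K ⊓ Subgroup.normalizer (P : Set Ω)) := by
  have hle : K ⊓ Subgroup.centralizer (P : Set Ω) ≤ K ⊓ Subgroup.normalizer (P : Set Ω) :=
    inf_le_inf_left K (Subgroup.centralizer_le_normalizer _)
  rw [← conjAut_range, ← Subgroup.index_ker, conjAut_ker,
    ← Nat.card_congr (Subgroup.subgroupOfEquivOfLe hle).toEquiv]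
  exact Subgroup.index_mul_card _

/-! ### The subgroup `N_φ` -/

/-- `N_f` for a function `f` on `P`. -/
def nSub (S P : Subgroup Ω) (f : Ω → Ω) : Subgroup Ω where
  carrier := {g | g ∈ S ∧ g ∈ Subgroup.normalizer (P : Set Ω) ∧
    ∃ h ∈ S, ∀ x ∈ P, f (g * x * g⁻¹) = h * f x * h⁻¹}
  one_mem' := ⟨S.one_mem, Subgroup.one_mem _, 1, S.one_mem, fun x _ => by simp⟩
  mul_mem' := by
    rintro a b ⟨ha, ha', u, hu, hua⟩ ⟨hb, hb', v, hv, hvb⟩
    refine ⟨S.mul_mem ha hb, Subgroup.mul_mem _ ha' hb', u * v, S.mul_mem hu hv, fun x hx => ?_⟩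
    have hbx : b * x * b⁻¹ ∈ P := (Subgroup.mem_normalizer_iff.1 hb' x).1 hx
    have := hua _ hbx
    rw [hvb x hx] at this
    simpa [mul_assoc] using this
  inv_mem' := by
    rintro a ⟨ha, ha', u, hu, hua⟩
    refine ⟨S.inv_mem ha, Subgroup.inv_mem _ ha', u⁻¹, S.inv_mem hu, fun x hx => ?_⟩
    have hax : a⁻¹ * x * a⁻¹⁻¹ ∈ P := (Subgroup.mem_normalizer_iff.1 (Subgroup.inv_mem _ ha') x).1 hx
    have := hua _ hax
    simp only [inv_inv, mul_assoc, mul_inv_cancel_left, mul_inv_cancel, mul_one] at this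
    rw [this]
    simp [mul_assoc]

theorem mem_nSub {S P : Subgroup Ω} {f : Ω → Ω} {g : Ω} :
    g ∈ nSub S P f ↔ g ∈ S ∧ g ∈ Subgroup.normalizer (P : Set Ω) ∧
      ∃ h ∈ S, ∀ x ∈ P, f (g * x * g⁻¹) = h * f x * h⁻¹ :=
  Iff.rfl

theorem nSub_le (S P : Subgroup Ω) (f : Ω → Ω) : nSub S P f ≤ normalizerIn S P :=
  fun _ hg => ⟨hg.1, hg.2.1⟩

theorem nSub_congr {S P : Subgroup Ω} {f g : Ω → Ω} (h : ∀ x ∈ P, f x = g x) :
    nSub S P f = nSub S P g := by
  ext a
  simp only [mem_nSub]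
  refine and_congr_right fun _ => and_congr_right fun ha => exists_congr fun u =>
    and_congr_right fun _ => forall₂_congr fun x hx => ?_
  rw [h x hx, h _ ((Subgroup.mem_normalizer_iff.1 ha x).1 hx)]

theorem extender_eq_nSub {S : Subgroup Ω} {φ : P →* Ω} (hφ : ∀ x : P, φ x = f x) :
    extender S P φ = nSub S P f := by
  refine le_antisymm ?_ fun g hg => ?_
  · rw [extender, Subgroup.closure_le]
    rintro g ⟨hgS, hgN, h, hh, he⟩
    refine ⟨hgS, hgN, h, hh, fun x hx => ?_⟩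
    have := he ⟨x, hx⟩ ((Subgroup.mem_normalizer_iff.1 hgN x).1 hx)
    rwa [hφ, hφ] at this
  · obtain ⟨hgS, hgN, h, hh, he⟩ := hg
    refine Subgroup.subset_closure ⟨hgS, hgN, h, hh, fun x hx => ?_⟩
    rw [hφ, hφ]
    exact he x x.2

theorem centralizerIn_le_nSub {S P : Subgroup Ω} {f : Ω → Ω} :
    centralizerIn S P ≤ nSub S P f := by
  intro g hg
  refine ⟨hg.1, Subgroup.centralizer_le_normalizer _ hg.2, 1, S.one_mem, fun x hx => ?_⟩
  have : g * x = x * g := (hg.2 x hx).symm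
  rw [this]
  simp

theorem le_nSub (hf : IsMap F P f) : P ≤ nSub S P f := fun g hg =>
  ⟨hf.le hg, Subgroup.le_normalizer hg, f g, hf.mem hg, fun _ hx => hf.map_conj hg hx⟩

theorem isReceptive_iff :
    F.IsReceptive Q ↔ Q ≤ S ∧ ∀ (P : Subgroup Ω) (f : Ω → Ω), IsMap F P f → img f P = Q →
      ∃ g, IsMap F (nSub S P f) g ∧ ∀ x ∈ P, g x = f x := by
  refine and_congr_right fun _ => ⟨fun h P f hf himg => ?_, fun h P φ hφ hr => ?_⟩
  · obtain ⟨ψ, hψ, he⟩ := h P hf.hom hf.hom_mem_self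
      (by rw [IsMap.range_eq (f := f) fun _ => rfl, himg])
    have hE : extender S P hf.hom = nSub S P f := extender_eq_nSub fun _ => rfl
    refine ⟨ext ψ, hE ▸ IsMap.of_hom hψ, fun x hx => ?_⟩
    have hxN : x ∈ extender S P hf.hom := hE ▸ le_nSub hf hx
    rw [ext_of_mem ψ hxN, he x hx hxN]
    rfl
  · obtain ⟨g, hg, he⟩ := h P (ext φ) (IsMap.of_hom hφ) (by rw [← range_eq_img, hr])
    have hE : extender S P φ = nSub S P (ext φ) := extender_eq_nSub fun x => (ext_apply φ x).symm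
    have hg' : IsMap F (extender S P φ) g := hE ▸ hg
    refine ⟨hg'.hom, hg'.hom_mem_self, fun x hx hxN => ?_⟩
    rw [IsMap.hom_apply, he x hx, ext_of_mem φ hx]

/-! ### Transport of normalizers and centralizers along maps -/

theorem IsMap.mem_centralizer_img (hf : IsMap F R f) (hP : P ≤ R) {g : Ω} (hgR : g ∈ R)
    (hg : g ∈ Subgroup.centralizer (P : Set Ω)) :
    f g ∈ Subgroup.centralizer (img f P : Set Ω) := by
  intro y hy
  obtain ⟨x, hx, rfl⟩ := (hf.restrict hP).mem_img.1 hy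
  rw [← hf.map_mul (hP hx) hgR, ← hf.map_mul hgR (hP hx), hg x hx]

theorem IsMap.mem_normalizer_img (hf : IsMap F R f) (hP : P ≤ R) {g : Ω} (hgR : g ∈ R)
    (hg : g ∈ Subgroup.normalizer (P : Set Ω)) :
    f g ∈ Subgroup.normalizer (img f P : Set Ω) := by
  have key : ∀ a : Ω, a ∈ R → a ∈ Subgroup.normalizer (P : Set Ω) →
      ∀ y ∈ img f P, f a * y * (f a)⁻¹ ∈ img f P := by
    intro a haR ha y hy
    obtain ⟨x, hx, rfl⟩ := (hf.restrict hP).mem_img.1 hy
    rw [← hf.map_conj haR (hP hx)]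
    exact mem_img_self f ((Subgroup.mem_normalizer_iff.1 ha x).1 hx)
  rw [Subgroup.mem_normalizer_iff]
  intro y
  refine ⟨key g hgR hg y, fun hy => ?_⟩
  have := key g⁻¹ (R.inv_mem hgR) (Subgroup.inv_mem _ hg) _ hy
  rw [hf.map_inv hgR] at this
  simpa [mul_assoc] using this

theorem IsMap.img_centralizerIn_le (hf : IsMap F R f) (hP : P ≤ R) (hC : centralizerIn S P ≤ R) :
    img f (centralizerIn S P) ≤ centralizerIn S (img f P) :=
  img_le fun _ hx => ⟨hf.mem (hC hx), hf.mem_centralizer_img hP (hC hx) hx.2⟩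

theorem IsMap.img_normalizerIn_le (hf : IsMap F R f) (hP : P ≤ R) (hN : normalizerIn S P ≤ R) :
    img f (normalizerIn S P) ≤ normalizerIn S (img f P) :=
  img_le fun _ hx => ⟨hf.mem (hN hx), hf.mem_normalizer_img hP (hN hx) hx.2⟩

theorem le_normalizerIn (hP : P ≤ S) : P ≤ normalizerIn S P := le_inf hP Subgroup.le_normalizer

theorem normalizerIn_le : normalizerIn S P ≤ S := inf_le_left

theorem centralizerIn_le : centralizerIn S P ≤ S := inf_le_left

theorem centralizerIn_le_normalizerIn : centralizerIn S P ≤ normalizerIn S P :=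
  inf_le_inf_left S (Subgroup.centralizer_le_normalizer _)

theorem card_autInducedBy_mul' :
    Nat.card (autInducedBy S P) * Nat.card (centralizerIn S P) = Nat.card (normalizerIn S P) :=
  card_autInducedBy_mul S P

/-- Transport of the automorphism groups along a map: `Aut_F(P) ≃* Aut_F(f(P))`. -/
theorem IsMap.exists_autEquiv (hf : IsMap F P f) :
    ∃ e : F.autGroup P ≃* F.autGroup (img f P), ∀ (α : F.autGroup P), ∀ x ∈ P,
      autFun (e α : MulAut (img f P)) (f x) = f (autFun (α : MulAut P) x) := by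
  obtain ⟨g, hg, hgimg, hgf, hfg⟩ := hf.exists_inv
  let e0 : P ≃* (img f P : Subgroup Ω) :=
    MulEquiv.ofBijective
      (MonoidHom.mk' (fun x : P => (⟨f x, mem_img_self f x.2⟩ : (img f P : Subgroup Ω)))
        fun x y => Subtype.ext (hf.map_mul x.2 y.2))
      ⟨fun x y hxy => Subtype.ext (hf.inj x.2 y.2 (congrArg Subtype.val hxy)), fun y => by
        obtain ⟨x, hx, hxy⟩ := hf.mem_img.1 y.2
        exact ⟨⟨x, hx⟩, Subtype.ext hxy⟩⟩
  have hval : ∀ x : P, (e0 x : Ω) = f x := fun x => rfl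
  have key : ∀ (α : MulAut P), ∀ x ∈ P,
      autFun (MulAut.congr e0 α) (f x) = f (autFun α x) := by
    intro α x hx
    rw [autFun_of_mem _ (mem_img_self f hx), autFun_of_mem α hx]
    show (e0 (α (e0.symm ⟨f x, _⟩)) : Ω) = _
    rw [hval]
    have : e0.symm ⟨f x, mem_img_self f hx⟩ = ⟨x, hx⟩ := by
      apply e0.injective
      rw [MulEquiv.apply_symm_apply]
      exact Subtype.ext (hval ⟨x, hx⟩).symm
    rw [this]
  have hmap : (F.autGroup P).map (MulAut.congr e0).toMonoidHom = F.autGroup (img f P) := by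
    ext β
    constructor
    · rintro ⟨α, hα, rfl⟩
      refine (mem_autGroup_iff hf.img_le_S).2 ?_
      have h1 : IsMap F (img f P) (fun y => f (autFun α (g y))) :=
        (hf.comp (((mem_autGroup_iff hf.le).1 hα).comp hg
            fun y hy => le_of_eq hgimg (mem_img_self g hy))
          fun y hy => autFun_mem α (le_of_eq hgimg (mem_img_self g hy)))
      refine h1.congr fun y hy => ?_
      obtain ⟨x, hx, rfl⟩ := hf.mem_img.1 hy
      show _ = autFun (MulAut.congr e0 α) (f x)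
      rw [key α x hx, hgf x hx]
    · intro hβ
      refine ⟨(MulAut.congr e0).symm β, (mem_autGroup_iff hf.le).2 ?_, ?_⟩
      · have h1 : IsMap F P (fun x => g (autFun β (f x))) :=
          (hg.comp (((mem_autGroup_iff hf.img_le_S).1 hβ).comp hf fun x hx => mem_img_self f hx)
            fun x hx => autFun_mem β (mem_img_self f hx))
        refine h1.congr fun x hx => ?_
        have h2 := key ((MulAut.congr e0).symm β) x hx
        rw [MulEquiv.apply_symm_apply] at h2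
        show g (autFun β (f x)) = _
        rw [h2, hgf _ (autFun_mem _ hx)]
      · exact (MulAut.congr e0).apply_symm_apply β
  refine ⟨((MulAut.congr e0).subgroupMap (F.autGroup P)).trans (MulEquiv.subgroupCongr hmap),
    fun α x hx => key α x hx⟩

end Cfsg.Agent.Fusion.Basic
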