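/-
Saturation: receptive and fully automized subgroups, extension of maps, equivalent definitions.
-/
import Mathlib
import Cfsg.Agent.Lib.Fusion.Basic

set_option autoImplicit false

namespace Cfsg.Agent.Fusion.Saturation

open Cfsg Cfsg.FusionSystem Cfsg.Agent.Fusion.Basic

variable {Ω : Type*} [Group Ω]

/-! ### Group-theoretic helpers -/

theorem finite_of_le {A B : Subgroup Ω} [Finite B] (h : A ≤ B) : Finite A :=
  Finite.of_injective _ (Subgroup.inclusion_injective h)

theorem card_le_card {A B : Subgroup Ω} [Finite B] (h : A ≤ B) : Nat.card A ≤ Nat.card B :=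
  Nat.card_le_card_of_injective _ (Subgroup.inclusion_injective h)

theorem eq_of_le_card {A B : Subgroup Ω} [Finite B] (h : A ≤ B) (hc : Nat.card B ≤ Nat.card A) :
    A = B :=
  Subgroup.eq_of_le_of_card_ge h hc

theorem card_lt_card {A B : Subgroup Ω} [Finite B] (h : A < B) : Nat.card A < Nat.card B := by
  refine lt_of_not_ge fun hge => h.ne (eq_of_le_card h.le hge)

theorem mem_normalizer_of_forall {P : Subgroup Ω} [Finite P] {g : Ω}
    (h : ∀ x ∈ P, g * x * g⁻¹ ∈ P) : g ∈ Subgroup.normalizer (P : Set Ω) := by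
  have hle : P.map (MulAut.conj g).toMonoidHom ≤ P := by
    rintro _ ⟨x, hx, rfl⟩
    exact h x hx
  have heq : P.map (MulAut.conj g).toMonoidHom = P := by
    refine eq_of_le_card hle ?_
    rw [Nat.card_congr (P.equivMapOfInjective (MulAut.conj g).toMonoidHom (MulAut.conj g).injective).toEquiv]
  rw [Subgroup.mem_normalizer_iff]
  intro x
  refine ⟨h x, fun hx => ?_⟩
  rw [← heq] at hx
  obtain ⟨y, hy, hxy⟩ := hx
  have : g * y * g⁻¹ = g * x * g⁻¹ := hxy
  exact (mul_left_cancel (mul_right_cancel this)) ▸ hy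

theorem finite_subgroups_le (S : Subgroup Ω) [Finite S] : {Q : Subgroup Ω | Q ≤ S}.Finite := by
  refine (Set.finite_range fun K : Subgroup S => K.map S.subtype).subset fun Q hQ => ?_
  exact ⟨Q.subgroupOf S, by simp [Subgroup.map_subgroupOf_eq_of_le hQ]⟩

theorem exists_conj_le_sylow {G : Type*} [Group G] [Finite G] {p : ℕ} [Fact p.Prime]
    (R : Sylow p G) {A : Subgroup G} (hA : IsPGroup p A) :
    ∃ c : G, ∀ a ∈ A, c * a * c⁻¹ ∈ (R : Subgroup G) := by
  obtain ⟨T, hT⟩ := hA.exists_le_sylow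
  obtain ⟨c, rfl⟩ := MulAction.exists_smul_eq G T R
  refine ⟨c, fun a ha => ?_⟩
  rw [Sylow.coe_subgroup_smul]
  exact Subgroup.smul_mem_pointwise_smul a (MulAut.conj c) _ (hT ha)

theorem exists_mem_normalizer_not_mem {p : ℕ} [Fact p.Prime] {S P : Subgroup Ω} [Finite S]
    (hS : IsPGroup p S) (hlt : P < S) :
    ∃ g ∈ normalizerIn S P, g ∉ P := by
  have : Group.IsNilpotent S := hS.isNilpotent
  have hP : P.subgroupOf S < ⊤ := by
    refine lt_of_le_of_ne le_top fun h => hlt.not_ge ?_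
    exact Subgroup.subgroupOf_eq_top.1 h
  have hN := normalizerCondition_of_isNilpotent (P.subgroupOf S) hP
  obtain ⟨g, hg, hgP⟩ := SetLike.exists_of_lt hN
  refine ⟨g, ⟨g.2, ?_⟩, fun h => hgP (Subgroup.mem_subgroupOf.2 h)⟩
  have : Finite P := finite_of_le hlt.le
  refine mem_normalizer_of_forall fun x hx => ?_
  exact Subgroup.mem_subgroupOf.1
    ((Subgroup.mem_normalizer_iff.1 hg ⟨x, hlt.le hx⟩).1 (Subgroup.mem_subgroupOf.2 hx))

theorem lt_normalizerIn {p : ℕ} [Fact p.Prime] {S P : Subgroup Ω} [Finite S] (hS : IsPGroup p S)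
    (hlt : P < S) : P < normalizerIn S P := by
  obtain ⟨g, hg, hgP⟩ := exists_mem_normalizer_not_mem hS hlt
  exact SetLike.lt_iff_le_and_exists.2 ⟨le_normalizerIn hlt.le, g, hg, hgP⟩

/-! ### Fusion systems over a finite group -/

variable {S : Subgroup Ω} [Finite S] {F : FusionSystem S} {p : ℕ} [Fact p.Prime]
  {P Q R U : Subgroup Ω}

theorem receptive_fullyCentralized (hP : F.IsReceptive P) : F.IsFullyCentralized P := by
  refine ⟨hP.1, fun Q hQ => ?_⟩
  obtain ⟨f, hf, himg⟩ := isConj_iff_map.1 (isConj_symm hQ)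
  obtain ⟨g, hg, he⟩ := (isReceptive_iff.1 hP).2 Q f hf himg
  have himg' : img g Q = P := by rw [img_congr he, himg]
  have hC : centralizerIn S Q ≤ nSub S Q f := centralizerIn_le_nSub
  have h1 := hg.img_centralizerIn_le (le_nSub hf) hC
  rw [himg'] at h1
  have : Finite (centralizerIn S P) := finite_of_le centralizerIn_le
  rw [← (hg.restrict hC).card_img]
  exact card_le_card h1

/-- A fully automized receptive subgroup receives the whole normalizer of each conjugate. -/
theorem exists_map_normalizer (h₁ : F.IsFullyAutomized p P) (h₂ : F.IsReceptive P)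
    (hS : IsPGroup p S) (hQ : F.IsConj Q P) :
    ∃ g, IsMap F (normalizerIn S Q) g ∧ img g Q = P := by
  obtain ⟨f, hf, rfl⟩ := isConj_iff_map.1 hQ
  obtain ⟨e, he⟩ := hf.exists_autEquiv
  obtain ⟨R, hR⟩ := h₁.2
  have : Finite (img f Q) := finite_of_le hf.img_le_S
  have hp : IsPGroup p (autInducedBy S Q) := by
    rw [← conjAut_range]
    exact (hS.to_le inf_le_left).of_surjective _ (conjAut S Q).rangeRestrict_surjective
  have hA : IsPGroup p ((autInducedBy S Q).subgroupOf (F.autGroup Q)) :=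
    hp.comap_of_injective _ Subtype.val_injective
  obtain ⟨c, hc⟩ := exists_conj_le_sylow R (hA.map e.toMonoidHom)
  have hcS : IsMap F (img f Q) (autFun (c : MulAut (img f Q))) :=
    isMap_of_mem_autGroup hf.img_le_S c.2
  have hf' : IsMap F Q (fun x => autFun (c : MulAut (img f Q)) (f x)) :=
    hcS.comp hf fun x hx => mem_img_self f hx
  have himg' : img (fun x => autFun (c : MulAut (img f Q)) (f x)) Q = img f Q := by
    rw [← hf.img_img, autFun_img]
  have hN : normalizerIn S Q ≤ nSub S Q (fun x => autFun (c : MulAut (img f Q)) (f x)) := by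
    intro g hg
    refine ⟨hg.1, hg.2, ?_⟩
    have haS : conjAut S Q ⟨g, hg⟩ ∈ autInducedBy S Q := conjAut_range S Q ▸ ⟨_, rfl⟩
    let a : F.autGroup Q := ⟨conjAut S Q ⟨g, hg⟩, autInducedBy_le hf.le haS⟩
    have h2 := hc (e a) ⟨a, haS, rfl⟩
    rw [hR] at h2
    obtain ⟨h, hh, hhe⟩ := mem_autInducedBy_iff'.1 (Subgroup.mem_subgroupOf.1 h2)
    refine ⟨h, hh.1, fun x hx => ?_⟩
    have h3 := hhe _ (autFun_mem (c : MulAut (img f Q)) (mem_img_self f hx))
    rw [Subgroup.coe_mul, Subgroup.coe_mul, Subgroup.coe_inv, autFun_mul, autFun_mul,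
      autFun_inv_apply, he a x hx] at h3
    have h4 : autFun (a : MulAut Q) x = g * x * g⁻¹ := conjAut_apply ⟨g, hg⟩ hx
    rw [h4] at h3
    exact h3
  obtain ⟨θ, hθ, hθe⟩ := (isReceptive_iff.1 h₂).2 Q _ hf' himg'
  exact ⟨θ, hθ.restrict hN, by rw [img_congr hθe, himg']⟩

/-- Receptivity passes back along a map of normalizers that matches the centralizers. -/
theorem receptive_transfer (hQ : Q ≤ S) {g : Ω → Ω} (hg : IsMap F (normalizerIn S Q) g)
    (hP : img g Q = P) (hC : img g (centralizerIn S Q) = centralizerIn S P)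
    (hrec : F.IsReceptive P) : F.IsReceptive Q := by
  subst hP
  refine isReceptive_iff.2 ⟨hQ, fun R f hf himg => ?_⟩
  have : Finite Q := finite_of_le hQ
  have hfQ : ∀ x ∈ R, f x ∈ Q := fun x hx => himg ▸ mem_img_self f hx
  have hQN : Q ≤ normalizerIn S Q := le_normalizerIn hQ
  have hgf : IsMap F R (fun x => g (f x)) := hg.comp hf fun x hx => hQN (hfQ x hx)
  have himg' : img (fun x => g (f x)) R = img g Q := by rw [← hf.img_img, himg]
  have hkey : ∀ a ∈ nSub S R f, ∃ h ∈ normalizerIn S Q,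
      ∀ x ∈ R, g (f (a * x * a⁻¹)) = g h * g (f x) * (g h)⁻¹ := by
    rintro a ⟨haS, haN, h, hh, he⟩
    have hhN : h ∈ normalizerIn S Q := by
      refine ⟨hh, mem_normalizer_of_forall fun y hy => ?_⟩
      obtain ⟨x, hx, rfl⟩ := hf.mem_img.1 (himg.symm ▸ hy)
      rw [← he x hx]
      exact hfQ _ ((Subgroup.mem_normalizer_iff.1 haN x).1 hx)
    refine ⟨h, hhN, fun x hx => ?_⟩
    rw [he x hx, hg.map_conj hhN (hQN (hfQ x hx))]
  have hsub : nSub S R f ≤ nSub S R (fun x => g (f x)) := by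
    intro a ha
    obtain ⟨h, hh, he⟩ := hkey a ha
    exact ⟨ha.1, ha.2.1, g h, hg.mem hh, he⟩
  obtain ⟨θ, hθ, hθe⟩ := (isReceptive_iff.1 hrec).2 R _ hgf himg'
  have hθN : ∀ a ∈ nSub S R f, θ a ∈ img g (normalizerIn S Q) := by
    intro a ha
    obtain ⟨h, hh, he⟩ := hkey a ha
    have hcen : (g h)⁻¹ * θ a ∈ centralizerIn S (img g Q) := by
      refine ⟨S.mul_mem (S.inv_mem (hg.mem hh)) (hθ.mem (hsub ha)), fun y hy => ?_⟩
      obtain ⟨x, hx, rfl⟩ := hgf.mem_img.1 (himg'.symm ▸ hy)
      have hxN := le_nSub hgf hx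
      have hax : a * x * a⁻¹ ∈ R := (Subgroup.mem_normalizer_iff.1 ha.2.1 x).1 hx
      have h1 : θ a * g (f x) * (θ a)⁻¹ = g h * g (f x) * (g h)⁻¹ := by
        rw [← he x hx, ← hθe x hx, ← hθ.map_conj (hsub ha) hxN, hθe _ hax]
      calc g (f x) * ((g h)⁻¹ * θ a)
          = (g h)⁻¹ * (g h * g (f x) * (g h)⁻¹) * θ a := by group
        _ = (g h)⁻¹ * (θ a * g (f x) * (θ a)⁻¹) * θ a := by rw [h1]
        _ = (g h)⁻¹ * θ a * g (f x) := by group
    rw [← hC] at hcen
    have := Subgroup.mul_mem _ (mem_img_self g hh)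
      (img_mono g centralizerIn_le_normalizerIn hcen)
    simpa using this
  obtain ⟨g', hg', -, hg'g, -⟩ := hg.exists_inv
  refine ⟨fun a => g' (θ a), hg'.comp (hθ.restrict hsub) hθN, fun x hx => ?_⟩
  show g' (θ x) = f x
  rw [hθe x hx, hg'g _ (hQN (hfQ x hx))]

theorem isPGroup_autInducedBy {S' : Subgroup Ω} (hS : IsPGroup p S') :
    IsPGroup p (autInducedBy S' P) := by
  rw [← conjAut_range]
  exact (hS.to_le inf_le_left).of_surjective _ (conjAut S' P).rangeRestrict_surjective

theorem fullyAutomized_iff (hS : IsPGroup p S) :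
    F.IsFullyAutomized p P ↔ P ≤ S ∧ ¬ p ∣ (autInducedBy S P).relIndex (F.autGroup P) := by
  refine and_congr_right fun hP => ?_
  have : Finite P := finite_of_le hP
  constructor
  · rintro ⟨R, hR⟩
    rw [Subgroup.relIndex, ← hR]
    exact R.not_dvd_index
  · intro h
    have hA : IsPGroup p ((autInducedBy S P).subgroupOf (F.autGroup P)) :=
      (isPGroup_autInducedBy hS).comap_of_injective _ Subtype.val_injective
    exact ⟨hA.toSylow h, rfl⟩

/-- Fully automized and receptive implies fully normalized. -/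
theorem fullyNormalized_of (h₁ : F.IsFullyAutomized p P) (h₂ : F.IsReceptive P)
    (hS : IsPGroup p S) : F.IsFullyNormalized P := by
  refine ⟨h₁.1, fun Q hQ => ?_⟩
  obtain ⟨g, hg, hgimg⟩ := exists_map_normalizer h₁ h₂ hS (isConj_symm hQ)
  have h := hg.img_normalizerIn_le (le_normalizerIn (isConj_le hQ).2) le_rfl
  rw [hgimg] at h
  have : Finite (normalizerIn S P) := finite_of_le normalizerIn_le
  rw [← hg.card_img]
  exact card_le_card h

/-- Along an onto map of normalizers the centralizers correspond. -/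
theorem img_centralizerIn_eq (hQ : Q ≤ S) {g : Ω → Ω} (hg : IsMap F (normalizerIn S Q) g)
    (hN : img g (normalizerIn S Q) = normalizerIn S (img g Q)) :
    img g (centralizerIn S Q) = centralizerIn S (img g Q) := by
  refine le_antisymm
    (hg.img_centralizerIn_le (le_normalizerIn hQ) centralizerIn_le_normalizerIn) fun y hy => ?_
  obtain ⟨x, hx, rfl⟩ := hg.mem_img.1 (hN.symm ▸ centralizerIn_le_normalizerIn hy)
  refine mem_img_self g ⟨hx.1, fun q hq => hg.inj ?_ ?_ ?_⟩
  · exact Subgroup.mul_mem _ (le_normalizerIn hQ hq) hx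
  · exact Subgroup.mul_mem _ hx (le_normalizerIn hQ hq)
  · rw [hg.map_mul (le_normalizerIn hQ hq) hx, hg.map_mul hx (le_normalizerIn hQ hq)]
    exact hy.2 _ (mem_img_self g hq)

theorem exists_fullyNormalized (hP : P ≤ S) : ∃ Q, F.IsConj P Q ∧ F.IsFullyNormalized Q := by
  obtain ⟨Q, hQ, hmax⟩ := Set.exists_max_image {Q | F.IsConj P Q}
    (fun Q => Nat.card (normalizerIn S Q))
    ((finite_subgroups_le S).subset fun Q hQ => (isConj_le hQ).2) ⟨P, isConj_refl hP⟩
  exact ⟨Q, hQ, (isConj_le hQ).2, fun R hR => hmax R (isConj_trans hQ hR)⟩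

theorem exists_fullyCentralized (hP : P ≤ S) : ∃ Q, F.IsConj P Q ∧ F.IsFullyCentralized Q := by
  obtain ⟨Q, hQ, hmax⟩ := Set.exists_max_image {Q | F.IsConj P Q}
    (fun Q => Nat.card (centralizerIn S Q))
    ((finite_subgroups_le S).subset fun Q hQ => (isConj_le hQ).2) ⟨P, isConj_refl hP⟩
  exact ⟨Q, hQ, (isConj_le hQ).2, fun R hR => hmax R (isConj_trans hQ hR)⟩

/-! ### Saturated systems -/

theorem fullyNormalized_fullyAutomized_receptive (hS : IsPGroup p S) (hF : F.IsSaturated p)
    (hQ : F.IsFullyNormalized Q) : F.IsFullyAutomized p Q ∧ F.IsReceptive Q := by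
  obtain ⟨P, hQP, hA, hR⟩ := hF Q hQ.1
  obtain ⟨g, hg, hgimg⟩ := exists_map_normalizer hA hR hS hQP
  subst hgimg
  have : Finite (normalizerIn S (img g Q)) := finite_of_le normalizerIn_le
  have hNeq : img g (normalizerIn S Q) = normalizerIn S (img g Q) :=
    eq_of_le_card (hg.img_normalizerIn_le (le_normalizerIn hQ.1) le_rfl)
      (by rw [hg.card_img]; exact hQ.2 _ hQP)
  have hCeq := img_centralizerIn_eq hQ.1 hg hNeq
  refine ⟨?_, receptive_transfer hQ.1 hg rfl hCeq hR⟩
  rw [fullyAutomized_iff hS] at hA ⊢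
  refine ⟨hQ.1, ?_⟩
  have hcN : Nat.card (normalizerIn S (img g Q)) = Nat.card (normalizerIn S Q) := by
    rw [← hNeq, hg.card_img]
  have hcC : Nat.card (centralizerIn S (img g Q)) = Nat.card (centralizerIn S Q) := by
    rw [← hCeq, (hg.restrict centralizerIn_le_normalizerIn).card_img]
  obtain ⟨e, -⟩ := (hg.restrict (le_normalizerIn hQ.1)).exists_autEquiv
  have hc : Nat.card (autInducedBy S (img g Q)) = Nat.card (autInducedBy S Q) := by
    have h1 := card_autInducedBy_mul' (S := S) (P := img g Q)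
    rw [hcC, hcN, ← card_autInducedBy_mul' (S := S) (P := Q)] at h1
    have : Finite (centralizerIn S Q) := finite_of_le centralizerIn_le
    exact Nat.eq_of_mul_eq_mul_right Nat.card_pos h1
  have : Finite Q := finite_of_le hQ.1
  have hle : ∀ {A : Subgroup Ω}, A ≤ S →
      (autInducedBy S A).relIndex (F.autGroup A) * Nat.card (autInducedBy S A) =
        Nat.card (F.autGroup A) := by
    intro A hA
    rw [Subgroup.relIndex,
      ← Nat.card_congr (Subgroup.subgroupOfEquivOfLe (autInducedBy_le (F := F) hA)).toEquiv]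
    exact Subgroup.index_mul_card _
  have h1 := hle hA.1
  rw [hc, ← Nat.card_congr e.toEquiv, ← hle hQ.1] at h1
  rw [← Nat.eq_of_mul_eq_mul_right Nat.card_pos h1]
  exact hA.2

theorem fullyNormalized_receptive (hS : IsPGroup p S) (hF : F.IsSaturated p)
    (hQ : F.IsFullyNormalized Q) : F.IsReceptive Q :=
  (fullyNormalized_fullyAutomized_receptive hS hF hQ).2

theorem fullyNormalized_fullyAutomized (hS : IsPGroup p S) (hF : F.IsSaturated p)
    (hQ : F.IsFullyNormalized Q) : F.IsFullyAutomized p Q :=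
  (fullyNormalized_fullyAutomized_receptive hS hF hQ).1

theorem fullyNormalized_fullyCentralized (hS : IsPGroup p S) (hF : F.IsSaturated p)
    (hQ : F.IsFullyNormalized Q) : F.IsFullyCentralized Q :=
  receptive_fullyCentralized (fullyNormalized_receptive hS hF hQ)

theorem fullyCentralized_receptive (hS : IsPGroup p S) (hF : F.IsSaturated p)
    (hQ : F.IsFullyCentralized Q) : F.IsReceptive Q := by
  obtain ⟨P, hQP, hA, hR⟩ := hF Q hQ.1
  obtain ⟨g, hg, hgimg⟩ := exists_map_normalizer hA hR hS hQP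
  refine receptive_transfer hQ.1 hg hgimg ?_ hR
  subst hgimg
  have : Finite (centralizerIn S (img g Q)) := finite_of_le centralizerIn_le
  refine eq_of_le_card
    (hg.img_centralizerIn_le (le_normalizerIn hQ.1) centralizerIn_le_normalizerIn) ?_
  rw [(hg.restrict centralizerIn_le_normalizerIn).card_img]
  exact hQ.2 _ hQP

/-- In a saturated system: a fully normalized conjugate receives the normalizer. -/
theorem exists_map_to_fullyNormalized (hS : IsPGroup p S) (hF : F.IsSaturated p)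
    (hP : F.IsFullyNormalized P) (hQ : F.IsConj Q P) :
    ∃ g, IsMap F (normalizerIn S Q) g ∧ img g Q = P :=
  exists_map_normalizer (fullyNormalized_fullyAutomized hS hF hP)
    (fullyNormalized_receptive hS hF hP) hS hQ

/-- In a saturated system every map onto a fully centralized subgroup extends to `N_φ`. -/
theorem exists_extension (hS : IsPGroup p S) (hF : F.IsSaturated p) {f : Ω → Ω}
    (hf : IsMap F P f) (hQ : F.IsFullyCentralized (img f P)) :
    ∃ g, IsMap F (nSub S P f) g ∧ ∀ x ∈ P, g x = f x :=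
  (isReceptive_iff.1 (fullyCentralized_receptive hS hF hQ)).2 P f hf rfl

theorem saturated_of_fullyNormalized
    (h : ∀ P, F.IsFullyNormalized P → F.IsFullyAutomized p P ∧ F.IsReceptive P) :
    F.IsSaturated p := fun _ hP =>
  have ⟨Q, hPQ, hQ⟩ := exists_fullyNormalized (F := F) hP
  ⟨Q, hPQ, h Q hQ⟩

/-- Stancu's form of the saturation axioms. -/
theorem saturated_of_receptive (hS : IsPGroup p S) (hA : F.IsFullyAutomized p S)
    (hR : ∀ P, F.IsFullyNormalized P → F.IsReceptive P) : F.IsSaturated p := by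
  refine saturated_of_fullyNormalized fun P hP => ⟨?_, hR P hP⟩
  induction hn : Nat.card S - Nat.card P using Nat.strong_induction_on generalizing P with
  | _ n ih =>
  rcases eq_or_lt_of_le hP.1 with rfl | hlt
  · exact hA
  have hPN : P < normalizerIn S P := lt_normalizerIn hS hlt
  refine (fullyAutomized_iff hS).2 ⟨hP.1, fun hdvd => ?_⟩
  have : Finite P := finite_of_le hP.1
  have : Finite (normalizerIn S P) := finite_of_le normalizerIn_le
  set A := (autInducedBy S P).subgroupOf (F.autGroup P) with hAdef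
  have hAp : IsPGroup p A :=
    (isPGroup_autInducedBy hS).comap_of_injective _ Subtype.val_injective
  obtain ⟨T, hT⟩ := hAp.exists_le_sylow
  have hAT : A < (T : Subgroup (F.autGroup P)) :=
    lt_of_le_of_ne hT fun h => T.not_dvd_index (by rw [← h]; exact hdvd)
  obtain ⟨a, ⟨haT, haN⟩, haA⟩ := exists_mem_normalizer_not_mem T.2 hAT
  have haf : IsMap F P (autFun (a : MulAut P)) := isMap_of_mem_autGroup hP.1 a.2
  have hN : normalizerIn S P ≤ nSub S P (autFun (a : MulAut P)) := by
    intro g hg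
    refine ⟨hg.1, hg.2, ?_⟩
    have haS : conjAut S P ⟨g, hg⟩ ∈ autInducedBy S P := conjAut_range S P ▸ ⟨_, rfl⟩
    let b : F.autGroup P := ⟨conjAut S P ⟨g, hg⟩, autInducedBy_le hP.1 haS⟩
    have hb : a * b * a⁻¹ ∈ A := (Subgroup.mem_normalizer_iff.1 haN b).1 haS
    obtain ⟨h, hh, hhe⟩ := mem_autInducedBy_iff'.1 (Subgroup.mem_subgroupOf.1 hb)
    refine ⟨h, hh.1, fun x hx => ?_⟩
    have h3 := hhe _ (autFun_mem (a : MulAut P) hx)
    rw [Subgroup.coe_mul, Subgroup.coe_mul, Subgroup.coe_inv, autFun_mul, autFun_mul,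
      autFun_inv_apply] at h3
    have h4 : autFun (b : MulAut P) x = g * x * g⁻¹ := conjAut_apply ⟨g, hg⟩ hx
    rw [h4] at h3
    exact h3
  obtain ⟨θ, hθ, hθe⟩ := (isReceptive_iff.1 (hR P hP)).2 P _ haf (autFun_img _)
  replace hθ := hθ.restrict hN
  have hθP : img θ P = P := by rw [img_congr hθe, autFun_img]
  have hθN : img θ (normalizerIn S P) = normalizerIn S P := by
    have h1 := hθ.img_normalizerIn_le (le_normalizerIn hP.1) le_rfl
    rw [hθP] at h1
    exact eq_of_le_card h1 (le_of_eq hθ.card_img.symm)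
  obtain ⟨β, hβ, hβe⟩ := hθ.exists_aut hθN
  have hpow : ∀ n : ℕ, ∀ x ∈ P,
      autFun (β ^ n) x = autFun (((a ^ n : F.autGroup P)) : MulAut P) x := by
    intro n
    induction n with
    | zero => intro x _; simp [autFun_one]
    | succ n ihn =>
      intro x hx
      rw [pow_succ', pow_succ', autFun_mul, Subgroup.coe_mul, autFun_mul, ihn x hx,
        hβe _ (hPN.le (autFun_mem _ hx)), hθe _ (autFun_mem _ hx)]
  -- replace β by its p-part
  obtain ⟨j, m, hm, hord⟩ := Nat.exists_eq_pow_mul_and_not_dvd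
    (orderOf_pos β).ne' p (Fact.out : p.Prime).ne_one
  obtain ⟨k, hk⟩ := T.2 ⟨a, haT⟩
  have hak : a ^ p ^ k = 1 := congrArg Subtype.val hk
  have ham : a ^ m ∉ A := by
    intro hmem
    apply haA
    have hcop : Nat.Coprime (orderOf a) m := by
      refine Nat.Coprime.coprime_dvd_left (orderOf_dvd_of_pow_eq_one hak) ?_
      exact Nat.Coprime.pow_left k ((Fact.out : p.Prime).coprime_iff_not_dvd.2 hm)
    obtain ⟨i, hi⟩ := exists_pow_eq_self_of_coprime hcop.symm
    rw [← hi]
    exact A.pow_mem hmem i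
  have hNS : normalizerIn S P ≤ S := normalizerIn_le
  obtain ⟨N', hNN', hN'⟩ := exists_fullyNormalized (F := F) hNS
  have hcard : Nat.card N' = Nat.card (normalizerIn S P) := isConj_card hNN'
  have hFA : F.IsFullyAutomized p N' := by
    refine ih (Nat.card S - Nat.card N') ?_ N' hN' rfl
    have h1 := card_lt_card hPN
    have h2 : Nat.card (normalizerIn S P) ≤ Nat.card S := card_le_card normalizerIn_le
    omega
  obtain ⟨χ, hχ, rfl⟩ := isConj_iff_map.1 hNN'
  have : Finite (img χ (normalizerIn S P)) := finite_of_le hχ.img_le_S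
  obtain ⟨e, he⟩ := hχ.exists_autEquiv
  obtain ⟨Rs, hRs⟩ := hFA.2
  let β' : F.autGroup (normalizerIn S P) := ⟨β ^ m, Subgroup.pow_mem _ hβ m⟩
  have hβ'p : IsPGroup p (Subgroup.zpowers (e β')) := by
    refine IsPGroup.of_card (n := j) ?_
    rw [Nat.card_zpowers, MulEquiv.orderOf_eq, ← Subgroup.orderOf_coe]
    show orderOf (β ^ m) = _
    have hm0 : m ≠ 0 := fun h => hm (h ▸ dvd_zero p)
    rw [orderOf_pow_of_dvd hm0 ⟨p ^ j, by rw [hord, mul_comm]⟩, hord,
      Nat.mul_div_cancel _ (Nat.pos_of_ne_zero hm0)]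
  obtain ⟨c, hc⟩ := exists_conj_le_sylow Rs hβ'p
  have hc' := hc (e β') (Subgroup.mem_zpowers _)
  rw [hRs] at hc'
  obtain ⟨s, hs, hse⟩ := mem_autInducedBy_iff'.1 (Subgroup.mem_subgroupOf.1 hc')
  have hcS : IsMap F (img χ (normalizerIn S P))
      (autFun (c : MulAut (img χ (normalizerIn S P)))) := isMap_of_mem_autGroup hχ.img_le_S c.2
  have hχ' := hcS.comp hχ fun x hx => mem_img_self χ hx
  set χ' := fun x => autFun (c : MulAut (img χ (normalizerIn S P))) (χ x) with hχ'def
  have hrel : ∀ x ∈ normalizerIn S P, χ' (autFun (β ^ m) x) = s * χ' x * s⁻¹ := by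
    intro x hx
    have h3 := hse _ (autFun_mem (c : MulAut (img χ (normalizerIn S P))) (mem_img_self χ hx))
    rw [Subgroup.coe_mul, Subgroup.coe_mul, Subgroup.coe_inv, autFun_mul, autFun_mul,
      autFun_inv_apply, he β' x hx] at h3
    exact h3
  have hP' : F.IsConj P (img χ' P) := (hχ'.restrict hPN.le).isConj
  have : Finite (img χ' P) := finite_of_le (isConj_le hP').2
  have : Finite (normalizerIn S (img χ' P)) := finite_of_le normalizerIn_le
  have hsN : s ∈ normalizerIn S (img χ' P) := by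
    refine ⟨hs.1, mem_normalizer_of_forall fun y hy => ?_⟩
    obtain ⟨x, hx, rfl⟩ := (hχ'.restrict hPN.le).mem_img.1 hy
    rw [← hrel x (hPN.le hx), hpow m x hx]
    exact mem_img_self χ' (autFun_mem _ hx)
  have hNeq : img χ' (normalizerIn S P) = normalizerIn S (img χ' P) :=
    eq_of_le_card (hχ'.img_normalizerIn_le (le_normalizerIn hP.1) le_rfl)
      (by rw [hχ'.card_img]; exact hP.2 _ hP')
  obtain ⟨t, ht, rfl⟩ := hχ'.mem_img.1 (hNeq.symm ▸ hsN)
  refine ham (Subgroup.mem_subgroupOf.2 (mem_autInducedBy_iff'.2 ⟨t, ht, fun x hx => ?_⟩))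
  have h1 := hrel x (hPN.le hx)
  rw [← hχ'.map_conj ht (hPN.le hx), hpow m x hx] at h1
  exact hχ'.inj (hPN.le (autFun_mem _ hx))
    (Subgroup.mul_mem _ (Subgroup.mul_mem _ ht (hPN.le hx)) (Subgroup.inv_mem _ ht)) h1

/-! ### Centric subgroups -/

theorem centric_conj (hP : F.IsCentric P) (hQ : F.IsConj P Q) : F.IsCentric Q :=
  ⟨(isConj_le hQ).2, fun _ hR => hP.2 _ (isConj_trans hQ hR)⟩

theorem centric_centralizerIn_le (hP : F.IsCentric P) : centralizerIn S P ≤ P :=
  hP.2 P (isConj_refl hP.1)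

theorem centric_fullyCentralized (hP : F.IsCentric P) : F.IsFullyCentralized P := by
  refine ⟨hP.1, fun Q hQ => ?_⟩
  obtain ⟨f, hf, himg⟩ := isConj_iff_map.1 (isConj_symm hQ)
  have hC : centralizerIn S Q ≤ Q := hP.2 Q hQ
  have h1 := hf.img_centralizerIn_le le_rfl hC
  rw [himg] at h1
  have : Finite (centralizerIn S P) := finite_of_le centralizerIn_le
  rw [← (hf.restrict hC).card_img]
  exact card_le_card h1

theorem centric_of_fullyCentralized (hS : IsPGroup p S) (hF : F.IsSaturated p)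
    (hU : F.IsFullyCentralized U) (hC : centralizerIn S U ≤ U) : F.IsCentric U := by
  refine ⟨hU.1, fun Q hQ => ?_⟩
  obtain ⟨f, hf, himg⟩ := isConj_iff_map.1 (isConj_symm hQ)
  subst himg
  obtain ⟨g, hg, hge⟩ := exists_extension hS hF hf hU
  intro x hx
  have hxN := centralizerIn_le_nSub (f := f) hx
  have hgx : g x ∈ img f Q := hC (by
    have h := hg.img_centralizerIn_le (le_nSub hf) centralizerIn_le_nSub (mem_img_self g hx)
    rwa [img_congr hge] at h)
  obtain ⟨y, hy, hyx⟩ := hf.mem_img.1 hgx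
  exact (hg.inj hxN (le_nSub hf hy) (by rw [hge y hy, hyx])) ▸ hy

end Cfsg.Agent.Fusion.Saturation
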