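/-
`SylIn p A B`: `A` is a Sylow `p`-subgroup of the subgroup `B`, phrased inside the ambient group.
-/
import Mathlib
import Cfsg.Agent.Lib.Fusion.Saturation

set_option autoImplicit false

namespace Cfsg.Agent.Fusion.SylIn

open Cfsg Cfsg.Agent.Fusion.Basic Cfsg.Agent.Fusion.Saturation

variable {G : Type*} [Group G]

/-- `A` is a Sylow `p`-subgroup of `B`. -/
def SylIn (p : ℕ) (A B : Subgroup G) : Prop :=
  A ≤ B ∧ IsPGroup p A ∧ ¬ p ∣ A.relIndex B

variable [Finite G] {p : ℕ} [Fact p.Prime] {A B M N : Subgroup G}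

theorem card_img_cj (g : G) (P : Subgroup G) : Nat.card (img (cj g) P) = Nat.card P := by
  rw [img_cj]
  exact (Nat.card_congr
    (P.equivMapOfInjective (MulAut.conj g).toMonoidHom (MulAut.conj g).injective).toEquiv).symm

theorem isPGroup_img_cj {g : G} {P : Subgroup G} (h : IsPGroup p P) : IsPGroup p (img (cj g) P) := by
  rw [img_cj]
  exact h.map _

theorem sylIn_iff_exists (h : A ≤ B) :
    SylIn p A B ↔ ∃ R : Sylow p B, (R : Subgroup B) = A.subgroupOf B := by
  constructor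
  · rintro ⟨-, hp, hd⟩
    exact ⟨(hp.comap_of_injective B.subtype Subtype.val_injective).toSylow hd, rfl⟩
  · rintro ⟨R, hR⟩
    have h1 : IsPGroup p (A.subgroupOf B) := hR ▸ R.2
    refine ⟨h, h1.of_equiv (Subgroup.subgroupOfEquivOfLe h), ?_⟩
    rw [Subgroup.relIndex, ← hR]
    exact R.not_dvd_index

theorem of_sylow (S : Sylow p G) : SylIn p (S : Subgroup G) ⊤ :=
  ⟨le_top, S.2, by rw [Subgroup.relIndex_top_right]; exact S.not_dvd_index⟩

theorem SylIn.exists_conj (h : SylIn p A B) (hM : M ≤ B) (hp : IsPGroup p M) :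
    ∃ b ∈ B, img (cj b) M ≤ A := by
  obtain ⟨R, hR⟩ := (sylIn_iff_exists h.1).1 h
  obtain ⟨c, hc⟩ := exists_conj_le_sylow R
    (hp.comap_of_injective B.subtype Subtype.val_injective)
  refine ⟨c, c.2, img_le fun x hx => ?_⟩
  have h1 := hc ⟨x, hM hx⟩ hx
  rw [hR] at h1
  exact h1

theorem SylIn.card_le (h : SylIn p A B) (hM : M ≤ B) (hp : IsPGroup p M) :
    Nat.card M ≤ Nat.card A := by
  obtain ⟨b, -, hb⟩ := h.exists_conj hM hp
  rw [← card_img_cj b M]
  exact card_le_card hb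

theorem SylIn.eq_of_le (h : SylIn p A B) (hAM : A ≤ M) (hM : M ≤ B) (hp : IsPGroup p M) : A = M :=
  eq_of_le_card hAM (h.card_le hM hp)

theorem exists_sylIn (hM : M ≤ B) (hp : IsPGroup p M) : ∃ A, M ≤ A ∧ SylIn p A B := by
  obtain ⟨T, hT⟩ := (hp.comap_of_injective B.subtype Subtype.val_injective).exists_le_sylow
  refine ⟨(T : Subgroup B).map B.subtype, fun x hx => ⟨⟨x, hM hx⟩, hT hx, rfl⟩, ?_⟩
  refine (sylIn_iff_exists (Subgroup.map_subtype_le _)).2 ⟨T, ?_⟩
  rw [Subgroup.subgroupOf, Subgroup.comap_map_eq_self_of_injective Subtype.val_injective]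

theorem sylIn_of_card_max (hA : A ≤ B) (hp : IsPGroup p A)
    (hmax : ∀ M : Subgroup G, M ≤ B → IsPGroup p M → Nat.card M ≤ Nat.card A) : SylIn p A B := by
  obtain ⟨T, hAT, hT⟩ := exists_sylIn hA hp
  exact eq_of_le_card hAT (hmax T hT.1 hT.2.1) ▸ hT

/-- Intersection with a subgroup normalized by `B`. -/
theorem SylIn.inf_normal (h : SylIn p A B) (hN : N ≤ B)
    (hnorm : B ≤ Subgroup.normalizer (N : Set G)) : SylIn p (A ⊓ N) N := by
  refine sylIn_of_card_max inf_le_right (h.2.1.to_le inf_le_left) fun M hM hp => ?_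
  obtain ⟨b, hb, hle⟩ := h.exists_conj (hM.trans hN) hp
  rw [← card_img_cj b M]
  refine card_le_card (le_inf hle (img_le fun x hx => ?_))
  exact (Subgroup.mem_normalizer_iff.1 (hnorm hb) x).1 (hM hx)

theorem SylIn.mono (h : SylIn p A B) (hA : A ≤ M) (hM : M ≤ B) : SylIn p A M :=
  sylIn_of_card_max hA h.2.1 fun _ hK hp => h.card_le (hK.trans hM) hp

end Cfsg.Agent.Fusion.SylIn
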