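/-
Elementary facts on elements of order prime to `p`, commutator stabilizers, and a kernel built by
transfer.
-/
import Mathlib
import Cfsg.Agent.Lib.Fusion.SylIn

set_option autoImplicit false

namespace Cfsg.Agent.Fusion.Elementwise

open Cfsg.Agent.Fusion.SylIn

variable {G : Type*} [Group G] {p : ℕ}

theorem eq_one_of_coprime_pow {d : G} {n : ℕ} (hd : ∃ k, d ^ p ^ k = 1) (hn : n.Coprime p)
    (h : d ^ n = 1) : d = 1 := by
  obtain ⟨k, hk⟩ := hd
  exact orderOf_eq_one_iff.1 (Nat.eq_one_of_dvd_coprimes (hn.pow_right k)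
    (orderOf_dvd_of_pow_eq_one h) (orderOf_dvd_of_pow_eq_one hk))

/-- An element of order prime to `p` that centralizes modulo `Z` the `p`-element commutator `[g, x]`
centralizes `x` modulo `Z`. -/
theorem comm_mem {Z : Subgroup G} [Z.Normal] {g x e : G} (hg : (orderOf g).Coprime p)
    (hx : g * x * g⁻¹ = e * x) (he : ∃ k, e ^ p ^ k = 1) (h2 : g * e * g⁻¹ * e⁻¹ ∈ Z) : e ∈ Z := by
  set a : G ⧸ Z := QuotientGroup.mk g with ha
  set b : G ⧸ Z := QuotientGroup.mk x with hb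
  set d : G ⧸ Z := QuotientGroup.mk e with hd
  have hab : a * b * a⁻¹ = d * b := by
    rw [ha, hb, hd, ← QuotientGroup.mk_mul, ← QuotientGroup.mk_inv, ← QuotientGroup.mk_mul, hx,
      QuotientGroup.mk_mul]
  have hcomm : a * d = d * a := by
    have h3 : a * d * a⁻¹ * d⁻¹ = 1 := by
      rw [ha, hd, ← QuotientGroup.mk_inv, ← QuotientGroup.mk_inv, ← QuotientGroup.mk_mul,
        ← QuotientGroup.mk_mul, ← QuotientGroup.mk_mul, QuotientGroup.eq_one_iff]
      exact h2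
    exact mul_inv_eq_iff_eq_mul.1 (mul_inv_eq_one.1 h3)
  have key : ∀ n : ℕ, a ^ n * b * (a ^ n)⁻¹ = d ^ n * b := by
    intro n
    induction n with
    | zero => simp
    | succ n ih =>
      have hc : a * d ^ n * a⁻¹ = d ^ n := by
        rw [(Commute.pow_right hcomm n).eq, mul_inv_cancel_right]
      calc a ^ (n + 1) * b * (a ^ (n + 1))⁻¹ = a * (a ^ n * b * (a ^ n)⁻¹) * a⁻¹ := by
            rw [pow_succ']; group
        _ = a * (d ^ n * b) * a⁻¹ := by rw [ih]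
        _ = a * d ^ n * a⁻¹ * (a * b * a⁻¹) := by group
        _ = d ^ (n + 1) * b := by rw [hc, hab, ← mul_assoc, ← pow_succ]
  have ha1 : a ^ orderOf g = 1 := by
    rw [ha, ← QuotientGroup.mk_pow, pow_orderOf_eq_one, QuotientGroup.mk_one]
  have hd1 : d ^ orderOf g = 1 := by
    have h3 := key (orderOf g)
    rw [ha1, one_mul, inv_one, mul_one] at h3
    exact mul_eq_right.1 h3.symm
  obtain ⟨k, hk⟩ := he
  exact (QuotientGroup.eq_one_iff _).1 (eq_one_of_coprime_pow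
    ⟨k, by rw [← QuotientGroup.mk_pow, hk, QuotientGroup.mk_one]⟩ hg hd1)

theorem exists_bezout [Finite G] [hp : Fact p.Prime] (g : G) :
    ∃ (a m : ℕ) (A B : ℤ), ¬ p ∣ m ∧ orderOf g = p ^ a * m ∧
      g = (g ^ p ^ a) ^ A * (g ^ m) ^ B := by
  obtain ⟨a, m, hm, he⟩ := Nat.exists_eq_pow_mul_and_not_dvd (orderOf_pos g).ne' p hp.out.ne_one
  have hc : Nat.gcd (p ^ a) m = 1 :=
    ((hp.out.coprime_iff_not_dvd.2 hm).pow_left a)
  have hz := Nat.gcd_eq_gcd_ab (p ^ a) m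
  rw [hc] at hz
  refine ⟨a, m, Nat.gcdA (p ^ a) m, Nat.gcdB (p ^ a) m, hm, he, ?_⟩
  rw [← zpow_natCast g (p ^ a), ← zpow_natCast g m, ← zpow_mul, ← zpow_mul, ← zpow_add, ← hz,
    Nat.cast_one, zpow_one]

/-- An element lies in a subgroup as soon as its `p`- and `p'`-parts do. -/
theorem mem_of_parts [Finite G] [hp : Fact p.Prime] {K : Subgroup G} {g : G}
    (h1 : ∀ h ∈ Subgroup.zpowers g, (orderOf h).Coprime p → h ∈ K)
    (h2 : ∀ h ∈ Subgroup.zpowers g, (∃ k, h ^ p ^ k = 1) → h ∈ K) : g ∈ K := by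
  obtain ⟨a, m, A, B, hm, he, hg⟩ := exists_bezout (p := p) g
  rw [hg]
  refine K.mul_mem (K.zpow_mem (h1 _ (Subgroup.pow_mem _ (Subgroup.mem_zpowers g) _) ?_) A)
    (K.zpow_mem (h2 _ (Subgroup.pow_mem _ (Subgroup.mem_zpowers g) _) ⟨a, ?_⟩) B)
  · have hd : orderOf (g ^ p ^ a) ∣ m :=
      orderOf_dvd_of_pow_eq_one (by rw [← pow_mul, ← he, pow_orderOf_eq_one])
    exact Nat.Coprime.coprime_dvd_left hd (hp.out.coprime_iff_not_dvd.2 hm).symm
  · rw [← pow_mul, mul_comm, ← he, pow_orderOf_eq_one]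

/-- Lifting an element of order prime to `p` to one of order prime to `p`. -/
theorem exists_coprime_lift [Finite G] [hp : Fact p.Prime] {H : Type*} [Group H] (f : G →* H)
    (g : G) (hc : (orderOf (f g)).Coprime p) :
    ∃ g' ∈ Subgroup.zpowers g, (orderOf g').Coprime p ∧ f g' = f g := by
  obtain ⟨a, m, A, B, hm, he, hg⟩ := exists_bezout (p := p) g
  refine ⟨(g ^ p ^ a) ^ A, Subgroup.zpow_mem _ (Subgroup.pow_mem _ (Subgroup.mem_zpowers g) _) A,
    ?_, ?_⟩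
  · have hd : orderOf ((g ^ p ^ a) ^ A) ∣ m := by
      refine orderOf_dvd_of_pow_eq_one ?_
      rw [← zpow_natCast _ m, ← zpow_mul, mul_comm, zpow_mul, zpow_natCast, ← pow_mul, ← he,
        pow_orderOf_eq_one, one_zpow]
    exact Nat.Coprime.coprime_dvd_left hd (hp.out.coprime_iff_not_dvd.2 hm).symm
  · have hd : orderOf (f g) ∣ m := by
      have h := orderOf_map_dvd f g
      rw [he] at h
      exact (Nat.Coprime.pow_right a hc).dvd_of_dvd_mul_left h
    conv_rhs => rw [hg, map_mul]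
    have h1 : f ((g ^ m) ^ B) = 1 := by
      rw [map_zpow, map_pow, orderOf_dvd_iff_pow_eq_one.1 hd, one_zpow]
    rw [h1, mul_one]

/-- The elements normalizing `Z` and acting trivially on `W` modulo `Z`. -/
def stabSub (Z : Subgroup G) (W : Set G) : Subgroup G where
  carrier := {g | g ∈ Subgroup.normalizer (Z : Set G) ∧ ∀ v ∈ W, g * v * g⁻¹ * v⁻¹ ∈ Z}
  one_mem' := ⟨Subgroup.one_mem _, fun v _ => by simp⟩
  mul_mem' := by
    rintro a b ⟨ha, ha'⟩ ⟨hb, hb'⟩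
    refine ⟨Subgroup.mul_mem _ ha hb, fun v hv => ?_⟩
    rw [show a * b * v * (a * b)⁻¹ * v⁻¹ =
      a * (b * v * b⁻¹ * v⁻¹) * a⁻¹ * (a * v * a⁻¹ * v⁻¹) by group]
    exact Z.mul_mem ((Subgroup.mem_normalizer_iff.1 ha _).1 (hb' v hv)) (ha' v hv)
  inv_mem' := by
    rintro a ⟨ha, ha'⟩
    refine ⟨Subgroup.inv_mem _ ha, fun v hv => ?_⟩
    rw [show a⁻¹ * v * a⁻¹⁻¹ * v⁻¹ = a⁻¹ * (a * v * a⁻¹ * v⁻¹)⁻¹ * a⁻¹⁻¹ by group]
    exact (Subgroup.mem_normalizer_iff.1 (Subgroup.inv_mem _ ha) _).1 (Z.inv_mem (ha' v hv))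

theorem mem_stabSub {Z : Subgroup G} {W : Set G} {g : G} :
    g ∈ stabSub Z W ↔
      g ∈ Subgroup.normalizer (Z : Set G) ∧ ∀ v ∈ W, g * v * g⁻¹ * v⁻¹ ∈ Z :=
  Iff.rfl

theorem stabSub_normal {Z V : Subgroup G} (hZ : Z.Normal) (hV : V.Normal) :
    (stabSub Z (V : Set G)).Normal := by
  refine ⟨fun a ha g => ⟨?_, fun v hv => ?_⟩⟩
  · rw [Subgroup.normalizer_eq_top]
    exact Subgroup.mem_top _
  · have hw : g⁻¹ * v * g ∈ V := by simpa using hV.conj_mem v hv g⁻¹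
    have h := hZ.conj_mem _ (ha.2 _ hw) g
    simpa [mul_assoc] using h

/-- The kernel of the transfer of the projection `R → R / T`. -/
theorem exists_kernel [Finite G] [hp : Fact p.Prime] {H0 R T Y : Subgroup G} (hR : SylIn p R H0)
    (hTR : T ≤ R) (hYR : Y ≤ R) (hRT : R ≤ Subgroup.normalizer (T : Set G))
    (hYn : H0 ≤ Subgroup.normalizer (Y : Set G))
    (hdec : ∀ r ∈ R, ∃ t ∈ T, ∃ y ∈ Y, r = t * y)
    (hTY : ∀ g ∈ H0, ∀ y ∈ Y, g * y * g⁻¹ * y⁻¹ ∈ T)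
    (hsc : ∀ (g : G), ∀ x ∈ T, g * x * g⁻¹ ∈ R → g * x * g⁻¹ ∈ T) :
    ∃ H : Subgroup G, H ≤ H0 ∧ H0 ≤ Subgroup.normalizer (H : Set G) ∧
      (∀ g ∈ H0, (orderOf g).Coprime p → g ∈ H) ∧
      (∀ (a : G), ∀ x ∈ T, a * x * a⁻¹ ∈ H0 → a * x * a⁻¹ ∈ H) ∧ R ⊓ H ≤ T := by
  classical
  have hRH := hR.1
  let R' : Subgroup H0 := R.subgroupOf H0
  let T'' : Subgroup R' := (T.subgroupOf H0).subgroupOf R'
  have hT'' : T''.Normal :=
    ⟨fun n hn g => (Subgroup.mem_normalizer_iff.1 (hRT g.2) _).1 hn⟩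
  have hmk : ∀ r r' : R', (QuotientGroup.mk r : R' ⧸ T'') = QuotientGroup.mk r' ↔
      ((r : H0) : G)⁻¹ * ((r' : H0) : G) ∈ T := fun r r' => QuotientGroup.eq
  have hY : ∀ r : R', ∃ y : R', ((y : H0) : G) ∈ Y ∧
      (QuotientGroup.mk r : R' ⧸ T'') = QuotientGroup.mk y := by
    intro r
    obtain ⟨t, ht, y, hy, he⟩ := hdec _ r.2
    refine ⟨⟨⟨y, hRH (hYR hy)⟩, hYR hy⟩, hy, (hmk _ _).2 ?_⟩
    show ((r : H0) : G)⁻¹ * y ∈ T
    rw [show ((r : H0) : G) = t * y from he, mul_inv_rev, mul_assoc]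
    have h1 := (Subgroup.mem_normalizer_iff.1 (hRT (hYR hy)) _).2
      (show y * (y⁻¹ * (t⁻¹ * y)) * y⁻¹ ∈ T by simpa [mul_assoc] using T.inv_mem ht)
    exact h1
  letI : CommGroup (R' ⧸ T'') :=
    { (inferInstance : _root_.Group (R' ⧸ T'')) with
      mul_comm := by
        intro a b
        obtain ⟨r, rfl⟩ := QuotientGroup.mk_surjective a
        obtain ⟨r', rfl⟩ := QuotientGroup.mk_surjective b
        obtain ⟨y, hy, he⟩ := hY r
        obtain ⟨y', hy', he'⟩ := hY r'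
        rw [he, he', ← QuotientGroup.mk_mul, ← QuotientGroup.mk_mul, hmk]
        show ((((y * y' : R') : H0)) : G)⁻¹ * (((y' * y : R') : H0) : G) ∈ T
        simp only [Subgroup.coe_mul, mul_inv_rev]
        have h := hTY _ (H0.inv_mem (y' : H0).2) _ (Y.inv_mem hy)
        simpa [mul_assoc] using h }
  let π : R' →* R' ⧸ T'' := QuotientGroup.mk' T''
  let τ : H0 →* R' ⧸ T'' := MonoidHom.transfer π
  have hform : ∀ g : H0, τ g = ∏ᶠ q : Quotient (MulAction.orbitRel (Subgroup.zpowers g) (H0 ⧸ R')),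
      π ⟨q.out.out⁻¹ * g ^ Function.minimalPeriod (g • ·) q.out * q.out.out,
        QuotientGroup.out_conj_pow_minimalPeriod_mem R' g q.out⟩ := by
    intro g
    have : Fintype (Quotient (MulAction.orbitRel (Subgroup.zpowers g) (H0 ⧸ R'))) :=
      Fintype.ofFinite _
    rw [finprod_eq_prod_of_fintype]
    exact MonoidHom.transfer_eq_prod_quotient_orbitRel_zpowers_quot π g
  have hπ : ∀ r : R', π r = 1 ↔ ((r : H0) : G) ∈ T := fun r => QuotientGroup.eq_one_iff r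
  -- conjugates of elements of `T` are killed
  have hconj : ∀ (a : G), ∀ x ∈ T, ∀ h : a * x * a⁻¹ ∈ H0, τ ⟨a * x * a⁻¹, h⟩ = 1 := by
    intro a x hx h
    rw [hform]
    refine finprod_eq_one_of_forall_eq_one fun q => (hπ _).2 ?_
    set j := Function.minimalPeriod ((⟨a * x * a⁻¹, h⟩ : H0) • ·) q.out
    set b : G := ((q.out.out : H0) : G)
    have hval : b⁻¹ * (a * x * a⁻¹) ^ j * b = (b⁻¹ * a) * x ^ j * (b⁻¹ * a)⁻¹ := by
      rw [conj_pow, mul_inv_rev, inv_inv]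
      simp only [mul_assoc]
    have hm := QuotientGroup.out_conj_pow_minimalPeriod_mem R' (⟨a * x * a⁻¹, h⟩ : H0) q.out
    have hm' : b⁻¹ * (a * x * a⁻¹) ^ j * b ∈ R := hm
    show b⁻¹ * (a * x * a⁻¹) ^ j * b ∈ T
    rw [hval] at hm' ⊢
    exact hsc _ _ (T.pow_mem hx j) hm'
  -- on `Y` the transfer is the `index`-th power of the projection
  have hτY : ∀ (y : G) (hy : y ∈ Y),
      τ ⟨y, hRH (hYR hy)⟩ = π ⟨⟨y, hRH (hYR hy)⟩, hYR hy⟩ ^ R'.index := by
    intro y hy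
    set y' : H0 := ⟨y, hRH (hYR hy)⟩ with hy'
    have hfix : ∀ q : H0 ⧸ R', y' • q = q := by
      intro q
      obtain ⟨a, rfl⟩ := QuotientGroup.mk_surjective q
      rw [MulAction.Quotient.smul_mk, smul_eq_mul]
      refine (QuotientGroup.eq.2 ?_).symm
      show ((a⁻¹ * (y' * a) : H0) : G) ∈ R
      refine hYR ?_
      simpa [hy', mul_assoc] using
        (Subgroup.mem_normalizer_iff.1 (hYn (H0.inv_mem a.2)) y).1 hy
    have hper : ∀ q : H0 ⧸ R', Function.minimalPeriod (y' • ·) q = 1 := fun q =>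
      Function.minimalPeriod_eq_one_iff_isFixedPt.2 (hfix q)
    rw [hform]
    have hterm : ∀ q : Quotient (MulAction.orbitRel (Subgroup.zpowers y') (H0 ⧸ R')),
        π ⟨q.out.out⁻¹ * y' ^ Function.minimalPeriod (y' • ·) q.out * q.out.out,
          QuotientGroup.out_conj_pow_minimalPeriod_mem R' y' q.out⟩ = π ⟨y', hYR hy⟩ := by
      intro q
      refine (hmk _ _).2 ?_
      show ((q.out.out⁻¹ * y' ^ Function.minimalPeriod (y' • ·) q.out * q.out.out : H0) : G)⁻¹ *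
        y ∈ T
      rw [hper, pow_one]
      have h := hTY _ (H0.inv_mem (q.out.out : H0).2) _ (Y.inv_mem hy)
      simpa [hy', mul_assoc] using h
    rw [finprod_congr hterm]
    have : Fintype (Quotient (MulAction.orbitRel (Subgroup.zpowers y') (H0 ⧸ R'))) :=
      Fintype.ofFinite _
    rw [finprod_eq_prod_of_fintype, Finset.prod_const, Finset.card_univ, ← Nat.card_eq_fintype_card,
      Subgroup.index]
    congr 1
    refine (Nat.card_congr (Equiv.ofBijective (fun q => Quotient.mk (MulAction.orbitRel _ _) q)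
      ⟨fun q q' h => ?_, Quotient.mk_surjective⟩)).symm
    obtain ⟨⟨z, hz⟩, hze⟩ := MulAction.orbitRel_apply.1 (Quotient.exact h)
    rw [← hze]
    show z • q' = q'
    have hle : Subgroup.zpowers y' ≤ MulAction.stabilizer H0 q' :=
      Subgroup.zpowers_le.2 (hfix q')
    exact hle hz
  have hRp : IsPGroup p R' := hR.2.1.comap_of_injective _ Subtype.val_injective
  have hAp : IsPGroup p (R' ⧸ T'') := hRp.to_quotient T''
  refine ⟨τ.ker.map H0.subtype, Subgroup.map_subtype_le _, fun g hg => ?_, fun g hg hc => ?_,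
    fun a x hx h => ⟨⟨_, h⟩, MonoidHom.mem_ker.2 (hconj a x hx h), rfl⟩, ?_⟩
  · have h := Subgroup.le_normalizer_map (H := τ.ker) H0.subtype
      (Subgroup.mem_map_of_mem H0.subtype
        (show (⟨g, hg⟩ : H0) ∈ Subgroup.normalizer (τ.ker : Set H0) by
          rw [Subgroup.normalizer_eq_top]; exact Subgroup.mem_top _))
    exact h
  · refine ⟨⟨g, hg⟩, MonoidHom.mem_ker.2 (eq_one_of_coprime_pow (hAp _) hc ?_), rfl⟩
    rw [← map_pow]
    have : (⟨g, hg⟩ : H0) ^ orderOf g = 1 := by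
      apply Subtype.ext
      rw [Subgroup.coe_pow, pow_orderOf_eq_one, Subgroup.coe_one]
    rw [this, map_one]
  · rintro r ⟨hr, ⟨r', hr'1, hr'2⟩⟩
    obtain ⟨t, ht, y, hy, rfl⟩ := hdec r hr
    refine T.mul_mem ht ((hπ ⟨⟨y, hRH (hYR hy)⟩, hYR hy⟩).1 (eq_one_of_coprime_pow (hAp _)
      (((hp.out.coprime_iff_not_dvd).2 hR.2.2).symm) ?_))
    show π _ ^ R'.index = 1
    rw [← hτY y hy]
    have h1 := hconj 1 t ht (by simpa using hRH (hTR ht))
    have h2 : r' = ⟨1 * t * 1⁻¹, by simpa using hRH (hTR ht)⟩ * ⟨y, hRH (hYR hy)⟩ := by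
      apply Subtype.ext
      rw [Subgroup.subtype_apply] at hr'2
      rw [hr'2]
      simp
    rw [SetLike.mem_coe, MonoidHom.mem_ker, h2, map_mul, h1, one_mul] at hr'1
    exact hr'1

end Cfsg.Agent.Fusion.Elementwise
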