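/-
Strongly p-embedded subgroups: the working form of the definition, control of intersections.
-/
import Mathlib
import Cfsg.Agent.Lib.Fusion.SylIn

set_option autoImplicit false

namespace Cfsg.Agent.Fusion.Embedded

open Cfsg Cfsg.Agent.Fusion.Basic Cfsg.Agent.Fusion.Saturation Cfsg.Agent.Fusion.SylIn

variable {X : Type*} [Group X] [Finite X] {p : ℕ} [Fact p.Prime]

theorem not_pRankLE_zero_iff {Q : Subgroup X} (hQ : IsPGroup p Q) :
    ¬ PRankLE p (1 - 1) Q ↔ Q ≠ ⊥ := by
  constructor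
  · rintro h rfl
    refine h fun A _ _ => ?_
    simp [Subsingleton.elim A ⊥]
  · intro hQ1 h
    have : Nontrivial Q := (Subgroup.nontrivial_iff_ne_bot Q).2 hQ1
    obtain ⟨x, hx⟩ := exists_prime_orderOf_dvd_card' (G := Q) p (by
      obtain ⟨n, hn⟩ := IsPGroup.iff_card.1 hQ
      have h1 : 1 < Nat.card Q := Finite.one_lt_card
      rw [hn] at h1 ⊢
      exact dvd_pow_self p fun h0 => by simp [h0] at h1)
    have h1 := h (Subgroup.zpowers x) inferInstance fun a ha => by
      obtain ⟨n, rfl⟩ := Subgroup.mem_zpowers_iff.1 ha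
      rw [← zpow_natCast, ← zpow_mul, mul_comm, zpow_mul, zpow_natCast, ← hx, pow_orderOf_eq_one,
        one_zpow]
    rw [Nat.card_zpowers, hx, show (1 - 1 : ℕ) = 0 from rfl, pow_zero] at h1
    exact absurd h1 (not_le.2 (Fact.out : p.Prime).one_lt)

theorem stronglyPEmbedded_iff {Y : Subgroup X} :
    IsStronglyPEmbedded p Y ↔ p ∣ Nat.card X ∧ Y ≠ ⊤ ∧ ∃ P : Sylow p X,
      ∀ A : Subgroup X, A ≤ P → A ≠ ⊥ → Subgroup.normalizer (A : Set X) ≤ Y := by
  refine and_congr_right fun _ => and_congr_right fun _ => exists_congr fun P => ?_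
  rw [kGeneratedCore, iSup_le_iff]
  exact ⟨fun h A hA hA1 => h ⟨A, hA, (not_pRankLE_zero_iff (P.2.to_le hA)).2 hA1⟩,
    fun h A => h A A.2.1 ((not_pRankLE_zero_iff (P.2.to_le A.2.1)).1 A.2.2)⟩

/-- If `Y` controls the normalizers of the nontrivial subgroups of a Sylow subgroup `P`, two Sylow
subgroups meeting nontrivially are `Y`-conjugate. -/
theorem exists_conj_of_inf_ne_bot {Y : Subgroup X} {P : Sylow p X}
    (hY : ∀ A : Subgroup X, A ≤ P → A ≠ ⊥ → Subgroup.normalizer (A : Set X) ≤ Y)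
    (P' : Sylow p X) (h : (P : Subgroup X) ⊓ P' ≠ ⊥) : ∃ y ∈ Y, y • P' = P := by
  induction hn : Nat.card X - Nat.card ↥((P : Subgroup X) ⊓ P') using Nat.strong_induction_on
    generalizing P' with
  | _ n ih =>
  set D := (P : Subgroup X) ⊓ P' with hD
  rcases eq_or_lt_of_le (inf_le_left : D ≤ (P : Subgroup X)) with hDP | hDP
  · refine ⟨1, Y.one_mem, ?_⟩
    rw [one_smul]
    exact Sylow.ext (P.3 P'.2 (hDP ▸ inf_le_right))
  have hDP' : D < (P' : Subgroup X) := by
    refine lt_of_le_of_ne inf_le_right fun he => hDP.ne ?_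
    exact he.trans (P'.3 P.2 (le_trans (le_of_eq he.symm) inf_le_left)).symm
  have h1 := lt_normalizerIn P.2 hDP
  have h2 := lt_normalizerIn P'.2 hDP'
  have hN : Subgroup.normalizer (D : Set X) ≤ Y := hY D inf_le_left h
  obtain ⟨T, hT1, hT⟩ := exists_sylIn (p := p)
    (inf_le_right : FusionSystem.normalizerIn (P : Subgroup X) D ≤
      Subgroup.normalizer (D : Set X)) (P.2.to_le inf_le_left)
  obtain ⟨P'', hP''⟩ := hT.2.1.exists_le_sylow
  have hcl : ∀ Q : Sylow p X, Nat.card D < Nat.card ↥((P : Subgroup X) ⊓ Q) →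
      ∃ y ∈ Y, y • Q = P := by
    intro Q hQ
    refine ih _ ?_ Q ?_ rfl
    · have := card_le_card (A := (P : Subgroup X) ⊓ Q) (B := ⊤) le_top
      rw [Subgroup.card_top] at this
      omega
    · intro h0
      rw [h0, Subgroup.card_bot] at hQ
      have := Nat.card_pos (α := D)
      omega
  obtain ⟨u, hu, huP⟩ := hcl P'' (lt_of_lt_of_le (card_lt_card h1)
    (card_le_card (le_inf inf_le_left (hT1.trans hP''))))
  obtain ⟨b, hb, hble⟩ := hT.exists_conj
    (inf_le_right : FusionSystem.normalizerIn (P' : Subgroup X) D ≤ _) (P'.2.to_le inf_le_left)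
  obtain ⟨v, hv, hvP⟩ := hcl ((u * b) • P') (by
    refine lt_of_lt_of_le (card_lt_card h2) ?_
    rw [← card_img_cj (u * b)]
    refine card_le_card (img_le fun x hx => ⟨?_, ?_⟩)
    · rw [cj_mul, ← huP, SetLike.mem_coe, Sylow.coe_subgroup_smul]
      exact Subgroup.smul_mem_pointwise_smul _ (MulAut.conj u) _
        (hP'' (hble (mem_img_self _ hx)))
    · rw [SetLike.mem_coe, Sylow.coe_subgroup_smul]
      exact Subgroup.smul_mem_pointwise_smul _ (MulAut.conj (u * b)) _ hx.1)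
  exact ⟨v * (u * b), Y.mul_mem hv (Y.mul_mem hu (hN hb)), by rw [mul_smul, hvP]⟩

/-- An element carrying a nontrivial subgroup of `P` into `P` lies in `Y`. -/
theorem mem_of_conj {Y : Subgroup X} {P : Sylow p X}
    (hY : ∀ A : Subgroup X, A ≤ P → A ≠ ⊥ → Subgroup.normalizer (A : Set X) ≤ Y)
    {x a : X} (hx : x ∈ (P : Subgroup X)) (hx1 : x ≠ 1) (hax : a * x * a⁻¹ ∈ (P : Subgroup X)) :
    a ∈ Y := by
  have hPne : (P : Subgroup X) ≠ ⊥ := fun h0 => hx1 (by rwa [h0, Subgroup.mem_bot] at hx)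
  obtain ⟨y, hy, hyP⟩ := exists_conj_of_inf_ne_bot hY (a • P) (fun h0 => hx1 (by
    have hmem : a * x * a⁻¹ ∈ (P : Subgroup X) ⊓ ((a • P : Sylow p X) : Subgroup X) := by
      refine ⟨hax, ?_⟩
      rw [SetLike.mem_coe, Sylow.coe_subgroup_smul]
      exact Subgroup.smul_mem_pointwise_smul x (MulAut.conj a) _ hx
    rw [h0, Subgroup.mem_bot] at hmem
    simpa using hmem))
  rw [← mul_smul, Sylow.smul_eq_iff_mem_normalizer] at hyP
  have := Y.mul_mem (Y.inv_mem hy) (hY _ le_rfl hPne hyP)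
  simpa using this

/-- A group with a nontrivial normal `p`-subgroup has no strongly `p`-embedded subgroup. -/
theorem eq_bot_of_stronglyPEmbedded {Y : Subgroup X} (hY : IsStronglyPEmbedded p Y)
    {N : Subgroup X} [N.Normal] (hN : IsPGroup p N) : N = ⊥ := by
  by_contra h
  obtain ⟨-, htop, P, hP⟩ := stronglyPEmbedded_iff.1 hY
  have := hP N (hN.le_sylow_of_normal P) h
  rw [Subgroup.normalizer_eq_top] at this
  exact htop (top_le_iff.1 this)

theorem not_isPGroup_of_stronglyPEmbedded {Y : Subgroup X} (hY : IsStronglyPEmbedded p Y) :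
    ¬ IsPGroup p X := fun hX => by
  have := eq_bot_of_stronglyPEmbedded hY (N := ⊤) (hX.to_subgroup ⊤)
  have h1 : Nat.card X = 1 := by rw [← Subgroup.card_top, this, Subgroup.card_bot]
  have h2 := hY.1
  rw [h1, Nat.dvd_one] at h2
  exact (Fact.out : p.Prime).ne_one h2

end Cfsg.Agent.Fusion.Embedded
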