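/-
Alperin's fusion theorem.
-/
import Mathlib
import Cfsg.Agent.Lib.Fusion.Embedded

set_option autoImplicit false

namespace Cfsg.Agent.Fusion.Alperin

open Cfsg Cfsg.FusionSystem Cfsg.Agent.Fusion.Basic Cfsg.Agent.Fusion.Saturation
  Cfsg.Agent.Fusion.SylIn Cfsg.Agent.Fusion.Embedded

variable {Ω : Type*} [Group Ω] {S : Subgroup Ω}

/-- The automorphisms of `P` that extend to a strictly larger subgroup. -/
def extSet (F : FusionSystem S) (P : Subgroup Ω) : Set (MulAut P) :=
  {α | ∃ (Q : Subgroup Ω) (f : Ω → Ω), P < Q ∧ IsMap F Q f ∧ ∀ x ∈ P, f x = autFun α x}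

/-- The subgroup of `Aut(P)` generated by the extendable automorphisms. -/
def extGroup (F : FusionSystem S) (P : Subgroup Ω) : Subgroup (MulAut P) :=
  Subgroup.closure (extSet F P)

theorem extSet_eq (F : FusionSystem S) (P : Subgroup Ω) :
    extSet F P = {α : MulAut P | ∃ (Q : Subgroup Ω) (hPQ : P < Q) (φ : Q →* Ω),
      φ ∈ F.Hom Q ∧ ∀ x : P, φ (Subgroup.inclusion hPQ.le x) = α x} := by
  ext α
  constructor
  · rintro ⟨Q, f, hPQ, hf, he⟩
    exact ⟨Q, hPQ, hf.hom, hf.hom_mem_self, fun x => (he x x.2).trans (autFun_apply α x)⟩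
  · rintro ⟨Q, hPQ, φ, hφ, he⟩
    exact ⟨Q, ext φ, hPQ, IsMap.of_hom hφ, fun x hx => by
      rw [ext_of_mem φ (hPQ.le hx), autFun_of_mem α hx]; exact he ⟨x, hx⟩⟩

variable [Finite S] {F E : FusionSystem S} {p : ℕ} [Fact p.Prime] {P Q : Subgroup Ω}

omit [Finite S] in
theorem extGroup_le (hP : P ≤ S) : extGroup F P ≤ F.autGroup P := by
  rw [extGroup, Subgroup.closure_le]
  rintro α ⟨Q, f, hPQ, hf, he⟩
  exact (mem_autGroup_iff hP).2 ((hf.restrict hPQ.le).congr he)

theorem inn_le_extGroup (hP : P < S) : Inn P ≤ extGroup F P := by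
  intro α hα
  obtain ⟨g, hg, he⟩ := mem_inn_iff.1 hα
  exact Subgroup.subset_closure
    ⟨S, cj g, hP, isMap_cj le_rfl (hP.le hg), fun x hx => (he x hx).symm⟩

theorem eq_top_of_card (hP : P ≤ S) (hQ : F.IsConj P Q) (h : P = S) : Q = S := by
  subst h
  exact eq_of_le_card (isConj_le hQ).2 (isConj_card hQ).ge

/-- Alperin's induction: at each fully normalized subgroup the extendable automorphisms may be
assumed to belong to the target system. -/
theorem le_of_extGroup (hS : IsPGroup p S) (hF : F.IsSaturated p)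
    (hE : ∀ P : Subgroup Ω, F.IsFullyNormalized P → extGroup F P ≤ E.autGroup P →
      F.autGroup P ≤ E.autGroup P) :
    F ≤ E := by
  refine le_of_isMap fun P f hf => ?_
  induction hn : Nat.card S - Nat.card P using Nat.strong_induction_on generalizing P f with
  | _ n ih =>
  have hP := hf.le
  have haut : ∀ R : Subgroup Ω, Nat.card R = Nat.card P → F.IsFullyNormalized R →
      F.autGroup R ≤ E.autGroup R := by
    intro R hR hRn
    refine hE R hRn ?_
    rw [extGroup, Subgroup.closure_le]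
    rintro α ⟨T, g, hRT, hg, he⟩
    have : Finite T := finite_of_le hg.le
    have hcard := card_lt_card hRT
    have hTS := card_le_card hg.le
    have hg' : IsMap E T g := ih (Nat.card S - Nat.card T) (by omega) T g hg rfl
    exact (mem_autGroup_iff hRn.1).2 ((hg'.restrict hRT.le).congr he)
  rcases eq_or_lt_of_le hP with hPS | hlt
  · have himg : img f P = P := (eq_top_of_card hP hf.isConj hPS).trans hPS.symm
    obtain ⟨α, hα, he⟩ := hf.exists_aut himg
    have hn : F.IsFullyNormalized P := by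
      refine ⟨hP, fun R hR => ?_⟩
      rw [eq_top_of_card hP hR hPS, hPS]
    exact (isMap_of_mem_autGroup hP (haut P rfl hn hα)).congr he
  obtain ⟨Q, hPQ, hQ⟩ := exists_fullyNormalized (F := F) hP
  have hstep : ∀ R : Subgroup Ω, F.IsConj R P → ∃ g, IsMap F R g ∧ IsMap E R g ∧ img g R = Q := by
    intro R hR
    obtain ⟨g, hg, hgQ⟩ := exists_map_to_fullyNormalized hS hF hQ (isConj_trans hR hPQ)
    have hRS := (isConj_le hR).1
    have hRlt : R < S := by
      refine lt_of_le_of_ne hRS fun h => hlt.ne ?_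
      exact eq_top_of_card hRS hR h
    have h1 := card_lt_card hlt
    have hfin : Finite (normalizerIn S R) := finite_of_le normalizerIn_le
    have h2 := card_lt_card (lt_normalizerIn hS hRlt)
    have h3 := card_le_card (normalizerIn_le : normalizerIn S R ≤ S)
    have h4 := isConj_card hR
    have hg' : IsMap E (normalizerIn S R) g := ih (Nat.card S - Nat.card (normalizerIn S R))
      (by omega) _ g hg rfl
    exact ⟨g, hg.restrict (le_normalizerIn hRS), hg'.restrict (le_normalizerIn hRS), hgQ⟩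
  obtain ⟨g₁, hg₁, hg₁E, hg₁Q⟩ := hstep P (isConj_refl hP)
  obtain ⟨g₂, hg₂, hg₂E, hg₂Q⟩ := hstep (img f P) (isConj_symm hf.isConj)
  subst hg₁Q
  obtain ⟨i₁, hi₁, hi₁img, hi₁g, -⟩ := hg₁.exists_inv
  obtain ⟨i₂, hi₂, hi₂img, hi₂g, -⟩ := hg₂E.exists_inv
  rw [hg₂Q] at hi₂
  have hmapsto : ∀ x ∈ img g₁ P, i₁ x ∈ P := fun x hx => le_of_eq hi₁img (mem_img_self i₁ hx)
  have hin : IsMap F (img g₁ P) (fun x => f (i₁ x)) := hf.comp hi₁ hmapsto
  have hcomp : IsMap F (img g₁ P) (fun x => g₂ (f (i₁ x))) :=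
    hg₂.comp hin fun x hx => mem_img_self f (hmapsto x hx)
  have himg : img (fun x => g₂ (f (i₁ x))) (img g₁ P) = img g₁ P := by
    rw [← hin.img_img g₂, ← hi₁.img_img f, hi₁img, hg₂Q]
  obtain ⟨α, hα, he⟩ := hcomp.exists_aut himg
  have hαE : IsMap E (img g₁ P) (autFun α) :=
    isMap_of_mem_autGroup hQ.1 (haut _ (isConj_card hPQ) hQ hα)
  have h1 : IsMap E P (fun x => autFun α (g₁ x)) :=
    hαE.comp hg₁E fun x hx => mem_img_self g₁ hx
  refine (hi₂.comp h1 fun x hx => autFun_mem α (mem_img_self g₁ hx)).congr fun x hx => ?_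
  show i₂ (autFun α (g₁ x)) = f x
  rw [he _ (mem_img_self g₁ hx), hi₁g x hx, hi₂g _ (mem_img_self f hx)]

/-- A system containing the automorphism groups that are not generated by extendable automorphisms
contains `F`. -/
theorem le_of_autGroup (hS : IsPGroup p S) (hF : F.IsSaturated p)
    (hE : ∀ P : Subgroup Ω, F.IsFullyNormalized P → (P = S ∨ extGroup F P ≠ F.autGroup P) →
      F.autGroup P ≤ E.autGroup P) :
    F ≤ E := by
  refine le_of_extGroup hS hF fun P hP h => ?_
  by_cases h' : P = S ∨ extGroup F P ≠ F.autGroup P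
  · exact hE P hP h'
  push Not at h'
  rwa [← h'.2]

/-- The quotient map onto `Out_F(P)`, with the facts we need about it. -/
theorem inn_normal (F : FusionSystem S) (P : Subgroup Ω) :
    ((Inn P).subgroupOf (F.autGroup P)).Normal := Subgroup.normal_subgroupOf

section Out

variable [hnorm : ((Inn P).subgroupOf (F.autGroup P)).Normal]

/-- `Out_S(P)` inside `Out_F(P)`. -/
def outS (F : FusionSystem S) (P : Subgroup Ω) [((Inn P).subgroupOf (F.autGroup P)).Normal] :
    Subgroup (F.autGroup P ⧸ (Inn P).subgroupOf (F.autGroup P)) :=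
  ((autInducedBy S P).subgroupOf (F.autGroup P)).map
    (QuotientGroup.mk' ((Inn P).subgroupOf (F.autGroup P)))

omit [Finite S] in
theorem mk_mem_outS_iff (hP : P ≤ S) {a : F.autGroup P} :
    QuotientGroup.mk' ((Inn P).subgroupOf (F.autGroup P)) a ∈ outS F P ↔
      (a : MulAut P) ∈ autInducedBy S P := by
  refine ⟨fun h => ?_, fun h => ⟨a, h, rfl⟩⟩
  have h1 : a ∈ Subgroup.comap (QuotientGroup.mk' ((Inn P).subgroupOf (F.autGroup P)))
      (((autInducedBy S P).subgroupOf (F.autGroup P)).map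
        (QuotientGroup.mk' ((Inn P).subgroupOf (F.autGroup P)))) := h
  rw [Subgroup.comap_map_eq_self (by
    rw [QuotientGroup.ker_mk']
    exact Subgroup.comap_mono (inn_le_autInducedBy hP))] at h1
  exact h1

theorem outS_sylow (hS : IsPGroup p S) (hF : F.IsSaturated p) (hP : F.IsFullyNormalized P) :
    ∃ R : Sylow p (F.autGroup P ⧸ (Inn P).subgroupOf (F.autGroup P)),
      (R : Subgroup _) = outS F P := by
  have : Finite P := finite_of_le hP.1
  obtain ⟨R, hR⟩ := (fullyNormalized_fullyAutomized hS hF hP).2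
  exact ⟨R.mapSurjective (QuotientGroup.mk'_surjective _), by rw [Sylow.coe_mapSurjective, hR]; rfl⟩

/-- Outer classes of `S`-conjugations outside `P` are nontrivial for centric `P`. -/
theorem mk_conjAut_ne_one (hP : F.IsCentric P) {g : Ω}
    (hg : g ∈ normalizerIn S P) (hgP : g ∉ P) {a : F.autGroup P}
    (ha : (a : MulAut P) = conjAut S P ⟨g, hg⟩) :
    QuotientGroup.mk' ((Inn P).subgroupOf (F.autGroup P)) a ≠ 1 := by
  rw [QuotientGroup.mk'_apply, ne_eq, QuotientGroup.eq_one_iff, Subgroup.mem_subgroupOf,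
    mem_inn_iff]
  rintro ⟨t, ht, he⟩
  apply hgP
  have hc : t⁻¹ * g ∈ P := by
    refine centric_centralizerIn_le hP ⟨S.mul_mem (S.inv_mem (hP.1 ht)) hg.1, fun x hx => ?_⟩
    have h1 := he x hx
    rw [ha, conjAut_apply ⟨g, hg⟩ hx] at h1
    have h2 : g * x * g⁻¹ = t * x * t⁻¹ := h1
    calc x * (t⁻¹ * g) = t⁻¹ * (t * x * t⁻¹) * g := by group
      _ = t⁻¹ * (g * x * g⁻¹) * g := by rw [h2]
      _ = t⁻¹ * g * x := by group
  simpa using P.mul_mem ht hc

theorem normalizer_le_map_extGroup (hS : IsPGroup p S) (hF : F.IsSaturated p)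
    (hP : F.IsFullyNormalized P) {A : Subgroup (F.autGroup P ⧸ (Inn P).subgroupOf (F.autGroup P))}
    (hA : A ≤ outS F P) (hA1 : A ≠ ⊥) :
    Subgroup.normalizer (A : Set _) ≤
      ((extGroup F P).subgroupOf (F.autGroup P)).map
        (QuotientGroup.mk' ((Inn P).subgroupOf (F.autGroup P))) := by
  intro q hq
  obtain ⟨a, rfl⟩ := QuotientGroup.mk'_surjective _ q
  refine Subgroup.mem_map_of_mem _ (Subgroup.mem_subgroupOf.2 ?_)
  obtain ⟨q₀, hq₀, hq₀1⟩ := (Subgroup.bot_or_exists_ne_one A).resolve_left hA1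
  obtain ⟨b, rfl⟩ := QuotientGroup.mk'_surjective _ q₀
  obtain ⟨g, hg, hge⟩ := mem_autInducedBy_iff'.1 ((mk_mem_outS_iff hP.1).1 (hA hq₀))
  have h1 : QuotientGroup.mk' ((Inn P).subgroupOf (F.autGroup P)) (a * b * a⁻¹) ∈ outS F P := by
    rw [map_mul, map_mul, map_inv]
    exact hA ((Subgroup.mem_normalizer_iff.1 hq _).1 hq₀)
  obtain ⟨h, hh, hhe⟩ := mem_autInducedBy_iff'.1 ((mk_mem_outS_iff hP.1).1 h1)
  have haf : IsMap F P (autFun (a : MulAut P)) := isMap_of_mem_autGroup hP.1 a.2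
  obtain ⟨θ, hθ, hθe⟩ := exists_extension hS hF haf
    (by rw [autFun_img]; exact fullyNormalized_fullyCentralized hS hF hP)
  refine Subgroup.subset_closure ⟨_, θ, ?_, hθ, hθe⟩
  refine SetLike.lt_iff_le_and_exists.2 ⟨le_nSub haf, g,
    mem_nSub.2 ⟨hg.1, hg.2, h, hh.1, fun x hx => ?_⟩, ?_⟩
  · have h3 := hhe _ (autFun_mem (a : MulAut P) hx)
    rw [Subgroup.coe_mul, Subgroup.coe_mul, Subgroup.coe_inv, autFun_mul, autFun_mul,
      autFun_inv_apply, hge x hx] at h3
    exact h3
  · intro hgP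
    apply hq₀1
    rw [QuotientGroup.mk'_apply, QuotientGroup.eq_one_iff]
    exact Subgroup.mem_subgroupOf.2 (mem_inn_iff.2 ⟨g, hgP, hge⟩)

theorem map_extGroup_stronglyPEmbedded (hS : IsPGroup p S) (hF : F.IsSaturated p) (hlt : P < S)
    (hP : F.IsFullyNormalized P) (hne : extGroup F P ≠ F.autGroup P) :
    F.IsCentric P ∧ IsStronglyPEmbedded p (((extGroup F P).subgroupOf (F.autGroup P)).map
      (QuotientGroup.mk' ((Inn P).subgroupOf (F.autGroup P)))) := by
  have : Finite P := finite_of_le hP.1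
  have hc : F.IsCentric P := by
    refine centric_of_fullyCentralized hS hF (fullyNormalized_fullyCentralized hS hF hP) ?_
    intro g hg
    by_contra hgP
    refine hne (le_antisymm (extGroup_le hP.1) fun α hα => ?_)
    have haf : IsMap F P (autFun α) := isMap_of_mem_autGroup hP.1 hα
    obtain ⟨θ, hθ, hθe⟩ := exists_extension hS hF haf
      (by rw [autFun_img]; exact fullyNormalized_fullyCentralized hS hF hP)
    exact Subgroup.subset_closure ⟨_, θ,
      SetLike.lt_iff_le_and_exists.2 ⟨le_nSub haf, g, centralizerIn_le_nSub hg, hgP⟩, hθ, hθe⟩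
  obtain ⟨R, hR⟩ := outS_sylow hS hF hP
  obtain ⟨g, hg, hgP⟩ := exists_mem_normalizer_not_mem hS hlt
  let a : F.autGroup P := ⟨conjAut S P ⟨g, hg⟩,
    autInducedBy_le hP.1 (conjAut_range S P ▸ ⟨_, rfl⟩)⟩
  refine ⟨hc, ?_⟩
  rw [stronglyPEmbedded_iff]
  refine ⟨?_, ?_, R, fun A hA hA1 =>
    normalizer_le_map_extGroup hS hF hP (by rwa [← hR]) hA1⟩
  · have hRne : (R : Subgroup (F.autGroup P ⧸ (Inn P).subgroupOf (F.autGroup P))) ≠ ⊥ := by
      rw [hR]
      intro h0
      refine mk_conjAut_ne_one hc hg hgP (a := a) rfl ?_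
      have h2 : QuotientGroup.mk' ((Inn P).subgroupOf (F.autGroup P)) a ∈ outS F P :=
        (mk_mem_outS_iff hP.1).2 (conjAut_range S P ▸ ⟨_, rfl⟩)
      rwa [h0, Subgroup.mem_bot] at h2
    have : Nontrivial R := (Subgroup.nontrivial_iff_ne_bot _).2 hRne
    obtain ⟨k, hk⟩ := IsPGroup.iff_card.1 R.2
    refine dvd_trans ?_ (Subgroup.card_subgroup_dvd_card
      (R : Subgroup (F.autGroup P ⧸ (Inn P).subgroupOf (F.autGroup P))))
    have h1 : 1 < Nat.card R := Finite.one_lt_card
    rw [hk] at h1 ⊢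
    exact dvd_pow_self p fun h0 => by simp [h0] at h1
  · intro htop
    have := congrArg
      (Subgroup.comap (QuotientGroup.mk' ((Inn P).subgroupOf (F.autGroup P)))) htop
    rw [Subgroup.comap_top, Subgroup.comap_map_eq_self (by
      rw [QuotientGroup.ker_mk']
      exact Subgroup.comap_mono (inn_le_extGroup hlt)), Subgroup.subgroupOf_eq_top] at this
    exact hne (le_antisymm (extGroup_le hP.1) this)

theorem extGroup_ne_of_stronglyPEmbedded (hS : IsPGroup p S) (hF : F.IsSaturated p)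
    (hc : F.IsCentric P) (hP : F.IsFullyNormalized P)
    {Y : Subgroup (F.autGroup P ⧸ (Inn P).subgroupOf (F.autGroup P))}
    (hY : IsStronglyPEmbedded p Y) : extGroup F P ≠ F.autGroup P := by
  have : Finite P := finite_of_le hP.1
  intro heq
  obtain ⟨-, htop, R', hR'⟩ := stronglyPEmbedded_iff.1 hY
  obtain ⟨R, hR⟩ := outS_sylow hS hF hP
  obtain ⟨c, rfl⟩ :=
    MulAction.exists_smul_eq (F.autGroup P ⧸ (Inn P).subgroupOf (F.autGroup P)) R' R
  apply htop
  have key : ∀ α ∈ extGroup F P, ∀ hα : α ∈ F.autGroup P,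
      c⁻¹ * QuotientGroup.mk' ((Inn P).subgroupOf (F.autGroup P)) ⟨α, hα⟩ * c ∈ Y := by
    have hle : extGroup F P ≤ ((Y.map (MulAut.conj c).toMonoidHom).comap
        (QuotientGroup.mk' ((Inn P).subgroupOf (F.autGroup P)))).map (F.autGroup P).subtype := by
      rw [extGroup, Subgroup.closure_le]
      rintro α ⟨Q, f, hPQ, hf, he⟩
      have hα : α ∈ F.autGroup P := extGroup_le hP.1 (Subgroup.subset_closure ⟨Q, f, hPQ, hf, he⟩)
      refine ⟨⟨α, hα⟩, ?_, rfl⟩
      have hQfin : Finite Q := finite_of_le hf.le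
      obtain ⟨g, hg, hgP⟩ := exists_mem_normalizer_not_mem (hS.to_le hf.le) hPQ
      have hgS : g ∈ normalizerIn S P := ⟨hf.le hg.1, hg.2⟩
      let b : F.autGroup P := ⟨conjAut S P ⟨g, hgS⟩,
        autInducedBy_le hP.1 (conjAut_range S P ▸ ⟨_, rfl⟩)⟩
      set π := QuotientGroup.mk' ((Inn P).subgroupOf (F.autGroup P))
      have hb : π b ∈ outS F P := (mk_mem_outS_iff hP.1).2 (conjAut_range S P ▸ ⟨_, rfl⟩)
      have hab : π (⟨α, hα⟩ * b * ⟨α, hα⟩⁻¹) ∈ outS F P := by
        refine (mk_mem_outS_iff hP.1).2 (mem_autInducedBy_iff'.2 ⟨f g, ⟨hf.mem hg.1, ?_⟩, ?_⟩)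
        · have h1 := hf.mem_normalizer_img hPQ.le hg.1 hg.2
          rwa [img_congr he, autFun_img] at h1
        · intro x hx
          show autFun (α * conjAut S P ⟨g, hgS⟩ * α⁻¹) x = _
          rw [autFun_mul, autFun_mul, conjAut_apply ⟨g, hgS⟩ (autFun_mem _ hx)]
          have hz := autFun_mem α⁻¹ hx
          have h2 : cj g (autFun α⁻¹ x) ∈ P := (Subgroup.mem_normalizer_iff.1 hg.2 _).1 hz
          rw [← he _ h2, cj_apply, hf.map_conj hg.1 (hPQ.le hz), he _ hz, autFun_apply_inv]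
          rfl
      rw [← hR, Sylow.coe_subgroup_smul, Subgroup.mem_smul_pointwise_iff_exists] at hb hab
      obtain ⟨u, hu, hub⟩ := hb
      obtain ⟨v, hv, hvb⟩ := hab
      have hu1 : u ≠ 1 := by
        rintro rfl
        apply mk_conjAut_ne_one hc hgS hgP (a := b) rfl
        rw [← hub, smul_one]
      have hmem : c⁻¹ * π ⟨α, hα⟩ * c ∈ Y := by
        refine mem_of_conj hR' hu hu1 ?_
        have hv' : v = c⁻¹ * (π ⟨α, hα⟩ * (c * u * c⁻¹) * (π ⟨α, hα⟩)⁻¹) * c := by
          have hub' : c * u * c⁻¹ = π b := hub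
          have hvb' : c * v * c⁻¹ = π (⟨α, hα⟩ * b * ⟨α, hα⟩⁻¹) := hvb
          rw [hub', ← map_inv, ← map_mul, ← map_mul, ← hvb']
          group
        have hw : c⁻¹ * π ⟨α, hα⟩ * c * u * (c⁻¹ * π ⟨α, hα⟩ * c)⁻¹ = v := by
          rw [hv']; group
        exact hw.symm ▸ hv
      refine ⟨_, hmem, ?_⟩
      show c * (c⁻¹ * π ⟨α, hα⟩ * c) * c⁻¹ = π ⟨α, hα⟩
      group
    intro α hα hα'
    obtain ⟨a, ⟨y, hy, hya⟩, rfl⟩ := hle hα
    have hya' : c * y * c⁻¹ = QuotientGroup.mk' ((Inn P).subgroupOf (F.autGroup P)) a := hya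
    have : c⁻¹ * QuotientGroup.mk' ((Inn P).subgroupOf (F.autGroup P)) a * c = y := by
      rw [← hya']; group
    exact this.symm ▸ hy
  refine eq_top_iff.2 fun q _ => ?_
  obtain ⟨⟨α, hα⟩, hq⟩ := QuotientGroup.mk'_surjective _ (c * q * c⁻¹)
  have := key α (heq ▸ hα) hα
  rw [hq] at this
  simpa [mul_assoc] using this

end Out

theorem essential_lt (hS : IsPGroup p S) (hF : F.IsSaturated p) (h : F.IsEssential p P) :
    P < S := by
  obtain ⟨hc, hn, hnorm, Y, hY⟩ := h
  refine lt_of_le_of_ne hc.1 fun hPS => ?_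
  subst hPS
  obtain ⟨R, hR⟩ := (fullyNormalized_fullyAutomized hS hF hn).2
  have hnR : (R : Subgroup (F.autGroup P)) = (Inn P).subgroupOf (F.autGroup P) := by
    rw [hR]
    congr 1
    refine le_antisymm (fun α hα => ?_) (inn_le_autInducedBy le_rfl)
    obtain ⟨g, hg, he⟩ := mem_autInducedBy_iff'.1 hα
    exact mem_inn_iff.2 ⟨g, hg.1, he⟩
  refine (Nat.Prime.not_dvd_one (Fact.out : p.Prime)) ?_
  exact absurd (hY.1) (by rw [← Subgroup.index_eq_card, ← hnR]; exact R.not_dvd_index)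

theorem essential_iff (hS : IsPGroup p S) (hF : F.IsSaturated p) (hlt : P < S)
    (hP : F.IsFullyNormalized P) :
    F.IsEssential p P ↔ extGroup F P ≠ F.autGroup P := by
  constructor
  · rintro ⟨hc, -, hnorm, Y, hY⟩
    exact extGroup_ne_of_stronglyPEmbedded hS hF hc hP hY
  · intro h
    have hnorm := inn_normal F P
    obtain ⟨hc, hY⟩ := map_extGroup_stronglyPEmbedded hS hF hlt hP h
    exact ⟨hc, hP, hnorm, _, hY⟩

/-- Alperin's fusion theorem. -/
theorem alperin (hS : IsPGroup p S) (hF : F.IsSaturated p)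
    (hE : ∀ P : Subgroup Ω, (P = S ∨ F.IsEssential p P) → F.autGroup P ≤ E.autGroup P) : F ≤ E := by
  refine le_of_autGroup hS hF fun P hP h => ?_
  rcases eq_or_lt_of_le hP.1 with hPS | hlt
  · exact hE P (Or.inl hPS)
  · exact hE P (Or.inr ((essential_iff hS hF hlt hP).2 (h.resolve_left hlt.ne)))

theorem essential_radical (h : F.IsEssential p P) (hS : IsPGroup p S) : F.IsRadical p P := by
  obtain ⟨hc, -, hnorm, Y, hY⟩ := h
  have : Finite P := finite_of_le hc.1
  refine ⟨hc.1, le_antisymm ?_ fun α hα => ?_⟩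
  · rintro _ ⟨a, ha, rfl⟩
    have hp : IsPGroup p (pCore p (F.autGroup P)) :=
      Sylow.sSup_of_normal _ (fun _ hN => hN.2) fun _ hN => hN.1
    have hn : (pCore p (F.autGroup P)).Normal := Subgroup.sSup_normal _ fun _ hN => hN.1
    have : (Subgroup.map (QuotientGroup.mk' ((Inn P).subgroupOf (F.autGroup P)))
        (pCore p (F.autGroup P))).Normal := hn.map _ (QuotientGroup.mk'_surjective _)
    have h0 := eq_bot_of_stronglyPEmbedded hY (hp.map
      (QuotientGroup.mk' ((Inn P).subgroupOf (F.autGroup P))))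
    have h1 : QuotientGroup.mk' ((Inn P).subgroupOf (F.autGroup P)) a ∈
        Subgroup.map (QuotientGroup.mk' _) (pCore p (F.autGroup P)) :=
      Subgroup.mem_map_of_mem _ ha
    rw [h0, Subgroup.mem_bot, QuotientGroup.mk'_apply, QuotientGroup.eq_one_iff] at h1
    exact h1
  · refine ⟨⟨α, inn_le_autGroup hc.1 hα⟩, ?_, rfl⟩
    have hp : IsPGroup p ((Inn P).subgroupOf (F.autGroup P)) := by
      refine IsPGroup.comap_of_injective ?_ _ Subtype.val_injective
      exact (hS.to_le hc.1).of_surjective _ (MulAut.conj : P →* MulAut P).rangeRestrict_surjective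
    have hle : (Inn P).subgroupOf (F.autGroup P) ≤ pCore p (F.autGroup P) :=
      le_sSup (show (Inn P).subgroupOf (F.autGroup P) ∈
        {N : Subgroup (F.autGroup P) | N.Normal ∧ IsPGroup p N} from
        ⟨hnorm, hp⟩)
    exact hle (Subgroup.mem_subgroupOf.2 hα)

theorem essential_centric (h : F.IsEssential p P) : F.IsCentric P := h.1

/-- The automorphism group of an essential subgroup is not a `p`-group. -/
theorem not_isPGroup_of_essential (h : F.IsEssential p P) : ¬ IsPGroup p (F.autGroup P) := by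
  obtain ⟨hc, -, hnorm, Y, hY⟩ := h
  have : Finite P := finite_of_le hc.1
  intro hp
  exact not_isPGroup_of_stronglyPEmbedded hY (hp.to_quotient _)

theorem eq_inner_of_isPGroup (hS : IsPGroup p S) (hF : F.IsSaturated p)
    (h : ∀ P : Subgroup Ω, F.IsEssential p P → False) (hA : IsPGroup p (F.autGroup S)) :
    F = innerFusionSystem S := by
  refine fs_ext_le (alperin hS hF fun P hP => ?_) fun P φ hφ => ?_
  · rcases hP with rfl | hP
    · intro α hα
      have hn : F.IsFullyNormalized P :=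
        ⟨le_rfl, fun Q hQ => le_of_eq (by rw [eq_top_of_card le_rfl hQ rfl])⟩
      obtain ⟨R, hR⟩ := (fullyNormalized_fullyAutomized hS hF hn).2
      have htop : (⊤ : Subgroup (F.autGroup P)) = R := R.3 (hA.to_subgroup ⊤) le_top
      have h1 : (⟨α, hα⟩ : F.autGroup P) ∈ (R : Subgroup (F.autGroup P)) := htop ▸ Subgroup.mem_top _
      rw [hR] at h1
      exact autInducedBy_le le_rfl (Subgroup.mem_subgroupOf.1 h1)
    · exact (h P hP).elim
  · obtain ⟨hP, g, hg, he⟩ := hφ
    exact (isMap_cj hP hg).hom_mem he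

end Cfsg.Agent.Fusion.Alperin
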