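/-
Normal and central subgroups of fusion systems, `O_p(F)`, criteria for normality.
-/
import Mathlib
import Cfsg.Agent.Lib.Fusion.Alperin

set_option autoImplicit false

namespace Cfsg.Agent.Fusion.Normal

open Cfsg Cfsg.FusionSystem Cfsg.Agent.Fusion.Basic Cfsg.Agent.Fusion.Saturation
  Cfsg.Agent.Fusion.Alperin

variable {Ω : Type*} [Group Ω] {S : Subgroup Ω} {F : FusionSystem S} {P Q R U : Subgroup Ω}

theorem isNormal_iff : F.IsNormal Q ↔ Q ≤ S ∧ ∀ (P : Subgroup Ω) (f : Ω → Ω), IsMap F P f →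
    ∃ g, IsMap F (P ⊔ Q) g ∧ (∀ x ∈ P, g x = f x) ∧ img g Q = Q := by
  refine and_congr_right fun _ => ⟨fun h P f hf => ?_, fun h P φ hφ => ?_⟩
  · obtain ⟨ψ, hψ, he, hQ⟩ := h P hf.hom hf.hom_mem_self
    refine ⟨ext ψ, IsMap.of_hom hψ, fun x hx => ?_, ?_⟩
    · rw [ext_of_mem ψ (Subgroup.mem_sup_left hx)]
      exact he ⟨x, hx⟩
    · rwa [← map_subgroupOf_eq_img (fun x => (ext_apply ψ x).symm) le_sup_right]
  · obtain ⟨g, hg, he, hQ⟩ := h P (ext φ) (IsMap.of_hom hφ)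
    refine ⟨hg.hom, hg.hom_mem_self, fun x => ?_, ?_⟩
    · rw [IsMap.hom_apply, Subgroup.coe_inclusion, he x x.2, ext_apply]
    · rwa [map_subgroupOf_eq_img (f := g) (fun _ => rfl) le_sup_right]

theorem isCentral_iff : F.IsCentral Q ↔ Q ≤ S ∧ ∀ (P : Subgroup Ω) (f : Ω → Ω), IsMap F P f →
    ∃ g, IsMap F (P ⊔ Q) g ∧ (∀ x ∈ P, g x = f x) ∧ ∀ x ∈ Q, g x = x := by
  refine and_congr_right fun _ => ⟨fun h P f hf => ?_, fun h P φ hφ => ?_⟩
  · obtain ⟨ψ, hψ, he, hQ⟩ := h P hf.hom hf.hom_mem_self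
    refine ⟨ext ψ, IsMap.of_hom hψ, fun x hx => ?_, fun x hx => ?_⟩
    · rw [ext_of_mem ψ (Subgroup.mem_sup_left hx)]
      exact he ⟨x, hx⟩
    · rw [ext_of_mem ψ (Subgroup.mem_sup_right hx)]
      exact hQ ⟨x, hx⟩
  · obtain ⟨g, hg, he, hQ⟩ := h P (ext φ) (IsMap.of_hom hφ)
    exact ⟨hg.hom, hg.hom_mem_self,
      fun x => by rw [IsMap.hom_apply, Subgroup.coe_inclusion, he x x.2, ext_apply],
      fun x => hQ x x.2⟩

theorem normal_img_eq (hQ : F.IsNormal Q) {f : Ω → Ω} (hf : IsMap F R f) (hQR : Q ≤ R) :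
    img f Q = Q := by
  obtain ⟨g, -, he, hgQ⟩ := (isNormal_iff.1 hQ).2 R f hf
  rwa [img_congr fun x hx => (he x (hQR hx)).symm]

theorem normal_stronglyClosed (hQ : F.IsNormal Q) : F.StronglyClosed Q := by
  refine ⟨hQ.1, fun R hR φ hφ x => ?_⟩
  obtain ⟨g, -, he, hgQ⟩ := (isNormal_iff.1 hQ).2 R (ext φ) (IsMap.of_hom hφ)
  rw [← ext_apply φ x, ← he x x.2, ← hgQ]
  exact mem_img_self g (hR x.2)

theorem stronglyClosed_mem (hQ : F.StronglyClosed Q) {f : Ω → Ω} (hf : IsMap F R f) {x : Ω}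
    (hx : x ∈ R) (hxQ : x ∈ Q) : f x ∈ Q := by
  have h := hQ.2 (R ⊓ Q) inf_le_right (hf.restrict inf_le_left).hom
    (hf.restrict inf_le_left).hom_mem_self ⟨x, hx, hxQ⟩
  exact h

theorem stronglyClosed_img [Finite S] (hQ : F.StronglyClosed Q) {f : Ω → Ω} (hf : IsMap F R f)
    (hQR : Q ≤ R) : img f Q = Q := by
  have : Finite Q := finite_of_le hQ.1
  refine eq_of_le_card (img_le fun x hx => stronglyClosed_mem hQ hf (hQR hx) hx) ?_
  rw [(hf.restrict hQR).card_img]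

theorem le_normalizer_of_stronglyClosed [Finite S] (hQ : F.StronglyClosed Q) :
    S ≤ Subgroup.normalizer (Q : Set Ω) := fun s hs => by
  have : Finite Q := finite_of_le hQ.1
  exact mem_normalizer_of_forall fun x hx =>
    stronglyClosed_mem hQ (isMap_cj (F := F) hQ.1 hs) hx hx

theorem isNormal_bot : F.IsNormal ⊥ := by
  refine isNormal_iff.2 ⟨bot_le, fun P f hf => ⟨f, ?_, fun _ _ => rfl, img_bot hf.map_one⟩⟩
  rwa [sup_bot_eq]

theorem isNormal_sup {Q₁ Q₂ : Subgroup Ω} (h₁ : F.IsNormal Q₁) (h₂ : F.IsNormal Q₂) :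
    F.IsNormal (Q₁ ⊔ Q₂) := by
  refine isNormal_iff.2 ⟨sup_le h₁.1 h₂.1, fun P f hf => ?_⟩
  obtain ⟨g, hg, he, hgQ⟩ := (isNormal_iff.1 h₁).2 P f hf
  obtain ⟨g', hg', he', hgQ'⟩ := (isNormal_iff.1 h₂).2 _ g hg
  have hQ₁ : img g' Q₁ = Q₁ := normal_img_eq h₁ hg' (le_sup_right.trans le_sup_left)
  refine ⟨g', by rwa [← sup_assoc], fun x hx => ?_, ?_⟩
  · rw [he' x (Subgroup.mem_sup_left hx), he x hx]
  · rw [(hg'.restrict (sup_le_sup_right le_sup_right Q₂)).img_sup, hQ₁, hgQ']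

theorem isCentral_bot : F.IsCentral ⊥ := by
  refine isCentral_iff.2 ⟨bot_le, fun P f hf => ⟨f, ?_, fun _ _ => rfl, fun x hx => ?_⟩⟩
  · rwa [sup_bot_eq]
  · rw [Subgroup.mem_bot] at hx
    rw [hx, hf.map_one]

theorem IsMap.fix_sup {g : Ω → Ω} (hg : IsMap F (P ⊔ Q) g) (hP : ∀ x ∈ P, g x = x)
    (hQ : ∀ x ∈ Q, g x = x) {x : Ω} (hx : x ∈ P ⊔ Q) : g x = x := by
  have hle : P ⊔ Q ≤ Subgroup.map (P ⊔ Q).subtype
      (MonoidHom.eqLocus hg.hom (P ⊔ Q).subtype) := by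
    refine sup_le (fun y hy => ?_) (fun y hy => ?_)
    · exact ⟨⟨y, Subgroup.mem_sup_left hy⟩, hP y hy, rfl⟩
    · exact ⟨⟨y, Subgroup.mem_sup_right hy⟩, hQ y hy, rfl⟩
  obtain ⟨y, hy, rfl⟩ := hle hx
  exact hy

theorem isCentral_sup {Q₁ Q₂ : Subgroup Ω} (h₁ : F.IsCentral Q₁) (h₂ : F.IsCentral Q₂) :
    F.IsCentral (Q₁ ⊔ Q₂) := by
  refine isCentral_iff.2 ⟨sup_le h₁.1 h₂.1, fun P f hf => ?_⟩
  obtain ⟨g, hg, he, hgQ⟩ := (isCentral_iff.1 h₁).2 P f hf
  obtain ⟨g', hg', he', hgQ'⟩ := (isCentral_iff.1 h₂).2 _ g hg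
  refine ⟨g', by rwa [← sup_assoc], fun x hx => ?_, fun x hx => ?_⟩
  · rw [he' x (Subgroup.mem_sup_left hx), he x hx]
  · refine IsMap.fix_sup (hg'.restrict (sup_le_sup_right le_sup_right Q₂)) (fun y hy => ?_) hgQ' hx
    rw [he' y (Subgroup.mem_sup_right hy), hgQ y hy]

theorem sSup_induction {p : Subgroup Ω → Prop} (hbot : p ⊥)
    (hsup : ∀ A B, p A → p B → p (A ⊔ B)) {s : Set (Subgroup Ω)} (hfin : s.Finite)
    (hs : ∀ A ∈ s, p A) : p (sSup s) := by
  induction s, hfin using Set.Finite.induction_on with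
  | empty => rw [sSup_empty]; exact hbot
  | @insert a t _ _ ih =>
    rw [sSup_insert]
    exact hsup _ _ (hs a (Set.mem_insert a t)) (ih fun A hA => hs A (Set.mem_insert_of_mem a hA))

theorem core_isNormal [Finite S] : F.IsNormal F.core :=
  sSup_induction isNormal_bot (fun _ _ => isNormal_sup)
    ((finite_subgroups_le S).subset fun _ h => h.1) fun _ h => h

theorem center_isCentral [Finite S] : F.IsCentral F.center :=
  sSup_induction isCentral_bot (fun _ _ => isCentral_sup)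
    ((finite_subgroups_le S).subset fun _ h => h.1) fun _ h => h

theorem le_core (h : F.IsNormal Q) : Q ≤ F.core := le_sSup h

theorem le_center (h : F.IsCentral Q) : Q ≤ F.center := le_sSup h

theorem central_normal (h : F.IsCentral Q) : F.IsNormal Q := by
  refine isNormal_iff.2 ⟨h.1, fun P f hf => ?_⟩
  obtain ⟨g, hg, he, hQ⟩ := (isCentral_iff.1 h).2 P f hf
  exact ⟨g, hg, he, by rw [img_congr (g := id) hQ, img_id]⟩

theorem char_img_eq (hUQ : U ≤ Q) (hU : (U.subgroupOf Q).Characteristic) {f : Ω → Ω}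
    (hf : IsMap F Q f) (hQ : img f Q = Q) : img f U = U := by
  have key : ∀ α : MulAut Q, img (autFun α) U = U := fun α => by
    have h := Subgroup.characteristic_iff_map_eq.1 hU α
    refine le_antisymm (img_le fun x hx => ?_) fun x hx => ?_
    · have : α ⟨x, hUQ hx⟩ ∈ U.subgroupOf Q := h.le ⟨⟨x, hUQ hx⟩, hx, rfl⟩
      rw [autFun_of_mem α (hUQ hx)]
      exact this
    · obtain ⟨y, hy, hyx⟩ := h.ge (show (⟨x, hUQ hx⟩ : Q) ∈ U.subgroupOf Q from hx)
      have h2 := mem_img_self (autFun α) hy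
      rw [Subgroup.subtype_apply, autFun_apply] at h2
      have h3 : (((α y : Q)) : Ω) = x := congrArg Subtype.val hyx
      rwa [h3] at h2
  have e := key (mkAut hf.isHom hf.injOn hQ)
  rwa [img_congr fun x hx => autFun_mkAut hf.isHom hf.injOn hQ (hUQ hx)] at e

theorem isNormal_of_char (hQ : F.IsNormal Q) (hUQ : U ≤ Q) (hU : (U.subgroupOf Q).Characteristic) :
    F.IsNormal U := by
  refine isNormal_iff.2 ⟨hUQ.trans hQ.1, fun P f hf => ?_⟩
  obtain ⟨g, hg, he, hgQ⟩ := (isNormal_iff.1 hQ).2 P f hf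
  exact ⟨g, hg.restrict (sup_le_sup_left hUQ P), he,
    char_img_eq hUQ hU (hg.restrict le_sup_right) hgQ⟩

/-! ### Saturated systems -/

variable [Finite S] {p : ℕ} [Fact p.Prime]

/-- The maps of `F` that extend to `P ⊔ Q` stabilizing `Q`, as a fusion system. -/
def stabSystem (F : FusionSystem S) (Q : Subgroup Ω) (hQS : Q ≤ S)
    (hQ : S ≤ Subgroup.normalizer (Q : Set Ω)) : FusionSystem S where
  Hom P := {φ | φ ∈ F.Hom P ∧ ∃ g, IsMap F (P ⊔ Q) g ∧ (∀ x : P, φ x = g x) ∧ img g Q = Q}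
  le_of_mem h := F.le_of_mem h.1
  injective_of_mem h := F.injective_of_mem h.1
  conj_mem := by
    intro P a hP ha
    exact ⟨F.conj_mem hP ha, cj a, isMap_cj (sup_le hP hQS) ha, fun _ => rfl,
      img_cj_eq_of_mem_normalizer (hQ ha)⟩
  comp_mem := by
    rintro P R φ ψ ⟨hφ, g, hg, hge, hgQ⟩ ⟨hψ, k, hk, hke, hkQ⟩ h
    refine ⟨F.comp_mem hφ hψ h, fun x => k (g x), ?_, fun x => ?_, ?_⟩
    · have hmaps : P ⊔ Q ≤ Subgroup.map (P ⊔ Q).subtype ((R ⊔ Q).comap hg.hom) := by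
        refine sup_le (fun x hx => ⟨⟨x, Subgroup.mem_sup_left hx⟩, ?_, rfl⟩)
          (fun x hx => ⟨⟨x, Subgroup.mem_sup_right hx⟩, ?_, rfl⟩)
        · refine Subgroup.mem_sup_left ?_
          rw [IsMap.hom_apply, ← hge ⟨x, hx⟩]
          exact h _
        · exact Subgroup.mem_sup_right (le_of_eq hgQ (mem_img_self g hx))
      refine hk.comp hg fun x hx => ?_
      obtain ⟨y, hy, rfl⟩ := hmaps hx
      exact hy
    · show ψ _ = _
      rw [hke]
      show k (φ x) = k (g x)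
      rw [hge]
    · rw [← (hg.restrict le_sup_right).img_img, hgQ, hkQ]
  inv_mem := by
    rintro P φ ⟨hφ, g, hg, hge, hgQ⟩
    obtain ⟨k, hk, -, hkg, -⟩ := hg.exists_inv
    obtain ⟨ψ, hψ, hψe⟩ := F.inv_mem hφ
    have hP : φ.range = img g P := IsMap.range_eq hge
    refine ⟨ψ, ⟨hψ, k, ?_, fun y => ?_, ?_⟩, hψe⟩
    · rw [hg.img_sup, hgQ, ← hP] at hk
      exact hk
    · obtain ⟨x, hx⟩ := y.2
      have : y = ⟨φ x, ⟨x, rfl⟩⟩ := Subtype.ext hx.symm
      rw [this, hψe]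
      show (x : Ω) = k (φ x)
      rw [hge, hkg _ (Subgroup.mem_sup_left x.2)]
    · conv_lhs => rw [← hgQ]
      rw [(hg.restrict le_sup_right).img_img,
        img_congr (g := id) fun x hx => hkg x (Subgroup.mem_sup_right hx), img_id]

omit [Finite S] in
theorem isNormal_of_le_stab {hQS : Q ≤ S} {hQ : S ≤ Subgroup.normalizer (Q : Set Ω)}
    (h : F ≤ stabSystem F Q hQS hQ) : F.IsNormal Q := by
  refine isNormal_iff.2 ⟨hQS, fun P f hf => ?_⟩
  obtain ⟨-, g, hg, he, hgQ⟩ := h P hf.hom_mem_self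
  exact ⟨g, hg, fun x hx => (he ⟨x, hx⟩).symm, hgQ⟩

theorem normal_of_invariant (hS : IsPGroup p S) (hF : F.IsSaturated p)
    (h : ∀ P : Subgroup Ω, (P = S ∨ F.IsEssential p P) →
      Q ≤ P ∧ ∀ α ∈ F.autGroup P, img (autFun α) Q = Q) : F.IsNormal Q := by
  obtain ⟨hQS, hinv⟩ := h S (Or.inl rfl)
  have hnorm : S ≤ Subgroup.normalizer (Q : Set Ω) := by
    intro s hs
    have : Finite Q := finite_of_le hQS
    refine mem_normalizer_of_forall fun x hx => ?_
    have hα : MulAut.conj (⟨s, hs⟩ : S) ∈ F.autGroup S := inn_le_autGroup le_rfl ⟨_, rfl⟩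
    have h1 := mem_img_self (autFun (MulAut.conj (⟨s, hs⟩ : S))) hx
    rw [hinv _ hα, autFun_of_mem _ (hQS hx)] at h1
    exact h1
  refine isNormal_of_le_stab (hQS := hQS) (hQ := hnorm) (alperin hS hF fun P hP α hα => ?_)
  obtain ⟨hQP, hi⟩ := h P hP
  have hPS : P ≤ S := by
    rcases hP with rfl | hP
    exacts [le_rfl, hP.1.1]
  have hm := isMap_of_mem_autGroup hPS hα
  refine (mem_autGroup_iff hPS).2 ⟨hm.hom, ⟨hm.hom_mem_self, autFun α, ?_, fun _ => rfl,
    hi α hα⟩, fun _ => rfl⟩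
  rwa [sup_eq_left.2 hQP]

theorem pCore_isPGroup (p : ℕ) (G : Type*) [Group G] : IsPGroup p (pCore p G) :=
  Sylow.sSup_of_normal _ (fun _ hN => hN.2) fun _ hN => hN.1

/-- A subgroup whose automizer action lies in a normal `p`-subgroup of `Aut_F(P)` lies in `P`. -/
theorem le_of_le_pCore (hPc : F.IsCentric P) (hPr : F.IsRadical p P) {g : Ω}
    (hg : g ∈ normalizerIn S P)
    (h : (⟨conjAut S P ⟨g, hg⟩, autInducedBy_le hPc.1 (conjAut_range S P ▸ ⟨_, rfl⟩)⟩ :
      F.autGroup P) ∈ pCore p (F.autGroup P)) : g ∈ P := by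
  have h1 : conjAut S P ⟨g, hg⟩ ∈ Inn P := by
    rw [← hPr.2]
    exact ⟨_, h, rfl⟩
  obtain ⟨t, ht, he⟩ := mem_inn_iff.1 h1
  have hc : t⁻¹ * g ∈ P := by
    refine centric_centralizerIn_le hPc ⟨S.mul_mem (S.inv_mem (hPc.1 ht)) hg.1, fun x hx => ?_⟩
    have h2 : g * x * g⁻¹ = t * x * t⁻¹ := by
      have := he x hx
      rwa [conjAut_apply ⟨g, hg⟩ hx] at this
    calc x * (t⁻¹ * g) = t⁻¹ * (t * x * t⁻¹) * g := by group
      _ = t⁻¹ * (g * x * g⁻¹) * g := by rw [h2]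
      _ = t⁻¹ * g * x := by group
  simpa using P.mul_mem ht hc

theorem le_of_normalizer_inf_le (hS : IsPGroup p S) (hPS : P ≤ S) (hQS : Q ≤ S)
    (hQ : S ≤ Subgroup.normalizer (Q : Set Ω))
    (h : ∀ g ∈ Q, g ∈ Subgroup.normalizer (P : Set Ω) → g ∈ P) : Q ≤ P := by
  by_contra hle
  have hlt : P < P ⊔ Q := left_lt_sup.2 hle
  have : Finite (P ⊔ Q : Subgroup Ω) := finite_of_le (sup_le hPS hQS)
  obtain ⟨g, hg, hgP⟩ := exists_mem_normalizer_not_mem (hS.to_le (sup_le hPS hQS)) hlt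
  have hg1 : g ∈ ((P ⊔ Q : Subgroup Ω) : Set Ω) := hg.1
  rw [Subgroup.coe_mul_of_left_le_normalizer_right _ _ (hPS.trans hQ)] at hg1
  obtain ⟨a, ha, q, hq, rfl⟩ := hg1
  have hqN : q ∈ Subgroup.normalizer (P : Set Ω) := by
    have := Subgroup.mul_mem _ (Subgroup.inv_mem _ (Subgroup.le_normalizer ha)) hg.2
    simpa using this
  exact hgP (P.mul_mem ha (h q hq hqN))

/-- A normal subgroup lies in every centric radical subgroup. -/
theorem normal_le_centricRadical (hS : IsPGroup p S) (hQ : F.IsNormal Q) (hPc : F.IsCentric P)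
    (hPr : F.IsRadical p P) : Q ≤ P := by
  have : Finite P := finite_of_le hPc.1
  refine le_of_normalizer_inf_le hS hPc.1 hQ.1
    (le_normalizer_of_stronglyClosed (normal_stronglyClosed hQ)) fun g hgQ hgN => ?_
  have hK : ((autInducedBy Q P).subgroupOf (F.autGroup P)).Normal := by
    refine ⟨fun b hb a => Subgroup.mem_subgroupOf.2 (mem_autInducedBy_iff'.2 ?_)⟩
    obtain ⟨x, hx, hxe⟩ := mem_autInducedBy_iff'.1 (Subgroup.mem_subgroupOf.1 hb)
    obtain ⟨k, hk, hke, hkQ⟩ :=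
      (isNormal_iff.1 hQ).2 P _ (isMap_of_mem_autGroup hPc.1 a.2)
    refine ⟨k x, ⟨le_of_eq hkQ (mem_img_self k hx.1), ?_⟩, fun y hy => ?_⟩
    · have h1 := hk.mem_normalizer_img le_sup_left (Subgroup.mem_sup_right hx.1) hx.2
      rwa [img_congr hke, autFun_img] at h1
    · rw [Subgroup.coe_mul, Subgroup.coe_mul, Subgroup.coe_inv, autFun_mul, autFun_mul,
        hxe _ (autFun_mem _ hy)]
      have hz := autFun_mem (a : MulAut P)⁻¹ hy
      have h2 : cj x (autFun (a : MulAut P)⁻¹ y) ∈ P :=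
        (Subgroup.mem_normalizer_iff.1 hx.2 _).1 hz
      rw [← hke _ h2, cj_apply, hk.map_conj (Subgroup.mem_sup_right hx.1)
        (Subgroup.mem_sup_left hz), hke _ hz, autFun_apply_inv]
      rfl
  have hKp : IsPGroup p ((autInducedBy Q P).subgroupOf (F.autGroup P)) :=
    (isPGroup_autInducedBy (hS.to_le hQ.1)).comap_of_injective _ Subtype.val_injective
  have hle : (autInducedBy Q P).subgroupOf (F.autGroup P) ≤ pCore p (F.autGroup P) :=
    le_sSup (show (autInducedBy Q P).subgroupOf (F.autGroup P) ∈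
      {N : Subgroup (F.autGroup P) | N.Normal ∧ IsPGroup p N} from ⟨hK, hKp⟩)
  refine le_of_le_pCore hPc hPr ⟨hQ.1 hgQ, hgN⟩ (hle ?_)
  refine Subgroup.mem_subgroupOf.2 (mem_autInducedBy_iff'.2 ⟨g, ⟨hgQ, hgN⟩, fun x hx => ?_⟩)
  exact conjAut_apply _ hx

theorem normal_invariant (hS : IsPGroup p S) (hQ : F.IsNormal Q)
    (hP : P = S ∨ F.IsEssential p P) : Q ≤ P ∧ ∀ α ∈ F.autGroup P, img (autFun α) Q = Q := by
  have hQP : Q ≤ P := by
    rcases hP with rfl | hP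
    · exact hQ.1
    · exact normal_le_centricRadical hS hQ hP.1 (essential_radical hP hS)
  have hPS : P ≤ S := by
    rcases hP with rfl | hP
    exacts [le_rfl, hP.1.1]
  exact ⟨hQP, fun α hα => normal_img_eq hQ (isMap_of_mem_autGroup hPS hα) hQP⟩

theorem normal_of_stronglyClosed_le (hS : IsPGroup p S) (hF : F.IsSaturated p)
    (hQ : F.StronglyClosed Q)
    (h : ∀ P : Subgroup Ω, F.IsCentric P → F.IsRadical p P → Q ≤ P) : F.IsNormal Q := by
  refine normal_of_invariant hS hF fun P hP => ?_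
  have hQP : Q ≤ P := by
    rcases hP with rfl | hP
    · exact hQ.1
    · exact h P hP.1 (essential_radical hP hS)
  refine ⟨hQP, fun α hα => ?_⟩
  have hPS : P ≤ S := by
    rcases hP with rfl | hP
    exacts [le_rfl, hP.1.1]
  exact stronglyClosed_img hQ (isMap_of_mem_autGroup hPS hα) hQP

omit [Finite S] in
/-- An automorphism stabilizing a series of a `p`-group has `p`-power order. -/
theorem exists_pow_eq_one_of_stabilizes {G : Type*} [Group G] [Finite G] (hG : IsPGroup p G)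
    (C : ℕ → Subgroup G) (n : ℕ) (h0 : C 0 = ⊥) (hn : C n = ⊤) (hmono : ∀ i < n, C i ≤ C (i + 1))
    (α : MulAut G) (hα : ∀ i < n, ∀ x ∈ C (i + 1), x⁻¹ * α x ∈ C i) :
    ∃ k : ℕ, α ^ p ^ k = 1 := by
  obtain ⟨e, he⟩ := IsPGroup.iff_card.1 hG
  have hstep : ∀ i < n, ∀ m : ℕ, ∀ x ∈ C (i + 1), x⁻¹ * (α ^ m) x ∈ C i := by
    intro i hi m
    induction m with
    | zero => intro x _; simp [Subgroup.one_mem]
    | succ m ih =>
      intro x hx
      have h1 : x⁻¹ * α ((α ^ m) x) = x⁻¹ * α x * ((x⁻¹ * (α ^ m) x) *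
          ((x⁻¹ * (α ^ m) x)⁻¹ * α (x⁻¹ * (α ^ m) x))) := by
        simp [mul_assoc]
      rw [pow_succ', MulAut.mul_apply, h1]
      refine (C i).mul_mem (hα i hi x hx) ((C i).mul_mem (ih x hx) ?_)
      rcases Nat.eq_zero_or_pos i with h | h
      · subst h
        have := ih x hx
        rw [h0, Subgroup.mem_bot] at this
        simp [this, Subgroup.one_mem]
      · obtain ⟨j, rfl⟩ := Nat.exists_eq_add_of_le' h
        exact hmono j (by omega) (hα j (by omega) _ (ih x hx))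
  suffices ∀ i ≤ n, ∀ x ∈ C i, (α ^ p ^ (e * i)) x = x by
    exact ⟨e * n, MulEquiv.ext fun x => this n le_rfl x (hn ▸ Subgroup.mem_top x)⟩
  intro i
  induction i with
  | zero =>
    intro _ x hx
    rw [h0, Subgroup.mem_bot] at hx
    simp [hx]
  | succ i ih =>
    intro hi x hx
    set β := α ^ p ^ (e * i) with hβ
    have hc : x⁻¹ * β x ∈ C i := hstep i hi _ x hx
    have hpow : ∀ m : ℕ, (β ^ m) x = x * (x⁻¹ * β x) ^ m := by
      intro m
      induction m with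
      | zero => simp
      | succ m ihm =>
        rw [pow_succ', MulAut.mul_apply, ihm, map_mul, map_pow, ih (by omega) _ hc, pow_succ']
        simp [mul_assoc]
    rw [show e * (i + 1) = e * i + e by ring, pow_add, pow_mul, ← hβ, hpow, ← he,
      pow_card_eq_one', mul_one]

/-- Normality from a series of strongly closed subgroups. -/
theorem le_centricRadical_of_series (hS : IsPGroup p S) (n : ℕ) (C : ℕ → Subgroup Ω) {B : Subgroup Ω}
    (h0 : C 0 = ⊥) (hn : C n = Q) (hmono : ∀ i < n, C i ≤ C (i + 1))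
    (hsc : ∀ i ≤ n, F.StronglyClosed (C i)) (hBQ : B ≤ Q)
    (hBn : S ≤ Subgroup.normalizer (B : Set Ω))
    (hcomm : ∀ i < n, ∀ x ∈ B, ∀ y ∈ C (i + 1), x * y * x⁻¹ * y⁻¹ ∈ C i)
    (hPc : F.IsCentric P) (hPr : F.IsRadical p P) : B ≤ P := by
  have hQsc : F.StronglyClosed Q := hn ▸ hsc n le_rfl
  have hQn := le_normalizer_of_stronglyClosed hQsc
  have : Finite P := finite_of_le hPc.1
  refine le_of_normalizer_inf_le hS hPc.1 (hBQ.trans hQsc.1) hBn fun g hgB hgN => ?_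
  have hgQ : g ∈ Q := hBQ hgB
  let D : ℕ → Subgroup P := fun i => if i ≤ n then (C i).subgroupOf P else ⊤
  have hD : ∀ i ≤ n, D i = (C i).subgroupOf P := fun i hi => if_pos hi
  have hDmono : ∀ i < n + 1, D i ≤ D (i + 1) := by
    intro i hi
    rcases Nat.lt_or_ge i n with h | h
    · rw [hD i h.le, hD (i + 1) h]
      exact Subgroup.comap_mono (hmono i h)
    · rw [show D (i + 1) = ⊤ from if_neg (by omega)]
      exact le_top
  -- the stabilizer of the series inside `Aut_F(P)`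
  have hinv : ∀ i ≤ n + 1, ∀ a : F.autGroup P, ∀ x ∈ D i, (a : MulAut P) x ∈ D i := by
    intro i hi a x hx
    rcases Nat.lt_or_ge n i with h | h
    · rw [show D i = ⊤ from if_neg (by omega)]
      exact Subgroup.mem_top _
    · rw [hD i h, Subgroup.mem_subgroupOf] at hx ⊢
      rw [← autFun_apply]
      exact stronglyClosed_mem (hsc i h) (isMap_of_mem_autGroup hPc.1 a.2) x.2 hx
  let K : Subgroup (F.autGroup P) :=
    { carrier := {a | ∀ i < n + 1, ∀ x ∈ D (i + 1), x⁻¹ * (a : MulAut P) x ∈ D i}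
      one_mem' := fun i _ x _ => by simp [Subgroup.one_mem]
      mul_mem' := by
        intro a b ha hb i hi x hx
        have h1 : x⁻¹ * ((a * b : F.autGroup P) : MulAut P) x =
            x⁻¹ * (b : MulAut P) x * (((b : MulAut P) x)⁻¹ * (a : MulAut P) ((b : MulAut P) x)) := by
          simp [mul_assoc]
        rw [h1]
        exact (D i).mul_mem (hb i hi x hx) (ha i hi _ (hinv _ (by omega) b x hx))
      inv_mem' := by
        intro a ha i hi x hx
        have h1 := ha i hi _ (hinv _ (by omega) a⁻¹ x hx)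
        rw [Subgroup.coe_inv] at h1 ⊢
        rw [MulAut.apply_inv_self] at h1
        simpa using (D i).inv_mem h1 }
  have hKn : K.Normal := by
    refine ⟨fun b hb a i hi x hx => ?_⟩
    have hy := hinv _ (by omega) a⁻¹ x hx
    have h1 := hb i hi _ hy
    have h2 := hinv _ (by omega) a _ h1
    simpa [map_mul, map_inv, MulAut.apply_inv_self] using h2
  have hKp : IsPGroup p K := by
    intro a
    obtain ⟨k, hk⟩ := exists_pow_eq_one_of_stabilizes (p := p) (hS.to_le hPc.1) D (n + 1)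
      (by rw [hD 0 (by omega), h0, Subgroup.bot_subgroupOf])
      (if_neg (by omega)) hDmono ((a : F.autGroup P) : MulAut P) a.2
    exact ⟨k, Subtype.ext (Subtype.ext (by simpa using hk))⟩
  have hle : K ≤ pCore p (F.autGroup P) :=
    le_sSup (show K ∈ {N : Subgroup (F.autGroup P) | N.Normal ∧ IsPGroup p N} from ⟨hKn, hKp⟩)
  refine le_of_le_pCore hPc hPr ⟨hQsc.1 hgQ, hgN⟩ (hle fun i hi x hx => ?_)
  have hgx : ∀ x : P, ((conjAut S P ⟨g, ⟨hQsc.1 hgQ, hgN⟩⟩ x : P) : Ω) = g * x * g⁻¹ :=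
    fun x => rfl
  show x⁻¹ * conjAut S P ⟨g, ⟨hQsc.1 hgQ, hgN⟩⟩ x ∈ D i
  rcases Nat.lt_or_ge i n with h | h
  · rw [hD i h.le, Subgroup.mem_subgroupOf, Subgroup.coe_mul, hgx, Subgroup.coe_inv]
    rw [hD (i + 1) h, Subgroup.mem_subgroupOf] at hx
    have := hcomm i h g hgB _ ((C (i + 1)).inv_mem hx)
    simpa [mul_assoc] using (C i).inv_mem this
  · obtain rfl : i = n := by omega
    rw [hD i le_rfl, Subgroup.mem_subgroupOf, Subgroup.coe_mul, hgx, Subgroup.coe_inv, hn]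
    have h1 : (x : Ω)⁻¹ * g * x ∈ Q := by
      have := (Subgroup.mem_normalizer_iff.1 (hQn (S.inv_mem (hPc.1 x.2))) g).1 hgQ
      simpa using this
    have := Q.mul_mem h1 (Q.inv_mem hgQ)
    simpa [mul_assoc] using this


theorem normal_of_series (hS : IsPGroup p S) (hF : F.IsSaturated p) (n : ℕ) (C : ℕ → Subgroup Ω)
    (h0 : C 0 = ⊥) (hn : C n = Q) (hmono : ∀ i < n, C i ≤ C (i + 1))
    (hsc : ∀ i ≤ n, F.StronglyClosed (C i))
    (hcomm : ∀ i < n, ∀ x ∈ Q, ∀ y ∈ C (i + 1), x * y * x⁻¹ * y⁻¹ ∈ C i) : F.IsNormal Q := by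
  have hQsc : F.StronglyClosed Q := hn ▸ hsc n le_rfl
  exact normal_of_stronglyClosed_le hS hF hQsc fun P hPc hPr =>
    le_centricRadical_of_series hS n C h0 hn hmono hsc le_rfl
      (le_normalizer_of_stronglyClosed hQsc) hcomm hPc hPr

/-- The upper central series of a normal subgroup. -/
theorem normal_series (hS : IsPGroup p S) (hQ : F.IsNormal Q) :
    ∃ (n : ℕ) (C : ℕ → Subgroup Ω), C 0 = ⊥ ∧ C n = Q ∧ Monotone C ∧
      (∀ i, F.IsNormal (C i)) ∧ (∀ i, C i ≤ Q) ∧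
      ∀ i, ∀ x ∈ Q, ∀ y ∈ C (i + 1), x * y * x⁻¹ * y⁻¹ ∈ C i := by
  have : Finite Q := finite_of_le hQ.1
  have : Group.IsNilpotent Q := (hS.to_le hQ.1).isNilpotent
  obtain ⟨n, hn⟩ := Group.IsNilpotent.nilpotent Q
  refine ⟨n, fun i => (Subgroup.upperCentralSeries Q i).map Q.subtype, ?_, ?_, ?_, ?_,
    fun i => Subgroup.map_subtype_le _, ?_⟩
  · simp
  · show (Subgroup.upperCentralSeries Q n).map Q.subtype = Q
    rw [hn, ← MonoidHom.range_eq_map, Subgroup.range_subtype]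
  · exact fun i j h => Subgroup.map_mono (Subgroup.upperCentralSeries_mono Q h)
  · intro i
    refine isNormal_of_char hQ (Subgroup.map_subtype_le _) ?_
    rw [Subgroup.subgroupOf, Subgroup.comap_map_eq_self_of_injective Q.subtype_injective]
    infer_instance
  · rintro i x hx _ ⟨y, hy, rfl⟩
    have h1 := Subgroup.mem_upperCentralSeries_succ_iff.1 hy ⟨x, hx⟩
    exact ⟨_, (Subgroup.upperCentralSeries Q i).inv_mem h1, by
      simp [commutatorElement_def, mul_assoc]⟩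

end Cfsg.Agent.Fusion.Normal
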