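/-
Puig's extension theorem for strongly closed subgroups, factor systems and surjective morphisms.
-/
import Mathlib
import Cfsg.Prelude.Def_FusionComponents
import Cfsg.Agent.Lib.Fusion.Normal

set_option autoImplicit false

namespace Cfsg.Agent.Fusion.Factor

open Cfsg Cfsg.FusionSystem Cfsg.Agent.Fusion.Basic Cfsg.Agent.Fusion.Saturation
  Cfsg.Agent.Fusion.SylIn Cfsg.Agent.Fusion.Alperin Cfsg.Agent.Fusion.Normal

open scoped Classical

variable {Ω : Type*} [Group Ω] {S : Subgroup Ω} {F : FusionSystem S} {P Q R T : Subgroup Ω}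

theorem coe_sup_of_normal (hT : S ≤ Subgroup.normalizer (T : Set Ω)) (hP : P ≤ S) {x : Ω}
    (hx : x ∈ P ⊔ T) : ∃ a ∈ P, ∃ t ∈ T, a * t = x := by
  rw [← SetLike.mem_coe, Subgroup.coe_mul_of_left_le_normalizer_right _ _ (hP.trans hT)] at hx
  obtain ⟨a, ha, t, ht, rfl⟩ := hx
  exact ⟨a, ha, t, ht, rfl⟩

/-- The maps that lift to `P ⊔ T` modulo `T`. -/
def liftSystem [Finite S] (F : FusionSystem S) (T : Subgroup Ω) (hT : F.StronglyClosed T) :
    FusionSystem S where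
  Hom P := {φ | φ ∈ F.Hom P ∧ ∃ g, IsMap F (P ⊔ T) g ∧ ∀ x : P, (φ x)⁻¹ * g x ∈ T}
  le_of_mem h := F.le_of_mem h.1
  injective_of_mem h := F.injective_of_mem h.1
  conj_mem := by
    intro P a hP ha
    refine ⟨F.conj_mem hP ha, cj a, isMap_cj (sup_le hP hT.1) ha, fun x => ?_⟩
    show (cj a (x : Ω))⁻¹ * cj a (x : Ω) ∈ T
    simp [T.one_mem]
  comp_mem := by
    rintro P R φ ψ ⟨hφ, g, hg, hge⟩ ⟨hψ, k, hk, hke⟩ h
    have hn := le_normalizer_of_stronglyClosed hT
    have hP : P ≤ S := (F.le_of_mem hφ).1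
    have hgx : ∀ x : P, ∃ t ∈ T, g x = φ x * t := fun x => ⟨_, hge x, by group⟩
    refine ⟨F.comp_mem hφ hψ h, fun x => k (g x), hk.comp hg ?_, fun x => ?_⟩
    · intro z hz
      obtain ⟨a, ha, t, ht, rfl⟩ := coe_sup_of_normal hn hP hz
      obtain ⟨u, hu, hue⟩ := hgx ⟨a, ha⟩
      rw [hg.map_mul (Subgroup.mem_sup_left ha) (Subgroup.mem_sup_right ht)]
      refine Subgroup.mul_mem _ ?_ (Subgroup.mem_sup_right (stronglyClosed_mem hT hg
        (Subgroup.mem_sup_right ht) ht))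
      rw [show g a = φ ⟨a, ha⟩ * u from hue]
      exact Subgroup.mul_mem _ (Subgroup.mem_sup_left (h _)) (Subgroup.mem_sup_right hu)
    · obtain ⟨u, hu, hue⟩ := hgx x
      show (ψ ⟨φ x, h x⟩)⁻¹ * k (g x) ∈ T
      rw [hue, hk.map_mul (Subgroup.mem_sup_left (h x)) (Subgroup.mem_sup_right hu), ← mul_assoc]
      exact T.mul_mem (hke ⟨φ x, h x⟩) (stronglyClosed_mem hT hk (Subgroup.mem_sup_right hu) hu)
  inv_mem := by
    rintro P φ ⟨hφ, g, hg, hge⟩
    obtain ⟨ψ, hψ, hψe⟩ := F.inv_mem hφ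
    obtain ⟨k, hk, -, hkg, -⟩ := hg.exists_inv
    have hgT : img g T = T := stronglyClosed_img hT hg le_sup_right
    have hle : φ.range ⊔ T ≤ img g (P ⊔ T) := by
      rw [hg.img_sup, hgT]
      refine sup_le ?_ le_sup_right
      rintro _ ⟨x, rfl⟩
      rw [show φ x = g x * ((φ x)⁻¹ * g x)⁻¹ by group]
      exact Subgroup.mul_mem _ (Subgroup.mem_sup_left (mem_img_self g x.2))
        (Subgroup.mem_sup_right (T.inv_mem (hge x)))
    refine ⟨ψ, ⟨hψ, k, hk.restrict hle, fun y => ?_⟩, hψe⟩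
    obtain ⟨x, hx⟩ := y.2
    have hy : y = ⟨φ x, ⟨x, rfl⟩⟩ := Subtype.ext hx.symm
    rw [hy, hψe]
    show (x : Ω)⁻¹ * k (φ x) ∈ T
    have h1 : g x ∈ img g (P ⊔ T) := mem_img_self g (Subgroup.mem_sup_left x.2)
    have h2 : ((φ x)⁻¹ * g x)⁻¹ ∈ img g (P ⊔ T) :=
      (hle (Subgroup.mem_sup_right (T.inv_mem (hge x))))
    rw [show φ x = g x * ((φ x)⁻¹ * g x)⁻¹ by group, hk.map_mul h1 h2,
      hkg _ (Subgroup.mem_sup_left x.2), ← mul_assoc, inv_mul_cancel, one_mul]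
    exact stronglyClosed_mem hT hk h2 (T.inv_mem (hge x))

variable [Finite S] {p : ℕ} [Fact p.Prime]

/-- Frattini argument inside a finite group, for a Sylow subgroup `A`. -/
theorem exists_frattini {G : Type*} [Group G] [Finite G] {p : ℕ} [Fact p.Prime] {A K : Subgroup G}
    [K.Normal] (hA : SylIn p A ⊤) (a : G) :
    ∃ b ∈ K, ∀ c ∈ A ⊓ K, (b * a) * c * (b * a)⁻¹ ∈ A := by
  have h1 := hA.inf_normal (N := K) le_top (by rw [Subgroup.normalizer_eq_top])
  obtain ⟨b, hb, hle⟩ := h1.exists_conj (M := img (cj a) (A ⊓ K))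
    (img_le fun x hx => ‹K.Normal›.conj_mem x hx.2 a) (isPGroup_img_cj h1.2.1)
  refine ⟨b, hb, fun c hc => ?_⟩
  have := (hle (mem_img_self _ (mem_img_self (cj a) hc))).1
  rwa [← cj_mul] at this

/-- Puig's theorem: every map of a saturated system lifts modulo a strongly closed subgroup. -/
theorem le_liftSystem (hS : IsPGroup p S) (hF : F.IsSaturated p) (hT : F.StronglyClosed T) :
    F ≤ liftSystem F T hT := by
  have hTn := le_normalizer_of_stronglyClosed hT
  refine le_of_extGroup hS hF fun P hP hext α hα => ?_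
  have hPS := hP.1
  have hm := isMap_of_mem_autGroup hPS hα
  by_cases hTP : T ≤ P
  · refine (mem_autGroup_iff hPS).2 ⟨hm.hom, ⟨hm.hom_mem_self, autFun α, ?_, fun x => ?_⟩,
      fun _ => rfl⟩
    · rwa [sup_eq_left.2 hTP]
    · show (autFun α x)⁻¹ * autFun α x ∈ T
      simp [T.one_mem]
  obtain ⟨g, hgT, hgN, hgP⟩ :
      ∃ g ∈ T, g ∈ Subgroup.normalizer (P : Set Ω) ∧ g ∉ P := by
    by_contra hcon
    push Not at hcon
    exact hTP (le_of_normalizer_inf_le hS hPS hT.1 hTn hcon)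
  have hfinP : Finite P := finite_of_le hPS
  -- the automorphisms acting trivially modulo `T`
  let K : Subgroup (F.autGroup P) :=
    { carrier := {a | ∀ x : P, (x : Ω)⁻¹ * autFun (a : MulAut P) x ∈ T}
      one_mem' := fun x => by simp [autFun_one, T.one_mem]
      mul_mem' := by
        intro a b ha hb x
        rw [Subgroup.coe_mul, autFun_mul]
        have h1 := T.mul_mem (hb x) (ha ⟨_, autFun_mem (b : MulAut P) x.2⟩)
        simpa [mul_assoc] using h1
      inv_mem' := by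
        intro a ha x
        have h1 := ha ⟨_, autFun_mem ((a : MulAut P)⁻¹) x.2⟩
        rw [autFun_apply_inv] at h1
        rw [Subgroup.coe_inv]
        simpa using T.inv_mem h1 }
  have hKn : K.Normal := by
    refine ⟨fun b hb a x => ?_⟩
    have hz := autFun_mem ((a : MulAut P)⁻¹) x.2
    have hb' : autFun (b : MulAut P) (autFun (a : MulAut P)⁻¹ x) ∈ P := autFun_mem _ hz
    have hmem : (autFun ((a : MulAut P)⁻¹) x)⁻¹ * autFun (b : MulAut P) (autFun (a : MulAut P)⁻¹ x)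
        ∈ P := P.mul_mem (P.inv_mem hz) hb'
    have h1 := stronglyClosed_mem hT (isMap_of_mem_autGroup hPS a.2) hmem (hb ⟨_, hz⟩)
    rw [(autFun_isHom (a : MulAut P)) _ (P.inv_mem hz) _ hb',
      (autFun_isHom (a : MulAut P)).map_inv hz, autFun_apply_inv] at h1
    rwa [Subgroup.coe_mul, Subgroup.coe_mul, Subgroup.coe_inv, autFun_mul, autFun_mul]
  have hA : SylIn p ((autInducedBy S P).subgroupOf (F.autGroup P)) ⊤ := by
    refine ⟨le_top, (isPGroup_autInducedBy hS).comap_of_injective _ Subtype.val_injective, ?_⟩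
    rw [Subgroup.relIndex_top_right]
    exact ((fullyAutomized_iff hS).1 (fullyNormalized_fullyAutomized hS hF hP)).2
  obtain ⟨b, hb, hc⟩ := exists_frattini (K := K) hA ⟨α, hα⟩
  set β := b * ⟨α, hα⟩ with hβ
  have hsplit : α = (b⁻¹ : F.autGroup P).1 * β.1 := by
    rw [← Subgroup.coe_mul, hβ, inv_mul_cancel_left]
  rw [hsplit]
  refine mul_mem ?_ (hext (Subgroup.subset_closure ?_))
  · refine (mem_autGroup_iff hPS).2 ?_
    have hk := isMap_of_mem_autGroup hPS (b⁻¹ : F.autGroup P).2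
    refine ⟨hk.hom, ⟨hk.hom_mem_self, id, isMap_id (sup_le hPS hT.1), fun x => ?_⟩, fun _ => rfl⟩
    have := T.inv_mem (K.inv_mem hb x)
    rwa [mul_inv_rev, inv_inv] at this
  · have hmβ := isMap_of_mem_autGroup hPS β.2
    obtain ⟨θ, hθ, hθe⟩ := exists_extension hS hF hmβ
      (by rw [autFun_img]; exact fullyNormalized_fullyCentralized hS hF hP)
    refine ⟨_, θ, SetLike.lt_iff_le_and_exists.2 ⟨le_nSub hmβ, g, ?_, hgP⟩, hθ, hθe⟩
    have hgS : g ∈ normalizerIn S P := ⟨hT.1 hgT, hgN⟩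
    let c : F.autGroup P := ⟨conjAut S P ⟨g, hgS⟩,
      autInducedBy_le hPS (conjAut_range S P ▸ ⟨_, rfl⟩)⟩
    have hcA : c ∈ (autInducedBy S P).subgroupOf (F.autGroup P) :=
      Subgroup.mem_subgroupOf.2 (mem_autInducedBy_iff'.2 ⟨g, hgS, fun x hx => conjAut_apply _ hx⟩)
    have hcK : c ∈ K := by
      intro x
      rw [conjAut_apply ⟨g, hgS⟩ x.2, cj_apply]
      have h1 : (x : Ω)⁻¹ * g * x ∈ T := by
        have := (Subgroup.mem_normalizer_iff.1 (hTn (S.inv_mem (hPS x.2))) g).1 hgT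
        simpa using this
      have h2 := T.mul_mem h1 (T.inv_mem hgT)
      simpa [mul_assoc] using h2
    obtain ⟨h, hh, he⟩ := mem_autInducedBy_iff'.1 (Subgroup.mem_subgroupOf.1 (hc c ⟨hcA, hcK⟩))
    refine mem_nSub.2 ⟨hT.1 hgT, hgN, h, hh.1, fun x hx => ?_⟩
    have h3 := he _ (autFun_mem (β : MulAut P) hx)
    rw [Subgroup.coe_mul, Subgroup.coe_mul, Subgroup.coe_inv, autFun_mul, autFun_mul,
      autFun_inv_apply, conjAut_apply ⟨g, hgS⟩ hx] at h3
    exact h3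

theorem exists_lift (hS : IsPGroup p S) (hF : F.IsSaturated p) (hT : F.StronglyClosed T)
    {f : Ω → Ω} (hf : IsMap F P f) :
    ∃ g, IsMap F (P ⊔ T) g ∧ ∀ x ∈ P, (f x)⁻¹ * g x ∈ T := by
  obtain ⟨-, g, hg, he⟩ := le_liftSystem hS hF hT P hf.hom_mem_self
  exact ⟨g, hg, fun x hx => he ⟨x, hx⟩⟩

theorem stronglyClosed_sup (hS : IsPGroup p S) (hF : F.IsSaturated p) {T₁ T₂ : Subgroup Ω}
    (h₁ : F.StronglyClosed T₁) (h₂ : F.StronglyClosed T₂) : F.StronglyClosed (T₁ ⊔ T₂) := by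
  refine ⟨sup_le h₁.1 h₂.1, fun R hR φ hφ x => ?_⟩
  have hn := le_normalizer_of_stronglyClosed h₁
  obtain ⟨g, hg, he⟩ := exists_lift hS hF h₁ (IsMap.of_hom hφ)
  obtain ⟨b, hb, a, ha, hxe⟩ :=
    coe_sup_of_normal (T := T₁) hn h₂.1 (sup_comm T₁ T₂ ▸ hR x.2)
  have hb' : b ∈ R ⊔ T₁ := by
    rw [show b = (x : Ω) * a⁻¹ by rw [← hxe]; group]
    exact Subgroup.mul_mem _ (Subgroup.mem_sup_left x.2) (Subgroup.mem_sup_right (T₁.inv_mem ha))
  rw [← ext_apply φ x, show ext φ x = g x * ((ext φ x)⁻¹ * g x)⁻¹ by group]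
  refine Subgroup.mul_mem _ ?_ (Subgroup.mem_sup_left (T₁.inv_mem (he x x.2)))
  rw [← hxe, hg.map_mul hb' (Subgroup.mem_sup_right ha)]
  exact Subgroup.mul_mem _ (Subgroup.mem_sup_right (stronglyClosed_mem h₂ hg hb' hb))
    (Subgroup.mem_sup_left (stronglyClosed_mem h₁ hg (Subgroup.mem_sup_right ha) ha))

theorem stronglyClosed_sup_centralizerIn (hS : IsPGroup p S) (hF : F.IsSaturated p)
    (hT : F.StronglyClosed T) : F.StronglyClosed (T ⊔ centralizerIn S T) := by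
  refine ⟨sup_le hT.1 centralizerIn_le, fun R hR φ hφ x => ?_⟩
  have hn := le_normalizer_of_stronglyClosed hT
  obtain ⟨g, hg, he⟩ := exists_lift hS hF hT (IsMap.of_hom hφ)
  obtain ⟨b, hb, a, ha, hxe⟩ :=
    coe_sup_of_normal (T := T) hn centralizerIn_le
      (sup_comm T (centralizerIn S T) ▸ hR x.2)
  have hb' : b ∈ R ⊔ T := by
    rw [show b = (x : Ω) * a⁻¹ by rw [← hxe]; group]
    exact Subgroup.mul_mem _ (Subgroup.mem_sup_left x.2) (Subgroup.mem_sup_right (T.inv_mem ha))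
  rw [← ext_apply φ x, show ext φ x = g x * ((ext φ x)⁻¹ * g x)⁻¹ by group]
  refine Subgroup.mul_mem _ ?_ (Subgroup.mem_sup_left (T.inv_mem (he x x.2)))
  rw [← hxe, hg.map_mul hb' (Subgroup.mem_sup_right ha)]
  refine Subgroup.mul_mem _ (Subgroup.mem_sup_right ⟨hg.mem hb', ?_⟩)
    (Subgroup.mem_sup_left (stronglyClosed_mem hT hg (Subgroup.mem_sup_right ha) ha))
  have := hg.mem_centralizer_img le_sup_right hb' hb.2
  rwa [stronglyClosed_img hT hg le_sup_right] at this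

omit [Finite S] in
theorem isMap_of_eq {f : Ω → Ω} (h : P = Q) (hf : IsMap F P f) : IsMap F Q f := h ▸ hf

omit [Finite S] in
theorem exists_autEquiv_to {g : Ω → Ω} (hg : IsMap F R g) (h : img g R = Q) :
    ∃ e : F.autGroup R ≃* F.autGroup Q, ∀ (a : F.autGroup R), ∀ x ∈ R,
      autFun (e a : MulAut Q) (g x) = g (autFun (a : MulAut R) x) := by
  subst h
  exact hg.exists_autEquiv

/-! ### Maps along a homomorphism defined on `S` -/

variable {Ω' : Type*} [Group Ω'] {S' : Subgroup Ω'} {E : FusionSystem S'} {θ : S →* Ω'}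

/-- A total function extending `θ`. -/
noncomputable def along (θ : S →* Ω') : Ω → Ω' := fun x => if h : x ∈ S then θ ⟨x, h⟩ else 1

omit [Finite S] in
theorem along_of_mem (θ : S →* Ω') {x : Ω} (hx : x ∈ S) : along θ x = θ ⟨x, hx⟩ := by
  unfold along
  rw [dif_pos hx]

omit [Finite S] in
theorem along_mul (θ : S →* Ω') {x y : Ω} (hx : x ∈ S) (hy : y ∈ S) :
    along θ (x * y) = along θ x * along θ y := by
  rw [along_of_mem θ hx, along_of_mem θ hy, along_of_mem θ (S.mul_mem hx hy), ← map_mul]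
  rfl

omit [Finite S] in
theorem along_one (θ : S →* Ω') : along θ 1 = 1 := by
  rw [along_of_mem θ S.one_mem]
  exact map_one θ

omit [Finite S] in
theorem along_inv (θ : S →* Ω') {x : Ω} (hx : x ∈ S) : along θ x⁻¹ = (along θ x)⁻¹ := by
  rw [along_of_mem θ hx, along_of_mem θ (S.inv_mem hx), ← map_inv]
  rfl

omit [Finite S] in
theorem mem_preimageAlong {P' : Subgroup Ω'} {x : Ω} :
    x ∈ preimageAlong θ P' ↔ x ∈ S ∧ along θ x ∈ P' := by
  constructor
  · rintro ⟨s, hs, rfl⟩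
    refine ⟨s.2, ?_⟩
    rw [Subgroup.subtype_apply, along_of_mem θ s.2]
    exact hs
  · rintro ⟨hx, h⟩
    exact ⟨⟨x, hx⟩, by rwa [SetLike.mem_coe, Subgroup.mem_comap, ← along_of_mem θ hx], rfl⟩

omit [Finite S] in
theorem preimageAlong_le (P' : Subgroup Ω') : preimageAlong θ P' ≤ S := Subgroup.map_subtype_le _

omit [Finite S] in
theorem mem_imageAlong {y : Ω'} :
    y ∈ imageAlong θ P ↔ ∃ x ∈ P, x ∈ S ∧ along θ x = y := by
  constructor
  · rintro ⟨s, hs, rfl⟩
    exact ⟨s, hs, s.2, along_of_mem θ s.2⟩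
  · rintro ⟨x, hx, hxS, rfl⟩
    exact ⟨⟨x, hxS⟩, hx, (along_of_mem θ hxS).symm⟩

omit [Finite S] in
theorem inducedAlong_iff {f : Ω → Ω} {f' : Ω' → Ω'} {φ : P →* Ω} {P' : Subgroup Ω'}
    {φ' : P' →* Ω'} (hφ : ∀ x : P, φ x = f x) (hφ' : ∀ y : P', φ' y = f' y) :
    InducedAlong θ φ φ' ↔ P ≤ S ∧ (∀ x ∈ P, f x ∈ S) ∧ (∀ x ∈ P, along θ x ∈ P') ∧
      ∀ x ∈ P, f' (along θ x) = along θ (f x) := by
  constructor
  · rintro ⟨hP, hf, hP', h⟩
    refine ⟨hP, fun x hx => hφ ⟨x, hx⟩ ▸ hf _, fun x hx => ?_, fun x hx => ?_⟩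
    · rw [along_of_mem θ (hP hx)]; exact hP' ⟨x, hx⟩
    · have hfx : f x ∈ S := hφ ⟨x, hx⟩ ▸ hf _
      have h1 := h ⟨x, hx⟩
      rw [hφ'] at h1
      rw [along_of_mem θ (hP hx), along_of_mem θ hfx]
      simp only [hφ] at h1
      exact h1
  · rintro ⟨hP, hf, hP', h⟩
    refine ⟨hP, fun x => by rw [hφ]; exact hf x x.2,
      fun x => by rw [← along_of_mem θ (hP x.2)]; exact hP' x x.2, fun x => ?_⟩
    rw [hφ']
    have h1 := h x x.2
    rw [along_of_mem θ (hP x.2), along_of_mem θ (hf x x.2)] at h1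
    simp only [hφ]
    exact h1

/-! ### Quotient data -/

/-- The properties shared by factor systems and images of surjective morphisms. -/
structure IsQuot (F : FusionSystem S) (T : Subgroup Ω) (θ : S →* Ω') (E : FusionSystem S') :
    Prop where
  closed : F.StronglyClosed T
  ker_iff : ∀ s : S, θ s = 1 ↔ (s : Ω) ∈ T
  range_eq : θ.range = S'
  lift : ∀ (P' : Subgroup Ω') (f' : Ω' → Ω'), IsMap E P' f' →
    ∃ f, IsMap F (preimageAlong θ P') f ∧
      ∀ x ∈ preimageAlong θ P', f' (along θ x) = along θ (f x)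
  descend : ∀ (P' : Subgroup Ω') (f : Ω → Ω), P' ≤ S' → IsMap F (preimageAlong θ P') f →
    ∃ f', IsMap E P' f' ∧ ∀ x ∈ preimageAlong θ P', f' (along θ x) = along θ (f x)

omit [Finite S] in
theorem exists_along_eq (hr : θ.range = S') {y : Ω'} (hy : y ∈ S') :
    ∃ x ∈ S, along θ x = y := by
  rw [← hr] at hy
  obtain ⟨x, rfl⟩ := hy
  exact ⟨x, x.2, along_of_mem θ x.2⟩

omit [Finite S] in
theorem along_mem (hr : θ.range = S') {x : Ω} (hx : x ∈ S) : along θ x ∈ S' := by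
  rw [← hr, along_of_mem θ hx]
  exact ⟨_, rfl⟩

omit [Finite S] in
theorem along_eq_iff (hk : ∀ s : S, θ s = 1 ↔ (s : Ω) ∈ T) {x y : Ω} (hx : x ∈ S) (hy : y ∈ S) :
    along θ x = along θ y ↔ x⁻¹ * y ∈ T := by
  rw [← hk ⟨x⁻¹ * y, S.mul_mem (S.inv_mem hx) hy⟩, ← along_of_mem θ, along_mul θ (S.inv_mem hx) hy,
    along_inv θ hx, inv_mul_eq_one]

theorem isQuot_of_factorSystem {S₀ : Subgroup Ω} (hsc : F.StronglyClosed S₀)
    (hE : F.IsFactorSystem S₀ θ E) : IsQuot F S₀ θ E := by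
  obtain ⟨h0, hk, hr, hHom⟩ := hE
  refine ⟨hsc, hk, hr, fun P' f' hf' => ?_, fun P' f hP' hf => ?_⟩
  · obtain ⟨-, φ, hφ, hind⟩ := (hHom P' hf'.hom).1 hf'.hom_mem_self
    exact ⟨ext φ, IsMap.of_hom hφ, ((inducedAlong_iff (f := ext φ) (f' := f')
      (fun x => (ext_apply φ x).symm) fun _ => rfl).1 hind).2.2.2⟩
  · let sec : Ω' → Ω := fun y =>
      if h : ∃ x ∈ S, along θ x = y then Classical.choose h else 1
    have hsec : ∀ y ∈ P', sec y ∈ preimageAlong θ P' ∧ along θ (sec y) = y := by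
      intro y hy
      have h := exists_along_eq hr (hP' hy)
      have h' := Classical.choose_spec h
      simp only [sec, dif_pos h]
      exact ⟨mem_preimageAlong.2 ⟨h'.1, by rw [h'.2]; exact hy⟩, h'.2⟩
    have key : ∀ x ∈ preimageAlong θ P', along θ (f (sec (along θ x))) = along θ (f x) := by
      intro x hx
      obtain ⟨hxS, hxP⟩ := mem_preimageAlong.1 hx
      obtain ⟨h1, h2⟩ := hsec _ hxP
      rw [along_eq_iff hk (hf.mem h1) (hf.mem hx), ← hf.map_inv h1,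
        ← hf.map_mul (Subgroup.inv_mem _ h1) hx]
      exact stronglyClosed_mem hsc hf (Subgroup.mul_mem _ (Subgroup.inv_mem _ h1) hx)
        ((along_eq_iff hk (preimageAlong_le _ h1) hxS).1 h2)
    let φ' : P' →* Ω' := MonoidHom.mk' (fun y => along θ (f (sec y))) (by
      intro a b
      obtain ⟨ha, ha'⟩ := hsec a a.2
      obtain ⟨hb, hb'⟩ := hsec b b.2
      have h1 := key _ (Subgroup.mul_mem _ ha hb)
      rw [along_mul θ (preimageAlong_le _ ha) (preimageAlong_le _ hb), ha', hb',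
        hf.map_mul ha hb, along_mul θ (hf.mem ha) (hf.mem hb)] at h1
      exact h1)
    refine ⟨fun y => along θ (f (sec y)), ⟨φ', (hHom P' φ').2 ⟨hP', hf.hom, hf.hom_mem_self,
      (inducedAlong_iff (f := f) (f' := fun y => along θ (f (sec y)))
        (fun _ => rfl) fun _ => rfl).2
      ⟨preimageAlong_le _, fun x hx => hf.mem hx, fun x hx => (mem_preimageAlong.1 hx).2, key⟩⟩,
      fun _ => rfl⟩, key⟩

omit [Finite S] in
theorem kernel_stronglyClosed (hα : F.IsMorphism E θ) :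
    F.StronglyClosed (θ.ker.map S.subtype) := by
  refine ⟨Subgroup.map_subtype_le _, fun R hR φ hφ x => ?_⟩
  obtain ⟨φ', -, hP, hmem, hP', hind⟩ := hα.2 R φ hφ
  obtain ⟨s, hs, hsx⟩ := hR x.2
  have h1 : θ ⟨x, hP x.2⟩ = 1 := by
    have hsx' : s = ⟨(x : Ω), hP x.2⟩ := Subtype.ext hsx
    rw [← hsx']
    exact hs
  have h2 := hind x
  have h3 : φ' ⟨θ ⟨x, hP x.2⟩, hP' x⟩ = 1 := by
    rw [← map_one φ']
    exact congrArg φ' (Subtype.ext h1)
  exact ⟨⟨φ x, hmem x⟩, h2.symm.trans h3, rfl⟩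

omit [Finite S] in
theorem imageAlong_preimageAlong (hr : θ.range = S') {P' : Subgroup Ω'} (hP' : P' ≤ S') :
    imageAlong θ (preimageAlong θ P') = P' := by
  ext y
  rw [mem_imageAlong]
  constructor
  · rintro ⟨x, hx, -, rfl⟩
    exact (mem_preimageAlong.1 hx).2
  · intro hy
    obtain ⟨x, hx, rfl⟩ := exists_along_eq hr (hP' hy)
    exact ⟨x, mem_preimageAlong.2 ⟨hx, hy⟩, hx, rfl⟩

omit [Finite S] in
theorem isQuot_of_surjective (hα : F.IsSurjectiveMorphism E θ) :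
    IsQuot F (θ.ker.map S.subtype) θ E := by
  obtain ⟨hm, hr, hsurj⟩ := hα
  refine ⟨kernel_stronglyClosed hm, fun s => ⟨fun h => ⟨s, h, rfl⟩, ?_⟩, hr,
    fun P' f' hf' => ?_, fun P' f hP' hf => ?_⟩
  · rintro ⟨u, hu, hue⟩
    rw [← Subtype.ext (a1 := u) (a2 := s) hue]
    exact hu
  · obtain ⟨φ, hφ, hind⟩ := hsurj P' hf'.le _ hf'.hom_mem_self
    exact ⟨ext φ, IsMap.of_hom hφ, ((inducedAlong_iff (f := ext φ) (f' := f')
      (fun x => (ext_apply φ x).symm) fun _ => rfl).1 hind).2.2.2⟩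
  · obtain ⟨φ', hφ', hind⟩ := hm.2 _ _ hf.hom_mem_self
    have h1 := (inducedAlong_iff (f := f) (f' := ext φ') (fun _ => rfl)
      fun y => (ext_apply φ' y).symm).1 hind
    exact ⟨ext φ', isMap_of_eq (imageAlong_preimageAlong hr hP') (IsMap.of_hom hφ'), h1.2.2.2⟩

variable {hS : IsPGroup p S}

theorem IsQuot.isSurjectiveMorphism (hq : IsQuot F T θ E) (hS : IsPGroup p S)
    (hF : F.IsSaturated p) : F.IsSurjectiveMorphism E θ := by
  refine ⟨⟨fun s => by rw [← along_of_mem θ s.2]; exact along_mem hq.range_eq s.2,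
    fun P φ hφ => ?_⟩, hq.range_eq, fun P' hP' φ' hφ' => ?_⟩
  · obtain ⟨g, hg, he⟩ := exists_lift hS hF hq.closed (IsMap.of_hom hφ)
    have hP : P ≤ S := (F.le_of_mem hφ).1
    have hle : preimageAlong θ (imageAlong θ P) ≤ P ⊔ T := by
      intro x hx
      obtain ⟨hxS, hx'⟩ := mem_preimageAlong.1 hx
      obtain ⟨y, hy, hyS, he⟩ := mem_imageAlong.1 hx'
      have := (along_eq_iff hq.ker_iff hyS hxS).1 he
      rw [show x = y * (y⁻¹ * x) by group]
      exact Subgroup.mul_mem _ (Subgroup.mem_sup_left hy) (Subgroup.mem_sup_right this)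
    obtain ⟨f', hf', hrel⟩ := hq.descend (imageAlong θ P) g
      (fun y hy => by
        obtain ⟨x, -, hxS, rfl⟩ := mem_imageAlong.1 hy
        exact along_mem hq.range_eq hxS) (hg.restrict hle)
    refine ⟨hf'.hom, hf'.hom_mem_self, (inducedAlong_iff (f := ext φ) (f' := f')
      (fun x => (ext_apply φ x).symm) fun _ => rfl).2
      ⟨hP, fun x hx => (IsMap.of_hom hφ).mem hx, fun x hx => mem_imageAlong.2 ⟨x, hx, hP hx, rfl⟩,
        fun x hx => ?_⟩⟩
    rw [hrel x (mem_preimageAlong.2 ⟨hP hx, mem_imageAlong.2 ⟨x, hx, hP hx, rfl⟩⟩)]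
    exact ((along_eq_iff hq.ker_iff ((IsMap.of_hom hφ).mem hx)
      (hg.mem (Subgroup.mem_sup_left hx))).2 (he x hx)).symm
  · obtain ⟨f, hf, hrel⟩ := hq.lift P' _ (IsMap.of_hom hφ')
    exact ⟨hf.hom, hf.hom_mem_self, (inducedAlong_iff (f := f) (f' := ext φ')
      (fun _ => rfl) fun y => (ext_apply φ' y).symm).2
      ⟨preimageAlong_le _, fun x hx => hf.mem hx, fun x hx => (mem_preimageAlong.1 hx).2, hrel⟩⟩

theorem IsQuot.finite (hq : IsQuot F T θ E) : Finite S' := by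
  rw [← hq.range_eq]
  exact Finite.of_surjective θ.rangeRestrict θ.rangeRestrict_surjective

omit [Finite S] in
theorem IsQuot.isPGroup (hq : IsQuot F T θ E) (hS : IsPGroup p S) : IsPGroup p S' := by
  rw [← hq.range_eq]
  exact hS.of_surjective θ.rangeRestrict θ.rangeRestrict_surjective

omit [Finite S] in
theorem IsQuot.le_preimage (hq : IsQuot F T θ E) (P' : Subgroup Ω') :
    T ≤ preimageAlong θ P' := fun x hx => by
  refine mem_preimageAlong.2 ⟨hq.closed.1 hx, ?_⟩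
  rw [along_of_mem θ (hq.closed.1 hx), (hq.ker_iff ⟨x, hq.closed.1 hx⟩).2 hx]
  exact P'.one_mem

/-- The quotient of a saturated system is saturated. -/
theorem IsQuot.saturated (hq : IsQuot F T θ E) (hS : IsPGroup p S) (hF : F.IsSaturated p) :
    E.IsSaturated p := by
  intro P' hP'
  have hfin' := hq.finite
  have hS' := hq.isPGroup hS
  obtain ⟨Q, hPQ, hQ⟩ := exists_fullyNormalized (F := F) (preimageAlong_le (θ := θ) P')
  obtain ⟨f, hf, rfl⟩ := isConj_iff_map.1 hPQ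
  obtain ⟨f', hf', hrel⟩ := hq.descend P' f hP' hf
  set Q := img f (preimageAlong θ P') with hQdef
  have hQpre : preimageAlong θ (img f' P') = Q := by
    ext x
    rw [mem_preimageAlong]
    constructor
    · rintro ⟨hxS, hx⟩
      obtain ⟨y, hy, hye⟩ := hf'.mem_img.1 hx
      obtain ⟨z, hz, rfl⟩ := exists_along_eq hq.range_eq (hP' hy)
      have hzP := mem_preimageAlong.2 ⟨hz, hy⟩
      rw [hrel z hzP] at hye
      have ht := (along_eq_iff hq.ker_iff (hf.mem hzP) hxS).1 hye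
      rw [show x = f z * ((f z)⁻¹ * x) by group]
      refine Q.mul_mem (mem_img_self f hzP) ?_
      rw [← stronglyClosed_img hq.closed hf (hq.le_preimage P')] at ht
      exact img_mono f (hq.le_preimage P') ht
    · intro hx
      obtain ⟨z, hz, rfl⟩ := hf.mem_img.1 hx
      exact ⟨hf.mem hz, hrel z hz ▸ mem_img_self f' (mem_preimageAlong.1 hz).2⟩
  set Q' := img f' P' with hQ'def
  have hQ'S : Q' ≤ S' := hf'.img_le_S
  have hQS : Q ≤ S := hQ.1
  have hfinQ : Finite Q := finite_of_le hQS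
  have hfinQ' : Finite Q' := finite_of_le hQ'S
  have hmemQ : ∀ x ∈ Q, along θ x ∈ Q' := fun x hx =>
    (mem_preimageAlong.1 (hQpre.symm ▸ hx)).2
  have hsurjQ : ∀ y ∈ Q', ∃ x ∈ Q, along θ x = y := by
    intro y hy
    obtain ⟨x, hx, rfl⟩ := exists_along_eq hq.range_eq (hQ'S hy)
    exact ⟨x, hQpre ▸ mem_preimageAlong.2 ⟨hx, hy⟩, rfl⟩
  -- the map `Aut_F(Q) → Aut_E(Q')`
  have hpi : ∀ a : F.autGroup Q, ∃ a' ∈ E.autGroup Q', ∀ x ∈ Q,
      autFun a' (along θ x) = along θ (autFun (a : MulAut Q) x) := by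
    intro a
    have ha := isMap_of_mem_autGroup hQS a.2
    obtain ⟨g', hg', hge⟩ := hq.descend Q' _ hQ'S (isMap_of_eq hQpre.symm ha)
    rw [hQpre] at hge
    have himg : img g' Q' = Q' := by
      refine eq_of_le_card (img_le fun y hy => ?_) hg'.card_img.ge
      obtain ⟨x, hx, rfl⟩ := hsurjQ y hy
      rw [hge x hx]
      exact hmemQ _ (autFun_mem _ hx)
    obtain ⟨a', ha', hae⟩ := hg'.exists_aut himg
    exact ⟨a', ha', fun x hx => (hae _ (hmemQ x hx)).trans (hge x hx)⟩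
  choose π hπ hπe using hpi
  have hπext : ∀ (a : F.autGroup Q) (b : MulAut Q'),
      (∀ x ∈ Q, autFun b (along θ x) = along θ (autFun (a : MulAut Q) x)) → π a = b := by
    intro a b hb
    refine autFun_ext fun y hy => ?_
    obtain ⟨x, hx, rfl⟩ := hsurjQ y hy
    rw [hπe a x hx, hb x hx]
  let pim : F.autGroup Q →* E.autGroup Q' :=
    MonoidHom.mk' (fun a => ⟨π a, hπ a⟩) fun a b => Subtype.ext (hπext (a * b) _ fun x hx => by
      simp only [Subgroup.coe_mul, autFun_mul]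
      rw [hπe b x hx, hπe a _ (autFun_mem _ hx)])
  have hpim : Function.Surjective pim := by
    rintro ⟨b, hb⟩
    obtain ⟨g, hg, hge⟩ := hq.lift Q' _ (isMap_of_mem_autGroup hQ'S hb)
    rw [hQpre] at hg hge
    have himg : img g Q = Q := by
      refine eq_of_le_card (img_le fun x hx => ?_) hg.card_img.ge
      refine hQpre ▸ mem_preimageAlong.2 ⟨hg.mem hx, ?_⟩
      rw [← hge x hx]
      exact autFun_mem _ (hmemQ x hx)
    obtain ⟨a, ha, hae⟩ := hg.exists_aut himg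
    exact ⟨⟨a, ha⟩, Subtype.ext (hπext ⟨a, ha⟩ b fun x hx => by rw [hge x hx, hae x hx])⟩
  set A := (autInducedBy S Q).subgroupOf (F.autGroup Q) with hAdef
  have hA : SylIn p A ⊤ := by
    refine ⟨le_top, (isPGroup_autInducedBy hS).comap_of_injective _ Subtype.val_injective, ?_⟩
    rw [Subgroup.relIndex_top_right]
    exact ((fullyAutomized_iff hS).1 (fullyNormalized_fullyAutomized hS hF hQ)).2
  refine ⟨Q', hf'.isConj, ?_, ?_⟩
  · rw [fullyAutomized_iff hS']
    refine ⟨hQ'S, fun hd => hA.2.2 ?_⟩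
    rw [Subgroup.relIndex_top_right]
    refine dvd_trans (dvd_trans hd ?_) (Subgroup.index_map_dvd A hpim)
    refine Subgroup.index_dvd_of_le ?_
    rintro _ ⟨a, ha, rfl⟩
    obtain ⟨h, hh, he⟩ := mem_autInducedBy_iff'.1 (Subgroup.mem_subgroupOf.1 ha)
    refine Subgroup.mem_subgroupOf.2 (mem_autInducedBy_iff.2 ⟨along θ h,
      along_mem hq.range_eq hh.1, fun y => ?_⟩)
    obtain ⟨x, hx, hxy⟩ := hsurjQ y y.2
    rw [← autFun_apply, ← hxy]
    show autFun (π a) (along θ x) = _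
    rw [hπe a x hx, he x hx, cj_apply, along_mul θ (S.mul_mem hh.1 (hQS hx)) (S.inv_mem hh.1),
      along_mul θ hh.1 (hQS hx), along_inv θ hh.1]
  refine isReceptive_iff.2 ⟨hQ'S, fun R' g' hg' himg' => ?_⟩
  obtain ⟨g, hg, hge⟩ := hq.lift R' g' hg'
  set R := preimageAlong θ R' with hRdef
  have hRS : R ≤ S := preimageAlong_le _
  have hgimg : img g R = Q := by
    ext y
    rw [← hQpre]
    constructor
    · intro hy
      obtain ⟨x, hx, rfl⟩ := hg.mem_img.1 hy
      refine mem_preimageAlong.2 ⟨hg.mem hx, ?_⟩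
      rw [← hge x hx, ← himg']
      exact mem_img_self g' (mem_preimageAlong.1 hx).2
    · intro hy
      obtain ⟨hyS, hy'⟩ := mem_preimageAlong.1 hy
      rw [← himg'] at hy'
      obtain ⟨r, hr, hre⟩ := hg'.mem_img.1 hy'
      obtain ⟨x, hx, rfl⟩ := exists_along_eq hq.range_eq (hg'.le hr)
      have hxR := mem_preimageAlong.2 ⟨hx, hr⟩
      rw [hge x hxR] at hre
      have ht := (along_eq_iff hq.ker_iff (hg.mem hxR) hyS).1 hre
      rw [show y = g x * ((g x)⁻¹ * y) by group]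
      refine Subgroup.mul_mem _ (mem_img_self g hxR) ?_
      rw [← stronglyClosed_img hq.closed hg (hq.le_preimage R')] at ht
      exact img_mono g (hq.le_preimage R') ht
  set N := preimageAlong θ (nSub S' R' g') with hNdef
  have hN : ∀ a ∈ N, a ∈ Subgroup.normalizer (R : Set Ω) := by
    intro a ha
    obtain ⟨haS, ha'⟩ := mem_preimageAlong.1 ha
    have hfinR : Finite R := finite_of_le hRS
    refine mem_normalizer_of_forall fun x hx => ?_
    obtain ⟨hxS, hx'⟩ := mem_preimageAlong.1 hx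
    refine mem_preimageAlong.2 ⟨S.mul_mem (S.mul_mem haS hxS) (S.inv_mem haS), ?_⟩
    rw [along_mul θ (S.mul_mem haS hxS) (S.inv_mem haS), along_mul θ haS hxS, along_inv θ haS]
    exact (Subgroup.mem_normalizer_iff.1 ha'.2.1 _).1 hx'
  have hNS : N ≤ S := preimageAlong_le _
  have hfinR : Finite R := finite_of_le hRS
  obtain ⟨e, he⟩ := exists_autEquiv_to hg hgimg
  -- the image in `Aut_F(Q)` of the action of `N`
  let ι : ↥N →* F.autGroup R := MonoidHom.mk'
    (fun a : N => ⟨conjAut S R ⟨a, hNS a.2, hN a a.2⟩,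
      autInducedBy_le hRS (conjAut_range S R ▸ ⟨_, rfl⟩)⟩)
    fun a b => Subtype.ext (by
      show conjAut S R _ = conjAut S R _ * conjAut S R _
      rw [← map_mul]
      rfl)
  have hQR : ∀ (a : N), ∀ x ∈ R,
      autFun (e (ι a) : MulAut Q) (g x) = g ((a : Ω) * x * (a : Ω)⁻¹) := by
    intro a x hx
    rw [he _ x hx]
    exact congrArg g (conjAut_apply ⟨(a : Ω), hNS a.2, hN a a.2⟩ hx)
  have hM : ∀ a : N, (pim (e (ι a)) : MulAut Q') ∈ autInducedBy S' Q' := by
    intro a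
    obtain ⟨h', hh', hhe⟩ := (mem_preimageAlong.1 a.2).2.2.2
    refine mem_autInducedBy_iff.2 ⟨h', hh', fun y => ?_⟩
    obtain ⟨z, hz, hzy⟩ := hsurjQ y y.2
    obtain ⟨x, hx, rfl⟩ := hg.mem_img.1 (hgimg.symm ▸ hz)
    rw [← autFun_apply, ← hzy]
    show autFun (π _) _ = _
    rw [hπe _ _ hz, hQR a x hx, ← hge x hx]
    have haS := hNS a.2
    have hax : (a : Ω) * x * (a : Ω)⁻¹ ∈ R := (Subgroup.mem_normalizer_iff.1 (hN a a.2) x).1 hx
    rw [← hge _ hax, along_mul θ (S.mul_mem haS (hRS hx)) (S.inv_mem haS),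
      along_mul θ haS (hRS hx), along_inv θ haS]
    exact hhe _ (mem_preimageAlong.1 hx).2
  have hM' : ∀ a : N, e (ι a) ∈ A ⊔ pim.ker := by
    intro a
    obtain ⟨h', ⟨hh', hh''⟩, hhe⟩ := mem_autInducedBy_iff'.1 (hM a)
    obtain ⟨h, hh, rfl⟩ := exists_along_eq hq.range_eq hh'
    have hhN : h ∈ normalizerIn S Q := by
      refine ⟨hh, mem_normalizer_of_forall fun x hx => hQpre ▸ mem_preimageAlong.2
        ⟨S.mul_mem (S.mul_mem hh (hQS hx)) (S.inv_mem hh), ?_⟩⟩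
      rw [along_mul θ (S.mul_mem hh (hQS hx)) (S.inv_mem hh), along_mul θ hh (hQS hx),
        along_inv θ hh]
      exact (Subgroup.mem_normalizer_iff.1 hh'' _).1 (hmemQ x hx)
    let c : F.autGroup Q := ⟨conjAut S Q ⟨h, hhN⟩,
      autInducedBy_le hQS (conjAut_range S Q ▸ ⟨_, rfl⟩)⟩
    have hc : c ∈ A :=
      Subgroup.mem_subgroupOf.2 (mem_autInducedBy_iff'.2 ⟨h, hhN, fun x hx => conjAut_apply _ hx⟩)
    have heq : pim (e (ι a)) = pim c := by
      refine Subtype.ext (autFun_ext fun y hy => ?_)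
      obtain ⟨x, hx, rfl⟩ := hsurjQ y hy
      rw [hhe _ hy]
      show _ = autFun (π c) _
      rw [hπe c x hx, conjAut_apply ⟨h, hhN⟩ hx, cj_apply, cj_apply,
        along_mul θ (S.mul_mem hh (hQS hx)) (S.inv_mem hh), along_mul θ hh (hQS hx),
        along_inv θ hh]
    have := Subgroup.mul_mem_sup hc
      (show c⁻¹ * e (ι a) ∈ pim.ker by
        rw [MonoidHom.mem_ker, map_mul, heq, map_inv, inv_mul_cancel])
    rwa [mul_inv_cancel_left] at this
  let M : Subgroup (F.autGroup Q) := (e.toMonoidHom.comp ι).range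
  have hMp : IsPGroup p M :=
    (hS.to_le hNS).of_surjective _ (e.toMonoidHom.comp ι).rangeRestrict_surjective
  have hMle : M ≤ A ⊔ pim.ker := by
    rintro _ ⟨a, rfl⟩
    exact hM' a
  obtain ⟨k, hk, hkle⟩ := (hA.mono (M := A ⊔ pim.ker) le_sup_left le_top).exists_conj hMle hMp
  rw [← SetLike.mem_coe, Subgroup.mul_normal] at hk
  obtain ⟨s, hs, d, hd, rfl⟩ := hk
  have hd' : ∀ a : N, d * e (ι a) * d⁻¹ ∈ A := by
    intro a
    have h1 : cj (s * d) (e (ι a)) ∈ A := hkle (mem_img_self _ ⟨a, rfl⟩)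
    rw [cj_mul] at h1
    have h2 : cj s⁻¹ (cj s (cj d (e (ι a)))) ∈ A :=
      A.mul_mem (A.mul_mem (A.inv_mem hs) h1) (A.inv_mem (A.inv_mem hs))
    rwa [cj_inv_cj] at h2
  have hdm : IsMap F Q (autFun (d : MulAut Q)) := isMap_of_mem_autGroup hQS d.2
  have hcomp : IsMap F R (fun x => autFun (d : MulAut Q) (g x)) :=
    hdm.comp hg fun x hx => hgimg ▸ mem_img_self g hx
  have himgc : img (fun x => autFun (d : MulAut Q) (g x)) R = Q := by
    rw [← hg.img_img, hgimg, autFun_img]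
  have hNle : N ≤ nSub S R (fun x => autFun (d : MulAut Q) (g x)) := by
    intro a ha
    obtain ⟨h, hh, hhe⟩ := mem_autInducedBy_iff'.1 (Subgroup.mem_subgroupOf.1 (hd' ⟨a, ha⟩))
    refine mem_nSub.2 ⟨hNS ha, hN a ha, h, hh.1, fun x hx => ?_⟩
    have hgx : g x ∈ Q := hgimg ▸ mem_img_self g hx
    have h3 := hhe _ (autFun_mem (d : MulAut Q) hgx)
    rw [Subgroup.coe_mul, Subgroup.coe_mul, Subgroup.coe_inv, autFun_mul, autFun_mul,
      autFun_inv_apply] at h3
    rw [hQR ⟨a, ha⟩ x hx] at h3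
    exact h3
  obtain ⟨u, hu, hue⟩ := exists_extension hS hF hcomp
    (himgc.symm ▸ fullyNormalized_fullyCentralized hS hF hQ)
  obtain ⟨u', hu', hue'⟩ := hq.descend (nSub S' R' g') u (fun y hy => hy.1) (hu.restrict hNle)
  refine ⟨u', hu', fun y hy => ?_⟩
  obtain ⟨x, hx, rfl⟩ := exists_along_eq hq.range_eq (hg'.le hy)
  have hxR := mem_preimageAlong.2 ⟨hx, hy⟩
  have hgx : g x ∈ Q := hgimg ▸ mem_img_self g hxR
  rw [hue' x (mem_preimageAlong.2 ⟨hx, le_nSub hg' hy⟩), hue x hxR, ← hπe d _ hgx,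
    show π d = 1 from congrArg Subtype.val hd, autFun_one, id, hge x hxR]

end Cfsg.Agent.Fusion.Factor
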