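/-
Existence of the factor system modulo a strongly closed subgroup.
-/
import Mathlib
import Cfsg.Agent.Lib.Fusion.Factor

set_option autoImplicit false

namespace Cfsg.Agent.Fusion.FactorExists

open Cfsg Cfsg.FusionSystem Cfsg.Agent.Fusion.Basic Cfsg.Agent.Fusion.Saturation
  Cfsg.Agent.Fusion.Normal Cfsg.Agent.Fusion.Factor

variable {Ω Ω' : Type*} [Group Ω] [Group Ω'] {S S₀ : Subgroup Ω} [Finite S] {F : FusionSystem S}
  {S' : Subgroup Ω'} {θ : S →* Ω'}

theorem exists_factorSystem (hsc : F.StronglyClosed S₀)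
    (hk : ∀ s : S, θ s = 1 ↔ (s : Ω) ∈ S₀) (hr : θ.range = S') :
    ∃ E : FusionSystem S', F.IsFactorSystem S₀ θ E := by
  have conv : ∀ {P' : Subgroup Ω'} {φ' : P' →* Ω'} {φ : preimageAlong θ P' →* Ω},
      InducedAlong θ φ φ' → ∀ x (hx : x ∈ preimageAlong θ P'),
        φ' ⟨along θ x, (mem_preimageAlong.1 hx).2⟩ = along θ (φ ⟨x, hx⟩) := by
    rintro P' φ' φ ⟨hP, hf, hmem, h⟩ x hx
    rw [along_of_mem θ (hf ⟨x, hx⟩), ← h ⟨x, hx⟩]
    exact congrArg φ' (Subtype.ext (along_of_mem θ (hP hx)))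
  refine ⟨{
      Hom := fun P' => {φ' | P' ≤ S' ∧ ∃ φ ∈ F.Hom (preimageAlong θ P'), InducedAlong θ φ φ'}
      le_of_mem := ?_
      injective_of_mem := ?_
      conj_mem := ?_
      comp_mem := ?_
      inv_mem := ?_ }, hsc.1, hk, hr, fun P' φ' => Iff.rfl⟩
  · rintro P' φ' ⟨hP', φ, hφ, hind⟩
    refine ⟨hP', fun y => ?_⟩
    obtain ⟨x, hx, hxy⟩ := exists_along_eq hr (hP' y.2)
    have hxP := mem_preimageAlong.2 ⟨hx, hxy.symm ▸ y.2⟩
    rw [show y = ⟨along θ x, (mem_preimageAlong.1 hxP).2⟩ from Subtype.ext hxy.symm,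
      conv hind x hxP]
    exact along_mem hr ((F.le_of_mem hφ).2 _)
  · rintro P' φ' ⟨hP', φ, hφ, hind⟩
    rw [injective_iff_map_eq_one]
    intro y hy
    obtain ⟨x, hx, hxy⟩ := exists_along_eq hr (hP' y.2)
    have hxP := mem_preimageAlong.2 ⟨hx, hxy.symm ▸ y.2⟩
    rw [show y = ⟨along θ x, (mem_preimageAlong.1 hxP).2⟩ from Subtype.ext hxy.symm,
      conv hind x hxP] at hy
    have hf := IsMap.of_hom hφ
    have hfx : ext φ x ∈ S := hf.mem hxP
    rw [← ext_of_mem φ hxP, along_of_mem θ hfx, hk] at hy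
    have hle : S₀ ≤ preimageAlong θ P' := fun t ht => mem_preimageAlong.2
      ⟨hsc.1 ht, by rw [along_of_mem θ (hsc.1 ht), (hk ⟨t, hsc.1 ht⟩).2 ht]; exact P'.one_mem⟩
    rw [← stronglyClosed_img hsc hf hle] at hy
    obtain ⟨t, ht, hte⟩ := (hf.restrict hle).mem_img.1 hy
    obtain rfl := hf.inj (hle ht) hxP hte
    refine Subtype.ext (hxy.symm.trans ?_)
    rw [along_of_mem θ hx]
    exact (hk _).2 ht
  · intro P' a' hP' ha'
    obtain ⟨a, ha, rfl⟩ := exists_along_eq hr ha'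
    have hm := isMap_cj (F := F) (preimageAlong_le (θ := θ) P') ha
    refine ⟨hP', hm.hom, hm.hom_mem_self, (inducedAlong_iff (f := cj a) (f' := cj (along θ a))
      (fun _ => rfl) fun _ => rfl).2 ⟨preimageAlong_le _, fun x hx => hm.mem hx,
        fun x hx => (mem_preimageAlong.1 hx).2, fun x hx => ?_⟩⟩
    have hxS := preimageAlong_le _ hx
    rw [cj_apply, cj_apply, along_mul θ (S.mul_mem ha hxS) (S.inv_mem ha), along_mul θ ha hxS,
      along_inv θ ha]
  · rintro P' Q' φ' ψ' ⟨hP', φ, hφ, hind⟩ ⟨hQ', ψ, hψ, hind'⟩ h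
    have hfQ : ∀ x ∈ preimageAlong θ P', ext φ x ∈ preimageAlong θ Q' := by
      intro x hx
      rw [ext_of_mem φ hx]
      exact mem_preimageAlong.2 ⟨(F.le_of_mem hφ).2 _, conv hind x hx ▸ h _⟩
    have hm := (IsMap.of_hom hψ).comp (IsMap.of_hom hφ) hfQ
    refine ⟨hP', hm.hom, hm.hom_mem_self, ?_⟩
    refine ⟨preimageAlong_le _, fun x => hm.mem x.2, fun x => ?_, fun x => ?_⟩
    · rw [← along_of_mem θ (preimageAlong_le _ x.2)]
      exact (mem_preimageAlong.1 x.2).2
    · simp only [IsMap.hom_apply]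
      rw [← along_of_mem θ (hm.mem x.2)]
      show ψ' ⟨φ' _, _⟩ = along θ (ext ψ (ext φ x))
      rw [ext_of_mem ψ (hfQ x x.2), ← conv hind' _ (hfQ x x.2)]
      refine congrArg ψ' (Subtype.ext ?_)
      show φ' _ = along θ (ext φ x)
      rw [ext_of_mem φ x.2, ← conv hind x x.2]
      exact congrArg φ' (Subtype.ext (along_of_mem θ (preimageAlong_le _ x.2)).symm)
  · rintro P' φ' ⟨hP', φ, hφ, hind⟩
    have hf := IsMap.of_hom hφ
    obtain ⟨k, hk', -, hkf, hfk⟩ := hf.exists_inv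
    have hle : S₀ ≤ preimageAlong θ P' := fun t ht => mem_preimageAlong.2
      ⟨hsc.1 ht, by rw [along_of_mem θ (hsc.1 ht), (hk ⟨t, hsc.1 ht⟩).2 ht]; exact P'.one_mem⟩
    have hpre : preimageAlong θ φ'.range = img (ext φ) (preimageAlong θ P') := by
      ext z
      rw [mem_preimageAlong]
      constructor
      · rintro ⟨hz, y, hy⟩
        obtain ⟨x, hx, hxy⟩ := exists_along_eq hr (hP' y.2)
        have hxP := mem_preimageAlong.2 ⟨hx, hxy.symm ▸ y.2⟩
        rw [show y = ⟨along θ x, (mem_preimageAlong.1 hxP).2⟩ from Subtype.ext hxy.symm,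
          conv hind x hxP, ← ext_of_mem φ hxP] at hy
        have ht := (along_eq_iff hk (hf.mem hxP) hz).1 hy
        rw [show z = ext φ x * ((ext φ x)⁻¹ * z) by group]
        refine Subgroup.mul_mem _ (mem_img_self _ hxP) ?_
        rw [← stronglyClosed_img hsc hf hle] at ht
        exact img_mono _ hle ht
      · intro hz
        obtain ⟨x, hx, rfl⟩ := hf.mem_img.1 hz
        refine ⟨hf.mem hx, ?_⟩
        rw [ext_of_mem φ hx, ← conv hind x hx]
        exact ⟨_, rfl⟩
    have hk2 : IsMap F (preimageAlong θ φ'.range) k := hpre.symm ▸ hk'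
    have hinj : Function.Injective φ' := by
      rw [injective_iff_map_eq_one]
      intro y hy
      obtain ⟨x, hx, hxy⟩ := exists_along_eq hr (hP' y.2)
      have hxP := mem_preimageAlong.2 ⟨hx, hxy.symm ▸ y.2⟩
      rw [show y = ⟨along θ x, (mem_preimageAlong.1 hxP).2⟩ from Subtype.ext hxy.symm,
        conv hind x hxP, ← ext_of_mem φ hxP, along_of_mem θ (hf.mem hxP), hk] at hy
      rw [← stronglyClosed_img hsc hf hle] at hy
      obtain ⟨t, ht, hte⟩ := (hf.restrict hle).mem_img.1 hy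
      obtain rfl := hf.inj (hle ht) hxP hte
      refine Subtype.ext (hxy.symm.trans ?_)
      rw [along_of_mem θ hx]
      exact (hk _).2 ht
    refine ⟨P'.subtype.comp (MonoidHom.ofInjective hinj).symm.toMonoidHom, ⟨?_, hk2.hom,
      hk2.hom_mem_self, ?_⟩, fun x => ?_⟩
    · rintro _ ⟨y, rfl⟩
      obtain ⟨x, hx, hxy⟩ := exists_along_eq hr (hP' y.2)
      have hxP := mem_preimageAlong.2 ⟨hx, hxy.symm ▸ y.2⟩
      rw [show y = ⟨along θ x, (mem_preimageAlong.1 hxP).2⟩ from Subtype.ext hxy.symm,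
        conv hind x hxP]
      exact along_mem hr ((F.le_of_mem hφ).2 _)
    · refine ⟨preimageAlong_le _, fun z => hk2.mem z.2, fun z => ?_, fun z => ?_⟩
      · rw [← along_of_mem θ (preimageAlong_le _ z.2)]
        exact (mem_preimageAlong.1 z.2).2
      · simp only [IsMap.hom_apply]
        rw [← along_of_mem θ (hk2.mem z.2)]
        obtain ⟨x, hx, hxz⟩ := hf.mem_img.1 (le_of_eq hpre z.2)
        rw [show k z = x by rw [← hxz, hkf x hx]]
        show (((MonoidHom.ofInjective hinj).symm ⟨_, _⟩ : P') : Ω') = along θ x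
        have h1 : MonoidHom.ofInjective hinj ⟨along θ x, (mem_preimageAlong.1 hx).2⟩ =
            ⟨along θ z, (mem_preimageAlong.1 z.2).2⟩ := by
          refine Subtype.ext ?_
          show φ' _ = _
          rw [conv hind x hx, ← ext_of_mem φ hx, hxz]
        simp only [← along_of_mem θ (preimageAlong_le _ z.2)]
        rw [← h1, MulEquiv.symm_apply_apply]
    · show (((MonoidHom.ofInjective hinj).symm ⟨φ' x, _⟩ : P') : Ω') = x
      rw [show (⟨φ' x, ⟨x, rfl⟩⟩ : φ'.range) = MonoidHom.ofInjective hinj x from rfl,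
        MulEquiv.symm_apply_apply]

end Cfsg.Agent.Fusion.FactorExists
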