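/-
Solvable systems and chains of strongly closed subgroups with abelian factors.
-/
import Mathlib
import Cfsg.Prelude.Def_FusionComponents
import Cfsg.Agent.Lib.Fusion.FactorExists

set_option autoImplicit false

namespace Cfsg.Agent.Fusion.Solvable

open Cfsg Cfsg.FusionSystem Cfsg.Agent.Fusion.Basic Cfsg.Agent.Fusion.Saturation
  Cfsg.Agent.Fusion.Normal Cfsg.Agent.Fusion.Factor Cfsg.Agent.Fusion.FactorExists

variable {Ω : Type*} [Group Ω] {S : Subgroup Ω} [Finite S] {p : ℕ} [Fact p.Prime]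
  {F : FusionSystem S} {R T U V : Subgroup Ω} {Ω' : Type*} [Group Ω'] {S' : Subgroup Ω'}
  {θ : S →* Ω'} {E : FusionSystem S'}

omit [Finite S] [Fact p.Prime] in
theorem along_comm (θ : S →* Ω') {x y : Ω} (hx : x ∈ S) (hy : y ∈ S) :
    along θ (x * y * x⁻¹ * y⁻¹) = along θ x * along θ y * (along θ x)⁻¹ * (along θ y)⁻¹ := by
  rw [along_mul θ (S.mul_mem (S.mul_mem hx hy) (S.inv_mem hx)) (S.inv_mem hy),
    along_mul θ (S.mul_mem hx hy) (S.inv_mem hx), along_mul θ hx hy, along_inv θ hx, along_inv θ hy]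

omit [Fact p.Prime] in
/-- A strongly closed subgroup of the quotient has strongly closed preimage. -/
theorem preimage_stronglyClosed [Fact p.Prime] (hS : IsPGroup p S) (hF : F.IsSaturated p)
    (hq : IsQuot F T θ E) {U' : Subgroup Ω'} (hU : E.StronglyClosed U') :
    F.StronglyClosed (preimageAlong θ U') := by
  refine ⟨preimageAlong_le _, fun A hA φ hφ x => ?_⟩
  obtain ⟨φ', hφ', hind⟩ := (hq.isSurjectiveMorphism hS hF).1.2 A φ hφ
  obtain ⟨-, hval, hmem, he⟩ := (inducedAlong_iff (f := ext φ) (f' := ext φ')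
    (fun y => (ext_apply φ y).symm) fun y => (ext_apply φ' y).symm).1 hind
  rw [← ext_apply φ x]
  refine mem_preimageAlong.2 ⟨hval x x.2, ?_⟩
  rw [← he x x.2]
  exact stronglyClosed_mem hU (IsMap.of_hom hφ') (hmem x x.2) (mem_preimageAlong.1 (hA x.2)).2

omit [Finite S] [Fact p.Prime] in
theorem preimage_image (hq : IsQuot F T θ E) (hTU : T ≤ U) {x : Ω} (hx : x ∈ S)
    (h : along θ x ∈ imageAlong θ U) : x ∈ U := by
  obtain ⟨u, hu, huS, he⟩ := mem_imageAlong.1 h
  rw [show x = u * (u⁻¹ * x) by group]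
  exact U.mul_mem hu (hTU ((along_eq_iff hq.ker_iff huS hx).1 he))

omit [Finite S] [Fact p.Prime] in
/-- The image of a strongly closed subgroup containing the kernel is strongly closed. -/
theorem image_stronglyClosed (hq : IsQuot F T θ E) (hTU : T ≤ U) (hU : F.StronglyClosed U) :
    E.StronglyClosed (imageAlong θ U) := by
  refine ⟨fun y hy => ?_, fun A hA φ hφ y => ?_⟩
  · obtain ⟨x, -, hxS, rfl⟩ := mem_imageAlong.1 hy
    exact along_mem hq.range_eq hxS
  · obtain ⟨f, hf, he⟩ := hq.lift A _ (IsMap.of_hom hφ)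
    obtain ⟨x, hxU, hxS, hxy⟩ := mem_imageAlong.1 (hA y.2)
    have hxA : x ∈ preimageAlong θ A := mem_preimageAlong.2 ⟨hxS, hxy ▸ y.2⟩
    rw [← ext_apply φ y, ← hxy, he x hxA]
    exact mem_imageAlong.2 ⟨f x, stronglyClosed_mem hU hf hxA hxU, hf.mem hxA, rfl⟩

/-- An abelian strongly closed subgroup is normal. -/
theorem normal_of_abelian (hS : IsPGroup p S) (hF : F.IsSaturated p) (hU : F.StronglyClosed U)
    (hab : ∀ x ∈ U, ∀ y ∈ U, x * y * x⁻¹ * y⁻¹ = 1) : F.IsNormal U := by
  refine normal_of_series hS hF 1 (fun i => if i = 0 then ⊥ else U) (if_pos rfl)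
    (if_neg one_ne_zero) ?_ ?_ ?_
  · intro i hi
    obtain rfl : i = 0 := by omega
    simp
  · intro i _
    show F.StronglyClosed (if i = 0 then ⊥ else U)
    split_ifs
    exacts [normal_stronglyClosed isNormal_bot, hU]
  · intro i hi x hx y hy
    obtain rfl : i = 0 := by omega
    simp only [if_neg (Nat.succ_ne_zero 0)] at hy
    simp only [if_pos rfl, Subgroup.mem_bot]
    exact hab x hx y hy

/-- There is a chain of strongly closed subgroups with abelian factors from `R` to `S`. -/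
def HasChain (F : FusionSystem S) (R : Subgroup Ω) : Prop :=
  ∃ (n : ℕ) (C : ℕ → Subgroup Ω), C 0 = R ∧ C n = S ∧ Monotone C ∧
    (∀ i, F.StronglyClosed (C i)) ∧
    ∀ i < n, ∀ x ∈ C (i + 1), ∀ y ∈ C (i + 1), x * y * x⁻¹ * y⁻¹ ∈ C i

omit [Finite S] [Fact p.Prime] in
theorem hasChain_iff :
    HasChain F ⊥ ↔ ∃ (n : ℕ) (T : Fin (n + 1) → Subgroup Ω), T 0 = ⊥ ∧ T (Fin.last n) = S ∧
      Monotone T ∧ (∀ i, F.StronglyClosed (T i)) ∧
      ∀ i : Fin n, ⁅T i.succ, T i.succ⁆ ≤ T (Fin.castSucc i) := by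
  constructor
  · rintro ⟨n, C, h0, hn, hm, hsc, hc⟩
    refine ⟨n, fun i => C i, h0, hn, fun i j h => hm h, fun i => hsc i, fun i => ?_⟩
    refine Subgroup.commutator_le.2 fun x hx y hy => ?_
    exact hc i i.2 x hx y hy
  · rintro ⟨n, T, h0, hn, hm, hsc, hc⟩
    refine ⟨n, fun i => T ⟨min i n, Nat.lt_succ_of_le (min_le_right i n)⟩, ?_, ?_,
      fun i j h => hm (Fin.mk_le_mk.2 (min_le_min_right n h)), fun i => hsc _, fun i hi x hx y hy => ?_⟩
    · rw [← h0]; exact congrArg T (Fin.ext (Nat.zero_min n))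
    · rw [← hn]; exact congrArg T (Fin.ext (by simp))
    · have e1 : T ⟨min i n, Nat.lt_succ_of_le (min_le_right i n)⟩ = T (⟨i, hi⟩ : Fin n).castSucc :=
        congrArg T (Fin.ext (show min i n = i by omega))
      have e2 : T ⟨min (i + 1) n, Nat.lt_succ_of_le (min_le_right (i + 1) n)⟩ =
          T (⟨i, hi⟩ : Fin n).succ :=
        congrArg T (Fin.ext (show min (i + 1) n = i + 1 by omega))
      show _ ∈ T ⟨min i n, _⟩
      rw [e1]
      exact hc ⟨i, hi⟩ (Subgroup.commutator_mem_commutator (e2.le hx) (e2.le hy))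

omit [Finite S] [Fact p.Prime] in
theorem hasChain_top (hS : F.StronglyClosed S) : HasChain F S :=
  ⟨0, fun _ => S, rfl, rfl, monotone_const, fun _ => hS, fun _ hi => absurd hi (Nat.not_lt_zero _)⟩

omit [Finite S] [Fact p.Prime] in
theorem hasChain_cons (hR : F.StronglyClosed R) (hRU : R ≤ U)
    (hab : ∀ x ∈ U, ∀ y ∈ U, x * y * x⁻¹ * y⁻¹ ∈ R) (h : HasChain F U) : HasChain F R := by
  obtain ⟨n, C, h0, hn, hm, hsc, hc⟩ := h
  let D : ℕ → Subgroup Ω := fun i => match i with | 0 => R | i + 1 => C i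
  refine ⟨n + 1, D, rfl, hn, monotone_nat_of_le_succ fun i => ?_, fun i => ?_, fun i hi => ?_⟩
  · cases i with
    | zero => exact hRU.trans (le_of_eq h0.symm)
    | succ i => exact hm (Nat.le_succ i)
  · cases i with
    | zero => exact hR
    | succ i => exact hsc i
  · cases i with
    | zero => exact fun x hx y hy => hab x (h0.le hx) y (h0.le hy)
    | succ i => exact hc i (by omega)

theorem stronglyClosed_self (F : FusionSystem S) : F.StronglyClosed S :=
  ⟨le_rfl, fun _ _ _ hφ => (F.le_of_mem hφ).2⟩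

/-- The predicate `P` says that above every proper closed subgroup there is a bigger one with
abelian factor; then there is a chain. -/
theorem hasChain_of_step (hR : F.StronglyClosed R)
    (step : ∀ R', F.StronglyClosed R' → R ≤ R' → R' ≠ S →
      ∃ U, F.StronglyClosed U ∧ R' < U ∧ ∀ x ∈ U, ∀ y ∈ U, x * y * x⁻¹ * y⁻¹ ∈ R') :
    HasChain F R := by
  suffices ∀ R', F.StronglyClosed R' → R ≤ R' → HasChain F R' from this R hR le_rfl
  intro R' hR' hle
  induction hk : Nat.card S - Nat.card R' using Nat.strong_induction_on generalizing R' with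
  | _ k ih =>
  by_cases hRS : R' = S
  · exact hRS ▸ hasChain_top (stronglyClosed_self F)
  obtain ⟨U, hU, hlt, hab⟩ := step R' hR' hle hRS
  have hfinU : Finite U := finite_of_le hU.1
  refine hasChain_cons hR' hlt.le hab (ih _ ?_ U hU (hle.trans hlt.le) rfl)
  have := card_lt_card hlt
  have := card_le_card hU.1
  omega

/-- A step above `R` from a nontrivial normal subgroup of the quotient by `R`. -/
theorem exists_step_of_quot (hS : IsPGroup p S) (hF : F.IsSaturated p) (hq : IsQuot F R θ E)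
    {K : Subgroup Ω'} (hK : E.IsNormal K) (hK1 : K ≠ ⊥) :
    ∃ U, F.StronglyClosed U ∧ R < U ∧ ∀ x ∈ U, ∀ y ∈ U, x * y * x⁻¹ * y⁻¹ ∈ R := by
  have hfin : Finite S' := hq.finite
  have hfinK : Finite K := finite_of_le hK.1
  have : Nontrivial K := K.nontrivial_iff_ne_bot.2 hK1
  have hZ : Nontrivial (Subgroup.center K) := ((hq.isPGroup hS).to_le hK.1).center_nontrivial
  set Z := (Subgroup.center K).map K.subtype with hZdef
  have hZchar : (Z.subgroupOf K).Characteristic := by
    rw [Subgroup.subgroupOf, Subgroup.comap_map_eq_self_of_injective K.subtype_injective]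
    infer_instance
  have hZn : E.IsNormal Z := isNormal_of_char hK (Subgroup.map_subtype_le _) hZchar
  refine ⟨preimageAlong θ Z, preimage_stronglyClosed hS hF hq (normal_stronglyClosed hZn),
    lt_of_le_not_ge (hq.le_preimage Z) fun hle => ?_, fun x hx y hy => ?_⟩
  · obtain ⟨z, hz⟩ := exists_ne (1 : Subgroup.center K)
    obtain ⟨x, hx, hxz⟩ := exists_along_eq hq.range_eq (hK.1 (z : K).2)
    have hxR : x ∈ R := hle (mem_preimageAlong.2 ⟨hx, hxz ▸ ⟨(z : K), z.2, rfl⟩⟩)
    rw [along_of_mem θ hx, (hq.ker_iff ⟨x, hx⟩).2 hxR] at hxz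
    exact hz (Subtype.ext (Subtype.ext hxz.symm))
  · obtain ⟨hxS, a, ha, hae⟩ := mem_preimageAlong.1 hx
    obtain ⟨hyS, b, hb, hbe⟩ := mem_preimageAlong.1 hy
    have hmem : x * y * x⁻¹ * y⁻¹ ∈ S :=
      S.mul_mem (S.mul_mem (S.mul_mem hxS hyS) (S.inv_mem hxS)) (S.inv_mem hyS)
    refine (hq.ker_iff ⟨_, hmem⟩).1 ?_
    rw [← along_of_mem θ hmem, along_comm θ hxS hyS, ← hae, ← hbe]
    have h1 : a * b * a⁻¹ * b⁻¹ = 1 := by
      rw [mul_inv_eq_one, mul_inv_eq_iff_eq_mul]
      exact (Subgroup.mem_center_iff.1 ha b).symm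
    simpa using congrArg Subtype.val h1

/-- The chain characterization of solvability. -/
theorem solvable_iff (hS : IsPGroup p S) (hF : F.IsSaturated p) :
    F.IsSolvableSystem ↔ HasChain F ⊥ := by
  constructor
  · intro h
    refine hasChain_of_step (normal_stronglyClosed isNormal_bot) fun R hR _ hne => ?_
    have hn : (R.subgroupOf S).Normal :=
      (Subgroup.normal_subgroupOf_iff_le_normalizer hR.1).2 (le_normalizer_of_stronglyClosed hR)
    have hk : ∀ s : S, QuotientGroup.mk' (R.subgroupOf S) s = 1 ↔ (s : Ω) ∈ R := fun s => by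
      rw [QuotientGroup.mk'_apply, QuotientGroup.eq_one_iff, Subgroup.mem_subgroupOf]
    obtain ⟨E, hE⟩ := exists_factorSystem (F := F) hR hk
      (MonoidHom.range_eq_top.2 (QuotientGroup.mk'_surjective _))
    have hq := isQuot_of_factorSystem hR hE
    have := hq.finite
    exact exists_step_of_quot hS hF hq core_isNormal (h R hR hne E hE)
  · rintro ⟨n, C, h0, hn, hm, hsc, hc⟩ R hR hne _ E hE
    have hq := isQuot_of_factorSystem hR hE
    have hfin := hq.finite
    have hex : ∃ i, ¬ C i ≤ R := ⟨n, fun h => hne (le_antisymm hR.1 (hn ▸ h))⟩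
    classical
    obtain ⟨j, hj⟩ : ∃ j, Nat.find hex = j + 1 := by
      refine Nat.exists_eq_succ_of_ne_zero fun h => ?_
      have := Nat.find_spec hex
      rw [h, h0] at this
      exact this bot_le
    have hjn : j < n := by
      have := Nat.find_min' hex (m := n) fun h => hne (le_antisymm hR.1 (hn ▸ h))
      omega
    have hjR : C j ≤ R := not_not.1 (Nat.find_min hex (m := j) (by omega))
    have hCR : ¬ C (j + 1) ≤ R := hj ▸ Nat.find_spec hex
    have hU := stronglyClosed_sup hS hF (hsc (j + 1)) hR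
    have hRn := le_normalizer_of_stronglyClosed hR
    have himg : ∀ y ∈ imageAlong (QuotientGroup.mk' (R.subgroupOf S)) (C (j + 1) ⊔ R),
        ∃ a ∈ C (j + 1), a ∈ S ∧ along (QuotientGroup.mk' (R.subgroupOf S)) a = y := by
      intro y hy
      obtain ⟨x, hx, hxS, rfl⟩ := mem_imageAlong.1 hy
      obtain ⟨a, ha, t, ht, rfl⟩ := coe_sup_of_normal hRn (hsc (j + 1)).1 hx
      refine ⟨a, ha, (hsc _).1 ha, (along_eq_iff hq.ker_iff ((hsc _).1 ha) hxS).2 ?_⟩
      simpa using ht
    have hN : E.IsNormal (imageAlong (QuotientGroup.mk' (R.subgroupOf S)) (C (j + 1) ⊔ R)) := by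
      refine normal_of_abelian (hq.isPGroup hS) (hq.saturated hS hF)
        (image_stronglyClosed hq le_sup_right hU) fun a ha b hb => ?_
      obtain ⟨x, hx, hxS, rfl⟩ := himg a ha
      obtain ⟨y, hy, hyS, rfl⟩ := himg b hb
      rw [← along_comm _ hxS hyS, along_of_mem _
        (S.mul_mem (S.mul_mem (S.mul_mem hxS hyS) (S.inv_mem hxS)) (S.inv_mem hyS)), hq.ker_iff]
      exact hjR (hc j hjn x hx y hy)
    intro hcore
    refine hCR fun x hx => ?_
    have h1 : along (QuotientGroup.mk' (R.subgroupOf S)) x ∈ E.core :=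
      le_core hN (mem_imageAlong.2 ⟨x, Subgroup.mem_sup_left hx, (hsc _).1 hx, rfl⟩)
    rw [hcore, Subgroup.mem_bot, along_of_mem _ ((hsc _).1 hx)] at h1
    exact (hq.ker_iff _).1 h1

/-- A system with such a chain has centric core. -/
theorem core_centric (hS : IsPGroup p S) (hF : F.IsSaturated p) (h : HasChain F ⊥) :
    F.IsCentric F.core := by
  obtain ⟨n, C, h0, hn, hm, hsc, hc⟩ := h
  have hQ : F.IsNormal F.core := core_isNormal
  have hQn := le_normalizer_of_stronglyClosed (normal_stronglyClosed hQ)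
  set Q := F.core with hQdef
  suffices hle : centralizerIn S Q ≤ Q by
    refine ⟨hQ.1, fun R hR => ?_⟩
    obtain ⟨f, hf, rfl⟩ := isConj_iff_map.1 hR
    rw [normal_img_eq hQ hf le_rfl]
    exact hle
  set W := Q ⊔ centralizerIn S Q with hWdef
  have hW : F.StronglyClosed W := stronglyClosed_sup_centralizerIn hS hF (normal_stronglyClosed hQ)
  by_contra hne
  have hex : ∃ i, ¬ C i ⊓ W ≤ Q :=
    ⟨n, fun h => hne fun x hx => h ⟨hn.symm ▸ hx.1, Subgroup.mem_sup_right hx⟩⟩
  classical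
  obtain ⟨j, hj⟩ : ∃ j, Nat.find hex = j + 1 := by
    refine Nat.exists_eq_succ_of_ne_zero fun h => ?_
    have := Nat.find_spec hex
    rw [h, h0] at this
    exact this (inf_le_left.trans bot_le)
  have hjn : j < n := by
    have := Nat.find_min' hex (m := n)
      fun h => hne fun x hx => h ⟨hn.symm ▸ hx.1, Subgroup.mem_sup_right hx⟩
    omega
  have hjQ : C j ⊓ W ≤ Q := not_not.1 (Nat.find_min hex (m := j) (by omega))
  have hCQ : ¬ C (j + 1) ⊓ W ≤ Q := hj ▸ Nat.find_spec hex
  have hU : F.StronglyClosed (C (j + 1) ⊓ W) :=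
    ⟨inf_le_left.trans (hsc _).1, fun A hA φ hφ x =>
      ⟨(hsc _).2 A (hA.trans inf_le_left) φ hφ x, hW.2 A (hA.trans inf_le_right) φ hφ x⟩⟩
  set V := (C (j + 1) ⊓ W) ⊔ Q with hVdef
  have hV : F.StronglyClosed V := stronglyClosed_sup hS hF hU (normal_stronglyClosed hQ)
  have hab : ∀ x ∈ V, ∀ y ∈ V, x * y * x⁻¹ * y⁻¹ ∈ Q := by
    have : Finite S := inferInstance
    intro x hx y hy
    obtain ⟨a, ha, q, hq', rfl⟩ := coe_sup_of_normal hQn hU.1 hx
    obtain ⟨b, hb, r, hr, rfl⟩ := coe_sup_of_normal hQn hU.1 hy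
    have hqn : ∀ g ∈ S, ∀ z ∈ Q, g * z * g⁻¹ ∈ Q :=
      fun g hg z hz => (Subgroup.mem_normalizer_iff.1 (hQn hg) z).1 hz
    have haS := hU.1 ha
    have hbS := hU.1 hb
    have hab' : a * b * a⁻¹ * b⁻¹ ∈ Q := hjQ ⟨hc j hjn a ha.1 b hb.1,
      W.mul_mem (W.mul_mem (W.mul_mem ha.2 hb.2) (W.inv_mem ha.2)) (W.inv_mem hb.2)⟩
    rw [show a * q * (b * r) * (a * q)⁻¹ * (b * r)⁻¹ = (a * q * a⁻¹) * ((a * b) * r * (a * b)⁻¹) *
      ((a * b) * q⁻¹ * (a * b)⁻¹) * (a * b * a⁻¹ * b⁻¹) * (b * r⁻¹ * b⁻¹) by group]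
    exact Q.mul_mem (Q.mul_mem (Q.mul_mem (Q.mul_mem (hqn a haS q hq')
      (hqn _ (S.mul_mem haS hbS) r hr)) (hqn _ (S.mul_mem haS hbS) _ (Q.inv_mem hq'))) hab')
      (hqn b hbS _ (Q.inv_mem hr))
  obtain ⟨m, D, d0, dm, dmono, dN, dle, dcomm⟩ := normal_series hS hQ
  have hVN : F.IsNormal V := by
    refine normal_of_series hS hF (m + 1) (fun i => if i ≤ m then D i else V) (by simp [d0])
      (by simp) ?_ ?_ ?_
    · intro i hi
      show (if i ≤ m then D i else V) ≤ if i + 1 ≤ m then D (i + 1) else V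
      rw [if_pos (by omega)]
      split_ifs
      exacts [dmono (Nat.le_succ i), (dle i).trans le_sup_right]
    · intro i _
      show F.StronglyClosed (if i ≤ m then D i else V)
      split_ifs
      exacts [normal_stronglyClosed (dN i), hV]
    · intro i hi x hx y hy
      show x * y * x⁻¹ * y⁻¹ ∈ if i ≤ m then D i else V
      change y ∈ if i + 1 ≤ m then D (i + 1) else V at hy
      rw [if_pos (by omega)]
      split_ifs at hy with h
      · have hxW : x ∈ W := by
          refine (sup_le inf_le_right le_sup_left : V ≤ W) hx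
        have hCn : ∀ q ∈ Q, ∀ c ∈ centralizerIn S Q, q * c = c * q := fun q hq c hc => hc.2 q hq
        rw [← SetLike.mem_coe, hWdef, sup_comm, Subgroup.coe_mul_of_left_le_normalizer_right _ _
          (centralizerIn_le.trans hQn)] at hxW
        obtain ⟨c, hc', q, hq', rfl⟩ := hxW
        have hy' := dle _ hy
        have h2 : q * y * q⁻¹ ∈ Q := Q.mul_mem (Q.mul_mem hq' hy') (Q.inv_mem hq')
        rw [show c * q * y * (c * q)⁻¹ * y⁻¹ = c * (q * y * q⁻¹) * c⁻¹ * y⁻¹ by group,
          ← hCn _ h2 c hc', mul_inv_cancel_right]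
        exact dcomm i q hq' y hy
      · obtain rfl : i = m := by omega
        rw [dm]
        exact hab x hx y hy
  exact hCQ (le_sup_left.trans (le_core hVN))

end Cfsg.Agent.Fusion.Solvable
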