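/-
Saturated systems over abelian groups.
-/
import Mathlib
import Cfsg.Agent.Lib.Fusion.Solvable

set_option autoImplicit false

namespace Cfsg.Agent.Fusion.Abelian

open Cfsg Cfsg.FusionSystem Cfsg.Agent.Fusion.Basic Cfsg.Agent.Fusion.Saturation
  Cfsg.Agent.Fusion.Normal Cfsg.Agent.Fusion.Solvable

variable {Ω : Type*} [Group Ω] {S : Subgroup Ω} [Finite S] {F : FusionSystem S} {p : ℕ}
  [Fact p.Prime]

theorem normal_of_stronglyClosed (hS : IsPGroup p S) (hF : F.IsSaturated p)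
    (hab : ∀ x ∈ S, ∀ y ∈ S, x * y = y * x) {U : Subgroup Ω} (hU : F.StronglyClosed U) :
    F.IsNormal U :=
  normal_of_abelian hS hF hU fun x hx y hy => by
    rw [hab x (hU.1 hx) y (hU.1 hy)]
    group

/-- Every map extends to an element of `Aut_F(S)`. -/
theorem exists_aut (hS : IsPGroup p S) (hF : F.IsSaturated p)
    (hab : ∀ x ∈ S, ∀ y ∈ S, x * y = y * x) {P : Subgroup Ω} {f : Ω → Ω} (hf : IsMap F P f) :
    ∃ α ∈ F.autGroup S, ∀ x ∈ P, autFun α x = f x := by
  obtain ⟨g, hg, he, hgS⟩ :=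
    (isNormal_iff.1 (normal_of_stronglyClosed hS hF hab (stronglyClosed_self F))).2 P f hf
  obtain ⟨α, hα, hαe⟩ := (hg.restrict le_sup_right).exists_aut hgS
  exact ⟨α, hα, fun x hx => (hαe x (hf.le hx)).trans (he x hx)⟩

theorem autInducedBy_eq_bot (hab : ∀ x ∈ S, ∀ y ∈ S, x * y = y * x) :
    autInducedBy S S = ⊥ := by
  refine (Subgroup.eq_bot_iff_forall _).2 fun α hα => ?_
  obtain ⟨g, hg, he⟩ := mem_autInducedBy_iff'.1 hα
  refine autFun_ext fun x hx => ?_
  rw [he x hx, autFun_one, cj_apply, hab g hg.1 x hx, mul_inv_cancel_right]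
  rfl

/-- `Aut_F(S)` has order prime to `p`. -/
theorem not_dvd_card_autGroup (hS : IsPGroup p S) (hF : F.IsSaturated p)
    (hab : ∀ x ∈ S, ∀ y ∈ S, x * y = y * x) : ¬ p ∣ Nat.card (F.autGroup S) := by
  have hn : F.IsFullyNormalized S := ⟨le_rfl, fun R hR => by
    rw [Alperin.eq_top_of_card le_rfl hR rfl]⟩
  have h := ((fullyAutomized_iff hS).1 (fullyNormalized_fullyAutomized hS hF hn)).2
  rwa [autInducedBy_eq_bot hab, Subgroup.relIndex_bot_left] at h

/-- An automorphism of `S` of `p`-power order in `Aut_F(S)` is trivial. -/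
theorem eq_one_of_pow (hS : IsPGroup p S) (hF : F.IsSaturated p)
    (hab : ∀ x ∈ S, ∀ y ∈ S, x * y = y * x) {α : MulAut S} (hα : α ∈ F.autGroup S) {k : ℕ}
    (hk : α ^ p ^ k = 1) : α = 1 := by
  have h1 : orderOf (⟨α, hα⟩ : F.autGroup S) ∣ p ^ k :=
    orderOf_dvd_of_pow_eq_one (Subtype.ext hk)
  have h2 := orderOf_dvd_natCard (⟨α, hα⟩ : F.autGroup S)
  have hco : (p ^ k).Coprime (Nat.card (F.autGroup S)) :=
    Nat.Coprime.pow_left k
      ((Fact.out : p.Prime).coprime_iff_not_dvd.2 (not_dvd_card_autGroup hS hF hab))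
  have := Nat.eq_one_of_dvd_coprimes hco h1 h2
  exact congrArg Subtype.val (orderOf_eq_one_iff.1 this)

theorem fix_center {α : MulAut S} (hα : α ∈ F.autGroup S) {z : Ω} (hz : z ∈ F.center) :
    autFun α z = z := by
  have hc : F.IsCentral F.center := center_isCentral
  obtain ⟨g, -, he, hfix⟩ := (isCentral_iff.1 hc).2 S _ (isMap_of_mem_autGroup le_rfl hα)
  rw [← he z (hc.1 hz)]
  exact hfix z hz

theorem center_focal (hS : IsPGroup p S) (hF : F.IsSaturated p)
    (hab : ∀ x ∈ S, ∀ y ∈ S, x * y = y * x) :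
    F.center ⊓ F.focalSubgroup = ⊥ ∧ F.center ⊔ F.focalSubgroup = S := by
  let hcomm : CommGroup S :=
    { (inferInstance : Group S) with mul_comm := fun a b => Subtype.ext (hab _ a.2 _ b.2) }
  let A := F.autGroup S
  have : Fintype A := Fintype.ofFinite _
  let N : S → S := fun x => ∏ a : A, (a : MulAut S) x
  have hN_mul : ∀ x y, N (x * y) = N x * N y := fun x y => by
    simp only [N, ← Finset.prod_mul_distrib, map_mul]
  have hN_aut : ∀ (a : A) (x : S), N ((a : MulAut S) x) = N x := fun a x =>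
    Fintype.prod_equiv (Equiv.mulRight a) _ _ fun b => rfl
  have hN_fix : ∀ (a : A) (x : S), (a : MulAut S) (N x) = N x := fun a x => by
    show (a : MulAut S) (∏ b : A, (b : MulAut S) x) = _
    rw [map_prod]
    exact Fintype.prod_equiv (Equiv.mulLeft a) _ _ fun b => rfl
  have hcop : p.Coprime (Fintype.card A) := by
    rw [← Nat.card_eq_fintype_card]
    exact (Fact.out : p.Prime).coprime_iff_not_dvd.2 (not_dvd_card_autGroup hS hF hab)
  -- the fixed points are the centre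
  let Z₀ : Subgroup S :=
    { carrier := {x | ∀ a : A, (a : MulAut S) x = x}
      one_mem' := fun a => map_one _
      mul_mem' := fun hx hy a => by rw [map_mul, hx a, hy a]
      inv_mem' := fun hx a => by rw [map_inv, hx a] }
  have hZ₀ : F.IsCentral (Z₀.map S.subtype) := by
    refine isCentral_iff.2 ⟨Subgroup.map_subtype_le _, fun P f hf => ?_⟩
    obtain ⟨α, hα, he⟩ := exists_aut hS hF hab hf
    refine ⟨autFun α, (isMap_of_mem_autGroup le_rfl hα).restrict
      (sup_le hf.le (Subgroup.map_subtype_le _)), he, ?_⟩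
    rintro _ ⟨z, hz, rfl⟩
    rw [Subgroup.subtype_apply, autFun_apply]
    exact congrArg Subtype.val (hz ⟨α, hα⟩)
  have hfocal : ∀ y ∈ F.focalSubgroup, ∃ hy : y ∈ S, N ⟨y, hy⟩ = 1 := by
    intro y hy
    induction hy using Subgroup.closure_induction with
    | mem y hy =>
      obtain ⟨P, φ, x, hφ, rfl⟩ := hy
      obtain ⟨α, hα, he⟩ := exists_aut hS hF hab (IsMap.of_hom hφ)
      have hxS : (x : Ω) ∈ S := (F.le_of_mem hφ).1 x.2
      have h1 : φ x = (α ⟨x, hxS⟩ : S) := by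
        rw [← ext_apply φ x, ← he x x.2, autFun_of_mem α hxS]
      refine ⟨S.mul_mem (S.inv_mem hxS) ((F.le_of_mem hφ).2 x), ?_⟩
      have h2 : (⟨(x : Ω)⁻¹ * φ x, S.mul_mem (S.inv_mem hxS) ((F.le_of_mem hφ).2 x)⟩ : S) =
          (⟨x, hxS⟩ : S)⁻¹ * α ⟨x, hxS⟩ := Subtype.ext (show (x : Ω)⁻¹ * φ x = (x : Ω)⁻¹ * ((α ⟨x, hxS⟩ : S) : Ω) by rw [h1])
      have h3 : N (1 : S) = 1 := by simp [N]
      have hinv : N (⟨x, hxS⟩ : S)⁻¹ * N ⟨x, hxS⟩ = 1 := by
        rw [← hN_mul, inv_mul_cancel, h3]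
      rw [h2, hN_mul, show N (α ⟨x, hxS⟩) = N ⟨x, hxS⟩ from hN_aut ⟨α, hα⟩ _]
      exact hinv
    | one => exact ⟨S.one_mem, by simp [N, show (⟨1, S.one_mem⟩ : S) = 1 from rfl]⟩
    | mul a b _ _ ha hb =>
      obtain ⟨ha, ha'⟩ := ha
      obtain ⟨hb, hb'⟩ := hb
      exact ⟨S.mul_mem ha hb, (hN_mul ⟨a, ha⟩ ⟨b, hb⟩).trans (by rw [ha', hb', one_mul])⟩
    | inv a _ ha =>
      obtain ⟨ha, ha'⟩ := ha
      refine ⟨S.inv_mem ha, ?_⟩
      have h3 := hN_mul (⟨a, ha⟩⁻¹ : S) ⟨a, ha⟩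
      rw [inv_mul_cancel, ha', mul_one] at h3
      exact h3.symm.trans (by simp [N])
  have hfocS : F.focalSubgroup ≤ S := fun y hy => (hfocal y hy).1
  refine ⟨(Subgroup.eq_bot_iff_forall _).2 fun z hz => ?_, ?_⟩
  · obtain ⟨hzS, hz1⟩ := hfocal z hz.2
    have hfix : ∀ a : A, (a : MulAut S) ⟨z, hzS⟩ = ⟨z, hzS⟩ := fun a => Subtype.ext (by
      rw [← autFun_of_mem _ hzS]
      exact fix_center a.2 hz.1)
    have hpow : (⟨z, hzS⟩ : S) ^ Fintype.card A = 1 := by
      rw [← hz1]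
      show _ = ∏ a : A, (a : MulAut S) ⟨z, hzS⟩
      rw [Finset.prod_congr rfl fun a _ => hfix a, Finset.prod_const, Finset.card_univ]
    have : (⟨z, hzS⟩ : S) = 1 :=
      (hS.powEquiv hcop).injective (by rw [IsPGroup.powEquiv_apply, IsPGroup.powEquiv_apply, hpow,
        one_pow])
    exact congrArg Subtype.val this
  · refine le_antisymm (sup_le center_isCentral.1 hfocS) fun x hx => ?_
    obtain ⟨y, hy⟩ := (hS.powEquiv hcop).surjective ⟨x, hx⟩
    rw [IsPGroup.powEquiv_apply] at hy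
    let B : Subgroup S := (F.center ⊔ F.focalSubgroup).subgroupOf S
    suffices y ^ Fintype.card A ∈ B by
      rw [hy] at this
      exact this
    have hsplit : y ^ Fintype.card A = N y * ∏ a : A, (y⁻¹ * (a : MulAut S) y)⁻¹ := by
      show _ = (∏ a : A, (a : MulAut S) y) * _
      rw [← Finset.prod_mul_distrib, ← Finset.card_univ, ← Finset.prod_const]
      exact Finset.prod_congr rfl fun a _ => by simp [mul_comm]
    rw [hsplit]
    refine B.mul_mem ?_ (Subgroup.prod_mem _ fun a _ => B.inv_mem ?_)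
    · exact Subgroup.mem_sup_left (le_center hZ₀ ⟨N y, fun a => hN_fix a y, rfl⟩)
    · refine Subgroup.mem_sup_right (Subgroup.subset_closure ⟨S,
        (isMap_of_mem_autGroup le_rfl a.2).hom, y, IsMap.hom_mem_self _, ?_⟩)
      rw [IsMap.hom_apply, autFun_apply]
      rfl

/-- If every map moves elements only inside the centre then every map is an inclusion. -/
theorem eq_id_of_mod_center (hS : IsPGroup p S) (hF : F.IsSaturated p)
    (hab : ∀ x ∈ S, ∀ y ∈ S, x * y = y * x)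
    (h : ∀ α ∈ F.autGroup S, ∀ x ∈ S, x⁻¹ * autFun α x ∈ F.center)
    {P : Subgroup Ω} {f : Ω → Ω} (hf : IsMap F P f) {x : Ω} (hx : x ∈ P) : f x = x := by
  obtain ⟨α, hα, he⟩ := exists_aut hS hF hab hf
  rw [← he x hx]
  let C : ℕ → Subgroup S := fun i => if i = 0 then ⊥ else if i = 1 then F.center.subgroupOf S else ⊤
  obtain ⟨k, hk⟩ := exists_pow_eq_one_of_stabilizes (p := p) hS C 2 (if_pos rfl) (by simp [C])
    (fun i hi => by
      rcases i with _ | i
      · exact bot_le.trans' (le_of_eq (if_pos rfl))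
      · simp [C])
    α (fun i hi y hy => by
      rcases i with _ | _ | i
      · simp only [C, if_pos, one_ne_zero, zero_add, if_false] at hy ⊢
        rw [Subgroup.mem_bot, inv_mul_eq_one]
        refine Subtype.ext ?_
        rw [← autFun_apply]
        exact (fix_center hα hy).symm
      · simp only [C, one_ne_zero, if_false, zero_add, if_true]
        rw [Subgroup.mem_subgroupOf, Subgroup.coe_mul, Subgroup.coe_inv, ← autFun_apply]
        exact h α hα y y.2
      · omega)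
  rw [eq_one_of_pow hS hF hab hα hk, autFun_one]
  rfl

end Cfsg.Agent.Fusion.Abelian
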