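/-
The fusion system of a finite group (or of one of its subgroups) on a Sylow subgroup.
-/
import Mathlib
import Cfsg.Agent.Lib.Fusion.SylIn

set_option autoImplicit false

namespace Cfsg.Agent.Fusion.Group

open Cfsg Cfsg.FusionSystem Cfsg.Agent.Fusion.Basic Cfsg.Agent.Fusion.Saturation
  Cfsg.Agent.Fusion.SylIn

variable {G : Type*} [Group G] {H T P Q : Subgroup G} {f : G → G} {hTH : T ≤ H}

theorem isMap_sub_iff :
    IsMap (fusionSystemOfSubgroup H T hTH) P f ↔
      P ≤ T ∧ (∀ x ∈ P, f x ∈ T) ∧ ∃ g ∈ H, ∀ x ∈ P, f x = cj g x := by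
  constructor
  · intro h
    obtain ⟨φ, ⟨hP, hT, g, hg, he⟩, hf⟩ := h
    refine ⟨hP, fun x hx => ?_, g, hg, fun x hx => ?_⟩
    · rw [← hf ⟨x, hx⟩]; exact hT _
    · rw [← hf ⟨x, hx⟩]; exact he _
  · rintro ⟨hP, hT, g, hg, he⟩
    exact ⟨conjHom P g, ⟨hP, fun x => by
        show g * (x : G) * g⁻¹ ∈ T
        rw [← cj_apply, ← he x x.2]; exact hT x x.2, g, hg, fun _ => rfl⟩,
      fun x => (he x x.2).symm⟩

theorem isMap_group_iff {S : Subgroup G} :
    IsMap (groupFusionSystem S) P f ↔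
      P ≤ S ∧ (∀ x ∈ P, f x ∈ S) ∧ ∃ g : G, ∀ x ∈ P, f x = cj g x := by
  constructor
  · intro h
    obtain ⟨φ, ⟨hP, hS, g, he⟩, hf⟩ := h
    refine ⟨hP, fun x hx => ?_, g, fun x hx => ?_⟩
    · rw [← hf ⟨x, hx⟩]; exact hS _
    · rw [← hf ⟨x, hx⟩]; exact he _
  · rintro ⟨hP, hS, g, he⟩
    exact ⟨conjHom P g, ⟨hP, fun x => by
        show g * (x : G) * g⁻¹ ∈ S
        rw [← cj_apply, ← he x x.2]; exact hS x x.2, g, fun _ => rfl⟩,
      fun x => (he x x.2).symm⟩

theorem group_eq_sub_top (S : Subgroup G) :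
    groupFusionSystem S = fusionSystemOfSubgroup ⊤ S le_top := by
  refine fs_ext_le (le_of_isMap fun P f h => ?_) (le_of_isMap fun P f h => ?_)
  · obtain ⟨h1, h2, g, h3⟩ := isMap_group_iff.1 h
    exact isMap_sub_iff.2 ⟨h1, h2, g, Subgroup.mem_top g, h3⟩
  · obtain ⟨h1, h2, g, -, h3⟩ := isMap_sub_iff.1 h
    exact isMap_group_iff.2 ⟨h1, h2, g, h3⟩

theorem isConj_sub_iff :
    (fusionSystemOfSubgroup H T hTH).IsConj P Q ↔
      P ≤ T ∧ Q ≤ T ∧ ∃ g ∈ H, img (cj g) P = Q := by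
  rw [isConj_iff_map]
  constructor
  · rintro ⟨f, hf, rfl⟩
    obtain ⟨hP, -, g, hg, he⟩ := isMap_sub_iff.1 hf
    exact ⟨hP, hf.img_le_S, g, hg, (img_congr he).symm⟩
  · rintro ⟨hP, hQ, g, hg, rfl⟩
    exact ⟨cj g, isMap_sub_iff.2 ⟨hP, fun x hx => hQ (mem_img_self _ hx), g, hg, fun _ _ => rfl⟩,
      rfl⟩

theorem isConj_group_iff {S : Subgroup G} :
    (groupFusionSystem S).IsConj P Q ↔ P ≤ S ∧ Q ≤ S ∧ ∃ g : G, img (cj g) P = Q := by
  rw [group_eq_sub_top, isConj_sub_iff]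
  simp

theorem img_cj_le_iff (g : G) {M K : Subgroup G} :
    img (cj g) M ≤ K ↔ ∀ x ∈ M, g * x * g⁻¹ ∈ K :=
  ⟨fun h _ hx => h (mem_img_self _ hx), fun h => img_le h⟩

theorem img_cj_img_cj (a b : G) (M : Subgroup G) :
    img (cj a) (img (cj b) M) = img (cj (a * b)) M := by
  refine le_antisymm (img_le fun y hy => ?_) (img_le fun x hx => ?_)
  · rw [img_cj] at hy
    obtain ⟨x, hx, rfl⟩ := hy
    have := mem_img_self (cj (a * b)) hx
    rwa [cj_mul] at this
  · rw [cj_mul]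
    exact mem_img_self _ (mem_img_self _ hx)

theorem img_cj_inv_img_cj (g : G) (M : Subgroup G) : img (cj g⁻¹) (img (cj g) M) = M := by
  rw [img_cj_img_cj, inv_mul_cancel, cj_one, img_id]

theorem cj_mem_normalizer_img {g x : G} (hx : x ∈ Subgroup.normalizer (P : Set G)) :
    cj g x ∈ Subgroup.normalizer (img (cj g) P : Set G) := by
  rw [Subgroup.mem_normalizer_iff] at hx ⊢
  intro y
  rw [img_cj]
  simp only [Subgroup.mem_map, MulEquiv.coe_toMonoidHom, MulAut.conj_apply]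
  constructor
  · rintro ⟨z, hz, rfl⟩
    exact ⟨x * z * x⁻¹, (hx z).1 hz, by simp [cj, mul_assoc]⟩
  · rintro ⟨z, hz, he⟩
    refine ⟨x⁻¹ * z * x, (hx _).2 (by simpa [mul_assoc] using hz), ?_⟩
    have h2 : y = (cj g x)⁻¹ * (g * z * g⁻¹) * cj g x := by rw [he]; group
    rw [h2]
    simp [cj, mul_assoc]

theorem cj_mem_centralizer_img {g x : G} (hx : x ∈ Subgroup.centralizer (P : Set G)) :
    cj g x ∈ Subgroup.centralizer (img (cj g) P : Set G) := by
  intro y hy
  rw [img_cj] at hy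
  obtain ⟨z, hz, rfl⟩ := hy
  show g * z * g⁻¹ * cj g x = cj g x * (g * z * g⁻¹)
  have := hx z hz
  simp only [cj, mul_assoc, inv_mul_cancel_left]
  rw [← mul_assoc z x g⁻¹, this, mul_assoc]

theorem img_cj_normalizerIn {g : G} (hg : g ∈ H) :
    img (cj g) (normalizerIn H P) ≤ normalizerIn H (img (cj g) P) :=
  img_le fun _ hx => ⟨H.mul_mem (H.mul_mem hg hx.1) (H.inv_mem hg), cj_mem_normalizer_img hx.2⟩

theorem img_cj_centralizerIn {g : G} (hg : g ∈ H) :
    img (cj g) (centralizerIn H P) ≤ centralizerIn H (img (cj g) P) :=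
  img_le fun _ hx => ⟨H.mul_mem (H.mul_mem hg hx.1) (H.inv_mem hg), cj_mem_centralizer_img hx.2⟩

theorem normalizerIn_le_normalizer_centralizerIn (H P : Subgroup G) [Finite G] :
    normalizerIn H P ≤ Subgroup.normalizer (centralizerIn H P : Set G) := by
  intro g hg
  refine mem_normalizer_of_forall fun x hx => ?_
  have h := img_cj_centralizerIn (P := P) hg.1 (mem_img_self _ hx)
  rwa [img_cj_eq_of_mem_normalizer hg.2] at h

theorem normalizerIn_le_normalizer (S P : Subgroup G) :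
    normalizerIn S P ≤ Subgroup.normalizer (P : Set G) := inf_le_right

theorem centralizerIn_le_centralizer (S P : Subgroup G) :
    centralizerIn S P ≤ Subgroup.centralizer (P : Set G) := inf_le_right

variable [Finite G] {p : ℕ} [Fact p.Prime]

/-- Every subgroup of `T` is `H`-conjugate to one whose `T`-normalizer is Sylow in the `H`-normalizer. -/
theorem exists_good (hT : SylIn p T H) (hP : P ≤ T) :
    ∃ h ∈ H, img (cj h) P ≤ T ∧
      SylIn p (normalizerIn T (img (cj h) P)) (normalizerIn H (img (cj h) P)) := by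
  have hPH : P ≤ normalizerIn H P := le_inf (hP.trans hT.1) Subgroup.le_normalizer
  obtain ⟨U, hPU, hU⟩ := exists_sylIn hPH (hT.2.1.to_le hP)
  obtain ⟨h, hh, hle⟩ := hT.exists_conj (hU.1.trans inf_le_left) hU.2.1
  refine ⟨h, hh, (img_mono _ hPU).trans hle, ?_⟩
  refine sylIn_of_card_max (inf_le_inf_right _ hT.1) (hT.2.1.to_le inf_le_left) fun M hM hp => ?_
  have hUle : img (cj h) U ≤ normalizerIn T (img (cj h) P) :=
    le_inf hle ((img_mono _ hU.1).trans ((img_cj_normalizerIn hh).trans inf_le_right))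
  refine le_trans ?_ (card_le_card hUle)
  rw [card_img_cj, ← card_img_cj h⁻¹ M]
  refine hU.card_le ?_ (isPGroup_img_cj hp)
  refine (img_mono _ hM).trans ((img_cj_normalizerIn (H.inv_mem hh)).trans (le_of_eq ?_))
  rw [img_cj_inv_img_cj]

theorem good_centralizer (hTH : T ≤ H)
    (h : SylIn p (normalizerIn T Q) (normalizerIn H Q)) :
    SylIn p (centralizerIn T Q) (centralizerIn H Q) := by
  have h1 := h.inf_normal (N := centralizerIn H Q)
    (inf_le_inf_left _ (Subgroup.centralizer_le_normalizer _))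
    (normalizerIn_le_normalizer_centralizerIn H Q)
  have h2 : normalizerIn T Q ⊓ centralizerIn H Q = centralizerIn T Q := by
    refine le_antisymm (fun x hx => ⟨hx.1.1, hx.2.2⟩) (fun x hx => ?_)
    exact ⟨⟨hx.1, Subgroup.centralizer_le_normalizer _ hx.2⟩, hTH hx.1, hx.2⟩
  rwa [h2] at h1

theorem fullyNormalized_iff (hT : SylIn p T H) (hQ : Q ≤ T) :
    (fusionSystemOfSubgroup H T hT.1).IsFullyNormalized Q ↔
      SylIn p (normalizerIn T Q) (normalizerIn H Q) := by
  constructor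
  · intro h
    obtain ⟨g, hg, hle, hs⟩ := exists_good hT hQ
    refine sylIn_of_card_max (inf_le_inf_right _ hT.1) (hT.2.1.to_le inf_le_left) fun M hM hp => ?_
    refine le_trans ?_ (h.2 _ (isConj_sub_iff.2 ⟨hQ, hle, g, hg, rfl⟩))
    rw [← card_img_cj g M]
    exact hs.card_le ((img_mono _ hM).trans (img_cj_normalizerIn hg)) (isPGroup_img_cj hp)
  · intro h
    refine ⟨hQ, fun R hR => ?_⟩
    obtain ⟨-, -, g, hg, rfl⟩ := isConj_sub_iff.1 hR
    rw [← card_img_cj g⁻¹ (normalizerIn T (img (cj g) Q))]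
    refine h.card_le ?_ (isPGroup_img_cj (hT.2.1.to_le inf_le_left))
    refine (img_mono _ (inf_le_inf_right _ hT.1)).trans
      ((img_cj_normalizerIn (H.inv_mem hg)).trans (le_of_eq ?_))
    rw [img_cj_inv_img_cj]

theorem fullyCentralized_iff (hT : SylIn p T H) (hQ : Q ≤ T) :
    (fusionSystemOfSubgroup H T hT.1).IsFullyCentralized Q ↔
      SylIn p (centralizerIn T Q) (centralizerIn H Q) := by
  constructor
  · intro h
    obtain ⟨g, hg, hle, hs⟩ := exists_good hT hQ
    refine sylIn_of_card_max (inf_le_inf_right _ hT.1) (hT.2.1.to_le inf_le_left) fun M hM hp => ?_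
    refine le_trans ?_ (h.2 _ (isConj_sub_iff.2 ⟨hQ, hle, g, hg, rfl⟩))
    rw [← card_img_cj g M]
    exact (good_centralizer hT.1 hs).card_le ((img_mono _ hM).trans (img_cj_centralizerIn hg))
      (isPGroup_img_cj hp)
  · intro h
    refine ⟨hQ, fun R hR => ?_⟩
    obtain ⟨-, -, g, hg, rfl⟩ := isConj_sub_iff.1 hR
    rw [← card_img_cj g⁻¹ (centralizerIn T (img (cj g) Q))]
    refine h.card_le ?_ (isPGroup_img_cj (hT.2.1.to_le inf_le_left))
    refine (img_mono _ (inf_le_inf_right _ hT.1)).trans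
      ((img_cj_centralizerIn (H.inv_mem hg)).trans (le_of_eq ?_))
    rw [img_cj_inv_img_cj]

theorem autGroup_sub (hTH : T ≤ H) (hQ : Q ≤ T) :
    (fusionSystemOfSubgroup H T hTH).autGroup Q = autInducedBy H Q := by
  ext α
  rw [mem_autGroup_iff hQ, isMap_sub_iff, mem_autInducedBy_iff']
  constructor
  · rintro ⟨-, -, g, hg, he⟩
    refine ⟨g, ⟨hg, mem_normalizer_of_forall fun x hx => ?_⟩, he⟩
    rw [← cj_apply, ← he x hx]
    exact autFun_mem α hx
  · rintro ⟨g, hg, he⟩
    exact ⟨hQ, fun x hx => hQ (autFun_mem α hx), g, hg.1, he⟩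

theorem autInduced_sylIn (hTH : T ≤ H)
    (h : SylIn p (normalizerIn T Q) (normalizerIn H Q)) :
    ¬ p ∣ (autInducedBy T Q).relIndex (autInducedBy H Q) := by
  intro hd
  apply h.2.2
  have hA : autInducedBy T Q ≤ autInducedBy H Q := fun α hα => by
    obtain ⟨g, hg, he⟩ := mem_autInducedBy_iff'.1 hα
    exact mem_autInducedBy_iff'.2 ⟨g, ⟨hTH hg.1, hg.2⟩, he⟩
  have hC : centralizerIn T Q ≤ centralizerIn H Q := inf_le_inf_right _ hTH
  have key : ∀ {X : Type _} [_root_.Group X] {A B : Subgroup X}, A ≤ B →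
      A.relIndex B * Nat.card A = Nat.card B := by
    intro X _ A B hAB
    rw [Subgroup.relIndex, ← Nat.card_congr (Subgroup.subgroupOfEquivOfLe hAB).toEquiv]
    exact Subgroup.index_mul_card _
  have e1 : Nat.card (autInducedBy T Q) * Nat.card (centralizerIn T Q)
      = Nat.card (normalizerIn T Q) := card_autInducedBy_mul T Q
  have e2 : Nat.card (autInducedBy H Q) * Nat.card (centralizerIn H Q)
      = Nat.card (normalizerIn H Q) := card_autInducedBy_mul H Q
  rw [← key hA, ← key hC, ← key h.1, ← e1] at e2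
  have : (normalizerIn T Q).relIndex (normalizerIn H Q) =
      (autInducedBy T Q).relIndex (autInducedBy H Q) *
        (centralizerIn T Q).relIndex (centralizerIn H Q) := by
    have hpos : 0 < Nat.card (autInducedBy T Q) * Nat.card (centralizerIn T Q) :=
      Nat.mul_pos Nat.card_pos Nat.card_pos
    refine Nat.eq_of_mul_eq_mul_right hpos ?_
    rw [← e2]
    ring
  rw [this]
  exact dvd_mul_of_dvd_left hd _

/-- The lifting step for receptivity. -/
theorem exists_centralizer_conj (hTH : T ≤ H)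
    (h : SylIn p (normalizerIn T Q) (normalizerIn H Q)) {M : Subgroup G} (hp : IsPGroup p M)
    (hM : M ≤ normalizerIn T Q ⊔ centralizerIn H Q) :
    ∃ c ∈ centralizerIn H Q, img (cj c) M ≤ T := by
  have hK : normalizerIn T Q ⊔ centralizerIn H Q ≤ normalizerIn H Q :=
    sup_le h.1 (inf_le_inf_left _ (Subgroup.centralizer_le_normalizer _))
  obtain ⟨k, hk, hle⟩ := (h.mono le_sup_left hK).exists_conj hM hp
  rw [← SetLike.mem_coe, Subgroup.coe_mul_of_left_le_normalizer_right _ _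
    (le_trans h.1 (normalizerIn_le_normalizer_centralizerIn H Q))] at hk
  obtain ⟨s, hs, c, hc, rfl⟩ := hk
  refine ⟨c, hc, img_le fun x hx => ?_⟩
  have h1 : cj (s * c) x ∈ normalizerIn T Q := hle (mem_img_self _ hx)
  rw [cj_mul] at h1
  have h2 : cj s⁻¹ (cj s (cj c x)) ∈ T :=
    T.mul_mem (T.mul_mem (T.inv_mem hs.1) h1.1) (T.inv_mem (T.inv_mem hs.1))
  rwa [cj_inv_cj] at h2

theorem receptive_of_good (hT : SylIn p T H) (hQ : Q ≤ T)
    (h : SylIn p (normalizerIn T Q) (normalizerIn H Q)) :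
    (fusionSystemOfSubgroup H T hT.1).IsReceptive Q := by
  refine isReceptive_iff.2 ⟨hQ, fun R f hf himg => ?_⟩
  obtain ⟨hR, -, g, hg, he⟩ := isMap_sub_iff.1 hf
  have hM : img (cj g) (nSub T R f) ≤ normalizerIn T Q ⊔ centralizerIn H Q := by
    refine img_le fun a ha => ?_
    obtain ⟨haT, haN, u, hu, hue⟩ := ha
    have hfQ : ∀ x ∈ R, f x ∈ Q := fun x hx => himg ▸ mem_img_self f hx
    have huN : u ∈ normalizerIn T Q := by
      refine ⟨hu, mem_normalizer_of_forall fun y hy => ?_⟩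
      obtain ⟨x, hx, rfl⟩ := hf.mem_img.1 (himg.symm ▸ hy)
      rw [← hue x hx]
      exact hfQ _ ((Subgroup.mem_normalizer_iff.1 haN x).1 hx)
    have hcen : u⁻¹ * cj g a ∈ centralizerIn H Q := by
      refine ⟨H.mul_mem (H.inv_mem (hT.1 hu))
        (H.mul_mem (H.mul_mem hg (hT.1 haT)) (H.inv_mem hg)), fun y hy => ?_⟩
      obtain ⟨x, hx, rfl⟩ := hf.mem_img.1 (himg.symm ▸ hy)
      have h1 : cj g a * f x * (cj g a)⁻¹ = u * f x * u⁻¹ := by
        rw [← hue x hx, he x hx, he _ ((Subgroup.mem_normalizer_iff.1 haN x).1 hx)]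
        simp [cj, mul_assoc]
      calc f x * (u⁻¹ * cj g a) = u⁻¹ * (u * f x * u⁻¹) * cj g a := by group
        _ = u⁻¹ * (cj g a * f x * (cj g a)⁻¹) * cj g a := by rw [h1]
        _ = u⁻¹ * cj g a * f x := by group
    have := Subgroup.mul_mem _ (Subgroup.mem_sup_left huN)
      (Subgroup.mem_sup_right (S := normalizerIn T Q) hcen)
    simpa using this
  obtain ⟨c, hc, hle⟩ := exists_centralizer_conj hT.1 h
    (isPGroup_img_cj (hT.2.1.to_le ((nSub_le T R f).trans normalizerIn_le))) hM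
  refine ⟨cj (c * g), isMap_sub_iff.2 ⟨fun a ha => ha.1, fun a ha => ?_, c * g,
    H.mul_mem hc.1 hg, fun _ _ => rfl⟩, fun x hx => ?_⟩
  · rw [cj_mul]
    exact hle (mem_img_self _ (mem_img_self _ ha))
  · rw [cj_mul, ← he x hx]
    have := hc.2 (f x) (himg ▸ mem_img_self f hx)
    rw [cj_apply, ← this, mul_inv_cancel_right]

theorem sub_saturated (hT : SylIn p T H) :
    (fusionSystemOfSubgroup H T hT.1).IsSaturated p := by
  intro P hP
  obtain ⟨h, hh, hle, hs⟩ := exists_good hT hP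
  refine ⟨_, isConj_sub_iff.2 ⟨hP, hle, h, hh, rfl⟩, ?_, receptive_of_good hT hle hs⟩
  rw [fullyAutomized_iff hT.2.1, autGroup_sub hT.1 hle]
  exact ⟨hle, autInduced_sylIn hT.1 hs⟩

theorem group_saturated (S : Sylow p G) :
    (groupFusionSystem (S : Subgroup G)).IsSaturated p := by
  rw [group_eq_sub_top]
  exact sub_saturated (of_sylow S)

theorem autGroup_group {S : Subgroup G} (hQ : Q ≤ S) :
    (groupFusionSystem S).autGroup Q = autInducedBy ⊤ Q := by
  rw [group_eq_sub_top]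
  exact autGroup_sub le_top hQ

end Cfsg.Agent.Fusion.Group
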