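/-
Subsystems over strongly closed subgroups, inner systems, invariant subsystems, simplicity.
-/
import Mathlib
import Cfsg.Prelude.Def_FusionComponents
import Cfsg.Agent.Lib.Fusion.Normal

set_option autoImplicit false

namespace Cfsg.Agent.Fusion.Subsystems

open Cfsg Cfsg.FusionSystem Cfsg.Agent.Fusion.Basic Cfsg.Agent.Fusion.Saturation
  Cfsg.Agent.Fusion.Normal

variable {Ω : Type*} [Group Ω] {S T P Q : Subgroup Ω} {F : FusionSystem S} {E : FusionSystem T}
  {f : Ω → Ω}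

theorem subsystem_le (hE : E.IsSubsystemOf F) : T ≤ S :=
  (isMap_of_subset hE (isMap_id (F := E) (le_refl T))).le

theorem fullyNormalized_of_subsystem [Finite S] {p : ℕ} [Fact p.Prime] (hS : IsPGroup p S)
    (hF : F.IsSaturated p) (hT : F.StronglyClosed T) (hE : E.IsSubsystemOf F) (hPT : P ≤ T)
    (h : F.IsFullyNormalized P) : E.IsFullyNormalized P := by
  refine ⟨hPT, fun R hR => ?_⟩
  obtain ⟨f, hf, hfR⟩ := isConj_iff_map.1 hR
  obtain ⟨g, hg, hgP⟩ := exists_map_to_fullyNormalized hS hF h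
    (isConj_symm (isConj_iff_map.2 ⟨f, isMap_of_subset hE hf, hfR⟩))
  have hle : normalizerIn T R ≤ normalizerIn S R := inf_le_inf_right _ hT.1
  have hres := hg.restrict hle
  have hfinT : Finite T := finite_of_le hT.1
  have hfin : Finite (normalizerIn T P) := finite_of_le normalizerIn_le
  rw [← hres.card_img]
  refine card_le_card (img_le fun x hx => ⟨stronglyClosed_mem hT hres hx hx.1, ?_⟩)
  rw [← hgP]
  exact hg.mem_normalizer_img (le_normalizerIn ((isConj_le hR).2.trans hT.1)) (hle hx) hx.2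

theorem isMap_inner_iff {Q : Subgroup Ω} :
    IsMap (innerFusionSystem Q) P f ↔ P ≤ Q ∧ ∃ g ∈ Q, ∀ x ∈ P, f x = cj g x := by
  constructor
  · rintro ⟨φ, ⟨hP, g, hg, he⟩, hf⟩
    exact ⟨hP, g, hg, fun x hx => (hf ⟨x, hx⟩).symm.trans (he ⟨x, hx⟩)⟩
  · rintro ⟨hP, g, hg, he⟩
    exact ⟨conjHom P g, ⟨hP, g, hg, fun _ => rfl⟩, fun x => (he x x.2).symm⟩

theorem inner_le (F : FusionSystem S) : innerFusionSystem S ≤ F := by
  refine le_of_isMap fun P f hf => ?_
  obtain ⟨hP, g, hg, he⟩ := isMap_inner_iff.1 hf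
  exact (isMap_cj hP hg).congr fun x hx => (he x hx).symm

theorem inner_saturated [Finite S] {p : ℕ} [Fact p.Prime] (hS : IsPGroup p S) :
    (innerFusionSystem S).IsSaturated p := by
  have hinn : (innerFusionSystem S).autGroup S ≤ autInducedBy S S := fun α hα => by
    obtain ⟨-, g, hg, he⟩ := isMap_inner_iff.1 (isMap_of_mem_autGroup le_rfl hα)
    exact mem_autInducedBy_iff'.2 ⟨g, ⟨hg, Subgroup.le_normalizer hg⟩, he⟩
  refine saturated_of_receptive hS ((fullyAutomized_iff hS).2 ⟨le_rfl, ?_⟩) fun P hP => ?_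
  · rw [Subgroup.relIndex_eq_one.2 hinn]
    exact (Fact.out : p.Prime).not_dvd_one
  · refine isReceptive_iff.2 ⟨hP.1, fun R f hf himg => ?_⟩
    obtain ⟨hR, g, hg, he⟩ := isMap_inner_iff.1 hf
    exact ⟨cj g, isMap_cj ((nSub_le S R f).trans normalizerIn_le) hg,
      fun x hx => (he x hx).symm⟩

/-- The transport of a map of an invariant subsystem by an automorphism of `T`. -/
theorem invariant_transport (hE : E.IsInvariantIn F) (hPT : P ≤ T) (hf : IsMap E P f)
    {α : MulAut T} (hα : α ∈ F.autGroup T) :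
    ∃ g, IsMap E (img (autFun α) P) g ∧ ∀ x ∈ P, g (autFun α x) = autFun α (f x) := by
  obtain ⟨χ, hχ, he⟩ := hE.2.2.1 P hPT hf.hom hf.hom_mem_self α hα
  have hdom : (P.subgroupOf T).map (T.subtype.comp α.toMonoidHom) = img (autFun α) P :=
    map_subgroupOf_eq_img (fun x => (autFun_apply α x).symm) hPT
  have h1 : IsMap E (img (autFun α) P) (ext χ) := hdom ▸ IsMap.of_hom hχ
  refine ⟨ext χ, h1, fun x hx => ?_⟩
  have hmem : ((α ⟨x, hPT hx⟩ : T) : Ω) ∈ (P.subgroupOf T).map (T.subtype.comp α.toMonoidHom) :=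
    ⟨⟨x, hPT hx⟩, hx, rfl⟩
  rw [autFun_of_mem α (hPT hx), ext_of_mem χ hmem]
  exact (he ⟨x, hx⟩ (hf.mem hx) hmem).trans (autFun_of_mem α (hf.mem hx)).symm

/-- The Frattini condition of an invariant subsystem in terms of functions. -/
theorem invariant_frattini (hE : E.IsInvariantIn F) (hPT : P ≤ T) (hf : IsMap F P f) :
    ∃ α ∈ F.autGroup T, ∃ f₀, IsMap E P f₀ ∧ ∀ x ∈ P, f x = autFun α (f₀ x) := by
  obtain ⟨α, hα, φ₀, hφ₀, he⟩ := hE.2.2.2 P hPT hf.hom hf.hom_mem_self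
  refine ⟨α, hα, ext φ₀, IsMap.of_hom hφ₀, fun x hx => ?_⟩
  have hm : φ₀ ⟨x, hx⟩ ∈ T := (E.le_of_mem hφ₀).2 _
  rw [ext_of_mem φ₀ hx, autFun_of_mem α hm]
  exact he ⟨x, hx⟩ hm

/-- A subgroup closed in an invariant subsystem and stable under `Aut_F(T)` is strongly closed. -/
theorem stronglyClosed_of_invariant {U : Subgroup Ω} (hE : E.IsInvariantIn F)
    (hU : E.StronglyClosed U) (hinv : ∀ α ∈ F.autGroup T, ∀ x ∈ U, autFun α x ∈ U) :
    F.StronglyClosed U := by
  refine ⟨hU.1.trans (subsystem_le hE.1), fun R hR φ hφ x => ?_⟩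
  obtain ⟨α, hα, f₀, hf₀, he⟩ := invariant_frattini hE (hR.trans hU.1) (IsMap.of_hom hφ)
  rw [← ext_apply φ x, he x x.2]
  exact hinv α hα _ (stronglyClosed_mem hU hf₀ x.2 (hR x.2))

/-- With `Aut_F(S) = Inn(S)` and no proper nontrivial strongly closed subgroup the system is
simple. -/
theorem simple_of_no_stronglyClosed {p : ℕ} (hF : F.IsSaturated p) (hS1 : S ≠ ⊥)
    (htop : F.autGroup S = Inn ↥S)
    (hsc : ∀ T : Subgroup Ω, F.StronglyClosed T → T = ⊥ ∨ T = S) : F.IsSimple p := by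
  refine ⟨hF, hS1, fun T E hE => ?_⟩
  have hinv : E.IsInvariantIn F := hE.1.2.2
  refine (hsc T hinv.2.1).imp id fun hTS => ?_
  subst hTS
  refine ⟨rfl, fun P => Set.Subset.antisymm (hinv.1 P) fun φ hφ => ?_⟩
  obtain ⟨α, hα, f₀, hf₀, he⟩ :=
    invariant_frattini hinv (F.le_of_mem hφ).1 (IsMap.of_hom hφ)
  rw [htop] at hα
  obtain ⟨g, hg, hge⟩ := mem_inn_iff.1 hα
  refine ((isMap_cj (F := E) le_rfl hg).comp hf₀ fun x hx => hf₀.mem hx).hom_mem fun x => ?_
  rw [← ext_apply φ x, he x x.2, hge _ (hf₀.mem x.2)]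

end Cfsg.Agent.Fusion.Subsystems
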