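/-
Transport of fusion systems along an isomorphism of the underlying groups: saturation, strong
closure, normal subsystems, simplicity.
-/
import Mathlib
import Cfsg.Agent.Lib.Fusion.Factor
import Cfsg.Agent.Lib.Fusion.Subsystems

set_option autoImplicit false

namespace Cfsg.Agent.Fusion.Transport

open Cfsg Cfsg.FusionSystem Cfsg.Agent.Fusion.Basic Cfsg.Agent.Fusion.Saturation
  Cfsg.Agent.Fusion.Factor Cfsg.Agent.Fusion.Subsystems

universe u v

variable {Ω : Type u} [Group Ω] {Ω' : Type v} [Group Ω']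

/-- The subgroup generated by the image, for a map between two groups. -/
def im {Γ : Type*} {Γ' : Type*} [Group Γ] [Group Γ'] (f : Γ → Γ') (P : Subgroup Γ) : Subgroup Γ' :=
  Subgroup.closure (f '' (P : Set Γ))

theorem mem_im_self {Γ : Type*} {Γ' : Type*} [Group Γ] [Group Γ'] {P : Subgroup Γ} (f : Γ → Γ')
    {x : Γ} (hx : x ∈ P) : f x ∈ im f P :=
  Subgroup.subset_closure ⟨x, hx, rfl⟩

theorem im_le {Γ : Type*} {Γ' : Type*} [Group Γ] [Group Γ'] {P : Subgroup Γ} {R : Subgroup Γ'}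
    {f : Γ → Γ'} (h : ∀ x ∈ P, f x ∈ R) : im f P ≤ R := by
  rw [im, Subgroup.closure_le]
  rintro _ ⟨x, hx, rfl⟩
  exact h x hx

theorem im_mono {Γ : Type*} {Γ' : Type*} [Group Γ] [Group Γ'] {P Q : Subgroup Γ} (f : Γ → Γ')
    (h : P ≤ Q) : im f P ≤ im f Q :=
  im_le fun _ hx => mem_im_self f (h hx)

/-- An isomorphism between subgroups, by functions on the ambient groups. -/
structure Iso (S : Subgroup Ω) (S' : Subgroup Ω') where
  fwd : Ω → Ω'
  bwd : Ω' → Ω
  to_mem : ∀ x ∈ S, fwd x ∈ S'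
  inv_mem : ∀ y ∈ S', bwd y ∈ S
  to_mul : ∀ x ∈ S, ∀ y ∈ S, fwd (x * y) = fwd x * fwd y
  inv_to : ∀ x ∈ S, bwd (fwd x) = x
  to_inv : ∀ y ∈ S', fwd (bwd y) = y

variable {S : Subgroup Ω} {S' : Subgroup Ω'}

theorem Iso.inv_mul (e : Iso S S') : ∀ x ∈ S', ∀ y ∈ S', e.bwd (x * y) = e.bwd x * e.bwd y := by
  intro x hx y hy
  conv_lhs => rw [← e.to_inv x hx, ← e.to_inv y hy, ← e.to_mul _ (e.inv_mem x hx) _ (e.inv_mem y hy)]
  exact e.inv_to _ (S.mul_mem (e.inv_mem x hx) (e.inv_mem y hy))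

/-- The inverse isomorphism. -/
def Iso.symm (e : Iso S S') : Iso S' S :=
  ⟨e.bwd, e.fwd, e.inv_mem, e.to_mem, e.inv_mul, e.to_inv, e.inv_to⟩

@[simp] theorem Iso.symm_fwd (e : Iso S S') : e.symm.fwd = e.bwd := rfl

@[simp] theorem Iso.symm_bwd (e : Iso S S') : e.symm.bwd = e.fwd := rfl

variable (e : Iso S S')

theorem Iso.to_one : e.fwd 1 = 1 := by
  have h := e.to_mul 1 S.one_mem 1 S.one_mem
  rwa [mul_one, left_eq_mul] at h

theorem Iso.to_map_inv {x : Ω} (hx : x ∈ S) : e.fwd x⁻¹ = (e.fwd x)⁻¹ := by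
  refine eq_inv_of_mul_eq_one_left ?_
  rw [← e.to_mul _ (S.inv_mem hx) _ hx, inv_mul_cancel, e.to_one]

theorem Iso.mem_img {P : Subgroup Ω} (hP : P ≤ S) {y : Ω'} :
    y ∈ im e.fwd P ↔ ∃ x ∈ P, e.fwd x = y := by
  refine ⟨fun h => ?_, fun ⟨x, hx, he⟩ => he ▸ mem_im_self _ hx⟩
  let H : Subgroup Ω' :=
    { carrier := e.fwd '' (P : Set Ω)
      one_mem' := ⟨1, P.one_mem, e.to_one⟩
      mul_mem' := by
        rintro _ _ ⟨a, ha, rfl⟩ ⟨b, hb, rfl⟩
        exact ⟨a * b, P.mul_mem ha hb, e.to_mul a (hP ha) b (hP hb)⟩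
      inv_mem' := by
        rintro _ ⟨a, ha, rfl⟩
        exact ⟨a⁻¹, P.inv_mem ha, e.to_map_inv (hP ha)⟩ }
  exact im_le (R := H) (fun x hx => ⟨x, hx, rfl⟩) h

theorem im_bot : im e.fwd (⊥ : Subgroup Ω) = ⊥ := by
  refine le_bot_iff.1 (im_le fun x hx => ?_)
  rw [Subgroup.mem_bot.1 hx, e.to_one]
  exact Subgroup.one_mem _

theorem Iso.img_le {P : Subgroup Ω} (hP : P ≤ S) : im e.fwd P ≤ S' :=
  im_le fun x hx => e.to_mem x (hP hx)

theorem Iso.img_img {P : Subgroup Ω} (hP : P ≤ S) : im e.bwd (im e.fwd P) = P := by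
  refine le_antisymm (im_le fun y hy => ?_) fun x hx => ?_
  · obtain ⟨x, hx, rfl⟩ := (e.mem_img hP).1 hy
    rwa [e.inv_to x (hP hx)]
  · rw [← e.inv_to x (hP hx)]
    exact mem_im_self _ (mem_im_self _ hx)

theorem Iso.img_symm {P' : Subgroup Ω'} (hP : P' ≤ S') : im e.fwd (im e.bwd P') = P' :=
  e.symm.img_img hP

theorem Iso.img_self : im e.fwd S = S' := by
  refine le_antisymm (e.img_le le_rfl) fun y hy => ?_
  rw [← e.to_inv y hy]
  exact mem_im_self _ (e.inv_mem y hy)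

theorem Iso.inv_mem_iff {P : Subgroup Ω} (hP : P ≤ S) {y : Ω'} (hy : y ∈ S') :
    e.bwd y ∈ P ↔ y ∈ im e.fwd P := by
  refine ⟨fun h => e.to_inv y hy ▸ mem_im_self _ h, fun h => ?_⟩
  obtain ⟨x, hx, rfl⟩ := (e.mem_img hP).1 h
  rwa [e.inv_to x (hP hx)]

theorem Iso.finite (e : Iso S S') [Finite S] : Finite S' :=
  Finite.of_surjective (fun x : S => (⟨e.fwd x, e.to_mem x x.2⟩ : S'))
    fun y => ⟨⟨e.bwd y, e.inv_mem y y.2⟩, Subtype.ext (e.to_inv y y.2)⟩

theorem Iso.isPGroup (e : Iso S S') {p : ℕ} (h : IsPGroup p S) : IsPGroup p S' :=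
  h.of_surjective (MonoidHom.mk' (fun x : S => (⟨e.fwd x, e.to_mem x x.2⟩ : S'))
    fun x y => Subtype.ext (e.to_mul x x.2 y y.2))
    fun y => ⟨⟨e.bwd y, e.inv_mem y y.2⟩, Subtype.ext (e.to_inv y y.2)⟩

/-- The restriction to a subgroup. -/
def Iso.restrict {T : Subgroup Ω} (hT : T ≤ S) : Iso T (im e.fwd T) :=
  ⟨e.fwd, e.bwd, fun _ hx => mem_im_self _ hx,
    fun y hy => (e.inv_mem_iff hT (e.img_le hT hy)).2 hy,
    fun x hx y hy => e.to_mul x (hT hx) y (hT hy), fun x hx => e.inv_to x (hT hx),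
    fun y hy => e.to_inv y (e.img_le hT hy)⟩

/-- The transported system. -/
def push (F : FusionSystem S) : FusionSystem S' where
  Hom P' := {φ' | P' ≤ S' ∧ (∀ x, φ' x ∈ S') ∧
    IsMap F (im e.bwd P') fun x => e.bwd (ext φ' (e.fwd x))}
  le_of_mem h := ⟨h.1, h.2.1⟩
  injective_of_mem := by
    rintro P' φ' ⟨hP, hS', hm⟩ a b hab
    have ha : e.bwd a ∈ im e.bwd P' := mem_im_self _ a.2
    have hb : e.bwd b ∈ im e.bwd P' := mem_im_self _ b.2
    have h := hm.inj ha hb (by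
      rw [e.to_inv a (hP a.2), e.to_inv b (hP b.2), ext_apply, ext_apply, hab])
    refine Subtype.ext ?_
    rw [← e.to_inv a (hP a.2), h, e.to_inv b (hP b.2)]
  conj_mem := by
    intro P' g hP hg
    refine ⟨hP, fun x => S'.mul_mem (S'.mul_mem hg (hP x.2)) (S'.inv_mem hg),
      (isMap_cj (e.symm.img_le hP) (e.inv_mem g hg)).congr fun x hx => ?_⟩
    obtain ⟨y, hy, rfl⟩ := (e.symm.mem_img hP).1 hx
    rw [e.symm_fwd, e.to_inv y (hP hy), ext_of_mem _ hy]
    show _ = e.bwd (g * y * g⁻¹)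
    rw [e.inv_mul _ (S'.mul_mem hg (hP hy)) _ (S'.inv_mem hg), e.inv_mul g hg y (hP hy)]
    have := e.symm.to_map_inv hg
    rw [e.symm_fwd] at this
    rw [this, cj_apply]
  comp_mem := by
    rintro P' Q' φ' ψ' ⟨hP, hS', hm⟩ ⟨hQ, hS'', hm'⟩ h
    refine ⟨hP, fun x => hS'' _, (hm'.comp hm fun x hx => ?_).congr fun x hx => ?_⟩
    · obtain ⟨y, hy, rfl⟩ := (e.symm.mem_img hP).1 hx
      rw [e.symm_fwd, e.to_inv y (hP hy), ext_of_mem _ hy]
      exact mem_im_self _ (h _)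
    · obtain ⟨y, hy, rfl⟩ := (e.symm.mem_img hP).1 hx
      rw [e.symm_fwd, e.to_inv y (hP hy), ext_of_mem φ' hy, e.to_inv _ (hS' _), ext_of_mem _ hy,
        ext_of_mem ψ' (h _)]
      rfl
  inv_mem := by
    rintro P' φ' ⟨hP, hS', hm⟩
    obtain ⟨k, hk, -, hkf, -⟩ := hm.exists_inv
    have himg : img (fun x => e.bwd (ext φ' (e.fwd x))) (im e.bwd P') = im e.bwd φ'.range := by
      refine le_antisymm (im_le fun x hx => ?_) (im_le ?_)
      · obtain ⟨y, hy, rfl⟩ := (e.symm.mem_img hP).1 hx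
        rw [e.symm_fwd, e.to_inv y (hP hy), ext_of_mem _ hy]
        exact mem_im_self _ ⟨_, rfl⟩
      · rintro _ ⟨x, rfl⟩
        have := mem_im_self (fun x => e.bwd (ext φ' (e.fwd x))) (mem_im_self e.bwd x.2)
        simp [e.to_inv x (hP x.2), ext_apply] at this
        exact this
    rw [himg] at hk
    have hr : φ'.range ≤ S' := by rintro _ ⟨x, rfl⟩; exact hS' x
    have hk' : ∀ x : P', e.fwd (k (e.bwd (φ' x))) = x := fun x => by
      have h1 := hkf (e.bwd x) (mem_im_self _ x.2)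
      rw [e.to_inv x (hP x.2), ext_apply] at h1
      rw [h1, e.to_inv x (hP x.2)]
    let ψ : φ'.range →* Ω' := MonoidHom.mk' (fun y => e.fwd (k (e.bwd y))) fun a b => by
      show e.fwd (k (e.bwd ((a : Ω') * b))) = _
      rw [e.inv_mul _ (hr a.2) _ (hr b.2), hk.map_mul (mem_im_self _ a.2) (mem_im_self _ b.2),
        e.to_mul _ (hk.mem (mem_im_self _ a.2)) _ (hk.mem (mem_im_self _ b.2))]
    refine ⟨ψ, ⟨hr, fun y => e.to_mem _ (hk.mem (mem_im_self _ y.2)), hk.congr fun x hx => ?_⟩, hk'⟩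
    obtain ⟨y, hy, rfl⟩ := (e.symm.mem_img hr).1 hx
    rw [e.symm_fwd, e.to_inv y (hr hy), ext_of_mem ψ hy]
    exact (e.inv_to _ (hk.mem (mem_im_self _ hy))).symm

variable {F : FusionSystem S}

theorem isMap_push_iff {P' : Subgroup Ω'} {f' : Ω' → Ω'} :
    IsMap (push e F) P' f' ↔ P' ≤ S' ∧ (∀ x ∈ P', f' x ∈ S') ∧
      IsMap F (im e.bwd P') fun x => e.bwd (f' (e.fwd x)) := by
  constructor
  · intro h
    obtain ⟨φ', ⟨hP, hS', hm⟩, he⟩ := h
    refine ⟨hP, fun x hx => he ⟨x, hx⟩ ▸ hS' _, hm.congr fun x hx => ?_⟩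
    obtain ⟨y, hy, rfl⟩ := (e.symm.mem_img hP).1 hx
    rw [e.symm_fwd, e.to_inv y (hP hy), ext_of_mem _ hy, he ⟨y, hy⟩]
  · rintro ⟨hP, hS', hm⟩
    have key : ∀ x ∈ P', e.fwd (e.bwd (f' (e.fwd (e.bwd x)))) = f' x := fun x hx => by
      rw [e.to_inv x (hP hx), e.to_inv _ (hS' x hx)]
    let φ' : P' →* Ω' := MonoidHom.mk' (fun x => f' x) fun a b => by
      show f' ((a : Ω') * b) = f' a * f' b
      rw [← key _ (P'.mul_mem a.2 b.2), ← key _ a.2, ← key _ b.2, e.inv_mul _ (hP a.2) _ (hP b.2)]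
      have h1 := hm.map_mul (mem_im_self e.bwd a.2) (mem_im_self e.bwd b.2)
      rw [h1]
      exact e.to_mul _ (hm.mem (mem_im_self _ a.2)) _ (hm.mem (mem_im_self _ b.2))
    refine ⟨φ', ⟨hP, fun x => hS' x x.2, hm.congr fun x hx => ?_⟩, fun _ => rfl⟩
    obtain ⟨y, hy, rfl⟩ := (e.symm.mem_img hP).1 hx
    rw [e.symm_fwd, e.to_inv y (hP hy), ext_of_mem φ' hy]
    rfl

/-- A map goes to a map. -/
theorem isMap_push {P : Subgroup Ω} {f : Ω → Ω} (hf : IsMap F P f) :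
    IsMap (push e F) (im e.fwd P) fun y => e.fwd (f (e.bwd y)) := by
  refine (isMap_push_iff e).2 ⟨e.img_le hf.le, fun y hy => ?_, ?_⟩
  · obtain ⟨x, hx, rfl⟩ := (e.mem_img hf.le).1 hy
    rw [e.inv_to x (hf.le hx)]
    exact e.to_mem _ (hf.mem hx)
  · rw [e.img_img hf.le]
    exact hf.congr fun x hx => by rw [e.inv_to x (hf.le hx), e.inv_to _ (hf.mem hx)]

theorem push_push (F : FusionSystem S) : push e.symm (push e F) = F := by
  refine fs_ext_le (le_of_isMap fun P f hf => ?_) (le_of_isMap fun P f hf => ?_)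
  · obtain ⟨hP, hS, hm⟩ := (isMap_push_iff e.symm).1 hf
    rw [e.symm_bwd] at hm
    obtain ⟨-, -, hm2⟩ := (isMap_push_iff e).1 hm
    rw [e.img_img hP] at hm2
    refine hm2.congr fun x hx => ?_
    simp only [e.symm_fwd]
    rw [e.inv_to x (hP hx), e.inv_to _ (hS x hx)]
  · refine (isMap_push_iff e.symm).2 ⟨hf.le, fun x hx => hf.mem hx, ?_⟩
    exact isMap_push e hf

theorem isQuot_push (F : FusionSystem S) :
    IsQuot F ⊥ (MonoidHom.mk' (fun x : S => e.fwd x) fun x y => e.to_mul x x.2 y y.2) (push e F) := by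
  set θ := MonoidHom.mk' (fun x : S => e.fwd x) fun x y => e.to_mul x x.2 y y.2
  have hal : ∀ x ∈ S, along θ x = e.fwd x := fun x hx => along_of_mem θ hx
  have hpre : ∀ P' : Subgroup Ω', P' ≤ S' → preimageAlong θ P' = im e.bwd P' := by
    intro P' hP'
    ext x
    rw [mem_preimageAlong]
    constructor
    · rintro ⟨hx, hx'⟩
      rw [← e.inv_to x hx, ← hal x hx]
      exact mem_im_self _ hx'
    · intro hx
      obtain ⟨y, hy, rfl⟩ := (e.symm.mem_img hP').1 hx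
      refine ⟨e.inv_mem y (hP' hy), ?_⟩
      rw [e.symm_fwd, hal _ (e.inv_mem y (hP' hy)), e.to_inv y (hP' hy)]
      exact hy
  refine ⟨⟨bot_le, fun R hR φ hφ x => ?_⟩, fun s => ?_, ?_, fun P' f' hf' => ?_,
    fun P' f hP' hf => ?_⟩
  · have : x = 1 := Subtype.ext (Subgroup.mem_bot.1 (hR x.2))
    rw [this, map_one]
    exact Subgroup.one_mem _
  · rw [Subgroup.mem_bot]
    constructor
    · intro h
      have h' : e.fwd s = 1 := h
      rw [← e.inv_to s s.2, h']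
      exact e.symm.to_one
    · intro h
      show e.fwd s = 1
      rw [h, e.to_one]
  · ext y
    constructor
    · rintro ⟨x, rfl⟩
      exact e.to_mem x x.2
    · exact fun hy => ⟨⟨e.bwd y, e.inv_mem y hy⟩, e.to_inv y hy⟩
  · obtain ⟨hP', hS', hm⟩ := (isMap_push_iff e).1 hf'
    rw [← hpre P' hP'] at hm
    refine ⟨_, hm, fun x hx => ?_⟩
    obtain ⟨hxS, hx'⟩ := mem_preimageAlong.1 hx
    rw [hal x hxS] at hx' ⊢
    rw [hal _ (hm.mem hx), e.to_inv _ (hS' _ hx')]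
  · rw [hpre P' hP'] at hf ⊢
    have h := isMap_push e hf
    rw [e.img_symm hP'] at h
    refine ⟨_, h, fun x hx => ?_⟩
    rw [hal x (hf.le hx), e.inv_to x (hf.le hx), hal _ (hf.mem hx)]

theorem push_saturated [Finite S] {p : ℕ} [Fact p.Prime] (hS : IsPGroup p S)
    (hF : F.IsSaturated p) : (push e F).IsSaturated p :=
  (isQuot_push e F).saturated hS hF

variable {T : Subgroup Ω} {E : FusionSystem T}

theorem push_isSubsystemOf (hT : T ≤ S) (h : E.IsSubsystemOf F) :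
    (push (e.restrict hT) E).IsSubsystemOf (push e F) := by
  refine fun P' => subset_of_isMap fun f' hf' => ?_
  obtain ⟨hP, hS', hm⟩ := (isMap_push_iff _).1 hf'
  exact (isMap_push_iff e).2 ⟨hP.trans (e.img_le hT), fun x hx => e.img_le hT (hS' x hx),
    isMap_of_subset h hm⟩

theorem push_stronglyClosed (hT : F.StronglyClosed T) :
    (push e F).StronglyClosed (im e.fwd T) := by
  refine ⟨e.img_le hT.1, fun R hR φ hφ x => ?_⟩
  obtain ⟨hR', hS', hm⟩ := (isMap_push_iff e).1 (IsMap.of_hom hφ)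
  rw [← ext_apply φ x, ← e.inv_mem_iff hT.1 (hS' _ x.2)]
  have h1 : e.bwd (x : Ω') ∈ T := (e.inv_mem_iff hT.1 (hR' x.2)).2 (hR x.2)
  have h2 := Normal.stronglyClosed_mem hT hm (mem_im_self _ x.2) h1
  rwa [e.to_inv _ (hR' x.2)] at h2

variable [Finite S]

theorem exists_aut_pullback {A : Subgroup Ω} (hA : A ≤ S) {α' : MulAut (im e.fwd A)}
    (hα' : α' ∈ (push e F).autGroup (im e.fwd A)) :
    ∃ α ∈ F.autGroup A, ∀ x ∈ A, e.fwd (autFun α x) = autFun α' (e.fwd x) := by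
  have hA' := e.img_le hA
  obtain ⟨-, hS', hm⟩ := (isMap_push_iff e).1 (isMap_of_mem_autGroup hA' hα')
  rw [e.img_img hA] at hm
  have hfin : Finite A := finite_of_le hA
  have himg : img (fun x => e.bwd (autFun α' (e.fwd x))) A = A := by
    refine eq_of_le_card (im_le fun x hx => ?_) hm.card_img.ge
    exact (e.inv_mem_iff hA (hS' _ (mem_im_self _ hx))).2 (autFun_mem α' (mem_im_self _ hx))
  obtain ⟨α, hα, he⟩ := hm.exists_aut himg
  exact ⟨α, hα, fun x hx => by rw [he x hx, e.to_inv _ (hS' _ (mem_im_self _ hx))]⟩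

theorem exists_aut_push {A : Subgroup Ω} {α : MulAut A} (hA : A ≤ S) (hα : α ∈ F.autGroup A) :
    ∃ α' ∈ (push e F).autGroup (im e.fwd A), ∀ x ∈ A, autFun α' (e.fwd x) = e.fwd (autFun α x) := by
  have hm := isMap_push e (isMap_of_mem_autGroup hA hα)
  have hfinS' := e.finite
  have hfin : Finite (im e.fwd A : Subgroup Ω') := finite_of_le (e.img_le hA)
  have himg : img (fun y => e.fwd (autFun α (e.bwd y))) (im e.fwd A) = im e.fwd A := by
    refine eq_of_le_card (im_le fun y hy => ?_) hm.card_img.ge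
    obtain ⟨x, hx, rfl⟩ := (e.mem_img hA).1 hy
    rw [e.inv_to x (hA hx)]
    exact mem_im_self _ (autFun_mem α hx)
  obtain ⟨α', hα', he⟩ := hm.exists_aut himg
  exact ⟨α', hα', fun x hx => by rw [he _ (mem_im_self _ hx), e.inv_to x (hA hx)]⟩

omit [Finite S] in
theorem img_centralizerIn (hT : T ≤ S) :
    im e.fwd (centralizerIn S T) = centralizerIn S' (im e.fwd T) := by
  refine le_antisymm (im_le fun x hx => ⟨e.to_mem x hx.1, ?_⟩) fun y hy => ?_
  · intro y hy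
    obtain ⟨t, ht, rfl⟩ := (e.mem_img hT).1 hy
    rw [← e.to_mul t (hT ht) x hx.1, ← e.to_mul x hx.1 t (hT ht), hx.2 t ht]
  · rw [← e.to_inv y hy.1]
    refine mem_im_self _ ⟨e.inv_mem y hy.1, fun t ht => ?_⟩
    have h := hy.2 _ (mem_im_self e.fwd ht)
    rw [← e.inv_to t (hT ht), ← e.inv_mul _ (e.to_mem t (hT ht)) _ hy.1,
      ← e.inv_mul _ hy.1 _ (e.to_mem t (hT ht)), h]

omit [Finite S] in
theorem img_sup {A B : Subgroup Ω} (hA : A ≤ S) (hB : B ≤ S) :
    im e.fwd (A ⊔ B) = im e.fwd A ⊔ im e.fwd B := by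
  refine le_antisymm ?_ (sup_le (im_mono _ le_sup_left) (im_mono _ le_sup_right))
  let θ : ↥S →* Ω' := MonoidHom.mk' (fun x : S => e.fwd x) fun x y => e.to_mul x x.2 y y.2
  have key : ∀ {D : Subgroup Ω}, D ≤ S → im e.fwd D = (D.subgroupOf S).map θ := by
    intro D hD
    refine le_antisymm (im_le fun x hx => ⟨⟨x, hD hx⟩, hx, rfl⟩) ?_
    rintro _ ⟨x, hx, rfl⟩
    exact mem_im_self _ hx
  rw [key (sup_le hA hB), key hA, key hB, Subgroup.subgroupOf_sup hA hB, Subgroup.map_sup]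

/-- Normal subsystems go to normal subsystems. -/
theorem push_isNormalIn {p : ℕ} [Fact p.Prime] (hS : IsPGroup p S) (h : E.IsNormalIn F p)
    (hT : T ≤ S) : (push (e.restrict hT) E).IsNormalIn (push e F) p := by
  obtain ⟨⟨hEsat, hFsat, hinv⟩, hext⟩ := h
  have hfinT : Finite T := finite_of_le hT
  refine ⟨⟨push_saturated _ (hS.to_le hT) hEsat, push_saturated e hS hFsat,
    push_isSubsystemOf e hT hinv.1, push_stronglyClosed e hinv.2.1, ?_, ?_⟩, ?_⟩
  · intro P' hP' φ' hφ' α' hα'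
    obtain ⟨α, hα, hαe⟩ := exists_aut_pullback e hT hα'
    obtain ⟨hP, hS', hm⟩ := (isMap_push_iff _).1 (IsMap.of_hom hφ')
    change IsMap E (im e.bwd P') (fun x => e.bwd (ext φ' (e.fwd x))) at hm
    obtain ⟨g, hg, hge⟩ := invariant_transport hinv hm.le hm hα
    have hg' := isMap_push (e.restrict hT) hg
    have hdom : (P'.subgroupOf (im e.fwd T)).map ((im e.fwd T).subtype.comp α'.toMonoidHom) =
        im e.fwd (img (autFun α) (im e.bwd P')) := by
      rw [map_subgroupOf_eq_img (fun x => (autFun_apply α' x).symm) hP']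
      refine le_antisymm (im_le fun y hy => ?_) (im_le fun x hx => ?_)
      · rw [← e.to_inv y (e.img_le hT (hP' hy)), ← hαe _ (hm.le (mem_im_self _ hy))]
        exact mem_im_self _ (mem_im_self _ (mem_im_self _ hy))
      · obtain ⟨z, hz, rfl⟩ := ((isMap_of_mem_autGroup hT hα).restrict hm.le).mem_img.1 hx
        rw [hαe z (hm.le hz)]
        obtain ⟨y, hy, rfl⟩ := ((e.restrict hT).symm.mem_img hP').1 hz
        change autFun α' (e.fwd (e.bwd y)) ∈ _
        rw [e.to_inv y (e.img_le hT (hP' hy))]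
        exact mem_im_self _ hy
    have hg'' : IsMap (push (e.restrict hT) E)
        ((P'.subgroupOf (im e.fwd T)).map ((im e.fwd T).subtype.comp α'.toMonoidHom))
        (fun y => e.fwd (g (e.bwd y))) := by
      rw [hdom]; exact hg'
    refine ⟨hg''.hom, hg''.hom_mem_self, fun x hφx hαx => ?_⟩
    rw [IsMap.hom_apply]
    show e.fwd (g (e.bwd ((α' ⟨x, hP' x.2⟩ : im e.fwd T) : Ω'))) = _
    have hxi : e.bwd (x : Ω') ∈ im e.bwd P' := mem_im_self _ x.2
    have hxS : (x : Ω') ∈ S' := e.img_le hT (hP' x.2)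
    rw [← autFun_of_mem α' (hP' x.2), ← e.to_inv (x : Ω') hxS, ← hαe _ (hm.le hxi),
      e.inv_to _ (hT (autFun_mem α (hm.le hxi))), hge _ hxi, hαe _ (hm.mem hxi),
      ← autFun_of_mem α' hφx]
    show autFun α' (e.fwd (e.bwd (ext φ' (e.fwd (e.bwd x))))) = _
    rw [e.to_inv _ hxS, ext_apply, e.to_inv _ (e.img_le hT hφx)]
  · intro P' hP' φ' hφ'
    obtain ⟨hP, hS', hm⟩ := (isMap_push_iff e).1 (IsMap.of_hom hφ')
    have hPT : im e.bwd P' ≤ T := im_le fun y hy =>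
      (e.inv_mem_iff hT (hP hy)).2 (hP' hy)
    obtain ⟨α, hα, f₀, hf₀, he⟩ := invariant_frattini hinv hPT hm
    obtain ⟨α', hα', hαe⟩ := exists_aut_push e hT hα
    have hf' := isMap_push (e.restrict hT) hf₀
    have hd : im (e.restrict hT).fwd (im e.bwd P') = P' := e.img_symm hP
    rw [hd] at hf'
    refine ⟨α', hα', hf'.hom, hf'.hom_mem_self, fun x hx => ?_⟩
    have hxi : e.bwd (x : Ω') ∈ im e.bwd P' := mem_im_self _ x.2
    rw [← autFun_of_mem α' hx, IsMap.hom_apply]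
    show φ' x = autFun α' (e.fwd (f₀ (e.bwd x)))
    rw [hαe _ (hf₀.mem hxi), ← he _ hxi, e.to_inv (x : Ω') (hP x.2), ext_apply,
      e.to_inv _ (by rw [← ext_apply φ' x]; exact hS' _ x.2)]
  · intro α' hα'
    obtain ⟨α, hα, hαe⟩ := (by
      have key : ∀ {A' : Subgroup Ω'} (_ : A' = im (e.restrict hT).fwd T) {a : MulAut A'},
          a ∈ (push (e.restrict hT) E).autGroup A' →
          ∃ α ∈ E.autGroup T, ∀ x ∈ T, e.fwd (autFun α x) = autFun a (e.fwd x) := by
        intro A' hA' a ha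
        subst hA'
        exact exists_aut_pullback (e.restrict hT) le_rfl ha
      exact key rfl hα' : ∃ α ∈ E.autGroup T, ∀ x ∈ T, e.fwd (autFun α x) = autFun α' (e.fwd x))
    obtain ⟨β, hβ, hβT, hβC⟩ := hext α hα
    have hTC : T ⊔ centralizerIn S T ≤ S := sup_le hT centralizerIn_le
    obtain ⟨β', hβ', hβe⟩ := exists_aut_push e hTC hβ
    have hd : im e.fwd (T ⊔ centralizerIn S T) = im e.fwd T ⊔ centralizerIn S' (im e.fwd T) := by
      rw [img_sup e hT centralizerIn_le, img_centralizerIn e hT]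
    have hm := isMap_of_mem_autGroup (e.img_le hTC) hβ'
    have himg : img (autFun β') (im e.fwd T ⊔ centralizerIn S' (im e.fwd T)) =
        im e.fwd T ⊔ centralizerIn S' (im e.fwd T) := by
      rw [← hd]; exact autFun_img β'
    obtain ⟨γ, hγ, hγe⟩ := (isMap_of_eq hd hm).exists_aut himg
    refine ⟨γ, hγ, fun x => ?_, fun c hc => ?_⟩
    · obtain ⟨t, ht, hte⟩ := (e.mem_img hT).1 x.2
      rw [← autFun_apply, ← autFun_apply]
      show autFun γ (x : Ω') = _
      rw [hγe _ (Subgroup.mem_sup_left x.2)]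
      show autFun β' (x : Ω') = _
      rw [← hte, hβe t (Subgroup.mem_sup_left ht)]
      refine Eq.trans ?_ (hαe t ht)
      show e.fwd _ = e.fwd _
      refine congrArg e.fwd ?_
      rw [autFun_of_mem _ (Subgroup.mem_sup_left ht), autFun_of_mem α ht]
      exact hβT ⟨t, ht⟩
    · rw [← autFun_apply, hγe _ c.2]
      have hc' : (c : Ω') ∈ im e.fwd (centralizerIn S T) := by
        rw [img_centralizerIn e hT]
        exact hc
      obtain ⟨a, ha, hae⟩ := (e.mem_img centralizerIn_le).1 hc'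
      rw [← hae, hβe a (Subgroup.mem_sup_right ha)]
      have hba : autFun β a ∈ S := hTC (autFun_mem β (Subgroup.mem_sup_right ha))
      have h := hβC ⟨a, Subgroup.mem_sup_right ha⟩ ha
      rw [← autFun_apply] at h
      rw [← e.to_map_inv ha.1, ← e.to_mul _ (S.inv_mem ha.1) _ hba]
      refine ⟨mem_im_self _ h.1, fun y hy => ?_⟩
      obtain ⟨t, ht, rfl⟩ := (e.mem_img hT).1 hy
      rw [← e.to_mul _ (hT ht) _ (hT h.1), ← e.to_mul _ (hT h.1) _ (hT ht), h.2 t ht]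

/-- Simplicity is invariant. -/
theorem push_isSimple {p : ℕ} [Fact p.Prime] (hS : IsPGroup p S) (h : F.IsSimple p) :
    (push e F).IsSimple p := by
  obtain ⟨hF, hS1, hmin⟩ := h
  refine ⟨push_saturated e hS hF, fun hS' => hS1 ?_, fun T' E' hE' => ?_⟩
  · refine (Subgroup.eq_bot_iff_forall _).2 fun x hx => ?_
    have h1 : e.fwd x = 1 := by
      rw [← Subgroup.mem_bot, ← hS']
      exact e.to_mem x hx
    rw [← e.inv_to x hx, h1]
    exact e.symm.to_one
  have hfinS' := e.finite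
  have hT' : T' ≤ S' := subsystem_le hE'.1.2.2.1
  have h1 := push_isNormalIn e.symm (e.isPGroup hS) hE' hT'
  rw [push_push e F] at h1
  rcases hmin _ _ h1 with h2 | ⟨h2, h3⟩
  · left
    rw [← e.img_symm hT', show im e.bwd T' = ⊥ from h2]
    exact im_bot e
  · right
    have hT'S : T' = S' := by rw [← e.img_symm hT', show im e.bwd T' = S from h2, e.img_self]
    refine ⟨hT'S, fun P' => Set.Subset.antisymm (hE'.1.2.2.1 P') fun φ' hφ' => ?_⟩
    obtain ⟨hP, hS', hm⟩ := (isMap_push_iff e).1 (IsMap.of_hom hφ')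
    have hm' : IsMap (push (e.symm.restrict hT') E') (im e.bwd P')
        (fun x => e.bwd (ext φ' (e.fwd x))) := by
      obtain ⟨ψ, hψ, hψe⟩ := hm
      exact ⟨ψ, (h3 _).symm ▸ hψ, hψe⟩
    obtain ⟨-, -, hm2⟩ := (isMap_push_iff _).1 hm'
    change IsMap E' (im e.fwd (im e.bwd P'))
      (fun y => e.fwd (e.bwd (ext φ' (e.fwd (e.bwd y))))) at hm2
    rw [e.img_symm hP] at hm2
    refine hm2.hom_mem fun x => ?_
    rw [e.to_inv _ (hP x.2), ext_apply, e.to_inv _ (by rw [← ext_apply φ' x]; exact hS' _ x.2)]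

/-- The isomorphism given by an injective homomorphism. -/
noncomputable def Iso.ofInjective (θ : ↥S →* Ω') (hθ : Function.Injective θ) : Iso S θ.range where
  fwd := along θ
  bwd := fun y => open Classical in
    if h : y ∈ θ.range then ((MonoidHom.ofInjective hθ).symm ⟨y, h⟩ : ↥S) else 1
  to_mem x hx := by rw [along_of_mem θ hx]; exact ⟨_, rfl⟩
  inv_mem y hy := by rw [dif_pos hy]; exact SetLike.coe_mem _
  to_mul x hx y hy := along_mul θ hx hy
  inv_to x hx := by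
    rw [along_of_mem θ hx, dif_pos ⟨⟨x, hx⟩, rfl⟩]
    exact congrArg Subtype.val ((MonoidHom.ofInjective hθ).symm_apply_apply ⟨x, hx⟩)
  to_inv y hy := by
    rw [dif_pos hy, along_of_mem θ (SetLike.coe_mem _)]
    exact MonoidHom.apply_ofInjective_symm hθ ⟨y, hy⟩

end Cfsg.Agent.Fusion.Transport
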