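/-
Strongly closed chains with cyclic steps: groups of `p'`-automorphisms, resistance, and a saturated
system with prescribed `p'`-automorphisms of `S`.
-/
import Mathlib
import Cfsg.Agent.GroupStructure3.FrattiniAut
import Cfsg.Agent.Lib.Fusion.Normal
import Cfsg.Agent.Lib.Fusion.Group
import Cfsg.Agent.Lib.Fusion.Alperin
import Cfsg.Agent.Lib.Fusion.Transport

set_option autoImplicit false
set_option linter.unusedSectionVars false

namespace Cfsg.Agent.Fusion.SupersolubleChain

open Cfsg Cfsg.FusionSystem Cfsg.Agent.Fusion.Basic Cfsg.Agent.Fusion.Saturation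
  Cfsg.Agent.Fusion.Normal

universe u

/-- A chain of strongly closed subgroups with cyclic steps. -/
def HasChain {Ω : Type*} [Group Ω] {S : Subgroup Ω} (F : FusionSystem S) : Prop :=
  ∃ (m : ℕ) (c : Fin (m + 1) → Subgroup Ω), c 0 = ⊥ ∧ c (Fin.last m) = S ∧
    (∀ i : Fin (m + 1), F.StronglyClosed (c i)) ∧
    ∀ i : Fin m, c i.castSucc ≤ c i.succ ∧ ∃ x ∈ S, c i.succ = c i.castSucc ⊔ Subgroup.zpowers x

section Series

variable {G : Type u} [Group G]

/-- An endomorphism preserving a cyclic section acts on it by a power. -/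
theorem exists_exp {N M : Subgroup G} [N.Normal] {x : G} (hxM : x ∈ M)
    (hstep : M ≤ N ⊔ Subgroup.zpowers x) (α : G →* G) (hN : ∀ y ∈ N, α y ∈ N)
    (hM : ∀ y ∈ M, α y ∈ M) :
    ∃ r : ℤ, ∀ y ∈ M, (QuotientGroup.mk (α y) : G ⧸ N) = (QuotientGroup.mk y : G ⧸ N) ^ r := by
  have hmem : ∀ y ∈ M, QuotientGroup.mk' N y ∈ Subgroup.zpowers (QuotientGroup.mk' N x) := by
    intro y hy
    have h1 := Subgroup.mem_map_of_mem (QuotientGroup.mk' N) (hstep hy)
    rwa [Subgroup.map_sup, QuotientGroup.map_mk'_self, bot_sup_eq, MonoidHom.map_zpowers] at h1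
  obtain ⟨r, hr⟩ := Subgroup.mem_zpowers_iff.1 (hmem _ (hM x hxM))
  refine ⟨r, fun y hy => ?_⟩
  obtain ⟨s, hs⟩ := Subgroup.mem_zpowers_iff.1 (hmem y hy)
  change QuotientGroup.mk' N (α y) = (QuotientGroup.mk' N y) ^ r
  have hc : (x ^ s)⁻¹ * y ∈ N := by
    rw [← QuotientGroup.eq]
    rw [← map_zpow] at hs
    exact hs
  have hy' : y = x ^ s * ((x ^ s)⁻¹ * y) := by rw [mul_inv_cancel_left]
  have hk : QuotientGroup.mk' N (α ((x ^ s)⁻¹ * y)) = 1 :=
    (QuotientGroup.eq_one_iff _).2 (hN _ hc)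
  rw [hy', map_mul, map_mul, hk, mul_one, ← hy', map_zpow, map_zpow, ← hr, ← hs, ← zpow_mul,
    ← zpow_mul, mul_comm]

variable [Finite G] {p : ℕ} [Fact p.Prime]

theorem coprime_pow_eq_one {A : Type*} [Monoid A] {a : A} {k : ℕ}
    (hcop : (orderOf a).Coprime p) (h : a ^ p ^ k = 1) : a = 1 :=
  orderOf_eq_one_iff.1
    (Nat.eq_one_of_dvd_coprimes (hcop.pow_right k) dvd_rfl (orderOf_dvd_of_pow_eq_one h))

theorem zpow_fix {A : Type*} [Group A] [Finite A] {g : A} {j N : ℕ} (hj : orderOf g = p ^ j)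
    (hN : N.Coprime p) {r : ℤ} (h : g ^ (r ^ N) = g) : g ^ (r ^ (p - 1)) = g := by
  have hN0 : N ≠ 0 := fun h0 => by
    rw [h0, Nat.coprime_zero_left] at hN
    exact (Fact.out : p.Prime).ne_one hN
  have : NeZero (p ^ j) := ⟨pow_ne_zero _ (Fact.out : p.Prime).ne_zero⟩
  have key : ∀ a : ℤ, g ^ a = g ↔ ((a : ℤ) : ZMod (p ^ j)) = 1 := by
    intro a
    conv_lhs => rhs; rw [← zpow_one g]
    rw [zpow_eq_zpow_iff_modEq, hj, ← ZMod.intCast_eq_intCast_iff, Int.cast_one]
  rw [key] at h ⊢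
  push_cast at h ⊢
  obtain ⟨v, hv⟩ := IsUnit.of_pow_eq_one h hN0
  have h1 : v ^ N = 1 := Units.ext (by rw [Units.val_pow_eq_pow_val, hv, Units.val_one]; exact h)
  have h2 : orderOf v ∣ p - 1 := by
    rcases Nat.eq_zero_or_pos j with rfl | hj0
    · have : v = 1 := by
        have : Subsingleton (ZMod (p ^ 0)) := by rw [pow_zero]; infer_instance
        exact Units.ext (Subsingleton.elim _ _)
      rw [this, orderOf_one]
      exact one_dvd _
    have h3 : orderOf v ∣ p ^ (j - 1) * (p - 1) := by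
      have := orderOf_dvd_card (x := v)
      rwa [ZMod.card_units_eq_totient, Nat.totient_prime_pow Fact.out hj0] at this
    exact ((Nat.Coprime.coprime_dvd_left (orderOf_dvd_of_pow_eq_one h1) hN).pow_right
      (j - 1)).dvd_of_dvd_mul_left h3
  have h4 := congrArg Units.val (orderOf_dvd_iff_pow_eq_one.1 h2)
  rwa [Units.val_pow_eq_pow_val, hv, Units.val_one] at h4

variable {C : ℕ → Subgroup G} {n : ℕ}

/-- `p'`-automorphisms preserving a series with cyclic steps commute and have exponent dividing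
`p - 1`. -/
theorem series_auts (hG : IsPGroup p G) (h0 : C 0 = ⊥) (hn : C n = ⊤)
    (hmono : ∀ i < n, C i ≤ C (i + 1)) (hnor : ∀ i < n, (C i).Normal)
    (hstep : ∀ i < n, ∃ x ∈ C (i + 1), C (i + 1) ≤ C i ⊔ Subgroup.zpowers x)
    (H : Subgroup (MulAut G)) (hcop : (Nat.card H).Coprime p)
    (hinv : ∀ α ∈ H, ∀ i ≤ n, ∀ x ∈ C i, α x ∈ C i) :
    IsMulCommutative H ∧ ∀ h ∈ H, h ^ (p - 1) = 1 := by
  have hstab : ∀ γ ∈ H, (∀ i < n, ∀ x ∈ C (i + 1), x⁻¹ * γ x ∈ C i) → γ = 1 := by
    intro γ hγ h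
    obtain ⟨k, hk⟩ := exists_pow_eq_one_of_stabilizes hG C n h0 hn hmono γ h
    refine coprime_pow_eq_one ?_ hk
    have h2 := hcop.coprime_dvd_left (orderOf_dvd_natCard (⟨γ, hγ⟩ : H))
    rwa [← Subgroup.orderOf_coe] at h2
  have hexp : ∀ α ∈ H, ∀ (i : ℕ) (hi : i < n), ∃ r : ℤ, have := hnor i hi;
      ∀ y ∈ C (i + 1), (QuotientGroup.mk (α y) : G ⧸ C i) = (QuotientGroup.mk y : G ⧸ C i) ^ r := by
    intro α hα i hi
    have := hnor i hi
    obtain ⟨x, hx, hst⟩ := hstep i hi
    exact exists_exp hx hst α.toMonoidHom (hinv α hα i hi.le) (hinv α hα (i + 1) hi)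
  refine ⟨⟨⟨fun a b => ?_⟩⟩, fun α hα => ?_⟩
  · refine mul_inv_eq_one.1 (Subtype.ext ?_)
    refine hstab _ (SetLike.coe_mem _) fun i hi x hx => ?_
    have := hnor i hi
    refine QuotientGroup.eq.1 (Eq.symm ?_)
    obtain ⟨r, hr⟩ := hexp _ a.2 i hi
    obtain ⟨s, hs⟩ := hexp _ b.2 i hi
    set z := ((b * a : H) : MulAut G)⁻¹ x with hz
    have hzm : z ∈ C (i + 1) :=
      hinv _ (H.inv_mem (b * a : H).2) _ hi x hx
    have hx' : x = (b : MulAut G) ((a : MulAut G) z) := by
      rw [hz, ← MulAut.mul_apply, ← Subgroup.coe_mul, MulAut.apply_inv_self]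
    have e : ((a * b * (b * a)⁻¹ : H) : MulAut G) x = (a : MulAut G) ((b : MulAut G) z) := rfl
    rw [e, hr _ (hinv _ b.2 _ hi _ hzm), hs _ hzm, hx', hs _ (hinv _ a.2 _ hi _ hzm), hr _ hzm,
      ← zpow_mul, ← zpow_mul, mul_comm]
  · refine hstab _ (H.pow_mem hα _) fun i hi y hy => ?_
    have := hnor i hi
    refine QuotientGroup.eq.1 (Eq.symm ?_)
    obtain ⟨r, hr⟩ := hexp α hα i hi
    have hpw : ∀ k : ℕ, ∀ y ∈ C (i + 1),
        (QuotientGroup.mk ((α ^ k) y) : G ⧸ C i) = (QuotientGroup.mk y : G ⧸ C i) ^ (r ^ k) := by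
      intro k
      induction k with
      | zero => intro y _; simp
      | succ k ih =>
        intro y hy
        rw [pow_succ', MulAut.mul_apply, hr _ (hinv _ (H.pow_mem hα k) _ hi _ hy), ih y hy,
          ← zpow_mul, ← pow_succ]
    obtain ⟨j, hj⟩ := IsPGroup.iff_orderOf.1 (hG.to_quotient (C i)) (QuotientGroup.mk y)
    have hcopα : (orderOf α).Coprime p := by
      have h2 := hcop.coprime_dvd_left (orderOf_dvd_natCard (⟨α, hα⟩ : H))
      rwa [← Subgroup.orderOf_coe] at h2
    rw [hpw _ y hy]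
    refine zpow_fix hj hcopα ?_
    rw [← hpw _ y hy, pow_orderOf_eq_one, MulAut.one_apply]

/-- A conjugation acts on a cyclic section by a power congruent to one modulo `p`. -/
theorem conj_exp (hG : IsPGroup p G) {N M : Subgroup G} [N.Normal] [M.Normal] {x : G}
    (hxM : x ∈ M) (_hNM : N ≤ M) (hstep : M ≤ N ⊔ Subgroup.zpowers x) {y : G} (hy : y ∈ M) {j : ℕ}
    (hj : y ^ p ^ (j + 1) ∈ N) (g : G) : (g * y * g⁻¹ * y⁻¹) ^ p ^ j ∈ N := by
  obtain ⟨r, hr⟩ := exists_exp hxM hstep (MulAut.conj g).toMonoidHom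
    (fun z hz => (inferInstance : N.Normal).conj_mem z hz g)
    (fun z hz => (inferInstance : M.Normal).conj_mem z hz g)
  simp only [MulEquiv.coe_toMonoidHom, MulAut.conj_apply] at hr
  rw [← QuotientGroup.eq_one_iff, QuotientGroup.mk_pow, QuotientGroup.mk_mul, QuotientGroup.mk_inv,
    hr y hy, ← zpow_sub_one]
  set t := (QuotientGroup.mk y : G ⧸ N) with ht
  have htp : t ^ p ^ (j + 1) = 1 := by
    rw [ht, ← QuotientGroup.mk_pow]
    exact (QuotientGroup.eq_one_iff _).2 hj
  by_cases hty : t = 1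
  · simp [hty]
  -- the exponent is one modulo `p`
  obtain ⟨k, hk⟩ := IsPGroup.iff_orderOf.1 hG g
  have hpw : ∀ l : ℕ, (QuotientGroup.mk ((g ^ l) * y * (g ^ l)⁻¹) : G ⧸ N) = t ^ (r ^ l) := by
    intro l
    induction l with
    | zero => simp [ht]
    | succ l ih =>
      rw [show g ^ (l + 1) * y * (g ^ (l + 1))⁻¹ = g * (g ^ l * y * (g ^ l)⁻¹) * g⁻¹ by
          rw [pow_succ']; group,
        hr _ ((inferInstance : M.Normal).conj_mem y hy _), ih, ← zpow_mul, ← pow_succ]
  have h1 : t ^ (r ^ p ^ k - 1) = 1 := by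
    rw [zpow_sub_one, ← hpw, ← hk, pow_orderOf_eq_one]
    simp [ht]
  have hdvd : (p : ℤ) ∣ r ^ p ^ k - 1 := by
    obtain ⟨i, hi⟩ := IsPGroup.iff_orderOf.1 (hG.to_quotient N) t
    have hi0 : i ≠ 0 := fun h0 => hty (orderOf_eq_one_iff.1 (by rw [hi, h0, pow_zero]))
    have := orderOf_dvd_iff_zpow_eq_one.2 h1
    rw [hi] at this
    exact (Int.natCast_dvd_natCast.2 (dvd_pow_self p hi0)).trans this
  have hr1 : (p : ℤ) ∣ r - 1 := by
    rw [← ZMod.intCast_zmod_eq_zero_iff_dvd] at hdvd ⊢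
    push_cast at hdvd ⊢
    rwa [ZMod.pow_card_pow] at hdvd
  obtain ⟨b, hb⟩ := hr1
  rw [hb, ← zpow_natCast, ← zpow_mul]
  rw [show ((p : ℤ) * b) * (p ^ j : ℕ) = (p ^ (j + 1) : ℕ) * b by push_cast; ring, zpow_mul,
    zpow_natCast, htp, one_zpow]

/-- A central element of order `p` that is an eigenvector of every given automorphism. -/
theorem exists_eigen [Nontrivial G] (hG : IsPGroup p G) (s : Finset (MulAut G))
    (hcomm : ∀ a ∈ s, ∀ b ∈ s, a * b = b * a) (hpow : ∀ a ∈ s, a ^ (p - 1) = 1) :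
    ∃ v : G, v ∈ Subgroup.center G ∧ orderOf v = p ∧ ∀ a ∈ s, ∃ r : ℕ, a v = v ^ r := by
  classical
  let inst : CommGroup (Subgroup.center G) :=
    { (inferInstance : Group (Subgroup.center G)) with
      mul_comm := fun a b => Subtype.ext (Subgroup.mem_center_iff.1 b.2 a) }
  induction s using Finset.induction_on with
  | empty =>
    have := hG.center_nontrivial
    obtain ⟨k, hk, hc⟩ := (hG.to_subgroup (Subgroup.center G)).nontrivial_iff_card.1 this
    obtain ⟨v, hv⟩ := exists_prime_orderOf_dvd_card' p (G := Subgroup.center G)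
      (hc ▸ dvd_pow_self p hk.ne')
    exact ⟨v, v.2, by rw [Subgroup.orderOf_coe, hv], by simp⟩
  | insert b s hbs ih =>
    obtain ⟨v, hvc, hvo, hv⟩ := ih
      (fun a ha c hc => hcomm a (Finset.mem_insert_of_mem ha) c (Finset.mem_insert_of_mem hc))
      (fun a ha => hpow a (Finset.mem_insert_of_mem ha))
    have hc : ∀ (a : MulAut G) {z : G}, z ∈ Subgroup.center G → a z ∈ Subgroup.center G :=
      fun a z hz => by
        rw [Subgroup.mem_center_iff] at hz ⊢
        intro g
        have := congrArg a (hz (a⁻¹ g))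
        rwa [map_mul, map_mul, MulAut.apply_inv_self] at this
    let P : ℕ → Subgroup.center G := fun k => ⟨(b ^ k) v, hc _ hvc⟩
    let w : (ZMod p)ˣ → Subgroup.center G := fun u =>
      ∏ k ∈ Finset.range (p - 1), P k ^ (ZMod.val (((u : (ZMod p)ˣ) : ZMod p) ^ k) : ℕ)
    have hPo : ∀ k, P k ^ p = 1 := fun k => Subtype.ext (by
      show ((b ^ k) v) ^ p = 1
      rw [← map_pow, ← hvo, pow_orderOf_eq_one, map_one])
    have hPmod : ∀ (k a c : ℕ), ((a : ℕ) : ZMod p) = (c : ZMod p) → P k ^ a = P k ^ c :=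
      fun k a c h => pow_eq_pow_iff_modEq.2
        (((ZMod.natCast_eq_natCast_iff a c p).1 h).of_dvd (orderOf_dvd_of_pow_eq_one (hPo k)))
    have hprod : (∏ u, w u) ≠ 1 := by
      have h1 : (∏ u, w u) = P 0 ^ (p - 1) := by
        simp only [w]
        rw [Finset.prod_comm]
        simp only [Finset.prod_pow_eq_pow_sum]
        have h2 : ∀ k ∈ Finset.range (p - 1),
            P k ^ (∑ u : (ZMod p)ˣ, ((u : ZMod p) ^ k).val) = if k = 0 then P 0 ^ (p - 1) else 1 := by
          intro k hk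
          rw [Finset.mem_range] at hk
          split_ifs with h0
          · subst h0
            simp [ZMod.val_one, Nat.totient_prime (Fact.out : p.Prime)]
          · rw [← pow_zero (P k)]
            refine hPmod k _ _ ?_
            push_cast
            simp only [ZMod.natCast_zmod_val]
            rw [FiniteField.sum_pow_units, ZMod.card, if_neg (Nat.not_dvd_of_pos_of_lt (by omega) hk)]
        rw [Finset.prod_congr rfl h2, Finset.prod_ite_eq']
        rw [if_pos (Finset.mem_range.2 (by have := (Fact.out : p.Prime).two_le; omega))]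
      rw [h1]
      intro h
      have h2 : v ^ (p - 1) = 1 := by simpa [P] using congrArg Subtype.val h
      have := Nat.le_of_dvd (by have := (Fact.out : p.Prime).two_le; omega)
        (orderOf_dvd_of_pow_eq_one h2)
      rw [hvo] at this
      have := (Fact.out : p.Prime).two_le
      omega
    obtain ⟨u, -, hu⟩ := Finset.exists_ne_one_of_prod_ne_one hprod
    have hwp : w u ^ p = 1 := by
      simp only [w, ← Finset.prod_pow]
      exact Finset.prod_eq_one fun k _ => by rw [← pow_mul, mul_comm, pow_mul, hPo, one_pow]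
    refine ⟨(w u : G), (w u).2, ?_, fun a ha => ?_⟩
    · rw [Subgroup.orderOf_coe]
      exact orderOf_eq_prime hwp hu
    rw [Finset.mem_insert] at ha
    rcases ha with rfl | ha
    · refine ⟨((u⁻¹ : (ZMod p)ˣ) : ZMod p).val, ?_⟩
      have hf : ∀ k, a ((P k : Subgroup.center G) : G) = (P (k + 1) : G) := fun k => by
        show a ((a ^ k) v) = (a ^ (k + 1)) v
        rw [pow_succ', MulAut.mul_apply]
      let f : ℕ → Subgroup.center G := fun k =>
        P k ^ (((u : ZMod p) ^ k).val * ((u⁻¹ : (ZMod p)ˣ) : ZMod p).val)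
      have hL : a (w u : G) = ((∏ k ∈ Finset.range (p - 1), f (k + 1) : Subgroup.center G) : G) := by
        let φ : Subgroup.center G →* Subgroup.center G :=
          MonoidHom.mk' (fun z => ⟨a z, hc a z.2⟩) fun z z' => Subtype.ext (map_mul a _ _)
        show ((φ (w u) : Subgroup.center G) : G) = _
        refine congrArg Subtype.val ?_
        simp only [w, map_prod, map_pow]
        refine Finset.prod_congr rfl fun k _ => ?_
        have : φ (P k) = P (k + 1) := Subtype.ext (hf k)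
        rw [this]
        refine hPmod _ _ _ ?_
        push_cast
        simp only [ZMod.natCast_zmod_val]
        rw [pow_succ, mul_assoc, mul_inv_cancel₀ u.ne_zero, mul_one]
      have hR : w u ^ ((u⁻¹ : (ZMod p)ˣ) : ZMod p).val = ∏ k ∈ Finset.range (p - 1), f k := by
        simp only [w, f, ← Finset.prod_pow, ← pow_mul]
      have hper : f (p - 1) = f 0 := by
        simp only [f, P, hpow a (Finset.mem_insert_self a s), ZMod.pow_card_sub_one_eq_one u.ne_zero,
          pow_zero]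
      rw [hL, ← SubmonoidClass.coe_pow, hR]
      refine congrArg Subtype.val (mul_right_cancel (b := f 0) ?_)
      rw [← Finset.prod_range_succ', Finset.prod_range_succ, hper]
    · obtain ⟨r, hr⟩ := hv a ha
      refine ⟨r, ?_⟩
      let φ : Subgroup.center G →* Subgroup.center G :=
        MonoidHom.mk' (fun z => ⟨a z, hc a z.2⟩) fun z z' => Subtype.ext (map_mul a _ _)
      show ((φ (w u) : Subgroup.center G) : G) = _
      rw [← SubmonoidClass.coe_pow]
      refine congrArg Subtype.val ?_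
      simp only [w, map_prod, map_pow, ← Finset.prod_pow]
      refine Finset.prod_congr rfl fun k _ => ?_
      have : φ (P k) = P k ^ r := by
        refine Subtype.ext ?_
        show a ((b ^ k) v) = ((b ^ k) v) ^ r
        have hcom : Commute a (b ^ k) :=
          Commute.pow_right (hcomm a (Finset.mem_insert_of_mem ha) b (Finset.mem_insert_self b s)) k
        rw [← MulAut.mul_apply, hcom.eq, MulAut.mul_apply, hr, map_pow]
      rw [this, ← pow_mul, ← pow_mul, mul_comm]

theorem exists_series_aux : ∀ (N : ℕ) (G : Type u) [Group G] [Finite G], Nat.card G ≤ N →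
    IsPGroup p G → ∀ A : Subgroup (MulAut G), (∀ a ∈ A, ∀ b ∈ A, a * b = b * a) →
    (∀ a ∈ A, a ^ (p - 1) = 1) →
    ∃ (n : ℕ) (C : ℕ → Subgroup G), C 0 = ⊥ ∧ C n = ⊤ ∧ (∀ i, (C i).Normal) ∧
      (∀ i, ∀ a ∈ A, ∀ x ∈ C i, a x ∈ C i) ∧
      ∀ i < n, C i ≤ C (i + 1) ∧ ∃ x, C (i + 1) = C i ⊔ Subgroup.zpowers x := by
  intro N
  induction N with
  | zero => intro G _ _ h; exact absurd h (by have := Nat.card_pos (α := G); omega)
  | succ N ih =>
    intro G _ _ hN hG A hcomm hpow
    classical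
    rcases subsingleton_or_nontrivial G with hs | hnt
    · exact ⟨0, fun _ => ⊥, rfl, Subsingleton.elim _ _, fun _ => inferInstance,
        fun _ a _ x hx => by rw [Subgroup.mem_bot] at hx ⊢; rw [hx, map_one], by omega⟩
    have : Fintype (MulAut G) := Fintype.ofFinite _
    obtain ⟨v, hvc, hvo, hv⟩ := exists_eigen hG (Finset.univ.filter (· ∈ A))
      (fun a ha b hb => hcomm a (Finset.mem_filter.1 ha).2 b (Finset.mem_filter.1 hb).2)
      (fun a ha => hpow a (Finset.mem_filter.1 ha).2)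
    set W := Subgroup.zpowers v with hW
    have hWn : W.Normal := ⟨fun z hz g => by
      have : z ∈ Subgroup.center G := (Subgroup.zpowers_le.2 hvc) hz
      rw [Subgroup.mem_center_iff.1 this g, mul_inv_cancel_right]; exact hz⟩
    have hWmap : ∀ a : A, W.map ((a : MulAut G) : G →* G) = W := by
      intro a
      refine Subgroup.eq_of_le_of_card_ge ?_ (Subgroup.card_map_of_injective (a : MulAut G).injective).ge
      rw [MonoidHom.map_zpowers, Subgroup.zpowers_le]
      obtain ⟨r, hr⟩ := hv a (Finset.mem_filter.2 ⟨Finset.mem_univ _, a.2⟩)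
      exact hr ▸ W.pow_mem (Subgroup.mem_zpowers v) r
    let ρ : A →* MulAut (G ⧸ W) := MonoidHom.mk'
      (fun a => QuotientGroup.congr W W (a : MulAut G) (hWmap a))
      fun a b => MulEquiv.ext fun z => by
        induction z using QuotientGroup.induction_on
        rfl
    have hlt : Nat.card (G ⧸ W) < Nat.card G := by
      rw [Subgroup.card_eq_card_quotient_mul_card_subgroup W, Nat.card_zpowers, hvo]
      exact lt_mul_of_one_lt_right Nat.card_pos (Fact.out : p.Prime).one_lt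
    obtain ⟨n, C, hC0, hCn, hCnor, hCinv, hCstep⟩ := ih (G ⧸ W) (by omega) (hG.to_quotient W) ρ.range
      (by rintro _ ⟨a, rfl⟩ _ ⟨b, rfl⟩
          rw [← map_mul, ← map_mul, show a * b = b * a from Subtype.ext (hcomm a a.2 b b.2)])
      (by rintro _ ⟨a, rfl⟩
          rw [← map_pow, show a ^ (p - 1) = 1 from Subtype.ext (hpow a a.2), map_one])
    let D : ℕ → Subgroup G := fun i => match i with
      | 0 => ⊥
      | j + 1 => (C j).comap (QuotientGroup.mk' W)
    refine ⟨n + 1, D, rfl, ?_, ?_, ?_, ?_⟩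
    · show (C n).comap _ = ⊤
      rw [hCn, Subgroup.comap_top]
    · rintro (_ | j)
      · exact Subgroup.normal_bot
      · exact (hCnor j).comap _
    · rintro (_ | j) a ha x hx
      · rw [Subgroup.mem_bot.1 hx, map_one]; exact Subgroup.one_mem _
      · exact hCinv j (ρ ⟨a, ha⟩) ⟨_, rfl⟩ _ hx
    · rintro (_ | j) hj
      · refine ⟨bot_le, v, ?_⟩
        show (C 0).comap _ = ⊥ ⊔ W
        rw [hC0, MonoidHom.comap_bot, QuotientGroup.ker_mk', bot_sup_eq]
      · obtain ⟨hle, x, hx⟩ := hCstep j (by omega)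
        obtain ⟨y, rfl⟩ := QuotientGroup.mk'_surjective W x
        refine ⟨Subgroup.comap_mono hle, y, ?_⟩
        show (C (j + 1)).comap _ = (C j).comap _ ⊔ _
        have e : C j ⊔ Subgroup.zpowers (QuotientGroup.mk' W y) = Subgroup.map (QuotientGroup.mk' W)
            ((C j).comap (QuotientGroup.mk' W) ⊔ Subgroup.zpowers y) := by
          rw [Subgroup.map_sup, MonoidHom.map_zpowers,
            Subgroup.map_comap_eq_self_of_surjective (QuotientGroup.mk'_surjective W)]
        rw [hx, e, Subgroup.comap_map_eq_self (le_sup_of_le_left (Subgroup.ker_le_comap _ _))]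

/-- Commuting automorphisms of exponent dividing `p - 1` preserve a normal series with cyclic
steps. -/
theorem exists_series {G : Type u} [Group G] [Finite G] (hG : IsPGroup p G)
    (A : Subgroup (MulAut G)) (hcomm : ∀ a ∈ A, ∀ b ∈ A, a * b = b * a)
    (hpow : ∀ a ∈ A, a ^ (p - 1) = 1) :
    ∃ (n : ℕ) (C : ℕ → Subgroup G), C 0 = ⊥ ∧ C n = ⊤ ∧ (∀ i, (C i).Normal) ∧
      (∀ i, ∀ a ∈ A, ∀ x ∈ C i, a x ∈ C i) ∧
      ∀ i < n, C i ≤ C (i + 1) ∧ ∃ x, C (i + 1) = C i ⊔ Subgroup.zpowers x :=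
  exists_series_aux _ G le_rfl hG A hcomm hpow

end Series

variable {Ω : Type u} [Group Ω] {S : Subgroup Ω} [Finite S] {p : ℕ} [Fact p.Prime]
  {F : FusionSystem S}

/-- A chain gives a normal series of `S` with cyclic steps, invariant in the system. -/
theorem series_of_chain (h : HasChain F) :
    ∃ (n : ℕ) (C : ℕ → Subgroup Ω), C 0 = ⊥ ∧ C n = S ∧ (∀ i ≤ n, F.StronglyClosed (C i)) ∧
      ∀ i < n, C i ≤ C (i + 1) ∧
        ∃ x ∈ C (i + 1), C (i + 1) = C i ⊔ Subgroup.zpowers x := by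
  obtain ⟨m, c, h0, hm, hsc, hstep⟩ := h
  let C : ℕ → Subgroup Ω := fun i => if hi : i < m + 1 then c ⟨i, hi⟩ else S
  have hC : ∀ (i : ℕ) (hi : i < m + 1), C i = c ⟨i, hi⟩ := fun i hi => dif_pos hi
  refine ⟨m, C, (hC 0 (by omega)).trans h0, (hC m (by omega)).trans hm,
    fun i hi => hC i (by omega) ▸ hsc _, fun i hi => ?_⟩
  obtain ⟨hle, x, -, hx⟩ := hstep ⟨i, hi⟩
  rw [hC i (by omega), hC (i + 1) (by omega)]
  refine ⟨hle, x, ?_, hx⟩
  have h2 := hx.ge (Subgroup.mem_sup_right (Subgroup.mem_zpowers x))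
  exact h2

theorem normal_subgroupOf {T : Subgroup Ω} (hT : F.StronglyClosed T) : (T.subgroupOf S).Normal :=
  Subgroup.normal_subgroupOf_of_le_normalizer (le_normalizer_of_stronglyClosed hT)

/-- In a system with a chain the `p'`-automorphisms of `S` commute, with exponent dividing
`p - 1`. -/
theorem auts_of_chain (hS : IsPGroup p S) (h : HasChain F) (H : Subgroup (MulAut S))
    (hH : H ≤ F.autGroup S) (hcop : (Nat.card H).Coprime p) :
    IsMulCommutative H ∧ ∀ a ∈ H, a ^ (p - 1) = 1 := by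
  obtain ⟨n, C, h0, hn, hsc, hstep⟩ := series_of_chain h
  refine series_auts (p := p) (n := n) (C := fun i => (C i).subgroupOf S) hS ?_ ?_ ?_ ?_ ?_ H hcop ?_
  · simp only [h0, Subgroup.bot_subgroupOf]
  · simp only [hn, Subgroup.subgroupOf_self]
  · exact fun i hi => Subgroup.comap_mono (hstep i hi).1
  · exact fun i hi => normal_subgroupOf (hsc i hi.le)
  · intro i hi
    obtain ⟨hle, x, hx, he⟩ := hstep i hi
    have hxS : x ∈ S := (hsc (i + 1) hi).1 hx
    refine ⟨⟨x, hxS⟩, hx, fun y hy => ?_⟩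
    have hy' : (y : Ω) ∈ (((C i).subgroupOf S ⊔ Subgroup.zpowers (⟨x, hxS⟩ : S)).map S.subtype) := by
      rw [Subgroup.map_sup, Subgroup.map_subgroupOf_eq_of_le (hsc i hi.le).1, MonoidHom.map_zpowers]
      exact he.le hy
    exact (Subgroup.mem_map_iff_mem S.subtype_injective (x := y)).1 hy'
  · intro a ha i hi x hx
    rw [Subgroup.mem_subgroupOf] at hx ⊢
    rw [← autFun_apply]
    exact stronglyClosed_mem (hsc i hi) (isMap_of_mem_autGroup le_rfl (hH ha)) x.2 hx

/-- In a saturated system with a chain, `S` is normal. -/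
theorem normal_of_chain (hS : IsPGroup p S) (hF : F.IsSaturated p) (h : HasChain F) :
    F.IsNormal S := by
  obtain ⟨n, C, h0, hn, hsc, hstep⟩ := series_of_chain h
  obtain ⟨e, he⟩ := IsPGroup.iff_card.1 hS
  have hnorm : ∀ i ≤ n, ((C i).subgroupOf S).Normal := fun i hi => normal_subgroupOf (hsc i hi)
  have hcy : ∀ i (hi : i < n), ∀ a ∈ C (i + 1), ∀ b ∈ C (i + 1), a * b * a⁻¹ * b⁻¹ ∈ C i := by
    intro i hi a ha b hb
    obtain ⟨hle, x, hx, hxe⟩ := hstep i hi
    have := hnorm i hi.le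
    have hS1 := (hsc (i + 1) hi).1
    let π := QuotientGroup.mk' ((C i).subgroupOf S)
    have hmem : ∀ y (hy : y ∈ C (i + 1)),
        π ⟨y, hS1 hy⟩ ∈ Subgroup.zpowers (π ⟨x, hS1 hx⟩) := by
      intro y hy
      have hy' : (⟨y, hS1 hy⟩ : S) ∈
          (C i).subgroupOf S ⊔ Subgroup.zpowers (⟨x, hS1 hx⟩ : S) := by
        rw [← Subgroup.mem_map_iff_mem S.subtype_injective, Subgroup.map_sup,
          Subgroup.map_subgroupOf_eq_of_le (hsc i hi.le).1, MonoidHom.map_zpowers]
        exact hxe.le hy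
      have h1 := Subgroup.mem_map_of_mem π hy'
      rwa [Subgroup.map_sup, QuotientGroup.map_mk'_self, bot_sup_eq, MonoidHom.map_zpowers] at h1
    obtain ⟨s, hs⟩ := hmem a ha
    obtain ⟨t, ht⟩ := hmem b hb
    have h1 : π (⟨a, hS1 ha⟩ * ⟨b, hS1 hb⟩ * (⟨a, hS1 ha⟩ : S)⁻¹ * (⟨b, hS1 hb⟩ : S)⁻¹) = 1 := by
      rw [map_mul, map_mul, map_mul, map_inv, map_inv, ← hs, ← ht,
        zpow_mul_comm, mul_inv_cancel_right, mul_inv_cancel]
    exact ((QuotientGroup.eq_one_iff (N := (C i).subgroupOf S) _).1 h1 : _)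
  -- the refined series
  let D : ℕ → ℕ → Set Ω := fun i j => {y | y ∈ C (i + 1) ∧ y ^ p ^ j ∈ C i}
  have hsub : ∀ i (hi : i < n) (j : ℕ), ∃ K : Subgroup Ω, ∀ y, y ∈ K ↔ y ∈ D i j := by
    intro i hi j
    have hS1 := (hsc (i + 1) hi).1
    have := hnorm i hi.le
    let π := QuotientGroup.mk' ((C i).subgroupOf S)
    have hpow : ∀ {a b : Ω} (ha : a ∈ C (i + 1)) (hb : b ∈ C (i + 1)),
        (π ⟨a * b, S.mul_mem (hS1 ha) (hS1 hb)⟩) ^ p ^ j =
          π ⟨a, hS1 ha⟩ ^ p ^ j * π ⟨b, hS1 hb⟩ ^ p ^ j := by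
      intro a b ha hb
      have hc : Commute (π ⟨a, hS1 ha⟩) (π ⟨b, hS1 hb⟩) := by
        have h1 : π (⟨a, hS1 ha⟩ * ⟨b, hS1 hb⟩ * (⟨a, hS1 ha⟩ : S)⁻¹ * (⟨b, hS1 hb⟩ : S)⁻¹) = 1 :=
          (QuotientGroup.eq_one_iff _).2 (hcy i hi a ha b hb)
        rw [map_mul, map_mul, map_mul, map_inv, map_inv, mul_inv_eq_one, mul_inv_eq_iff_eq_mul] at h1
        exact h1
      rw [← hc.mul_pow, ← map_mul]
      rfl
    have hiff : ∀ {a : Ω} (ha : a ∈ C (i + 1)),
        a ^ p ^ j ∈ C i ↔ π ⟨a, hS1 ha⟩ ^ p ^ j = 1 := by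
      intro a ha
      rw [← map_pow]
      exact (QuotientGroup.eq_one_iff (N := (C i).subgroupOf S) (⟨a, hS1 ha⟩ ^ p ^ j)).symm
    let K0 : Subgroup Ω :=
      { carrier := D i j
        one_mem' := ⟨one_mem _, by rw [one_pow]; exact one_mem _⟩
        mul_mem' := by
          rintro a b ⟨ha, ha'⟩ ⟨hb, hb'⟩
          refine ⟨mul_mem ha hb, (hiff (mul_mem ha hb)).2 ?_⟩
          rw [hpow ha hb, (hiff ha).1 ha', (hiff hb).1 hb', one_mul]
        inv_mem' := by
          rintro a ⟨ha, ha'⟩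
          exact ⟨inv_mem ha, by rw [inv_pow]; exact inv_mem ha'⟩ }
    exact ⟨K0, fun _ => Iff.rfl⟩
  choose K hK using hsub
  let E := e + 1
  let C' : ℕ → Subgroup Ω := fun k => if hk : k / E < n then K (k / E) hk (k % E) else S
  have hKsc : ∀ i (hi : i < n) j, F.StronglyClosed (K i hi j) := by
    intro i hi j
    refine ⟨fun y hy => (hsc (i + 1) hi).1 ((hK i hi j y).1 hy).1, fun R hR φ hφ x => ?_⟩
    obtain ⟨h1, h2⟩ := (hK i hi j _).1 (hR x.2)
    refine (hK i hi j _).2 ⟨?_, ?_⟩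
    · have := stronglyClosed_mem (hsc (i + 1) hi) (IsMap.of_hom hφ) x.2 h1
      rwa [ext_apply] at this
    · have := stronglyClosed_mem (hsc i hi.le) (IsMap.of_hom hφ) (R.pow_mem x.2 _) h2
      rw [ext_of_mem φ (R.pow_mem x.2 _)] at this
      rw [← map_pow]
      exact this
  have hzero : ∀ i (hi : i < n), K i hi 0 = C i := fun i hi => by
    ext y
    rw [hK]
    exact ⟨fun hy => by simpa using hy.2, fun hy => ⟨(hstep i hi).1 hy, by simpa using hy⟩⟩
  have htop : ∀ i (hi : i < n), ∀ j, e ≤ j → K i hi j = C (i + 1) := fun i hi j hj => by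
    ext y
    rw [hK]
    refine ⟨fun hy => hy.1, fun hy => ⟨hy, ?_⟩⟩
    obtain ⟨t, rfl⟩ := Nat.exists_eq_add_of_le hj
    have h1 : (⟨y, (hsc (i + 1) hi).1 hy⟩ : S) ^ Nat.card S = 1 := pow_card_eq_one'
    rw [he] at h1
    have h2 : y ^ p ^ e = 1 := congrArg Subtype.val h1
    rw [pow_add, pow_mul, h2, one_pow]
    exact one_mem _
  have hmonoK : ∀ i (hi : i < n) j, K i hi j ≤ K i hi (j + 1) := fun i hi j y hy => by
    rw [hK] at hy ⊢
    exact ⟨hy.1, by rw [pow_succ, pow_mul]; exact pow_mem hy.2 _⟩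
  have hcentral : ∀ i (hi : i < n) j, ∀ g ∈ S, ∀ y ∈ K i hi (j + 1),
      g * y * g⁻¹ * y⁻¹ ∈ K i hi j := by
    intro i hi j g hg y hy
    rw [hK] at hy ⊢
    have hS1 := (hsc (i + 1) hi).1
    have hyc : g * y * g⁻¹ ∈ C (i + 1) :=
      (Subgroup.mem_normalizer_iff.1 (le_normalizer_of_stronglyClosed (hsc (i + 1) hi) hg) y).1 hy.1
    refine ⟨mul_mem hyc (inv_mem hy.1), ?_⟩
    obtain ⟨hle, x, hx, hxe⟩ := hstep i hi
    have := hnorm i hi.le
    have := hnorm (i + 1) hi
    exact conj_exp (p := p) (N := (C i).subgroupOf S) (M := (C (i + 1)).subgroupOf S) hS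
      (x := ⟨x, hS1 hx⟩) hx (Subgroup.comap_mono hle) (fun z hz => by
        rw [← Subgroup.mem_map_iff_mem S.subtype_injective, Subgroup.map_sup,
          Subgroup.map_subgroupOf_eq_of_le (hsc i hi.le).1, MonoidHom.map_zpowers]
        exact hxe.le hz)
      (y := ⟨y, hS1 hy.1⟩) hy.1 hy.2 ⟨g, hg⟩
  have hE : 0 < E := Nat.succ_pos e
  refine normal_of_series (p := p) hS hF (n * E) C' ?_ ?_ ?_ ?_ ?_
  · rcases Nat.eq_zero_or_pos n with h | h
    · simp only [C']
      rw [dif_neg (by simp [h])]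
      rw [← hn, ← h0, h]
    · simp only [C', Nat.zero_div, Nat.zero_mod]
      rw [dif_pos h, hzero 0 h, h0]
  · simp only [C']
    rw [dif_neg (by rw [Nat.mul_div_cancel _ hE]; omega)]
  · intro k hk
    have hk' : k / E < n := Nat.div_lt_of_lt_mul (by rwa [mul_comm])
    simp only [C']
    rw [dif_pos hk']
    rcases Nat.lt_or_ge (k % E + 1) E with h | h
    · have hkeq : k + 1 = (k % E + 1) + E * (k / E) := by
        have := Nat.div_add_mod k E
        omega
      have hd : (k + 1) / E = k / E := by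
        rw [hkeq, Nat.add_mul_div_left _ _ hE, Nat.div_eq_of_lt h, zero_add]
      have hm : (k + 1) % E = k % E + 1 := by
        rw [hkeq, Nat.add_mul_mod_self_left, Nat.mod_eq_of_lt h]
      simp only [hd, dif_pos hk', hm]
      exact hmonoK _ _ _
    · have hk1 : k + 1 = (k / E + 1) * E := by
        have := Nat.div_add_mod k E
        have := Nat.mod_lt k hE
        rw [add_mul, one_mul, mul_comm]
        omega
      rw [htop _ hk' _ (by omega), hk1, Nat.mul_div_cancel _ hE, Nat.mul_mod_left]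
      split_ifs with h2
      · rw [hzero]
      · exact (hsc _ hk').1
  · intro k hk
    simp only [C']
    split_ifs with h2
    · exact hKsc _ _ _
    · exact ⟨le_rfl, fun _ _ _ hφ => (F.le_of_mem hφ).2⟩
  · intro k hk g hg y hy
    have hk' : k / E < n := Nat.div_lt_of_lt_mul (by rwa [mul_comm])
    simp only [C'] at hy ⊢
    rw [dif_pos hk']
    rcases Nat.lt_or_ge (k % E + 1) E with h | h
    · have hkeq : k + 1 = (k % E + 1) + E * (k / E) := by
        have := Nat.div_add_mod k E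
        omega
      have hd : (k + 1) / E = k / E := by
        rw [hkeq, Nat.add_mul_div_left _ _ hE, Nat.div_eq_of_lt h, zero_add]
      have hm : (k + 1) % E = k % E + 1 := by
        rw [hkeq, Nat.add_mul_mod_self_left, Nat.mod_eq_of_lt h]
      simp only [hd, dif_pos hk', hm] at hy
      exact hcentral _ _ _ g hg y hy
    · have hk1 : k + 1 = (k / E + 1) * E := by
        have := Nat.div_add_mod k E
        have := Nat.mod_lt k hE
        rw [add_mul, one_mul, mul_comm]
        omega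
      have hy2 : y ∈ C (k / E + 1) := by
        rw [hk1, Nat.mul_div_cancel _ hE, Nat.mul_mod_left] at hy
        split_ifs at hy with h2
        · rwa [hzero] at hy
        · rw [show k / E + 1 = n by omega, hn]; exact hy
      have : y ∈ K (k / E) hk' (k % E + 1) := by
        rw [htop _ hk' _ (by omega)]; exact hy2
      exact hcentral _ _ _ g hg y this

theorem inn_eq : autInducedBy S S = Inn S := by
  ext α
  rw [mem_autInducedBy_iff', mem_inn_iff]
  exact ⟨fun ⟨g, hg, h⟩ => ⟨g, hg.1, h⟩,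
    fun ⟨g, hg, h⟩ => ⟨g, ⟨hg, Subgroup.le_normalizer hg⟩, h⟩⟩

/-- If `S` is normal and the `p'`-automorphisms are abelian of exponent dividing `p - 1`, there is
a chain. -/
theorem chain_of_normal (hS : IsPGroup p S) (hF : F.IsSaturated p) (hn : F.IsNormal S)
    (hH : ∀ H : Subgroup (MulAut S), (Nat.card H).Coprime p →
      IsMulCommutative H ∧ ∀ h ∈ H, h ^ (p - 1) = 1) : HasChain F := by
  classical
  set N := (Inn S).subgroupOf (F.autGroup S) with hN
  have hcop : (Nat.card N).Coprime N.index := by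
    have hfn : F.IsFullyNormalized S := ⟨le_rfl, fun R hR => by
      rw [Alperin.eq_top_of_card le_rfl hR rfl]⟩
    have h2 := ((fullyAutomized_iff hS).1 (fullyNormalized_fullyAutomized hS hF hfn)).2
    rw [inn_eq] at h2
    obtain ⟨k, hk⟩ := (IsPGroup.iff_card (p := p)).1
      ((inn_eq (S := S) ▸ isPGroup_autInducedBy hS : IsPGroup p (Inn S)).comap_of_injective
        (F.autGroup S).subtype Subtype.val_injective)
    rw [show Nat.card N = p ^ k from hk]
    exact ((Fact.out : p.Prime).coprime_iff_not_dvd.2 h2).pow_left k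
  obtain ⟨H₀, hH₀⟩ := Subgroup.exists_right_complement'_of_coprime hcop
  set A := H₀.map (F.autGroup S).subtype with hA
  have hAcop : (Nat.card A).Coprime p := by
    rw [hA, Subgroup.card_map_of_injective Subtype.val_injective, ← hH₀.symm.index_eq_card]
    have hfn : F.IsFullyNormalized S := ⟨le_rfl, fun R hR => by
      rw [Alperin.eq_top_of_card le_rfl hR rfl]⟩
    have h2 := ((fullyAutomized_iff hS).1 (fullyNormalized_fullyAutomized hS hF hfn)).2
    rw [inn_eq] at h2
    exact ((Fact.out : p.Prime).coprime_iff_not_dvd.2 h2).symm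
  obtain ⟨hc, hp⟩ := hH A hAcop
  obtain ⟨n, C, h0, hCn, hnor, hinv, hstep⟩ := exists_series hS A
    (fun a ha b hb => congrArg Subtype.val (hc.is_comm.comm (⟨a, ha⟩ : A) ⟨b, hb⟩)) hp
  refine ⟨n, fun i => (C i).map S.subtype, ?_, ?_, fun i => ?_, fun i => ?_⟩
  · simp [h0]
  · simp only [Fin.val_last, hCn]
    rw [← MonoidHom.range_eq_map, Subgroup.range_subtype]
  · refine ⟨Subgroup.map_subtype_le _, fun R hR φ hφ x => ?_⟩
    obtain ⟨g, hg, hge, hgS⟩ := (isNormal_iff.1 hn).2 R (ext φ) (IsMap.of_hom hφ)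
    obtain ⟨α, hα, hαe⟩ := (hg.restrict le_sup_right).exists_aut hgS
    have hxS : (x : Ω) ∈ S := (F.le_of_mem hφ).1 x.2
    rw [← ext_apply φ x, ← hge x x.2, ← hαe x hxS]
    obtain ⟨⟨a, b⟩, hab⟩ := hH₀.2 ⟨α, hα⟩
    obtain ⟨z, hz, hzx⟩ := hR x.2
    have hxz : (⟨x, hxS⟩ : S) = z := Subtype.ext hzx.symm
    have hαab : α = ((a : F.autGroup S) : MulAut S) * ((b : F.autGroup S) : MulAut S) :=
      (congrArg Subtype.val hab).symm
    rw [autFun_of_mem _ hxS, hxz]
    refine ⟨α z, ?_, rfl⟩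
    rw [hαab, MulAut.mul_apply]
    have h1 := hinv i.1 _ (Subgroup.mem_map_of_mem _ b.2) z hz
    obtain ⟨s, hs⟩ := (a.2 : ((a : F.autGroup S) : MulAut S) ∈ Inn S)
    have hs' : ((a : F.autGroup S) : MulAut S) = MulAut.conj s := hs.symm
    rw [hs', SetLike.mem_coe, MulAut.conj_apply]
    exact (hnor i.1).conj_mem _ h1 s
  · obtain ⟨hle, y, hy⟩ := hstep i.1 i.2
    refine ⟨Subgroup.map_mono hle, y, y.2, ?_⟩
    simp only [Fin.val_succ, Fin.val_castSucc, hy, Subgroup.map_sup, MonoidHom.map_zpowers]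
    rfl

/-- A saturated system containing prescribed automorphisms of `p'`-order. -/
theorem exists_system (hS : IsPGroup p S) (H : Subgroup (MulAut S))
    (hH : (Nat.card H).Coprime p) :
    ∃ F : FusionSystem S, F.IsSaturated p ∧ H ≤ F.autGroup S := by
  classical
  have : Finite H := inferInstance
  let G := S ⋊[H.subtype] H
  have : Finite G := Finite.of_equiv _ SemidirectProduct.equivProd.symm
  let ι : S →* G := SemidirectProduct.inl
  have hcard : Nat.card ι.range = Nat.card S :=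
    (Nat.card_congr (MonoidHom.ofInjective SemidirectProduct.inl_injective).toEquiv).symm
  have hidx : ¬ p ∣ ι.range.index := by
    have h1 := ι.range.card_mul_index
    rw [hcard, Nat.card_congr SemidirectProduct.equivProd, Nat.card_prod] at h1
    rw [Nat.eq_of_mul_eq_mul_left Nat.card_pos h1]
    exact (Fact.out : p.Prime).coprime_iff_not_dvd.1 hH.symm
  let T : Sylow p G := (hS.of_equiv (MonoidHom.ofInjective SemidirectProduct.inl_injective)).toSylow hidx
  have hT : ∀ g : G, g ∈ (T : Subgroup G) ↔ ∃ s : S, ι s = g := fun g => Iff.rfl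
  let e : Transport.Iso (T : Subgroup G) S :=
    { fwd := fun g => (g.left : Ω)
      bwd := fun ω => if h : ω ∈ S then ι ⟨ω, h⟩ else 1
      to_mem := fun g _ => g.left.2
      inv_mem := fun y hy => by rw [dif_pos hy]; exact ⟨_, rfl⟩
      to_mul := fun a ha b hb => by
        obtain ⟨s, rfl⟩ := (hT a).1 ha
        obtain ⟨t, rfl⟩ := (hT b).1 hb
        rw [← map_mul]
        rfl
      inv_to := fun g hg => by
        obtain ⟨s, rfl⟩ := (hT g).1 hg
        have h1 : (ι s).left = s := rfl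
        exact (dif_pos (ι s).left.2).trans (congrArg ι h1)
      to_inv := fun y hy => by rw [dif_pos hy]; rfl }
  refine ⟨Transport.push e (groupFusionSystem (T : Subgroup G)),
    Transport.push_saturated e T.isPGroup' (Group.group_saturated T), fun α hα => ?_⟩
  refine (mem_autGroup_iff le_rfl).2 ((Transport.isMap_push_iff e).2
    ⟨le_rfl, fun x hx => autFun_mem α hx, ?_⟩)
  have him : Transport.im e.bwd S = (T : Subgroup G) := e.symm.img_self
  rw [him]
  have key : ∀ s : S, e.bwd (autFun α (e.fwd (ι s))) =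
      cj (SemidirectProduct.inr ⟨α, hα⟩ : G) (ι s) := by
    intro s
    have h1 : e.fwd (ι s) = (s : Ω) := rfl
    rw [h1, autFun_apply]
    show (if h : ((α s : S) : Ω) ∈ S then ι ⟨_, h⟩ else 1) = _
    rw [dif_pos (α s).2, cj_apply, ← map_inv]
    exact SemidirectProduct.inl_aut (φ := H.subtype) ⟨α, hα⟩ s
  refine Group.isMap_group_iff.2 ⟨le_rfl, fun g hg => ?_, SemidirectProduct.inr ⟨α, hα⟩,
    fun g hg => ?_⟩
  · obtain ⟨s, rfl⟩ := (hT g).1 hg
    exact e.inv_mem _ (autFun_mem α s.2)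
  · obtain ⟨s, rfl⟩ := (hT g).1 hg
    exact key s

end Cfsg.Agent.Fusion.SupersolubleChain
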