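/-
Saturated systems over a group whose automorphism group is a `p`-group.
-/
import Mathlib
import Cfsg.Agent.Lib.Fusion.Saturation
import Cfsg.Agent.Lib.Fusion.Alperin

set_option autoImplicit false

namespace Cfsg.Agent.Fusion.TwoGroupAut

open Cfsg Cfsg.FusionSystem Cfsg.Agent.Fusion.Basic Cfsg.Agent.Fusion.Saturation

theorem autGroup_eq_inn {Ω : Type*} [Group Ω] {S : Subgroup Ω} [Finite S] {p : ℕ} [Fact p.Prime]
    (hS : IsPGroup p S) {F : FusionSystem S} (hF : F.IsSaturated p)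
    (hA : IsPGroup p (MulAut S)) : F.autGroup S = Inn S := by
  refine le_antisymm (fun α hα => ?_) (inn_le_autGroup le_rfl)
  have hn : F.IsFullyNormalized S := ⟨le_rfl, fun R hR => by
    rw [Alperin.eq_top_of_card le_rfl hR rfl]⟩
  obtain ⟨R, hR⟩ := (fullyNormalized_fullyAutomized hS hF hn).2
  have hp : IsPGroup p (⊤ : Subgroup (F.autGroup S)) := (hA.to_subgroup _).to_subgroup _
  have htop : (R : Subgroup (F.autGroup S)) = ⊤ := (R.3 hp le_top).symm
  have h1 : (⟨α, hα⟩ : F.autGroup S) ∈ (R : Subgroup (F.autGroup S)) := htop ▸ Subgroup.mem_top _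
  rw [hR, Subgroup.mem_subgroupOf] at h1
  obtain ⟨g, hg, he⟩ := mem_autInducedBy_iff'.1 h1
  exact mem_inn_iff.2 ⟨g, hg.1, he⟩

/-- Automorphism groups of isomorphic groups are isomorphic. -/
theorem isPGroup_mulAut_congr {X Y : Type*} [Group X] [Group Y] (e : X ≃* Y) {p : ℕ}
    (h : IsPGroup p (MulAut Y)) : IsPGroup p (MulAut X) := by
  intro a
  obtain ⟨k, hk⟩ := h (MulAut.congr e a)
  refine ⟨k, (MulAut.congr e).injective ?_⟩
  rw [map_pow, hk, map_one]

end Cfsg.Agent.Fusion.TwoGroupAut
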