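/-
Weakly normal subsystems over the whole group: strong invariance, and the automorphisms they must
contain.
-/
import Mathlib
import Cfsg.Agent.Lib.Fusion.Subsystems
import Cfsg.Agent.Lib.Fusion.Group

set_option autoImplicit false

namespace Cfsg.Agent.Fusion.WeaklyNormalTop

open Cfsg Cfsg.FusionSystem Cfsg.Agent.Fusion.Basic Cfsg.Agent.Fusion.Saturation
  Cfsg.Agent.Fusion.Subsystems

variable {Ω : Type*} [Group Ω] {S T P Q R : Subgroup Ω} {F : FusionSystem S} {E : FusionSystem T}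
  {f ψ : Ω → Ω}

/-- Conjugation of a map of an invariant subsystem by an arbitrary map of the system. -/
theorem conj_transport (hE : E.IsInvariantIn F) (hψ : IsMap F Q ψ) (hQT : Q ≤ T)
    (hf : IsMap E P f) (hPQ : P ≤ Q) (hfQ : ∀ x ∈ P, f x ∈ Q) :
    ∃ g, IsMap E (img ψ P) g ∧ ∀ x ∈ P, g (ψ x) = ψ (f x) := by
  obtain ⟨α, hα, ψ₀, hψ₀, he⟩ := invariant_frattini hE hQT hψ
  obtain ⟨k, hk, hkimg, hke, -⟩ := (hψ₀.restrict hPQ).exists_inv
  have hkP : ∀ y ∈ img ψ₀ P, k y ∈ P := fun y hy => hkimg.le (mem_img_self k hy)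
  have hh : IsMap E (img ψ₀ P) fun y => ψ₀ (f (k y)) :=
    hψ₀.comp (hf.comp hk hkP) fun y hy => hfQ _ (hkP y hy)
  obtain ⟨g, hg, hge⟩ := invariant_transport hE (hψ₀.restrict hPQ).img_le_S hh hα
  have himg : img (autFun α) (img ψ₀ P) = img ψ P := by
    rw [(hψ₀.restrict hPQ).img_img, img_congr fun x hx => (he x (hPQ hx)).symm]
  refine ⟨g, himg ▸ hg, fun x hx => ?_⟩
  rw [he x (hPQ hx), hge _ (mem_img_self ψ₀ hx), hke x hx, ← he _ (hfQ x hx)]

/-- `Aut_E(R)` is normal in `Aut_F(R)`. -/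
theorem autGroup_normal (hE : E.IsInvariantIn F) (hR : R ≤ T) :
    ((E.autGroup R).subgroupOf (F.autGroup R)).Normal := by
  refine ⟨fun b hb c => ?_⟩
  have hRS : R ≤ S := hR.trans (subsystem_le hE.1)
  obtain ⟨g, hg, hge⟩ := conj_transport hE (isMap_of_mem_autGroup hRS c.2) hR
    (isMap_of_mem_autGroup hR (Subgroup.mem_subgroupOf.1 hb)) le_rfl fun x hx => autFun_mem _ hx
  rw [autFun_img] at hg
  refine Subgroup.mem_subgroupOf.2 ((mem_autGroup_iff hR).2 (hg.congr fun x hx => ?_))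
  rw [Subgroup.coe_mul, Subgroup.coe_mul, Subgroup.coe_inv, autFun_mul, autFun_mul,
    ← hge _ (autFun_mem _ hx), autFun_apply_inv]

/-- At fully normalized subgroups an invariant subsystem over `S` contains all automorphisms of
`p`-power order. -/
theorem pElement_mem [Finite S] {p : ℕ} [Fact p.Prime] (hS : IsPGroup p S)
    (hF : F.IsSaturated p) {E : FusionSystem S} (hE : E.IsInvariantIn F)
    (hR : F.IsFullyNormalized R) {α : MulAut R} (hα : α ∈ F.autGroup R) {k : ℕ}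
    (hk : orderOf α = p ^ k) : α ∈ E.autGroup R := by
  have : Finite R := finite_of_le hR.1
  set AF := F.autGroup R
  set N := (E.autGroup R).subgroupOf AF with hN
  have : N.Normal := autGroup_normal hE hR.1
  obtain ⟨P₀, hP₀⟩ := (fullyNormalized_fullyAutomized hS hF hR).2
  have hle : (P₀ : Subgroup AF) ≤ N := by
    rw [hP₀]
    exact fun a ha => Subgroup.mem_subgroupOf.2 (autInducedBy_le hR.1 (Subgroup.mem_subgroupOf.1 ha))
  have hidx : N.index.Coprime p :=
    Nat.Coprime.coprime_dvd_left (Subgroup.index_dvd_of_le hle)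
      ((Fact.out : p.Prime).coprime_iff_not_dvd.2 P₀.not_dvd_index).symm
  have h1 : orderOf (QuotientGroup.mk' N ⟨α, hα⟩) ∣ p ^ k :=
    (orderOf_map_dvd _ _).trans (by rw [Subgroup.orderOf_mk, hk])
  have h2 : orderOf (QuotientGroup.mk' N ⟨α, hα⟩) ∣ N.index := orderOf_dvd_natCard _
  have h3 : QuotientGroup.mk' N ⟨α, hα⟩ = 1 :=
    orderOf_eq_one_iff.1 (Nat.eq_one_of_dvd_coprimes (hidx.pow_right k) h2 h1)
  exact Subgroup.mem_subgroupOf.1 ((QuotientGroup.eq_one_iff _).1 h3)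

end Cfsg.Agent.Fusion.WeaklyNormalTop
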