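/-
A criterion for simplicity of the fusion system of a finite group.
-/
import Mathlib
import Cfsg.Agent.S5160
import Cfsg.Agent.Lib.Cores.Nilpotent

set_option autoImplicit false
set_option linter.unusedSectionVars false

namespace Cfsg.Agent.Fusion.SimpleCriterion

open Cfsg Cfsg.FusionSystem Cfsg.Agent.Fusion.Basic Cfsg.Agent.Fusion.Saturation
  Cfsg.Agent.Fusion.Subsystems

variable {G : Type*} [Group G] [Finite G] {p : ℕ} [Fact p.Prime] {S : Sylow p G}

/-- The elements acting on `S` as conjugation by an element of a self-centralizing normal subgroup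
`R`'s `p`-element generated normalizer part. -/
def localSet (S : Sylow p G) : Set G :=
  {h | h ∈ Subgroup.normalizer ((S : Subgroup G) : Set G) ∧ ∃ R : Subgroup G,
    R ≤ (S : Subgroup G) ∧ (S : Subgroup G) ≤ Subgroup.normalizer (R : Set G) ∧
    Subgroup.centralizer (R : Set G) ≤ R ∧
    h ∈ Subgroup.closure {x : G | x ∈ Subgroup.normalizer (R : Set G) ∧ ∃ k : ℕ, orderOf x = p ^ k}}

theorem closed {T : Subgroup G} (hT : (groupFusionSystem (S : Subgroup G)).StronglyClosed T)
    {g x : G} (hx : x ∈ T) (hgx : g * x * g⁻¹ ∈ (S : Subgroup G)) : g * x * g⁻¹ ∈ T := by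
  have hm : IsMap (groupFusionSystem (S : Subgroup G)) (Subgroup.zpowers x) (cj g) := by
    refine Group.isMap_group_iff.2
      ⟨Subgroup.zpowers_le.2 (hT.1 hx), fun y hy => ?_, g, fun _ _ => rfl⟩
    obtain ⟨i, rfl⟩ := Subgroup.mem_zpowers_iff.1 hy
    rw [cj_apply, ← conj_zpow]
    exact Subgroup.zpow_mem _ hgx i
  exact Normal.stronglyClosed_mem hT hm (Subgroup.mem_zpowers x) hx

/-- A nontrivial strongly closed subgroup contains a nontrivial central element of `S`. -/
theorem exists_central {T : Subgroup G}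
    (hT : (groupFusionSystem (S : Subgroup G)).StronglyClosed T) (hne : T ≠ ⊥) :
    ∃ z ∈ T, z ≠ 1 ∧ ∀ s ∈ (S : Subgroup G), s * z = z * s := by
  have : Group.IsNilpotent (S : Subgroup G) := S.2.isNilpotent
  have hn : (T.subgroupOf (S : Subgroup G)).Normal :=
    Subgroup.normal_subgroupOf_of_le_normalizer (Normal.le_normalizer_of_stronglyClosed hT)
  have hne' : T.subgroupOf (S : Subgroup G) ≠ ⊥ := by
    rw [Ne, Subgroup.subgroupOf_eq_bot, disjoint_iff, inf_eq_left.2 hT.1]
    exact hne
  obtain ⟨z, hz, hz1⟩ :=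
    (Subgroup.bot_or_exists_ne_one _).resolve_left (Cfsg.Agent.Cores.inf_center_ne_bot hne')
  refine ⟨z, hz.1, fun h => hz1 (Subtype.ext h), fun s hs => ?_⟩
  exact congrArg Subtype.val (Subgroup.mem_center_iff.1 hz.2 ⟨s, hs⟩)

/-- The fusion system is simple if it has no proper nontrivial strongly closed subgroup and `N_G(S)`
is generated by `C_G(S)`, `S` and local elements. -/
theorem isSimple (hS1 : (S : Subgroup G) ≠ ⊥)
    (ha : ∀ T : Subgroup G, (groupFusionSystem (S : Subgroup G)).StronglyClosed T →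
      T = ⊥ ∨ T = (S : Subgroup G))
    (hgen : Subgroup.normalizer ((S : Subgroup G) : Set G) ≤
      Subgroup.closure ((Subgroup.centralizer ((S : Subgroup G) : Set G) : Set G) ∪
        ((S : Subgroup G) : Set G) ∪ localSet S)) :
    (groupFusionSystem (S : Subgroup G)).IsSimple p := by
  set F := groupFusionSystem (S : Subgroup G)
  have hF : F.IsSaturated p := Group.group_saturated S
  refine ⟨hF, hS1, fun T E hE => ?_⟩
  have hinv : E.IsInvariantIn F := hE.1.2.2
  refine (ha T hinv.2.1).imp id fun hTS => ?_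
  subst hTS
  refine ⟨rfl, fun P => Set.Subset.antisymm (hinv.1 P) fun φ hφ => ?_⟩
  have hloc : ∀ h ∈ localSet S, IsMap E (S : Subgroup G) (cj h) := by
    rintro h ⟨hN, R, hRS, hRn, hRC, hh⟩
    refine Cfsg.Agent.S5160.isMap_cj_top S hF hE.1.1 hinv ?_ ?_ hh hN
    · refine ⟨hRS, fun Q _ => ?_⟩
      rw [show normalizerIn (S : Subgroup G) R = (S : Subgroup G) from inf_eq_left.2 hRn]
      exact card_le_card normalizerIn_le
    · refine ⟨hRS, fun Q hQ => ?_⟩
      obtain ⟨-, -, g, rfl⟩ := Group.isConj_group_iff.1 hQ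
      intro x hx
      have hy : g⁻¹ * x * g ∈ R := hRC fun r hr => by
        have h1 : (g * r * g⁻¹) * x = x * (g * r * g⁻¹) := hx.2 _ (mem_img_self (cj g) hr)
        calc r * (g⁻¹ * x * g) = g⁻¹ * ((g * r * g⁻¹) * x) * g := by group
          _ = g⁻¹ * (x * (g * r * g⁻¹)) * g := by rw [h1]
          _ = g⁻¹ * x * g * r := by group
      simpa [cj, mul_assoc] using mem_img_self (cj g) hy
  have hgood : ∀ g ∈ Subgroup.closure ((Subgroup.centralizer ((S : Subgroup G) : Set G) : Set G) ∪
      ((S : Subgroup G) : Set G) ∪ localSet S),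
      IsMap E (S : Subgroup G) (cj g) := by
    intro g hg
    induction hg using Subgroup.closure_induction_left with
    | one => rw [cj_one]; exact isMap_id le_rfl
    | mul_left x hx y _ ih =>
      have hx' : IsMap E (S : Subgroup G) (cj x) := by
        rcases hx with (hx | hx) | hx
        · refine (isMap_id (F := E) le_rfl).congr fun s hs => ?_
          rw [id, cj_apply, ← hx s hs, mul_inv_cancel_right]
        · exact isMap_cj le_rfl hx
        · exact hloc x hx
      exact (hx'.comp ih fun s hs => ih.mem hs).congr fun s _ => (cj_mul x y s).symm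
    | inv_mul_cancel x hx y _ ih =>
      have hx' : IsMap E (S : Subgroup G) (cj x) := by
        rcases hx with (hx | hx) | hx
        · refine (isMap_id (F := E) le_rfl).congr fun s hs => ?_
          rw [id, cj_apply, ← hx s hs, mul_inv_cancel_right]
        · exact isMap_cj le_rfl hx
        · exact hloc x hx
      obtain ⟨k, hk, -, hkx, -⟩ := hx'.exists_inv
      have himg : img (cj x) (S : Subgroup G) = (S : Subgroup G) :=
        eq_of_le_card hx'.img_le_S hx'.card_img.ge
      rw [himg] at hk
      refine (hk.comp ih fun s hs => ih.mem hs).congr fun s hs => ?_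
      have hs' : cj (x⁻¹ * y) s ∈ (S : Subgroup G) := by
        obtain ⟨z, hz, hze⟩ := hx'.mem_img.1 (himg.symm ▸ ih.mem hs)
        rw [cj_mul, ← hze, cj_inv_cj]
        exact hz
      rw [show cj y s = cj x (cj (x⁻¹ * y) s) by rw [← cj_mul]; simp]
      exact hkx _ hs'
  obtain ⟨α, hα, f₀, hf₀, he⟩ :=
    invariant_frattini hinv (F.le_of_mem hφ).1 (IsMap.of_hom hφ)
  have hαE : IsMap E (S : Subgroup G) (autFun α) := by
    obtain ⟨-, -, g, hg⟩ := Group.isMap_group_iff.1 (isMap_of_mem_autGroup le_rfl hα)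
    have hgN : g ∈ Subgroup.normalizer ((S : Subgroup G) : Set G) :=
      mem_normalizer_of_forall fun s hs => by
        have h1 := autFun_mem α hs
        rwa [hg s hs, cj_apply] at h1
    exact (hgood g (hgen hgN)).congr fun s hs => (hg s hs).symm
  refine (hαE.comp hf₀ fun x hx => hf₀.mem hx).hom_mem fun x => ?_
  rw [← ext_apply φ x, he x x.2]

end Cfsg.Agent.Fusion.SimpleCriterion
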