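/-
A maximal isotropic flag of a hermitian space: the flag unipotent subgroup of `SU_n(q)` is a
`p`-group generated by Heisenberg elements, its normalizer, and torus elements as products of
Heisenberg elements.
-/
import Mathlib
import Cfsg.Agent.Lib.AutPSU.Centre

set_option autoImplicit false
set_option linter.unusedSectionVars false

namespace Cfsg.Agent.Fusion.UnitaryFlag

open Matrix Cfsg.Agent.Classical Cfsg.Agent.Classical.Unitary Cfsg.Agent.Forms
  Cfsg.Agent.AutPSU.Basic Cfsg.Agent.AutPSU.Centre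

universe u

variable {F : Type u} [Field F] [Fintype F] {q n m : ℕ}

local notation "Vec" => (Fin n → F)
local notation "SUn" => Cfsg.SU n F q
local notation "H" => Cfsg.hermForm n F q

/-- A hyperbolic frame with anisotropic complement. -/
structure Frame (q : ℕ) {n m : ℕ} (e f : Fin m → Fin n → F) : Prop where
  ee : ∀ i j, Cfsg.hermForm n F q (e i) (e j) = 0
  ff : ∀ i j, Cfsg.hermForm n F q (f i) (f j) = 0
  ef : ∀ i j, Cfsg.hermForm n F q (e i) (f j) = if i = j then 1 else 0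
  aniso : ∀ x, (∀ i, Cfsg.hermForm n F q x (e i) = 0) → (∀ i, Cfsg.hermForm n F q x (f i) = 0) →
    Cfsg.hermForm n F q x x = 0 → x = 0

/-- The span of the first `i` vectors of the flag. -/
def Vsp (e : Fin m → Fin n → F) (i : ℕ) : Submodule F (Fin n → F) :=
  Submodule.span F (e '' {j | (j : ℕ) < i})

/-- The component orthogonal to the frame. -/
def rest (q : ℕ) (e f : Fin m → Fin n → F) (x : Fin n → F) : Fin n → F :=
  x - ∑ j, (Cfsg.hermForm n F q x (f j) • e j + Cfsg.hermForm n F q x (e j) • f j)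

theorem mem_Vsp_self (e : Fin m → Vec) {i : ℕ} {j : Fin m} (h : (j : ℕ) < i) : e j ∈ Vsp e i :=
  Submodule.subset_span ⟨j, h, rfl⟩

theorem Vsp_mono (e : Fin m → Vec) {i k : ℕ} (h : i ≤ k) : Vsp e i ≤ Vsp e k :=
  Submodule.span_mono (Set.image_mono fun _ hj => lt_of_lt_of_le hj h)

theorem mulVec_sub_mem {e : Fin m → Vec} {i : ℕ} {M : Matrix (Fin n) (Fin n) F}
    (h : ∀ j : Fin m, (j : ℕ) < i → M *ᵥ e j ∈ Vsp e i) {x : Vec} (hx : x ∈ Vsp e i) :
    M *ᵥ x ∈ Vsp e i := by
  refine Submodule.span_le.2 ?_ hx |> fun h' => (show x ∈ (Vsp e i).comap (Matrix.mulVecLin M)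
    from h')
  rintro _ ⟨j, hj, rfl⟩
  exact h j hj

theorem fixes_Vsp {e : Fin m → Vec} {i : ℕ} {M : Matrix (Fin n) (Fin n) F}
    (h : ∀ j : Fin m, (j : ℕ) < i → M *ᵥ e j = e j) {x : Vec} (hx : x ∈ Vsp e i) :
    M *ᵥ x = x := by
  induction hx using Submodule.span_induction with
  | mem y hy => obtain ⟨l, hl, rfl⟩ := hy; exact h l hl
  | zero => exact Matrix.mulVec_zero _
  | add y z _ _ hy hz => rw [Matrix.mulVec_add, hy, hz]
  | smul a y _ hy => rw [Matrix.mulVec_smul, hy]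

theorem inv_eq_pow {G : Type*} [Group G] [Finite G] (g : G) : ∃ k : ℕ, g⁻¹ = g ^ k :=
  ⟨orderOf g - 1, inv_eq_of_mul_eq_one_right (by
    rw [← pow_succ', Nat.sub_add_cancel (orderOf_pos g), pow_orderOf_eq_one])⟩

/-- The elements fixing the flag pointwise. -/
def fixFlag (q : ℕ) (e : Fin m → Fin n → F) : Subgroup (Cfsg.SU n F q) where
  carrier := {s | ∀ j : Fin m, mat s *ᵥ e j = e j}
  one_mem' := fun j => by rw [mat_one, Matrix.one_mulVec]
  mul_mem' := fun {s t} hs ht j => by rw [mul_mulVec, ht, hs]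
  inv_mem' := fun {s} hs j => inv_mulVec s (hs j)

variable (hF : Fintype.card F = q ^ 2)
include hF

theorem pow_map {e : Fin m → Vec} {i : ℕ} {g : SUn}
    (h : ∀ x ∈ Vsp e i, mat g *ᵥ x ∈ Vsp e i) (k : ℕ) :
    ∀ x ∈ Vsp e i, mat (g ^ k) *ᵥ x ∈ Vsp e i := by
  induction k with
  | zero => intro x hx; rwa [pow_zero, mat_one, Matrix.one_mulVec]
  | succ k ih => intro x hx; rw [pow_succ', mul_mulVec]; exact h _ (ih x hx)

theorem inv_map {e : Fin m → Vec} {i : ℕ} {g : SUn}
    (h : ∀ x ∈ Vsp e i, mat g *ᵥ x ∈ Vsp e i) :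
    ∀ x ∈ Vsp e i, mat g⁻¹ *ᵥ x ∈ Vsp e i := by
  obtain ⟨k, hk⟩ := inv_eq_pow g
  rw [hk]
  exact pow_map hF h k

section

variable {e f : Fin m → Fin n → F} (fr : Frame q e f)
include fr

theorem fe (i j : Fin m) : H (f i) (e j) = if i = j then 1 else 0 := by
  rw [← H_conj hF, fr.ef j i]
  split_ifs with h1 h2 h2
  · rw [one_pow]
  · exact absurd h1.symm h2
  · exact absurd h2.symm h1
  · rw [zero_pow (q_ne_zero hF)]

theorem rest_e (x : Vec) (i : Fin m) : H (rest q e f x) (e i) = 0 := by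
  rw [rest, H_sub_left, H_sum_left]
  simp only [H_add_left, H_smul_left, fr.ee, fe hF fr, mul_zero, zero_add, mul_ite, mul_one]
  simp

theorem rest_f (x : Vec) (i : Fin m) : H (rest q e f x) (f i) = 0 := by
  rw [rest, H_sub_left, H_sum_left]
  simp only [H_add_left, H_smul_left, fr.ff, fr.ef, mul_zero, add_zero, mul_ite, mul_one]
  simp

theorem rest_self {x : Vec} (he : ∀ i, H x (e i) = 0) (hf : ∀ i, H x (f i) = 0) :
    rest q e f x = x := by
  simp [rest, he, hf]

theorem decompose (x : Vec) :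
    x = rest q e f x + ∑ j, (H x (f j) • e j + H x (e j) • f j) := (sub_add_cancel _ _).symm

theorem Vsp_e {i : ℕ} {x : Vec} (hx : x ∈ Vsp e i) (j : Fin m) : H x (e j) = 0 := by
  induction hx using Submodule.span_induction with
  | mem y hy => obtain ⟨l, -, rfl⟩ := hy; exact fr.ee l j
  | zero => exact H_zero_left _
  | add y z _ _ hy hz => rw [H_add_left, hy, hz, add_zero]
  | smul a y _ hy => rw [H_smul_left, hy, mul_zero]

theorem Vsp_f {i : ℕ} {x : Vec} (hx : x ∈ Vsp e i) {j : Fin m} (hj : i ≤ (j : ℕ)) :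
    H x (f j) = 0 := by
  induction hx using Submodule.span_induction with
  | mem y hy =>
    obtain ⟨l, hl, rfl⟩ := hy
    rw [fr.ef, if_neg]
    intro h
    subst h
    simp only [Set.mem_setOf_eq] at hl
    omega
  | zero => exact H_zero_left _
  | add y z _ _ hy hz => rw [H_add_left, hy, hz, add_zero]
  | smul a y _ hy => rw [H_smul_left, hy, mul_zero]

theorem Vsp_rest {i : ℕ} {x : Vec} (hx : x ∈ Vsp e i) : rest q e f x = 0 := by
  induction hx using Submodule.span_induction with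
  | mem y hy =>
    obtain ⟨l, -, rfl⟩ := hy
    simp [rest, fr.ef, fr.ee]
  | zero => simp [rest, H_zero_left]
  | add y z _ _ hy hz =>
    have h : rest q e f (y + z) = rest q e f y + rest q e f z := by
      simp only [rest, H_add_left, add_smul, Finset.sum_add_distrib]
      module
    rw [h, hy, hz, add_zero]
  | smul a y _ hy =>
    have h : rest q e f (a • y) = a • rest q e f y := by
      simp only [rest, H_smul_left, ← smul_smul, ← smul_add, ← Finset.smul_sum, smul_sub]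
    rw [h, hy, smul_zero]

theorem mem_Vsp {i : ℕ} {x : Vec} (he : ∀ j, H x (e j) = 0) (hr : rest q e f x = 0)
    (hf : ∀ j : Fin m, i ≤ (j : ℕ) → H x (f j) = 0) : x ∈ Vsp e i := by
  rw [decompose hF fr x, hr, zero_add]
  refine Submodule.sum_mem _ fun j _ => ?_
  rw [he j, zero_smul, add_zero]
  by_cases hj : (j : ℕ) < i
  · exact Submodule.smul_mem _ _ (mem_Vsp_self e hj)
  · rw [hf j (by omega), zero_smul]; exact zero_mem _

theorem H_rest {r : Vec} (hre : ∀ i, H r (e i) = 0) (hrf : ∀ i, H r (f i) = 0) (x : Vec) :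
    H x r = H (rest q e f x) r := by
  have h1 : ∀ i, H (e i) r = 0 := fun i => (H_eq_zero_comm hF).1 (hre i)
  have h2 : ∀ i, H (f i) r = 0 := fun i => (H_eq_zero_comm hF).1 (hrf i)
  conv_lhs => rw [decompose hF fr x]
  simp [H_add_left, H_sum_left, H_smul_left, h1, h2]

theorem rest_line {r x : Vec} (hre : ∀ i, H r (e i) = 0) (hrf : ∀ i, H r (f i) = 0) (hr : r ≠ 0)
    (hxe : ∀ i, H x (e i) = 0) (hxf : ∀ i, H x (f i) = 0) : ∃ c : F, x = c • r := by
  have hrr : H r r ≠ 0 := fun h => hr (fr.aniso r hre hrf h)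
  refine ⟨H x r / H r r, sub_eq_zero.1 ?_⟩
  set y := x - (H x r / H r r) • r with hy
  by_contra hne
  have hye : ∀ i, H y (e i) = 0 := fun i => by rw [hy, H_sub_left, H_smul_left, hxe, hre]; simp
  have hyf : ∀ i, H y (f i) = 0 := fun i => by rw [hy, H_sub_left, H_smul_left, hxf, hrf]; simp
  have hyr : H y r = 0 := by rw [hy, H_sub_left, H_smul_left, div_mul_cancel₀ _ hrr, sub_self]
  have hyy : H y y ≠ 0 := fun h => hne (fr.aniso y hye hyf h)
  obtain ⟨t, ht⟩ := UnitaryCount.exists_norm_eq hF (μ := -H r r / H y y)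
    (div_ne_zero (neg_ne_zero.2 hrr) hyy) (by
      rw [← HermStd.qHom_apply hF, map_div₀, map_neg, HermStd.qHom_apply, HermStd.qHom_apply,
        H_conj hF, H_conj hF])
  have hry : H r y = 0 := (H_eq_zero_comm hF).1 hyr
  have h0 : r + t • y = 0 := by
    refine fr.aniso _ (fun i => by simp [H_add_left, H_smul_left, hre, hye])
      (fun i => by simp [H_add_left, H_smul_left, hrf, hyf]) ?_
    simp only [H_add_left, H_add_right hF, H_smul_left, H_smul_right, hyr, hry, mul_zero, add_zero,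
      zero_add]
    rw [show t ^ q * (t * H y y) = t ^ (q + 1) * H y y by ring, ht, div_mul_cancel₀ _ hyy]
    ring
  have h1 := congrArg (fun z => H z r) h0
  simp [H_add_left, H_smul_left, hyr, H_zero_left] at h1
  exact hrr h1

/-- The flag unipotent subgroup. -/
def flagGroup (e : Fin m → Fin n → F) : Subgroup SUn where
  carrier := {s | ∀ j : Fin m, mat s *ᵥ e j - e j ∈ Vsp e (j : ℕ)}
  one_mem' := fun j => by rw [mat_one, Matrix.one_mulVec, sub_self]; exact zero_mem _
  mul_mem' := by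
    intro s t hs ht j
    have hst : mat (s * t) *ᵥ e j - e j =
        mat s *ᵥ (mat t *ᵥ e j - e j) + (mat s *ᵥ e j - e j) := by
      rw [mul_mulVec, Matrix.mulVec_sub]; abel
    rw [hst]
    refine add_mem (mulVec_sub_mem (fun l hl => ?_) (ht j)) (hs j)
    have := add_mem (Vsp_mono e hl.le (hs l)) (mem_Vsp_self e hl)
    rwa [sub_add_cancel] at this
  inv_mem' := by
    intro s hs j
    have hmap : ∀ x ∈ Vsp e (j : ℕ), mat s *ᵥ x ∈ Vsp e (j : ℕ) := fun x hx =>
      mulVec_sub_mem (fun l hl => by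
        have := add_mem (Vsp_mono e hl.le (hs l)) (mem_Vsp_self e hl)
        rwa [sub_add_cancel] at this) hx
    have h := neg_mem (inv_map hF hmap _ (hs j))
    rwa [Matrix.mulVec_sub, ← mul_mulVec, inv_mul_cancel, mat_one, Matrix.one_mulVec,
      neg_sub] at h

local notation "U₀" => flagGroup hF e

theorem map_Vsp {s : SUn} (hs : s ∈ U₀) (i : ℕ) {x : Vec} (hx : x ∈ Vsp e i) :
    mat s *ᵥ x ∈ Vsp e i :=
  mulVec_sub_mem (fun l hl => by
    have := add_mem (Vsp_mono e hl.le (hs l)) (mem_Vsp_self e hl)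
    rwa [sub_add_cancel] at this) hx

theorem heis_mulVec_e {k : Fin m} {s : SUn} {w : Vec} {a : F} (hs : IsHeis (e k) s w a)
    (j : Fin m) : mat s *ᵥ e j = e j - H (e j) w • e k := by
  rw [hs, fr.ee, zero_smul, add_zero]

theorem heis_mem_flag {k : Fin m} {s : SUn} {w : Vec} {a : F} (hs : IsHeis (e k) s w a)
    (hw : ∀ j : Fin m, (j : ℕ) ≤ k → H (e j) w = 0) : s ∈ U₀ := fun j => by
  rw [heis_mulVec_e hF fr hs, sub_sub_cancel_left]
  by_cases hj : (j : ℕ) ≤ k
  · rw [hw j hj, zero_smul, neg_zero]; exact zero_mem _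
  · exact neg_mem (Submodule.smul_mem _ _ (mem_Vsp_self e (by omega)))

local notation "R₀" => fixFlag q e

theorem fixFlag_le : R₀ ≤ U₀ := fun s hs j => by rw [hs j, sub_self]; exact zero_mem _

/-- The Heisenberg elements in the flag unipotent subgroup generate `G`. -/
def heisGen : Subgroup SUn :=
  Subgroup.closure {s | (∃ k, s ∈ heisGroup hF (fr.ee k k)) ∧ s ∈ U₀}

local notation "G₀" => heisGen hF fr

theorem heisGen_le : G₀ ≤ U₀ := (Subgroup.closure_le _).2 fun _ hs => hs.2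

/-- The Heisenberg elements fixing the flag generate `GW`. -/
def heisFix : Subgroup SUn :=
  Subgroup.closure {s | (∃ k, s ∈ heisGroup hF (fr.ee k k)) ∧ s ∈ R₀}

local notation "GW" => heisFix hF fr

theorem heisFix_le : GW ≤ R₀ := (Subgroup.closure_le _).2 fun _ hs => hs.2

theorem heisFix_le_gen : GW ≤ G₀ :=
  Subgroup.closure_mono fun _ hs => ⟨hs.1, fixFlag_le hF fr hs.2⟩

theorem heisFix_perp {s : SUn} (hs : s ∈ GW) {x : Vec} (hx : ∀ j, H x (e j) = 0) :
    mat s *ᵥ x - x ∈ Vsp e m := by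
  have hpres : ∀ (t : SUn), (∀ j, mat t *ᵥ e j = e j) → ∀ y ∈ Vsp e m, mat t *ᵥ y = y := by
    intro t ht y hy
    induction hy using Submodule.span_induction with
    | mem z hz => obtain ⟨l, -, rfl⟩ := hz; exact ht l
    | zero => exact Matrix.mulVec_zero _
    | add z w _ _ hz hw => rw [Matrix.mulVec_add, hz, hw]
    | smul a z _ hz => rw [Matrix.mulVec_smul, hz]
  induction hs using Subgroup.closure_induction generalizing x with
  | mem t ht =>
    obtain ⟨⟨k, w, a, -, hw⟩, -⟩ := ht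
    rw [hw, hx k, zero_smul, add_zero, sub_sub_cancel_left]
    exact neg_mem (Submodule.smul_mem _ _ (mem_Vsp_self e k.2))
  | one => rw [mat_one, Matrix.one_mulVec, sub_self]; exact zero_mem _
  | mul s t hs' ht' ihs iht =>
    have hfix := heisFix_le hF fr hs'
    rw [mul_mulVec, show mat s *ᵥ (mat t *ᵥ x) - x =
      mat s *ᵥ (mat t *ᵥ x - x) + (mat s *ᵥ x - x) by rw [Matrix.mulVec_sub]; abel]
    rw [hpres s hfix _ (iht hx)]
    exact add_mem (iht hx) (ihs hx)
  | inv s hs' ihs =>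
    have hfix := heisFix_le hF fr (Subgroup.inv_mem _ hs')
    have h := hpres _ hfix _ (ihs hx)
    rw [Matrix.mulVec_sub, ← mul_mulVec, inv_mul_cancel, mat_one, Matrix.one_mulVec] at h
    have h2 := neg_mem (ihs hx)
    rw [← h, neg_sub] at h2
    exact h2

theorem exists_shift_smul (i : Fin m) {u : Vec} (hu : u ∈ Vsp e (i : ℕ)) (a : F) :
    ∃ g ∈ G₀, (∀ l, l ≠ i → mat g *ᵥ e l = e l) ∧ mat g *ᵥ e i = e i + a • u := by
  induction hu using Submodule.span_induction generalizing a with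
  | mem v hv =>
    obtain ⟨k, hk, rfl⟩ := hv
    simp only [Set.mem_setOf_eq] at hk
    have hki : k ≠ i := fun h => by subst h; omega
    have hok : Ok q (e k) ((-(a ^ q)) • f i) 0 := by
      refine ⟨by rw [H_smul_left, fe hF fr, if_neg (Ne.symm hki), mul_zero], ?_⟩
      rw [zero_pow (q_ne_zero hF), H_smul_left, H_smul_right, fr.ff]
      simp
    have hq1 : (-(a ^ q)) ^ q = -a := by
      rw [← HermStd.qHom_apply hF, map_neg, HermStd.qHom_apply, pow_qq hF]
    refine ⟨heisEl hF (fr.ee k k) hok, Subgroup.subset_closure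
      ⟨⟨k, _, _, hok, isHeis_heisEl hF _ hok⟩, heis_mem_flag hF fr (isHeis_heisEl hF _ hok)
        fun j hj => ?_⟩, fun l hl => ?_, ?_⟩
    · rw [H_smul_right, fr.ef, if_neg (fun h => by subst h; omega), mul_zero]
    · rw [heis_mulVec_e hF fr (isHeis_heisEl hF _ hok), H_smul_right, fr.ef, if_neg hl, mul_zero,
        zero_smul, sub_zero]
    · rw [heis_mulVec_e hF fr (isHeis_heisEl hF _ hok), H_smul_right, fr.ef, if_pos rfl, mul_one,
        hq1, neg_smul, sub_neg_eq_add]
  | zero => exact ⟨1, one_mem _, fun l _ => by simp [mat_one], by simp [mat_one]⟩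
  | add v w hv _ ihv ihw =>
    obtain ⟨g, hg, hgl, hgi⟩ := ihv a
    obtain ⟨g', hg', hgl', hgi'⟩ := ihw a
    refine ⟨g' * g, mul_mem hg' hg, fun l hl => by rw [mul_mulVec, hgl l hl, hgl' l hl], ?_⟩
    have hy' : mat g' *ᵥ v = v :=
      fixes_Vsp (fun l hl => hgl' l fun h => by subst h; omega) hv
    rw [mul_mulVec, hgi, Matrix.mulVec_add, Matrix.mulVec_smul, hgi', hy', smul_add]
    abel
  | smul b v _ ihv => rw [smul_smul]; exact ihv (a * b)

/-- A map changing one flag vector by a prescribed earlier one. -/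
theorem exists_shift (i : Fin m) {u : Vec} (hu : u ∈ Vsp e (i : ℕ)) :
    ∃ g ∈ G₀, (∀ l, l ≠ i → mat g *ᵥ e l = e l) ∧ mat g *ᵥ e i = e i + u := by
  simpa using exists_shift_smul hF fr i hu 1

theorem adjust_e {y : SUn} {a : Fin m → F} (ha : ∀ j, a j ≠ 0)
    (hy : ∀ j : Fin m, mat y *ᵥ e j - a j • e j ∈ Vsp e (j : ℕ)) :
    ∃ h ∈ G₀, ∀ j, mat (h⁻¹ * y) *ᵥ e j = a j • e j := by
  suffices ∀ i, i ≤ m → ∃ h ∈ G₀,
      (∀ j : Fin m, (j : ℕ) < i → mat (h⁻¹ * y) *ᵥ e j = a j • e j) ∧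
      ∀ j : Fin m, mat (h⁻¹ * y) *ᵥ e j - a j • e j ∈ Vsp e (j : ℕ) by
    obtain ⟨h, hh, he, -⟩ := this m le_rfl
    exact ⟨h, hh, fun j => he j j.2⟩
  intro i
  induction i with
  | zero =>
    exact fun _ => ⟨1, one_mem _, fun j hj => absurd hj (by omega), fun j => by
      rw [inv_one, one_mul]; exact hy j⟩
  | succ i ih =>
    intro hi
    obtain ⟨h, hh, hlt, hall⟩ := ih (by omega)
    set k : Fin m := ⟨i, by omega⟩ with hk
    set u := (a k)⁻¹ • (mat (h⁻¹ * y) *ᵥ e k - a k • e k) with hu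
    obtain ⟨g, hg, hgl, hgk⟩ := exists_shift hF fr k (Submodule.smul_mem _ (a k)⁻¹ (hall k))
    have hgl' : ∀ l, l ≠ k → mat g⁻¹ *ᵥ e l = e l := fun l hl => inv_mulVec g (hgl l hl)
    refine ⟨h * g, mul_mem hh hg, fun j hj => ?_, fun j => ?_⟩
    · rw [_root_.mul_inv_rev, mul_assoc, mul_mulVec]
      by_cases hjk : j = k
      · subst hjk
        have e1 : mat (h⁻¹ * y) *ᵥ e k = a k • (e k + u) := by
          rw [hu, smul_add, smul_smul, mul_inv_cancel₀ (ha k), one_smul, add_sub_cancel]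
        rw [e1, Matrix.mulVec_smul, inv_mulVec g hgk]
      · have : (j : ℕ) < i := by
          have : (j : ℕ) ≠ i := fun e => hjk (Fin.ext e)
          omega
        rw [hlt j this, Matrix.mulVec_smul, hgl' j hjk]
    · rw [_root_.mul_inv_rev, mul_assoc, mul_mulVec]
      by_cases hjk : j = k
      · subst hjk
        have e1 : mat (h⁻¹ * y) *ᵥ e k = a k • (e k + u) := by
          rw [hu, smul_add, smul_smul, mul_inv_cancel₀ (ha k), one_smul, add_sub_cancel]
        rw [e1, Matrix.mulVec_smul, inv_mulVec g hgk, sub_self]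
        exact zero_mem _
      · have h1 := map_Vsp hF fr (Subgroup.inv_mem _ (heisGen_le hF fr hg)) _ (hall j)
        rwa [Matrix.mulVec_sub, Matrix.mulVec_smul, hgl' j hjk] at h1

theorem adjust_f {y : SUn} {a : Fin m → F} (ha : ∀ j, a j ≠ 0)
    (hy : ∀ j : Fin m, mat y *ᵥ e j = a j • e j) :
    ∃ h ∈ GW, (∀ j, mat (h⁻¹ * y) *ᵥ e j = a j • e j) ∧
      ∀ j, mat (h⁻¹ * y) *ᵥ f j = (a j ^ q)⁻¹ • f j := by
  suffices ∀ i, i ≤ m → ∃ h ∈ GW,
      ∀ j : Fin m, (j : ℕ) < i → mat (h⁻¹ * y) *ᵥ f j = (a j ^ q)⁻¹ • f j by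
    obtain ⟨h, hh, hf⟩ := this m le_rfl
    refine ⟨h, hh, fun j => ?_, fun j => hf j j.2⟩
    rw [mul_mulVec, hy, Matrix.mulVec_smul, Subgroup.inv_mem _ (heisFix_le hF fr hh) j]
  intro i
  induction i with
  | zero => exact fun _ => ⟨1, one_mem _, fun j hj => absurd hj (by omega)⟩
  | succ i ih =>
    intro hi
    obtain ⟨h, hh, hlt⟩ := ih (by omega)
    set k : Fin m := ⟨i, by omega⟩ with hk
    set z := h⁻¹ * y with hz
    have hze : ∀ j, mat z *ᵥ e j = a j • e j := fun j => by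
      rw [hz, mul_mulVec, hy, Matrix.mulVec_smul, Subgroup.inv_mem _ (heisFix_le hF fr hh) j]
    have hc0 : (a k ^ q) ≠ 0 := pow_ne_zero _ (ha k)
    set v := (a k ^ q) • (mat z *ᵥ f k) with hv
    have hve : ∀ j, H v (e j) = if k = j then 1 else 0 := by
      intro j
      have h1 := SU_H z (f k) (e j)
      rw [hze j, H_smul_right, fe hF fr] at h1
      rw [hv, H_smul_left]
      split_ifs with hkj
      · subst hkj
        rw [if_pos rfl] at h1
        exact h1
      · rw [if_neg hkj] at h1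
        rw [(mul_eq_zero.1 h1).resolve_left (pow_ne_zero _ (ha j)), mul_zero]
    have hvv : H v v = 0 := by
      rw [hv, UnitaryCount.hermForm_smul_smul, SU_H, fr.ff, mul_zero]
    have hvf : ∀ j : Fin m, (j : ℕ) < i → H v (f j) = 0 := by
      intro j hj
      have h1 := SU_H z (f k) (f j)
      rw [hlt j hj, H_smul_right, fr.ff] at h1
      rw [hv, H_smul_left, (mul_eq_zero.1 h1).resolve_left
        (pow_ne_zero _ (inv_ne_zero (pow_ne_zero _ (ha j)))), mul_zero]
    set u := v - f k with hu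
    have hue : ∀ j, H u (e j) = 0 := fun j => by rw [hu, H_sub_left, hve, fe hF fr, sub_self]
    have heu : H (e k) u = 0 := (H_eq_zero_comm hF).1 (hue k)
    set c := H u (f k) with hc
    set w := u - c • e k with hw
    have hwe : ∀ j, H w (e j) = 0 := fun j => by
      rw [hw, H_sub_left, H_smul_left, hue, fr.ee, mul_zero, sub_zero]
    have hfw : H (f k) w = 0 := by
      rw [hw, H_sub_right hF, H_smul_right, fe hF fr, if_pos rfl, mul_one, hc, H_conj hF, sub_self]
    have hok : Ok q (e k) w c := by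
      refine ⟨hwe k, ?_⟩
      have hww : H w w = H u u := by
        rw [hw]
        simp only [H_sub_left, H_sub_right hF, H_smul_left, H_smul_right, hue, heu, fr.ee, mul_zero,
          sub_zero]
      have h2 : v = f k + u := by rw [hu, add_sub_cancel]
      rw [h2] at hvv
      simp only [H_add_left, H_add_right hF, fr.ff, zero_add] at hvv
      rw [hww, hc, H_conj hF]
      linear_combination hvv
    have hg := isHeis_heisEl hF (fr.ee k k) hok
    set g := heisEl hF (fr.ee k k) hok with hgdef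
    have hgR : g ∈ R₀ := fun j => by
      rw [heis_mulVec_e hF fr hg, (H_eq_zero_comm hF).1 (hwe j), zero_smul, sub_zero]
    have hgf : mat g *ᵥ f k = v := by
      rw [hg, fe hF fr, if_pos rfl, one_smul, hfw, zero_smul, sub_zero, hw, hu]
      module
    refine ⟨h * g, mul_mem hh (Subgroup.subset_closure ⟨⟨k, w, c, hok, hg⟩, hgR⟩),
      fun j hj => ?_⟩
    rw [_root_.mul_inv_rev, mul_assoc, ← hz, mul_mulVec]
    by_cases hjk : j = k
    · subst hjk
      have e1 : mat z *ᵥ f k = (a k ^ q)⁻¹ • v := by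
        rw [hv, smul_smul, inv_mul_cancel₀ hc0, one_smul]
      rw [e1, Matrix.mulVec_smul, inv_mulVec g hgf]
    · have hji : (j : ℕ) < i := by
        have : (j : ℕ) ≠ i := fun e => hjk (Fin.ext e)
        omega
      have hfix : mat g *ᵥ f j = f j := by
        have hwf : H (f j) w = 0 := by
          refine (H_eq_zero_comm hF).1 ?_
          rw [hw, H_sub_left, H_smul_left, fr.ef, if_neg (Ne.symm hjk), mul_zero, sub_zero, hu,
            H_sub_left, hvf j hji, fr.ff, sub_self]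
        rw [hg, fe hF fr, if_neg hjk, hwf, zero_smul, zero_smul, add_zero, sub_zero]
      rw [hlt j hji, Matrix.mulVec_smul, inv_mulVec g hfix]

theorem diag_rest {z : SUn} {a : Fin m → F} (ha : ∀ j, a j ≠ 0)
    (he : ∀ j, mat z *ᵥ e j = a j • e j) (hf : ∀ j, mat z *ᵥ f j = (a j ^ q)⁻¹ • f j)
    {x : Vec} (hxe : ∀ j, H x (e j) = 0) (hxf : ∀ j, H x (f j) = 0) :
    (∀ j, H (mat z *ᵥ x) (e j) = 0) ∧ ∀ j, H (mat z *ᵥ x) (f j) = 0 := by
  refine ⟨fun j => ?_, fun j => ?_⟩
  · have h1 := SU_H z x (e j)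
    rw [he, H_smul_right, hxe] at h1
    exact (mul_eq_zero.1 h1).resolve_left (pow_ne_zero _ (ha j))
  · have h1 := SU_H z x (f j)
    rw [hf, H_smul_right, hxf] at h1
    exact (mul_eq_zero.1 h1).resolve_left (pow_ne_zero _ (inv_ne_zero (pow_ne_zero _ (ha j))))

theorem mulVec_decompose (z : SUn) (x : Vec) :
    mat z *ᵥ x = mat z *ᵥ rest q e f x +
      ∑ j, (H x (f j) • (mat z *ᵥ e j) + H x (e j) • (mat z *ᵥ f j)) := by
  conv_lhs => rw [decompose hF fr x]
  simp only [Matrix.mulVec_add, Matrix.mulVec_sum, Matrix.mulVec_smul]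

theorem diag_one {z : SUn} (he : ∀ j, mat z *ᵥ e j = e j) (hf : ∀ j, mat z *ᵥ f j = f j) :
    z = 1 := by
  by_cases hR : ∀ x, rest q e f x = 0
  · refine SU_ext fun x => ?_
    rw [mat_one, Matrix.one_mulVec, mulVec_decompose hF fr z x, hR, Matrix.mulVec_zero, zero_add]
    simp only [he, hf]
    conv_rhs => rw [decompose hF fr x, hR, zero_add]
  push Not at hR
  obtain ⟨x₀, hx₀⟩ := hR
  set r := rest q e f x₀ with hr
  have hre := rest_e hF fr x₀
  have hrf := rest_f hF fr x₀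
  have hrr : H r r ≠ 0 := fun h => hx₀ (fr.aniso r hre hrf h)
  obtain ⟨h1, h2⟩ := diag_rest hF fr (a := fun _ => 1) (fun _ => one_ne_zero)
    (fun j => by rw [he, one_smul]) (fun j => by rw [hf, one_pow, inv_one, one_smul]) hre hrf
  obtain ⟨μ, hμ⟩ := rest_line hF fr hre hrf hx₀ h1 h2
  have hz : mat z = two q (((μ - 1) / H r r) • r) r 0 0 := by
    refine mat_ext fun x => ?_
    rw [two_mulVec, H_zero_right hF, zero_smul, add_zero, mulVec_decompose hF fr z x]
    simp only [he, hf]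
    obtain ⟨c, hc⟩ := rest_line hF fr hre hrf hx₀ (rest_e hF fr x) (rest_f hF fr x)
    have hxr : H x r = c * H r r := by
      rw [H_rest hF fr hre hrf x, hc, H_smul_left]
    rw [hc, Matrix.mulVec_smul, hμ, hxr, smul_smul, smul_smul]
    conv_rhs => rw [decompose hF fr x, hc, show c * H r r * ((μ - 1) / H r r) = c * (μ - 1) by
      field_simp]
    module
  have hd : (mat z).det = 1 := z.1.2
  rw [hz, det_two, H_zero_left, H_smul_left, div_mul_cancel₀ _ hrr] at hd
  have hμ1 : μ = 1 := by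
    have h3 : H (0 : Vec) r = 0 := H_zero_left r
    simp only [h3, zero_mul, sub_zero, add_zero, mul_one] at hd
    linear_combination hd
  refine SU_ext fun x => ?_
  rw [hz, two_mulVec, hμ1, sub_self, zero_div, zero_smul, smul_zero, smul_zero, add_zero,
    add_zero, mat_one, Matrix.one_mulVec]

theorem fixFlag_le_heisFix : R₀ ≤ GW := by
  intro s hs
  obtain ⟨h, hh, he, hf⟩ := adjust_f hF fr (a := fun _ => 1) (fun _ => one_ne_zero)
    (fun j => by rw [hs j, one_smul])
  simp only [one_smul, one_pow, inv_one] at he hf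
  rw [← inv_mul_eq_one.1 (diag_one hF fr he hf)]
  exact hh

theorem flag_le_gen : U₀ ≤ G₀ := by
  intro s hs
  obtain ⟨h, hh, he⟩ := adjust_e hF fr (a := fun _ => 1) (fun _ => one_ne_zero)
    (fun j => by rw [one_smul]; exact hs j)
  simp only [one_smul] at he
  have := mul_mem hh (heisFix_le_gen hF fr (fixFlag_le_heisFix hF fr he))
  rwa [mul_inv_cancel_left] at this

/-- Elements scaling the flag vectors normalize the flag unipotent subgroup. -/
theorem diag_normalizes {y : SUn} {a : Fin m → F} (ha : ∀ j, a j ≠ 0)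
    (hy : ∀ j, mat y *ᵥ e j = a j • e j) {v : SUn} (hv : v ∈ U₀) : y * v * y⁻¹ ∈ U₀ := by
  intro j
  have hi : mat y⁻¹ *ᵥ e j = (a j)⁻¹ • e j := by
    refine inv_mulVec y ?_
    rw [Matrix.mulVec_smul, hy, smul_smul, inv_mul_cancel₀ (ha j), one_smul]
  have hmap : ∀ l : Fin m, (l : ℕ) < (j : ℕ) → mat y *ᵥ e l ∈ Vsp e (j : ℕ) := fun l hl => by
    rw [hy]; exact Submodule.smul_mem _ _ (mem_Vsp_self e hl)
  have h1 := Submodule.smul_mem _ (a j)⁻¹ (mulVec_sub_mem hmap (hv j))
  rw [mul_mulVec, mul_mulVec, hi, Matrix.mulVec_smul, Matrix.mulVec_smul]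
  rw [Matrix.mulVec_sub, hy, smul_sub, smul_smul, inv_mul_cancel₀ (ha j), one_smul] at h1
  exact h1

theorem char_Vsp {i : ℕ} (hi : i < m) {x : Vec}
    (hx : ∀ s ∈ U₀, mat s *ᵥ x - x ∈ Vsp e i) : x ∈ Vsp e (i + 1) := by
  obtain ⟨c, hc0, hc⟩ := exists_traceZero hF (F := F) (q := q)
  set k₀ : Fin m := ⟨i, hi⟩ with hk₀
  have hb : ∀ k, H x (e k) = 0 := by
    intro k
    by_cases hk : i ≤ (k : ℕ)
    · have hs : tvu hF (fr.ee k k) hc ∈ U₀ := fun j => by
        rw [tvu_mulVec, fr.ee, mul_zero, zero_smul, add_zero, sub_self]; exact zero_mem _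
      have h1 := Vsp_f hF fr (hx _ hs) (j := k) hk
      rw [tvu_mulVec, add_sub_cancel_left, H_smul_left, fr.ef, if_pos rfl, mul_one] at h1
      exact (mul_eq_zero.1 h1).resolve_left hc0
    · have hki : k ≠ k₀ := fun h => by subst h; simp [hk₀] at hk
      have hok : Ok q (e k) (f k₀) 0 := by
        refine ⟨by rw [fe hF fr, if_neg (Ne.symm hki)], ?_⟩
        rw [zero_pow (q_ne_zero hF), fr.ff]; simp
      have hg := isHeis_heisEl hF (fr.ee k k) hok
      have hs : heisEl hF (fr.ee k k) hok ∈ U₀ := heis_mem_flag hF fr hg fun j hj => by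
        rw [fr.ef, if_neg]
        intro h; subst h; simp [hk₀] at hj; omega
      have h1 := Vsp_e hF fr (hx _ hs) k₀
      rw [hg] at h1
      simp only [H_sub_left, H_add_left, H_smul_left, fr.ee, fe hF fr, if_pos, mul_one, mul_zero,
        add_zero, sub_zero, add_sub_cancel_left] at h1
      simpa [H_sub_left, H_add_left, H_smul_left, fr.ee, fe hF fr, hki.symm] using h1
  refine mem_Vsp hF fr hb ?_ fun l hl => ?_
  · set r := rest q e f x with hr
    obtain ⟨a, hok⟩ := exists_ok hF (e := e k₀) (rest_e hF fr x k₀)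
    have hg := isHeis_heisEl hF (fr.ee k₀ k₀) hok
    have hs : heisEl hF (fr.ee k₀ k₀) hok ∈ U₀ := heis_mem_flag hF fr hg fun j _ =>
      (H_eq_zero_comm hF).1 (rest_e hF fr x j)
    have h1 := Vsp_f hF fr (hx _ hs) (j := k₀) le_rfl
    rw [hg, hb, zero_smul, add_zero, sub_sub_cancel_left, H_neg_left, H_smul_left, fr.ef,
      if_pos rfl, mul_one, neg_eq_zero] at h1
    refine fr.aniso r (rest_e hF fr x) (rest_f hF fr x) ?_
    rw [← H_rest hF fr (rest_e hF fr x) (rest_f hF fr x)]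
    exact h1
  · have hkl : k₀ ≠ l := fun h => by subst h; simp [hk₀] at hl
    have hok : Ok q (e k₀) (f l) 0 := by
      refine ⟨by rw [fe hF fr, if_neg (Ne.symm hkl)], ?_⟩
      rw [zero_pow (q_ne_zero hF), fr.ff]; simp
    have hg := isHeis_heisEl hF (fr.ee k₀ k₀) hok
    have hs : heisEl hF (fr.ee k₀ k₀) hok ∈ U₀ := heis_mem_flag hF fr hg fun j hj => by
      rw [fr.ef, if_neg]
      intro h; subst h; simp [hk₀] at hj; omega
    have h1 := Vsp_f hF fr (hx _ hs) (j := k₀) le_rfl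
    rw [hg, hb, zero_smul, add_zero, sub_sub_cancel_left, H_neg_left, H_smul_left, fr.ef,
      if_pos rfl, mul_one, neg_eq_zero] at h1
    exact h1

theorem flag_stable {y : SUn} (hy : ∀ s ∈ U₀, y⁻¹ * s * y ∈ U₀) :
    ∃ a : Fin m → F, (∀ j, a j ≠ 0) ∧ ∀ j : Fin m, mat y *ᵥ e j - a j • e j ∈ Vsp e (j : ℕ) := by
  suffices ∀ i, i ≤ m → (∀ x ∈ Vsp e i, mat y *ᵥ x ∈ Vsp e i) ∧
      ∀ j : Fin m, (j : ℕ) < i → H (mat y *ᵥ e j) (f j) ≠ 0 ∧
        mat y *ᵥ e j - H (mat y *ᵥ e j) (f j) • e j ∈ Vsp e (j : ℕ) by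
    exact ⟨_, fun j => ((this m le_rfl).2 j j.2).1, fun j => ((this m le_rfl).2 j j.2).2⟩
  intro i
  induction i with
  | zero =>
    exact fun _ => ⟨fun x hx => mulVec_sub_mem (fun j hj => absurd hj (by omega)) hx,
      fun j hj => absurd hj (by omega)⟩
  | succ i ih =>
    intro hi
    obtain ⟨hV, hj⟩ := ih (by omega)
    set k : Fin m := ⟨i, by omega⟩ with hk
    have hmem : mat y *ᵥ e k ∈ Vsp e (i + 1) := char_Vsp hF fr (by omega) fun s hs => by
      have h1 := hV _ ((hy s hs) k)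
      rwa [Matrix.mulVec_sub, ← mul_mulVec, mul_assoc, mul_inv_cancel_left, mul_mulVec] at h1
    have hdiff : mat y *ᵥ e k - H (mat y *ᵥ e k) (f k) • e k ∈ Vsp e i := by
      refine mem_Vsp hF fr (fun l => ?_) ?_ fun l hl => ?_
      · rw [H_sub_left, H_smul_left, Vsp_e hF fr hmem, fr.ee, mul_zero, sub_zero]
      · exact Vsp_rest hF fr (sub_mem hmem
          (Submodule.smul_mem _ _ (mem_Vsp_self e (show (k : ℕ) < i + 1 by simp [hk]))))
      · rw [H_sub_left, H_smul_left]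
        by_cases hlk : k = l
        · subst hlk; rw [fr.ef, if_pos rfl, mul_one, sub_self]
        · rw [fr.ef, if_neg hlk, mul_zero, sub_zero]
          refine Vsp_f hF fr hmem ?_
          have : (l : ℕ) ≠ i := fun h => hlk (Fin.ext h.symm)
          omega
    refine ⟨fun x hx => mulVec_sub_mem (fun l hl => ?_) hx, fun l hl => ?_⟩
    · by_cases hlk : l = k
      · subst hlk; exact hmem
      · have hli : (l : ℕ) < i := by
          have : (l : ℕ) ≠ i := fun h => hlk (Fin.ext h)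
          omega
        exact Vsp_mono e (by omega) (hV _ (mem_Vsp_self e hli))
    · by_cases hlk : l = k
      · subst hlk
        refine ⟨fun h0 => ?_, hdiff⟩
        rw [h0, zero_smul, sub_zero] at hdiff
        have h1 := inv_map hF hV _ hdiff
        rw [← mul_mulVec, inv_mul_cancel, mat_one, Matrix.one_mulVec] at h1
        have h2 := Vsp_f hF fr h1 (j := k) le_rfl
        rw [fr.ef, if_pos rfl] at h2
        exact one_ne_zero h2
      · exact hj l (by
          have : (l : ℕ) ≠ i := fun h => hlk (Fin.ext h)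
          omega)

variable (p : ℕ) [Fact p.Prime] [CharP F p]

theorem pow_fix {s : SUn} {x u : Vec} (hx : mat s *ᵥ x = x + u) (hu : mat s *ᵥ u = u) :
    mat (s ^ p) *ᵥ x = x := by
  have h : ∀ k : ℕ, mat (s ^ k) *ᵥ x = x + (k : F) • u := by
    intro k
    induction k with
    | zero => simp [mat_one]
    | succ k ih =>
      rw [pow_succ', mul_mulVec, ih, Matrix.mulVec_add, Matrix.mulVec_smul, hx, hu, Nat.cast_succ]
      module
  rw [h, CharP.cast_eq_zero, zero_smul, add_zero]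

theorem isPGroup_flag : IsPGroup p U₀ := by
  rintro ⟨s, hs⟩
  have hstep : ∀ i, i ≤ m → ∃ k : ℕ, ∀ j : Fin m, (j : ℕ) < i →
      mat (s ^ p ^ k) *ᵥ e j = e j := by
    intro i
    induction i with
    | zero => exact fun _ => ⟨0, fun j hj => absurd hj (by omega)⟩
    | succ i ih =>
      intro hi
      obtain ⟨k, hk⟩ := ih (by omega)
      refine ⟨k + 1, fun j hj => ?_⟩
      set s' := s ^ p ^ k with hs'
      have hs'U : s' ∈ U₀ := Subgroup.pow_mem _ hs _
      rw [pow_succ, pow_mul, ← hs']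
      have hfix : ∀ v ∈ Vsp e (j : ℕ), mat s' *ᵥ v = v := fun v hv =>
        fixes_Vsp (fun l hl => hk l (by omega)) hv
      exact pow_fix hF fr p (u := mat s' *ᵥ e j - e j) (by abel) (hfix _ (hs'U j))
  obtain ⟨k, hk⟩ := hstep m le_rfl
  set s' := s ^ p ^ k with hs'
  have hs'W : s' ∈ R₀ := fun j => hk j j.2
  have hfix : ∀ t : SUn, t ∈ R₀ → ∀ v ∈ Vsp e m, mat t *ᵥ v = v := fun t ht v hv =>
    fixes_Vsp (fun l _ => ht l) hv
  have h1 : ∀ x, (∀ j, H x (e j) = 0) → mat (s' ^ p) *ᵥ x = x := fun x hx =>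
    pow_fix hF fr p (u := mat s' *ᵥ x - x) (by abel)
      (hfix s' hs'W _ (heisFix_perp hF fr (fixFlag_le_heisFix hF fr hs'W) hx))
  refine ⟨k + 1 + 1, Subtype.ext (SU_ext fun x => ?_)⟩
  rw [SubmonoidClass.coe_pow, OneMemClass.coe_one, mat_one, Matrix.one_mulVec, pow_succ, pow_succ,
    pow_mul, pow_mul, ← hs']
  have hp' : s' ^ p ∈ R₀ := Subgroup.pow_mem _ hs'W _
  refine pow_fix hF fr p (u := mat (s' ^ p) *ᵥ x - x) (by abel) (h1 _ fun j => ?_)
  rw [H_sub_left]
  conv_lhs => arg 1; rw [← hp' j, SU_H]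
  rw [sub_self]

theorem pow_eq_one {s : SUn} (hs : s ∈ U₀) : ∃ k : ℕ, s ^ p ^ k = 1 := by
  obtain ⟨k, hk⟩ := isPGroup_flag hF fr p ⟨s, hs⟩
  exact ⟨k, congrArg Subtype.val hk⟩

theorem flag_maximal {P : Subgroup SUn} (hP : IsPGroup p P) (hle : U₀ ≤ P) : P ≤ U₀ := by
  by_contra h
  have hlt : U₀ < P := lt_of_le_not_ge hle h
  have : Group.IsNilpotent P := hP.isNilpotent
  have hne : (U₀).subgroupOf P ≠ ⊤ := fun h' => h (Subgroup.subgroupOf_eq_top.1 h')
  obtain ⟨y, hyN, hyU⟩ :=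
    SetLike.exists_of_lt (Group.normalizerCondition_of_isNilpotent ((U₀).subgroupOf P)
      (lt_top_iff_ne_top.2 hne))
  have hnorm : ∀ s ∈ U₀, (y : SUn)⁻¹ * s * y ∈ U₀ := fun s hs => by
    have h1 := (Subgroup.mem_normalizer_iff.1 (Subgroup.inv_mem _ hyN) ⟨s, hle hs⟩).1
      (Subgroup.mem_subgroupOf.2 hs)
    simpa [Subgroup.mem_subgroupOf] using h1
  obtain ⟨a, ha, hay⟩ := flag_stable hF fr hnorm
  obtain ⟨k, hk⟩ := hP y
  have hk' : (y : SUn) ^ p ^ k = 1 := congrArg Subtype.val hk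
  refine hyU (Subgroup.mem_subgroupOf.2 fun j => ?_)
  suffices ha1 : a j = 1 by simpa [ha1] using hay j
  have hmap : ∀ x ∈ Vsp e (j : ℕ), mat (y : SUn) *ᵥ x ∈ Vsp e (j : ℕ) := fun x hx =>
    mulVec_sub_mem (fun l hl => by
      have := add_mem (Vsp_mono e hl.le (hay l)) (Submodule.smul_mem _ (a l) (mem_Vsp_self e hl))
      rwa [sub_add_cancel] at this) hx
  have hpow : ∀ N : ℕ, mat ((y : SUn) ^ N) *ᵥ e j - a j ^ N • e j ∈ Vsp e (j : ℕ) := by
    intro N
    induction N with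
    | zero => simp [mat_one]
    | succ N ih =>
      have h1 := add_mem (hmap _ ih) (Submodule.smul_mem _ (a j ^ N) (hay j))
      rw [Matrix.mulVec_sub, Matrix.mulVec_smul, ← mul_mulVec, ← pow_succ', smul_sub, smul_smul,
        ← pow_succ, sub_add_sub_cancel] at h1
      exact h1
  have h2 := Vsp_f hF fr (hpow (p ^ k)) (j := j) le_rfl
  rw [hk', mat_one, Matrix.one_mulVec, H_sub_left, H_smul_left, fr.ef, if_pos rfl, mul_one,
    sub_eq_zero] at h2
  exact iterateFrobenius_inj F p k (by simpa [iterateFrobenius_def] using h2.symm)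

theorem pair_torus (K : Subgroup SUn) {j k : Fin m} (hjk : j ≠ k)
    (hj : ∀ s ∈ heisGroup hF (fr.ee j j), (∀ l, mat s *ᵥ e l ∈ Vsp e m) → s ∈ K)
    (hk : ∀ s ∈ heisGroup hF (fr.ee k k), (∀ l, mat s *ᵥ e l ∈ Vsp e m) → s ∈ K)
    {μ : F} (hμ : μ ≠ 0) :
    ∃ t ∈ K, mat t *ᵥ e j = μ • e j ∧ mat t *ᵥ e k = μ⁻¹ • e k ∧
      ∀ l, l ≠ j → l ≠ k → mat t *ᵥ e l = e l := by
  have hX : ∀ (a b : Fin m), a ≠ b → ∀ c : F,
      (∀ s ∈ heisGroup hF (fr.ee a a), (∀ l, mat s *ᵥ e l ∈ Vsp e m) → s ∈ K) →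
      ∃ x ∈ K, mat x *ᵥ e b = e b - c • e a ∧ ∀ l, l ≠ b → mat x *ᵥ e l = e l := by
    intro a b hab c hK
    have hok : Ok q (e a) (c ^ q • f b) 0 := by
      refine ⟨by rw [H_smul_left, fe hF fr, if_neg (Ne.symm hab), mul_zero], ?_⟩
      rw [zero_pow (q_ne_zero hF), H_smul_left, H_smul_right, fr.ff]
      simp
    have hg := isHeis_heisEl hF (fr.ee a a) hok
    refine ⟨_, hK _ ⟨_, _, hok, hg⟩ fun l => ?_, ?_, fun l hl => ?_⟩
    · rw [heis_mulVec_e hF fr hg]
      exact sub_mem (mem_Vsp_self e l.2) (Submodule.smul_mem _ _ (mem_Vsp_self e a.2))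
    · rw [heis_mulVec_e hF fr hg, H_smul_right, fr.ef, if_pos rfl, mul_one, pow_qq hF]
    · rw [heis_mulVec_e hF fr hg, H_smul_right, fr.ef, if_neg hl, mul_zero, zero_smul, sub_zero]
  have hN : ∀ c : F, c ≠ 0 → ∃ N ∈ K, mat N *ᵥ e k = (-c) • e j ∧ mat N *ᵥ e j = c⁻¹ • e k ∧
      ∀ l, l ≠ j → l ≠ k → mat N *ᵥ e l = e l := by
    intro c hc
    obtain ⟨x, hx, hxk, hxl⟩ := hX j k hjk c hj
    obtain ⟨y, hy, hyj, hyl⟩ := hX k j hjk.symm (-c⁻¹) hk
    refine ⟨x * y * x, mul_mem (mul_mem hx hy) hx, ?_, ?_, fun l hlj hlk => ?_⟩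
    · simp only [mul_mulVec, hxk, Matrix.mulVec_sub, Matrix.mulVec_smul, hyl k hjk.symm, hyj,
        hxl j hjk]
      match_scalars <;> field_simp <;> ring
    · simp only [mul_mulVec, hxl j hjk, hyj, Matrix.mulVec_sub, Matrix.mulVec_smul, hxk]
      match_scalars <;> field_simp <;> ring
    · rw [mul_mulVec, mul_mulVec, hxl l hlk, hyl l hlj, hxl l hlk]
  obtain ⟨N₁, h1, h1k, h1j, h1l⟩ := hN μ hμ
  obtain ⟨N₂, h2, h2k, h2j, h2l⟩ := hN 1 one_ne_zero
  rw [inv_one, one_smul] at h2j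
  refine ⟨N₁ * N₂⁻¹, mul_mem h1 (Subgroup.inv_mem _ h2), ?_, ?_, fun l hlj hlk => ?_⟩
  · have : mat N₂⁻¹ *ᵥ e j = (-1 : F) • e k := inv_mulVec N₂ (by
      rw [Matrix.mulVec_smul, h2k, smul_smul, neg_mul_neg, one_mul, one_smul])
    rw [mul_mulVec, this, Matrix.mulVec_smul, h1k, smul_smul, neg_mul_neg, one_mul]
  · rw [mul_mulVec, inv_mulVec N₂ h2j, h1j]
  · rw [mul_mulVec, inv_mulVec N₂ (h2l l hlj hlk), h1l l hlj hlk]

end

/-- A Weyl element on a hyperbolic pair as a product of Heisenberg elements. -/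
theorem weyl (K : Subgroup SUn) {e f w : Vec} (he : H e e = 0) (hf : H f f = 0) (hef : H e f = 1)
    (hwe : H w e = 0) (hwf : H w f = 0) {a : F} (ha : a ≠ 0) (hnorm : a + a ^ q = -H w w)
    (hKe : ∀ (c b : F) (h : Ok q e (c • w) b), heisEl hF he h ∈ K)
    (hKf : ∀ (c b : F) (h : Ok q f (c • w) b), heisEl hF hf h ∈ K) :
    ∃ N ∈ K, mat N *ᵥ e = (a ^ q)⁻¹ • f ∧ mat N *ᵥ f = a • e ∧
      ∀ x, H x e = 0 → H x f = 0 → H x w = 0 → mat N *ᵥ x = x := by
  have hfe : H f e = 1 := by rw [← H_conj hF, hef, one_pow]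
  have hew : H e w = 0 := (H_eq_zero_comm hF).1 hwe
  have hfw : H f w = 0 := (H_eq_zero_comm hF).1 hwf
  have haq : a ^ q ≠ 0 := pow_ne_zero _ ha
  have hqq : (a ^ q) ^ q = a := pow_qq hF a
  have hn' : H w w = -(a + a ^ q) := by rw [hnorm, neg_neg]
  have h1 : Ok q e ((a / a ^ q) • w) a := by
    refine ⟨by rw [H_smul_left, hwe, mul_zero], ?_⟩
    rw [H_smul_left, H_smul_right, div_pow, hqq, hn']
    field_simp
  have h2 : Ok q f ((-(a ^ q)⁻¹) • w) ((a ^ q)⁻¹) := by
    refine ⟨by rw [H_smul_left, hwf, mul_zero], ?_⟩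
    have hn : (-(a ^ q)⁻¹) ^ q = -a⁻¹ := by
      rw [← HermStd.qHom_apply hF, map_neg, map_inv₀, HermStd.qHom_apply, hqq]
    rw [H_smul_left, H_smul_right, inv_pow, hqq, hn, hn']
    field_simp
  have h3 : Ok q e ((1 : F) • w) a := by rw [one_smul]; exact ⟨hwe, hnorm⟩
  have i1 := isHeis_heisEl hF he h1
  have i2 := isHeis_heisEl hF hf h2
  have i3 := isHeis_heisEl hF he h3
  refine ⟨heisEl hF he h3 * heisEl hF hf h2 * heisEl hF he h1,
    mul_mem (mul_mem (hKe _ _ h3) (hKf _ _ h2)) (hKe _ _ h1), ?_, ?_, fun x hxe hxf hxw => ?_⟩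
  · rw [mul_mulVec, mul_mulVec, i1]
    simp only [he, H_smul_right, hew, mul_zero, zero_smul, add_zero, sub_zero]
    rw [i2]
    simp only [hef, H_smul_right, hew, mul_zero, zero_smul, sub_zero]
    rw [i3]
    simp only [H_add_left, H_smul_left, H_smul_right, he, hef, hfe, hwe, hwf, hew, hfw, hn',
      one_pow]
    match_scalars <;> field_simp <;> ring
  · rw [mul_mulVec, mul_mulVec, i1]
    simp only [hfe, H_smul_right, hfw, mul_zero, zero_smul, sub_zero]
    rw [i2]
    simp only [H_add_left, H_smul_left, H_smul_right, he, hf, hef, hwe, hwf, hew, hfw, hn',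
      ← HermStd.qHom_apply hF, map_neg, map_inv₀, map_div₀]
    simp only [HermStd.qHom_apply, hqq]
    rw [i3]
    simp only [H_add_left, H_sub_left, H_smul_left, H_smul_right, he, hf, hef, hfe, hwe, hwf, hew,
      hfw, hn', one_pow, mul_zero, zero_mul, add_zero, zero_add, sub_zero, mul_one, one_mul]
    match_scalars <;> field_simp <;> ring
  · have hA : ∀ (v : Vec) (c b : F) (s : SUn), IsHeis v s (c • w) b → H x v = 0 →
        mat s *ᵥ x = x := fun v c b s hs hxv => by
      rw [hs, hxv, H_smul_right, hxw, mul_zero, zero_smul, zero_smul, add_zero, sub_zero]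
    rw [mul_mulVec, mul_mulVec, hA e _ _ _ i1 hxe, hA f _ _ _ i2 hxf, hA e _ _ _ i3 hxe]

/-- A torus element on a hyperbolic pair as a product of Heisenberg elements. -/
theorem torus (K : Subgroup SUn) {e f w : Vec} (he : H e e = 0) (hf : H f f = 0) (hef : H e f = 1)
    (hwe : H w e = 0) (hwf : H w f = 0) {l b : F} (hl : l ≠ 0) (hb : b ≠ 0) (hbt : b + b ^ q = 0)
    (hnorm : l * b + (l * b) ^ q = -H w w)
    (hKe : ∀ (c a : F) (h : Ok q e (c • w) a), heisEl hF he h ∈ K)
    (hKf : ∀ (c a : F) (h : Ok q f (c • w) a), heisEl hF hf h ∈ K) :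
    ∃ t ∈ K, mat t *ᵥ e = l • e ∧
      ∀ x, H x e = 0 → H x f = 0 → H x w = 0 → mat t *ᵥ x = x := by
  obtain ⟨N₁, hN₁, h1e, h1f, h1x⟩ := weyl hF K he hf hef hwe hwf (mul_ne_zero hl hb) hnorm hKe hKf
  have hw0 : (0 : F) • w = 0 := zero_smul F w
  have hKe' : ∀ (c a : F) (v : Vec), v = (c * 0) • w → ∀ h : Ok q e v a, heisEl hF he h ∈ K := by
    rintro c a _ rfl h; exact hKe _ _ h
  have hKf' : ∀ (c a : F) (v : Vec), v = (c * 0) • w → ∀ h : Ok q f v a, heisEl hF hf h ∈ K := by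
    rintro c a _ rfl h; exact hKf _ _ h
  obtain ⟨N₂, hN₂, h2e, h2f, h2x⟩ := weyl hF K he hf hef (w := (0 : F) • w)
    (by rw [hw0, H_zero_left]) (by rw [hw0, H_zero_left]) hb
    (by rw [hw0, H_zero_left, neg_zero, hbt])
    (fun c a h => hKe' c a _ (smul_smul c 0 w) h)
    (fun c a h => hKf' c a _ (smul_smul c 0 w) h)
  refine ⟨N₁ * N₂⁻¹, mul_mem hN₁ (Subgroup.inv_mem _ hN₂), ?_, fun x hxe hxf hxw => ?_⟩
  · have h3 : mat N₂⁻¹ *ᵥ e = b⁻¹ • f := inv_mulVec N₂ (by
      rw [Matrix.mulVec_smul, h2f, smul_smul, inv_mul_cancel₀ hb, one_smul])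
    rw [mul_mulVec, h3, Matrix.mulVec_smul, h1f, smul_smul, mul_comm l b, ← mul_assoc,
      inv_mul_cancel₀ hb, one_mul]
  · rw [mul_mulVec, inv_mulVec N₂ (h2x x hxe hxf (by rw [hw0, H_zero_right hF])),
      h1x x hxe hxf hxw]

theorem exists_frame (hn : 4 ≤ n) :
    ∃ (m : ℕ) (e f : Fin m → Vec), 2 ≤ m ∧ Frame q e f := by
  classical
  -- hyperbolic systems
  let P : ℕ → Prop := fun k => ∃ e f : Fin k → Vec, (∀ i j, H (e i) (e j) = 0) ∧
    (∀ i j, H (f i) (f j) = 0) ∧ ∀ i j, H (e i) (f j) = if i = j then 1 else 0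
  have hbound : ∀ k, P k → k ≤ n := by
    rintro k ⟨e, f, -, -, hef⟩
    have hli : LinearIndependent F e := by
      rw [Fintype.linearIndependent_iff]
      intro g hg i
      have h := congrArg (fun z => H z (f i)) hg
      simp only [H_sum_left, H_smul_left, hef, H_zero_left] at h
      simpa using h
    simpa using hli.fintype_card_le_finrank
  have hconj : ∀ u v : Vec, ∀ c : F, H u v = c → H v u = c ^ q := fun u v c h => by
    rw [← h, H_conj hF]
  have hext : ∀ k (e f : Fin k → Vec), (∀ i j, H (e i) (e j) = 0) →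
      (∀ i j, H (f i) (f j) = 0) → (∀ i j, H (e i) (f j) = if i = j then 1 else 0) →
      ∀ z : Vec, z ≠ 0 → H z z = 0 → (∀ i, H z (e i) = 0) → (∀ i, H z (f i) = 0) →
      P (k + 1) := by
    intro k e f hee hff hef z hz hzz hze hzf
    obtain ⟨x, hx⟩ := exists_H_eq_one hF hz
    have hfe : ∀ i j, H (f i) (e j) = if i = j then 1 else 0 := fun i j => by
      rw [hconj _ _ _ (hef j i)]
      split_ifs with h1 h2 h2
      · rw [one_pow]
      · exact absurd h1.symm h2
      · exact absurd h2.symm h1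
      · rw [zero_pow (q_ne_zero hF)]
    set x' := rest q e f x with hx'
    have hx'e : ∀ i, H x' (e i) = 0 := fun i => by
      rw [hx', rest, H_sub_left, H_sum_left]
      simp [H_add_left, H_smul_left, hee, hfe]
    have hx'f : ∀ i, H x' (f i) = 0 := fun i => by
      rw [hx', rest, H_sub_left, H_sum_left]
      simp [H_add_left, H_smul_left, hef, hff]
    have hzx : H z x' = 1 := by
      rw [hx', rest, H_sub_right hF, H_sum_right hF]
      simp [H_add_right hF, H_smul_right, hze, hzf, hx]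
    have hxz : H x' z = 1 := by rw [← H_conj hF, hzx, one_pow]
    obtain ⟨b, hb⟩ := exists_trace_eq hF (c := -H x' x') (by
      rw [← HermStd.qHom_apply hF, map_neg, HermStd.qHom_apply, H_conj hF])
    set y := x' + b • z with hy
    have hye : ∀ i, H y (e i) = 0 := fun i => by rw [hy, H_add_left, H_smul_left, hx'e, hze]; simp
    have hyf : ∀ i, H y (f i) = 0 := fun i => by rw [hy, H_add_left, H_smul_left, hx'f, hzf]; simp
    have hzy : H z y = 1 := by rw [hy, H_add_right hF, H_smul_right, hzx, hzz]; simp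
    have hyy : H y y = 0 := by
      rw [hy]
      simp only [H_add_left, H_add_right hF, H_smul_left, H_smul_right, hzz, hzx, hxz]
      linear_combination hb
    refine ⟨Fin.snoc e z, Fin.snoc f y, ?_, ?_, ?_⟩
    · intro i j
      induction i using Fin.lastCases <;> induction j using Fin.lastCases <;>
        simp [hee, hzz, hze, (H_eq_zero_comm hF).1 (hze _)]
    · intro i j
      induction i using Fin.lastCases <;> induction j using Fin.lastCases <;>
        simp [hff, hyy, hyf, (H_eq_zero_comm hF).1 (hyf _)]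
    · intro i j
      induction i using Fin.lastCases <;> induction j using Fin.lastCases <;>
        simp [hef, hzy, hzf, (H_eq_zero_comm hF).1 (hye _), Fin.ext_iff]
      · omega
      · omega
  have hP0 : P 0 := ⟨Fin.elim0, Fin.elim0, fun i => i.elim0, fun i => i.elim0, fun i => i.elim0⟩
  set m := Nat.findGreatest P n with hm
  have hPm : P m := Nat.findGreatest_spec (Nat.zero_le _) hP0
  have hmax : ¬ P (m + 1) := fun h => by
    have := Nat.le_findGreatest (hbound _ h) h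
    omega
  obtain ⟨e, f, hee, hff, hef⟩ := hPm
  have han : ∀ z, (∀ i, H z (e i) = 0) → (∀ i, H z (f i) = 0) → H z z = 0 → z = 0 :=
    fun z hze hzf hzz => by
      by_contra hz
      exact hmax (hext m e f hee hff hef z hz hzz hze hzf)
  refine ⟨m, e, f, ?_, ⟨hee, hff, hef, han⟩⟩
  obtain ⟨z, hz, hz1, -, -⟩ := exists_isotropic_pair hF (n := n) ⟨0, by omega⟩ ⟨1, by omega⟩
    (by simp)
  have hz0 : z ≠ 0 := fun h => by simp [h] at hz1
  by_contra hm2
  interval_cases m
  · exact hz0 (han z (fun i => i.elim0) (fun i => i.elim0) hz)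
  · obtain ⟨-, h4⟩ := exists_perp_pair hF (n := n) (by omega) (hee 0 0) (hff 0 0)
      (by simpa using hef 0 0)
    obtain ⟨x, hx0, hxx, hxe, hxf⟩ := h4 hn
    refine hx0 (han x (fun i => ?_) (fun i => ?_) hxx)
    · rw [Fin.fin_one_eq_zero i]; exact hxe
    · rw [Fin.fin_one_eq_zero i]; exact hxf

end Cfsg.Agent.Fusion.UnitaryFlag
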