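/-
The fusion system of `PSU_n(q)`, `4 ≤ n`, in the defining characteristic is simple.
-/
import Mathlib
import Cfsg.Agent.Lib.Fusion.SimpleCriterion
import Cfsg.Agent.Lib.Fusion.UnitaryFlag

set_option autoImplicit false
set_option linter.unusedSectionVars false
set_option linter.unusedSimpArgs false

namespace Cfsg.Agent.Fusion.SimplePSU

open Matrix Cfsg Cfsg.Agent.Classical Cfsg.Agent.Classical.Unitary Cfsg.Agent.Forms
  Cfsg.Agent.AutPSU.Basic Cfsg.Agent.AutPSU.Centre Cfsg.Agent.Fusion.UnitaryFlag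
  Cfsg.Agent.Fusion.Saturation

universe u

variable {F : Type u} [Field F] [Fintype F] {q n m : ℕ}

local notation "Vec" => (Fin n → F)
local notation "SUn" => Cfsg.SU n F q
local notation "H" => Cfsg.hermForm n F q
local notation "π" => (QuotientGroup.mk' (Subgroup.center (Cfsg.SU n F q)) :
  Cfsg.SU n F q →* PSU n F q)

variable (hF : Fintype.card F = q ^ 2)
include hF

theorem conj_apply (g s : SUn) (x : Vec) :
    mat (g * s * g⁻¹) *ᵥ x = mat g *ᵥ (mat s *ᵥ (mat g⁻¹ *ᵥ x)) := by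
  rw [mul_mulVec, mul_mulVec]

theorem mulVec_inv_self (g : SUn) (x : Vec) : mat g *ᵥ (mat g⁻¹ *ᵥ x) = x := by
  rw [← mul_mulVec, mul_inv_cancel, mat_one, Matrix.one_mulVec]

/-- A conjugate of a Heisenberg element. -/
theorem heis_conj (g : SUn) {e e' : Vec} {α : F} (hg : mat g *ᵥ e = α • e') {s : SUn} {w : Vec}
    {a : F} (hok : Ok q e w a) (hs : IsHeis e s w a) (hα : α ≠ 0) :
    Ok q e' (α ^ q • (mat g *ᵥ w)) (a * α ^ (q + 1)) ∧
      IsHeis e' (g * s * g⁻¹) (α ^ q • (mat g *ᵥ w)) (a * α ^ (q + 1)) := by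
  have hα' : (α ^ q) ^ q = α := pow_qq hF α
  have hnq : (α ^ (q + 1)) ^ q = α ^ (q + 1) := by
    rw [pow_succ, mul_pow, hα']
    exact mul_comm _ _
  refine ⟨⟨?_, ?_⟩, fun x => ?_⟩
  · have h1 := SU_H g w e
    rw [hg, H_smul_right, hok.1] at h1
    rw [H_smul_left, (mul_eq_zero.1 h1).resolve_left (pow_ne_zero _ hα), mul_zero]
  · rw [mul_pow, hnq, H_smul_left, H_smul_right, hα', SU_H,
      show α ^ q * (α * H w w) = α ^ (q + 1) * H w w by ring]
    linear_combination α ^ (q + 1) * hok.2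
  · rw [conj_apply hF, hs]
    set y := mat g⁻¹ *ᵥ x with hy
    have hgy : mat g *ᵥ y = x := mulVec_inv_self hF g x
    have h1 : H y e = α ^ q * H x e' := by rw [← SU_H g y e, hgy, hg, H_smul_right]
    have h2 : H y w = H x (mat g *ᵥ w) := by rw [← SU_H g y w, hgy]
    rw [Matrix.mulVec_sub, Matrix.mulVec_add, Matrix.mulVec_smul, Matrix.mulVec_add,
      Matrix.mulVec_smul, Matrix.mulVec_smul, hgy, hg, h1, h2, H_smul_right, hα']
    module

theorem conj_heisGroup {g : SUn} {e e' : Vec} (he : H e e = 0) (he' : H e' e' = 0) {α : F}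
    (hα : α ≠ 0) (hg : mat g *ᵥ e = α • e') {s : SUn} (hs : s ∈ heisGroup hF he) :
    g * s * g⁻¹ ∈ heisGroup hF he' := by
  obtain ⟨w, a, hok, hs⟩ := hs
  exact ⟨_, _, heis_conj hF g hg hok hs hα⟩

section

variable {e f : Fin m → Fin n → F} (fr : Frame q e f)
include fr

local notation "U₀" => flagGroup hF e
local notation "R₀" => fixFlag q e

theorem e_ne_zero (j : Fin m) : e j ≠ 0 := fun h => by
  have h1 := fr.ef j j
  rw [h, H_zero_left, if_pos rfl] at h1
  exact zero_ne_one h1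

theorem e_ne_smul {j k : Fin m} (hjk : j ≠ k) (c : F) : e j ≠ c • e k := fun h => by
  have h1 := fr.ef j j
  rw [h, H_smul_left, fr.ef, if_neg hjk.symm, if_pos rfl, mul_zero] at h1
  exact zero_ne_one h1

theorem flag_fix_first (i : Fin m) (hi : (i : ℕ) = 0) {s : SUn} (hs : s ∈ U₀) :
    mat s *ᵥ e i = e i := by
  have h := hs i
  rw [Vsp, hi, show {j : Fin m | (j : ℕ) < 0} = ∅ by ext; simp, Set.image_empty,
    Submodule.span_empty, Submodule.mem_bot, sub_eq_zero] at h
  exact h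

theorem heisFirst_le (i : Fin m) (hi : (i : ℕ) = 0) : heisGroup hF (fr.ee i i) ≤ U₀ := by
  rintro s ⟨w, a, hok, hs⟩
  refine heis_mem_flag hF fr hs fun j hj => ?_
  rw [show j = i from Fin.ext (by omega)]
  exact (H_eq_zero_comm hF).1 hok.1

theorem conj_heisFirst (i : Fin m) {g : SUn} {α : F} (hα : α ≠ 0)
    (hg : mat g *ᵥ e i = α • e i) :
    ∀ r ∈ heisGroup hF (fr.ee i i), g * r * g⁻¹ ∈ heisGroup hF (fr.ee i i) :=
  fun _ hr => conj_heisGroup hF (fr.ee i i) (fr.ee i i) hα hg hr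

theorem conj_fixFlag {g : SUn} (hg : ∀ x ∈ Vsp e m, mat g *ᵥ x ∈ Vsp e m) :
    ∀ r ∈ R₀, g * r * g⁻¹ ∈ R₀ := fun r hr j => by
  rw [conj_apply hF, fixes_Vsp (i := m) (fun l _ => hr l)
    (inv_map hF hg _ (mem_Vsp_self e j.2)), mulVec_inv_self hF]

variable (p : ℕ) [Fact p.Prime] [CharP F p]
include p

theorem mk_injOn (hn : 2 ≤ n) {s t : SUn} (hs : s ∈ U₀) (ht : t ∈ U₀) (h : π s = π t) : s = t := by
  obtain ⟨i, hi⟩ := pow_eq_one hF fr p hs
  obtain ⟨j, hj⟩ := pow_eq_one hF fr p ht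
  exact mk_inj_pow hF p hn hi hj h

/-- An element centralizing the image of a subgroup of the flag group commutes with it. -/
theorem commutes (hn : 2 ≤ n) {R : Subgroup SUn} (hR : R ≤ U₀) {A : SUn}
    (hA : π A ∈ Subgroup.centralizer ((R.map π : Subgroup (PSU n F q)) : Set (PSU n F q))) :
    ∀ r ∈ R, A * r * A⁻¹ = r := by
  intro r hr
  obtain ⟨k, hk⟩ := pow_eq_one hF fr p (hR hr)
  refine mk_inj_pow hF p hn (i := k) (j := k) ?_ hk ?_
  · rw [conj_pow, hk, mul_one, mul_inv_cancel]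
  · show π (A * r * A⁻¹) = π r
    rw [map_mul, map_mul, map_inv, ← hA _ (Subgroup.mem_map_of_mem π hr), mul_inv_cancel_right]

theorem exists_sylow (hn : 2 ≤ n) :
    ∃ P : Sylow p (PSU n F q), (P : Subgroup (PSU n F q)) = (U₀).map π := by
  obtain ⟨P, hP⟩ := (isPGroup_flag hF fr p).exists_le_sylow
  refine ⟨P.mapSurjective (QuotientGroup.mk'_surjective _), ?_⟩
  rw [show (U₀) = (P : Subgroup SUn) from le_antisymm hP (flag_maximal hF fr p P.2 hP)]
  rfl

theorem centralizer_fixFlag (hn : 2 ≤ n) (i0 i1 : Fin m) (h01 : i0 ≠ i1) :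
    Subgroup.centralizer ((Subgroup.map π R₀ : Subgroup (PSU n F q)) : Set (PSU n F q)) ≤
      Subgroup.map π R₀ := by
  intro x hx
  obtain ⟨y, rfl⟩ := QuotientGroup.mk'_surjective _ x
  have hc := commutes hF fr p hn (fixFlag_le hF fr) hx
  obtain ⟨c, hc0, hct⟩ := exists_traceZero hF (F := F) (q := q)
  have hvec : ∀ v ∈ Vsp e m, v ≠ 0 → ∃ μ : F, mat y *ᵥ v = μ • v := by
    intro v hv hv0
    have hvv : H v v = 0 := by
      have hve : ∀ x ∈ Vsp e m, ∀ z ∈ Vsp e m, H x z = 0 := fun x hx z hz => by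
        induction hz using Submodule.span_induction with
        | mem w hw => obtain ⟨l, -, rfl⟩ := hw; exact Vsp_e hF fr hx l
        | zero => exact H_zero_right hF _
        | add a b _ _ ha hb => rw [H_add_right hF, ha, hb, add_zero]
        | smul a b _ hb => rw [H_smul_right, hb, mul_zero]
      exact hve v hv v hv
    have ht : tvu hF hvv hct ∈ R₀ := fun j => by
      rw [tvu_mulVec, (H_eq_zero_comm hF).1 (Vsp_e hF fr hv j), mul_zero, zero_smul, add_zero]
    obtain ⟨z, -, hz⟩ := exists_partner hF hv0 hvv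
    have hzv : H z v = 1 := by rw [← H_conj hF, hz, one_pow]
    have h1 := hc _ ht
    rw [tvu_conj hF y rfl hvv (by rw [SU_H, hvv]) hct] at h1
    have h2 := congrArg (fun s : SUn => mat s *ᵥ z) h1
    simp only [tvu_mulVec, hzv, mul_one, add_right_inj] at h2
    rw [← smul_smul] at h2
    have h3 : H z (mat y *ᵥ v) • (mat y *ᵥ v) = v := smul_right_injective _ hc0 h2
    refine ⟨(H z (mat y *ᵥ v))⁻¹, ?_⟩
    have h0 : H z (mat y *ᵥ v) ≠ 0 := fun h => hv0 (by rw [← h3, h, zero_smul])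
    set cc := H z (mat y *ᵥ v)
    set yv := mat y *ᵥ v
    rw [← h3, smul_smul, inv_mul_cancel₀ h0, one_smul]
  obtain ⟨lam, hlam⟩ := hvec _ (mem_Vsp_self e i0.2) (e_ne_zero hF fr i0)
  have hall : ∀ j, mat y *ᵥ e j = lam • e j := by
    intro j
    by_cases hj : j = i0
    · subst hj; exact hlam
    obtain ⟨μ, hμ⟩ := hvec _ (mem_Vsp_self e j.2) (e_ne_zero hF fr j)
    have hne : e i0 + e j ≠ 0 := fun h =>
      e_ne_smul hF fr (Ne.symm hj) (-1) (by rw [neg_smul, one_smul]; exact eq_neg_of_add_eq_zero_left h)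
    obtain ⟨ν, hν⟩ := hvec _ (add_mem (mem_Vsp_self e i0.2) (mem_Vsp_self e j.2)) hne
    rw [Matrix.mulVec_add, hlam, hμ] at hν
    have h1 := congrArg (fun z => H z (f i0)) hν
    have h2 := congrArg (fun z => H z (f j)) hν
    simp [H_add_left, H_smul_left, fr.ef, hj, Ne.symm hj] at h1 h2
    rw [hμ, h2, ← h1]
  have hl0 : lam ≠ 0 := fun h => mat_mulVec_ne_zero y (e_ne_zero hF fr i0)
    (by rw [hlam, h, zero_smul])
  obtain ⟨h, hh, hze, hzf⟩ := adjust_f hF fr (a := fun _ => lam) (fun _ => hl0) hall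
  set z := h⁻¹ * y with hz
  have hyz : ∀ v, mat y *ᵥ v = mat h *ᵥ (mat z *ᵥ v) := fun v => by
    rw [← mul_mulVec, hz, mul_inv_cancel_left]
  -- `lam` has norm one
  have hnorm : (lam ^ q)⁻¹ = lam := by
    have hte : H (e i0 + e i1) (e i0 + e i1) = 0 := by
      simp [H_add_left, H_add_right hF, fr.ee]
    have ht : tvu hF (fr.ee i0 i0) hct ∈ R₀ := fun j => by
      rw [tvu_mulVec, fr.ee, mul_zero, zero_smul, add_zero]
    have h1 := hc _ ht
    have h2 := congrArg (fun s : SUn => mat s *ᵥ f i0) h1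
    rw [tvu_conj hF y hlam (fr.ee i0 i0) (by rw [H_smul_left, H_smul_right, fr.ee]; simp) hct] at h2
    simp only [tvu_mulVec, H_smul_right, fe hF fr, if_pos, mul_one, add_right_inj, smul_smul] at h2
    have h3 := congrArg (fun z => H z (f i0)) h2
    simp only [H_smul_left, fr.ef, if_pos, mul_one] at h3
    have h4 : lam ^ q * lam = 1 :=
      mul_left_cancel₀ hc0 (by rw [mul_one]; linear_combination h3)
    exact inv_eq_of_mul_eq_one_right h4
  simp only [hnorm] at hzf
  have hrest : ∀ r, (∀ j, H r (e j) = 0) → (∀ j, H r (f j) = 0) → mat z *ᵥ r = lam • r := by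
    intro r hre hrf
    obtain ⟨a, hok⟩ := exists_ok hF (e := e i0) (hre i0)
    have hg := isHeis_heisEl hF (fr.ee i0 i0) hok
    have hs : heisEl hF (fr.ee i0 i0) hok ∈ R₀ := fun j => by
      rw [heis_mulVec_e hF fr hg, (H_eq_zero_comm hF).1 (hre j), zero_smul, sub_zero]
    have h1 := congrArg (fun s : SUn => mat s *ᵥ (mat y *ᵥ f i0)) (hc _ hs)
    simp only [mul_mulVec] at h1
    rw [inv_mulVec y rfl, hg, hg] at h1
    have hfe1 : H (f i0) (e i0) = 1 := by rw [fe hF fr, if_pos rfl]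
    have hfr : H (f i0) r = 0 := (H_eq_zero_comm hF).1 (hrf i0)
    have hyfe : H (mat y *ᵥ f i0) (e i0) = lam := by
      have h2 := SU_H y (f i0) (e i0)
      rw [hlam, H_smul_right, hfe1] at h2
      rw [← hnorm]
      exact eq_inv_of_mul_eq_one_left (by rw [mul_comm]; exact h2)
    rw [hfe1, hfr, hyfe] at h1
    simp only [one_smul, zero_smul, sub_zero, Matrix.mulVec_add, Matrix.mulVec_smul, hlam] at h1
    -- `y r = lam r` modulo the span of the flag
    have h2 : mat y *ᵥ r - lam • r ∈ Vsp e m := by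
      have : mat y *ᵥ r - lam • r = (-H (mat y *ᵥ f i0) r) • e i0 := by
        linear_combination (norm := module) h1
      rw [this]
      exact Submodule.smul_mem _ _ (mem_Vsp_self e i0.2)
    obtain ⟨he', hf'⟩ := diag_rest hF fr (fun _ => hl0) hze
      (fun j => by rw [hzf, hnorm]) hre hrf
    have h3 := heisFix_perp hF fr hh (x := mat z *ᵥ r) he'
    rw [← hyz] at h3
    have h4 : mat z *ᵥ r - lam • r ∈ Vsp e m := by
      have := sub_mem h2 h3
      rwa [sub_sub_sub_cancel_left] at this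
    have h5 := Vsp_rest hF fr h4
    rw [rest_self hF fr (fun j => by rw [H_sub_left, H_smul_left, he', hre]; simp)
      (fun j => by rw [H_sub_left, H_smul_left, hf', hrf]; simp)] at h5
    exact sub_eq_zero.1 h5
  have hzs : ∀ v, mat z *ᵥ v = lam • v := fun v => by
    rw [mulVec_decompose hF fr z v, hrest _ (rest_e hF fr v) (rest_f hF fr v)]
    conv_rhs => rw [decompose hF fr v]
    simp only [hze, hzf, smul_add, Finset.smul_sum, smul_comm lam]
  refine ⟨h, heisFix_le hF fr hh, ?_⟩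
  refine (mk_eq_mk_iff hF hn h y).2 ⟨lam, fun v => ?_⟩
  rw [hyz, hzs, Matrix.mulVec_smul]

theorem centralizer_heisFirst (hn : 3 ≤ n) (i0 : Fin m) (hi0 : (i0 : ℕ) = 0) :
    Subgroup.centralizer (((heisGroup hF (fr.ee i0 i0)).map π : Subgroup (PSU n F q)) :
      Set (PSU n F q)) ≤ (heisGroup hF (fr.ee i0 i0)).map π := by
  intro x hx
  obtain ⟨y, rfl⟩ := QuotientGroup.mk'_surjective _ x
  have hc := commutes hF fr p (by omega) (heisFirst_le hF fr i0 hi0) hx
  set E := e i0 with hE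
  set P := f i0 with hP
  have hEE : H E E = 0 := fr.ee i0 i0
  have hPP : H P P = 0 := fr.ff i0 i0
  have hEP : H E P = 1 := by rw [hE, hP, fr.ef, if_pos rfl]
  have hPE : H P E = 1 := by rw [hE, hP, fe hF fr, if_pos rfl]
  have hcomm : ∀ s ∈ heisGroup hF hEE, ∀ v, mat s *ᵥ (mat y *ᵥ v) = mat y *ᵥ (mat s *ᵥ v) :=
    fun s hs v => by
      rw [← mul_mulVec, ← mul_mulVec, mul_inv_eq_iff_eq_mul.1 (hc s hs)]
  obtain ⟨c, hyE⟩ := fixed_heis hF hn hEE (e_ne_zero hF fr i0) (b := mat y *ᵥ E) fun s hs => by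
    rw [hcomm s hs]
    congr 1
    exact flag_fix_first hF fr i0 hi0 (heisFirst_le hF fr i0 hi0 hs)
  have hc0 : c ≠ 0 := fun h => mat_mulVec_ne_zero y (e_ne_zero hF fr i0)
    (by rw [← hE, hyE, h, zero_smul])
  have hyPE : c ^ q * H (mat y *ᵥ P) E = 1 := by
    have h2 := SU_H y P E
    rwa [hyE, H_smul_right, hPE] at h2
  set l := H (mat y *ᵥ P) E with hl
  have heval : ∀ w a, Ok q E w a → mat y *ᵥ w + (a * c - H P w * c) • E =
      l • (w + a • E) - H (mat y *ᵥ P) w • E := by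
    intro w a hok
    have hg := isHeis_heisEl hF hEE hok
    have h1 := hcomm _ ⟨w, a, hok, hg⟩ P
    rw [hg, hg, hPE, ← hl] at h1
    simp only [one_smul, Matrix.mulVec_add, Matrix.mulVec_sub, Matrix.mulVec_smul, hyE,
      smul_smul] at h1
    linear_combination (norm := module) -h1
  obtain ⟨t, ht0, ht⟩ := exists_traceZero hF (F := F) (q := q)
  have hlc : l = c := by
    have h1 := heval 0 t ⟨H_zero_left _, by rw [H_zero_left, neg_zero]; exact ht⟩
    rw [Matrix.mulVec_zero, H_zero_right hF, H_zero_right hF] at h1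
    simp only [zero_mul, sub_zero, zero_add, zero_smul] at h1
    rw [smul_smul] at h1
    have h2 := congrArg (fun z => H z P) h1
    simp only [H_smul_left, hEP, mul_one] at h2
    exact mul_left_cancel₀ ht0 (by linear_combination -h2)
  have hn1 : c ^ q * c = 1 := by rwa [hlc] at hyPE
  have hw : ∀ w, H w E = 0 → ∃ k : F, mat y *ᵥ w = c • w + k • E := by
    intro w hwE
    obtain ⟨a, hok⟩ := exists_ok hF hwE
    have h1 := heval w a hok
    rw [hlc] at h1
    exact ⟨H P w * c - H (mat y *ᵥ P) w, by linear_combination (norm := module) h1⟩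
  set v := c⁻¹ • (mat y *ᵥ P) - P with hv
  have hvE : H v E = 0 := by
    rw [hv, H_sub_left, H_smul_left, ← hl, hlc, hPE, inv_mul_cancel₀ hc0, sub_self]
  have hvv : H (P + v) (P + v) = 0 := by
    rw [hv, add_sub_cancel, UnitaryCount.hermForm_smul_smul, SU_H, hPP, mul_zero]
  set a := H v P with ha
  set w := v - a • E with hwdef
  have hPw : H P w = 0 := by
    rw [hwdef, H_sub_right hF, H_smul_right, hPE, mul_one, ha, H_conj hF, sub_self]
  have hok : Ok q E w a := by
    refine ⟨by rw [hwdef, H_sub_left, H_smul_left, hvE, hEE]; simp, ?_⟩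
    have hEv : H E v = 0 := (H_eq_zero_comm hF).1 hvE
    have hww : H w w = H v v := by
      rw [hwdef]
      simp only [H_sub_left, H_sub_right hF, H_smul_left, H_smul_right, hvE, hEv, hEE, mul_zero,
        sub_zero]
    simp only [H_add_left, H_add_right hF, hPP, zero_add] at hvv
    rw [hww, ha, H_conj hF]
    linear_combination hvv
  have hg := isHeis_heisEl hF hEE hok
  set s := heisEl hF hEE hok with hs
  have hsm : s ∈ heisGroup hF hEE := ⟨w, a, hok, hg⟩
  have hsP : mat s *ᵥ P = c⁻¹ • (mat y *ᵥ P) := by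
    rw [hg, hPE, hPw, one_smul, zero_smul, sub_zero, hwdef, sub_add_cancel, hv, add_sub_cancel]
  obtain ⟨w', a', hok', hg'⟩ := Subgroup.inv_mem _ hsm
  have hsiE : mat s⁻¹ *ᵥ E = E := by
    rw [hg', hEE, zero_smul, add_zero, (H_eq_zero_comm hF).1 hok'.1, zero_smul, sub_zero]
  have hzP : mat (s⁻¹ * y) *ᵥ P = c • P := by
    rw [mul_mulVec]
    refine inv_mulVec s ?_
    rw [Matrix.mulVec_smul, hsP, smul_smul, mul_inv_cancel₀ hc0, one_smul]
  have hzperp : ∀ w, H w E = 0 → mat (s⁻¹ * y) *ᵥ w = c • w := by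
    intro u hu
    obtain ⟨k, hk⟩ := hw u hu
    have h1 : ∃ k' : F, mat (s⁻¹ * y) *ᵥ u = c • u + k' • E := by
      refine ⟨k - c * H u w', ?_⟩
      rw [mul_mulVec, hk, Matrix.mulVec_add, Matrix.mulVec_smul, Matrix.mulVec_smul, hsiE, hg', hu]
      module
    obtain ⟨k', hk'⟩ := h1
    have h2 := SU_H (s⁻¹ * y) u P
    rw [hk', hzP, H_smul_right, H_add_left, H_smul_left, H_smul_left, hEP, mul_one] at h2
    have hk0 : k' = 0 := by
      have : c ^ q * k' = 0 := by linear_combination h2 - H u P * hn1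
      exact (mul_eq_zero.1 this).resolve_left (pow_ne_zero _ hc0)
    rw [hk', hk0, zero_smul, add_zero]
  refine ⟨s, hsm, (mk_eq_mk_iff hF (by omega) s y).2 ⟨c, fun u => ?_⟩⟩
  have h1 : mat (s⁻¹ * y) *ᵥ u = c • u := by
    have h2 := hzperp (u - H u E • P) (by rw [H_sub_left, H_smul_left, hPE, mul_one, sub_self])
    rw [Matrix.mulVec_sub, Matrix.mulVec_smul, hzP] at h2
    linear_combination (norm := module) h2
  rw [← Matrix.mulVec_smul, ← h1, ← mul_mulVec, mul_inv_cancel_left]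

/-- A subgroup closed under conjugation inside the flag group containing a nontrivial central
element contains the flag group. -/
theorem flag_le (hn : 3 ≤ n) (i0 i1 : Fin m) (hi0 : (i0 : ℕ) = 0) (h01 : i0 ≠ i1)
    {T : Subgroup SUn}
    (hcl : ∀ B ∈ T, B ∈ U₀ → ∀ h : SUn, h * B * h⁻¹ ∈ U₀ → h * B * h⁻¹ ∈ T)
    {A : SUn} (hAU : A ∈ U₀) (hAT : A ∈ T) (hA1 : A ≠ 1) (hAc : ∀ B ∈ U₀, A * B = B * A) :
    U₀ ≤ T := by
  have hle0 := heisFirst_le hF fr i0 hi0
  obtain ⟨c, hc, rfl⟩ := centre_form hF (fr.ee i0 i0) (e_ne_zero hF fr i0)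
    (flag_fix_first hF fr i0 hi0 hAU) fun s hs => hAc s (hle0 hs)
  have hc0 : c ≠ 0 := fun h => hA1 (SU_ext fun x => by
    rw [tvu_mulVec, h, mat_one, Matrix.one_mulVec]; simp)
  -- all transvections at the first vector
  have htv0 : ∀ (d : F) (hd : d + d ^ q = 0), tvu hF (fr.ee i0 i0) hd ∈ T := by
    intro d hd
    by_cases hd0 : d = 0
    · convert one_mem T
      exact SU_ext fun x => by rw [tvu_mulVec, hd0, mat_one, Matrix.one_mulVec]; simp
    obtain ⟨x, hx⟩ := UnitaryCount.exists_norm_eq hF (μ := d / c) (div_ne_zero hd0 hc0) (by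
      rw [div_pow, show d ^ q = -d by linear_combination hd,
        show c ^ q = -c by linear_combination hc, neg_div_neg_eq])
    have hx0 : x ≠ 0 := fun h => div_ne_zero hd0 hc0 (by rw [← hx, h, zero_pow (Nat.succ_ne_zero q)])
    obtain ⟨t, -, ht, -, -⟩ := pair_torus hF fr (⊤ : Subgroup SUn) h01 (fun _ _ _ => trivial)
      (fun _ _ _ => trivial) hx0
    have he : t * tvu hF (fr.ee i0 i0) hc * t⁻¹ = tvu hF (fr.ee i0 i0) hd := by
      rw [tvu_conj hF t ht (fr.ee i0 i0) (by rw [H_smul_left, H_smul_right, fr.ee]; simp) hc]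
      refine SU_ext fun v => ?_
      rw [tvu_mulVec, tvu_mulVec, H_smul_right, smul_smul]
      congr 2
      rw [show c * (x ^ q * H v (e i0)) * x = c * x ^ (q + 1) * H v (e i0) by ring, hx,
        mul_div_cancel₀ _ hc0]
    rw [← he]
    exact hcl _ hAT hAU t (by rw [he]; exact hle0 (tvu_mem_heisGroup hF _ hd))
  -- transvections at vectors of the flag
  have htv : ∀ (v : Vec) (hv : H v v = 0), v ∈ Vsp e m → v ≠ 0 → ∀ (d : F) (hd : d + d ^ q = 0),
      tvu hF hv hd ∈ T := by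
    intro v hv hvW hv0 d hd
    obtain ⟨k, a, hk⟩ := exists_su_point hF (e_ne_zero hF fr i0) hv0 (fr.ee i0 i0) hv
    have ha : a ≠ 0 := fun h => mat_mulVec_ne_zero k (e_ne_zero hF fr i0) (by rw [hk, h, zero_smul])
    have hn1 : (a ^ (q + 1)) ^ q = a ^ (q + 1) := by
      rw [pow_succ, mul_pow, pow_qq hF, mul_comm]
    have hd' : d / a ^ (q + 1) + (d / a ^ (q + 1)) ^ q = 0 := by
      rw [div_pow, hn1, ← add_div, hd, zero_div]
    have he : k * tvu hF (fr.ee i0 i0) hd' * k⁻¹ = tvu hF hv hd := by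
      rw [tvu_conj hF k hk (fr.ee i0 i0) (by rw [H_smul_left, H_smul_right, hv]; simp) hd']
      refine SU_ext fun x => ?_
      rw [tvu_mulVec, tvu_mulVec, H_smul_right, smul_smul]
      congr 2
      field_simp
      ring
    rw [← he]
    refine hcl _ (htv0 _ hd') (hle0 (tvu_mem_heisGroup hF _ hd')) k ?_
    rw [he]
    refine fixFlag_le hF fr fun j => ?_
    rw [tvu_mulVec, (H_eq_zero_comm hF).1 (Vsp_e hF fr hvW j), mul_zero, zero_smul, add_zero]
  -- the elements with parameter along the second vector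
  have hline : ∀ μ : F, ∃ s ∈ T, IsHeis (e i0) s (μ • e i1) 0 := by
    intro μ
    obtain ⟨d, hd0, hd⟩ := exists_traceZero hF (F := F) (q := q)
    set b := (μ / d) ^ q with hb
    have hbq : b ^ q = μ / d := by rw [hb, pow_qq hF]
    have hdq : d ^ q = -d := by linear_combination hd
    set v := e i0
    set u := e i1
    have hu : H u u = 0 := fr.ee i1 i1
    have hv : H v v = 0 := fr.ee i0 i0
    have huv : H u v = 0 := fr.ee i1 i0
    have hvu : H v u = 0 := fr.ee i0 i1
    have hw : H (u + b • v) (u + b • v) = 0 := by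
      simp [H_add_left, H_add_right hF, H_smul_left, H_smul_right, hu, hv, huv, hvu]
    have hwW : u + b • v ∈ Vsp e m :=
      add_mem (mem_Vsp_self e i1.2) (Submodule.smul_mem _ _ (mem_Vsp_self e i0.2))
    have hw0 : u + b • v ≠ 0 := fun h => e_ne_smul hF fr (Ne.symm h01) (-b)
      (by rw [neg_smul]; exact eq_neg_of_add_eq_zero_left h)
    have hd1 : -d + (-d) ^ q = 0 := by
      rw [← HermStd.qHom_apply hF, map_neg, HermStd.qHom_apply, hdq]; ring
    have hnb : (b * b ^ q) ^ q = b * b ^ q := by rw [mul_pow, pow_qq hF, mul_comm]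
    have hd2 : -(d * (b * b ^ q)) + (-(d * (b * b ^ q))) ^ q = 0 := by
      have h' : (-(d * (b * b ^ q))) ^ q = -(d ^ q * (b * b ^ q) ^ q) := by
        rw [← HermStd.qHom_apply hF, map_neg, HermStd.qHom_apply, mul_pow]
      rw [h', hnb, hdq]
      ring
    refine ⟨tvu hF hw hd * tvu hF hu hd1 * tvu hF hv hd2, mul_mem (mul_mem (htv _ hw hwW hw0 d hd)
      (htv _ hu (mem_Vsp_self e i1.2) (e_ne_zero hF fr i1) _ hd1)) (htv0 _ hd2), fun x => ?_⟩
    simp only [mul_mulVec, tvu_mulVec, H_add_left, H_add_right hF, H_smul_left, H_smul_right,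
      hu, hv, huv, hvu, hbq]
    rw [show μ = d * b ^ q by rw [hbq, mul_div_cancel₀ _ hd0], mul_div_cancel_left₀ _ hd0]
    simp only [mul_pow, pow_qq hF, hdq]
    match_scalars <;> ring
  -- isotropic parameters
  have hiso : ∀ z, H z (e i0) = 0 → H z z = 0 → ∃ s ∈ T, ∃ a, Ok q (e i0) z a ∧
      IsHeis (e i0) s z a := by
    intro z hz hzz
    by_cases hzl : ∃ k : F, z = k • e i0
    · obtain ⟨k, rfl⟩ := hzl
      have hk : k - k ^ q + (k - k ^ q) ^ q = 0 := by
        have h' : (k - k ^ q) ^ q = k ^ q - k := by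
          rw [← HermStd.qHom_apply hF, ← HermStd.qHom_apply hF k, map_sub, HermStd.qHom_apply,
            HermStd.qHom_apply, pow_qq hF]
        rw [h']
        ring
      refine ⟨_, htv0 _ hk, 0, ⟨hz, by rw [zero_pow (q_ne_zero hF), hzz]; simp⟩, fun x => ?_⟩
      rw [tvu_mulVec, H_smul_right]
      module
    push Not at hzl
    have hze : H (e i0) z = 0 := (H_eq_zero_comm hF).1 hz
    have hne : ∀ k : F, e i0 ≠ k • z := fun k hk => by
      have hk0 : k ≠ 0 := fun h => e_ne_zero hF fr i0 (by rw [hk, h, zero_smul])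
      exact hzl k⁻¹ (by rw [hk, smul_smul, inv_mul_cancel₀ hk0, one_smul])
    have hli : LinearIndependent F ![e i0, e i1] :=
      (LinearIndependent.pair_iff' (e_ne_zero hF fr i0)).2 fun k hk =>
        e_ne_smul hF fr h01.symm k hk.symm
    have hli' : LinearIndependent F ![e i0, z] :=
      (LinearIndependent.pair_iff' (e_ne_zero hF fr i0)).2 fun k hk => hzl k hk.symm
    obtain ⟨g, hg0, hg1⟩ := exists_gu_map_pair hF hli hli' rfl
      (by rw [fr.ee, hze]) (by rw [fr.ee, hzz])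
    obtain ⟨k, α, β, hα, hβ, hk0, hk1⟩ :=
      exists_su_of_gu hF (e_ne_zero hF fr i0) (fr.ee i0 i0) g z (Or.inr ⟨hze, hne⟩)
    rw [ginv_mulVec g hg0] at hk0
    rw [ginv_mulVec g hg1] at hk1
    obtain ⟨s, hsT, hs⟩ := hline ((α ^ q * β)⁻¹)
    have hok : Ok q (e i0) ((α ^ q * β)⁻¹ • e i1) 0 := by
      refine ⟨by rw [H_smul_left, fr.ee, mul_zero], ?_⟩
      rw [zero_pow (q_ne_zero hF), H_smul_left, H_smul_right, fr.ee]
      simp
    obtain ⟨h1, h2⟩ := heis_conj hF k hk0 hok hs hα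
    have e1 : α ^ q • (mat k *ᵥ ((α ^ q * β)⁻¹ • e i1)) = z := by
      rw [Matrix.mulVec_smul, hk1, smul_smul, smul_smul]
      rw [show α ^ q * (α ^ q * β)⁻¹ * β = 1 by field_simp, one_smul]
    rw [e1, zero_mul] at h1 h2
    exact ⟨_, hcl s hsT (hle0 ⟨_, _, hok, hs⟩) k (hle0 ⟨_, _, h1, h2⟩), 0, h1, h2⟩
  let Good : Vec → Prop := fun z => ∃ s ∈ T, ∃ a, Ok q (e i0) z a ∧ IsHeis (e i0) s z a
  have hadd : ∀ z z', Good z → Good z' → Good (z + z') := by
    rintro z z' ⟨s, hs, a, hok, hh⟩ ⟨s', hs', a', hok', hh'⟩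
    exact ⟨_, mul_mem hs hs', _, Ok.add hF hok hok', hh.mul hF (fr.ee i0 i0) hok.1 hok'.1 hh'⟩
  have hzero : Good 0 := hiso 0 (H_zero_left _) (H_zero_left _)
  have hgood : ∀ z, H z (e i0) = 0 → Good z := by
    intro z hz
    rw [decompose hF fr z]
    set r := rest q e f z
    have hre := rest_e hF fr z
    have hrf := rest_f hF fr z
    refine hadd _ _ ?_ (Finset.sum_induction _ Good hadd hzero fun j _ => hadd _ _ ?_ ?_)
    · obtain ⟨α, hα⟩ := exists_trace_eq hF (c := -H r r) (by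
        rw [← HermStd.qHom_apply hF, map_neg, HermStd.qHom_apply, H_conj hF])
      have hr : r = (r + α • e i1 + f i1) + ((-α) • e i1 + (-1 : F) • f i1) := by module
      rw [hr]
      refine hadd _ _ (hiso _ ?_ ?_) (hadd _ _ (hiso _ ?_ ?_) (hiso _ ?_ ?_))
      · rw [H_add_left, H_add_left, H_smul_left, hre, fr.ee, fe hF fr, if_neg h01.symm]; simp
      · have her : H (e i1) r = 0 := (H_eq_zero_comm hF).1 (hre i1)
        have hfr : H (f i1) r = 0 := (H_eq_zero_comm hF).1 (hrf i1)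
        have hfe1 : H (f i1) (e i1) = 1 := by rw [fe hF fr, if_pos rfl]
        have hef1 : H (e i1) (f i1) = 1 := by rw [fr.ef, if_pos rfl]
        simp only [H_add_left, H_add_right hF, H_smul_left, H_smul_right, hre i1, hrf i1, her, hfr,
          fr.ee, fr.ff, hfe1, hef1, show H r (e i1) = 0 from hre i1, show H r (f i1) = 0 from hrf i1]
        linear_combination hα
      · rw [H_smul_left, fr.ee, mul_zero]
      · rw [H_smul_left, H_smul_right, fr.ee]; simp
      · rw [H_smul_left, fe hF fr, if_neg h01.symm, mul_zero]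
      · rw [H_smul_left, H_smul_right, fr.ff]; simp
    · refine hiso _ (by rw [H_smul_left, fr.ee, mul_zero]) ?_
      rw [H_smul_left, H_smul_right, fr.ee]; simp
    · refine hiso _ ?_ (by rw [H_smul_left, H_smul_right, fr.ff]; simp)
      rw [H_smul_left, fe hF fr]
      split_ifs with hj
      · subst hj; rw [hz, zero_mul]
      · rw [mul_zero]
  have hfirst : heisGroup hF (fr.ee i0 i0) ≤ T := by
    rintro s ⟨w, a, hok, hs⟩
    obtain ⟨s', hs', a', hok', hh'⟩ := hgood w hok.1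
    have hd : a - a' + (a - a') ^ q = 0 := by
      rw [← HermStd.qHom_apply hF, map_sub, HermStd.qHom_apply, HermStd.qHom_apply]
      linear_combination hok.2 - hok'.2
    have he : s = s' * tvu hF (fr.ee i0 i0) hd := SU_ext fun x => by
      rw [mul_mulVec, hs, tvu_mulVec, hh']
      simp only [H_add_left, H_smul_left, fr.ee, (H_eq_zero_comm hF).1 hok.1]
      module
    rw [he]
    exact mul_mem hs' (htv0 _ hd)
  refine (flag_le_gen hF fr).trans ((Subgroup.closure_le _).2 ?_)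
  rintro s ⟨⟨k, hk⟩, hsU⟩
  obtain ⟨g, α, hg⟩ := exists_su_point hF (e_ne_zero hF fr k) (e_ne_zero hF fr i0) (fr.ee k k)
    (fr.ee i0 i0)
  have hα : α ≠ 0 := fun h => mat_mulVec_ne_zero g (e_ne_zero hF fr k) (by rw [hg, h, zero_smul])
  have h1 := conj_heisGroup hF (fr.ee k k) (fr.ee i0 i0) hα hg hk
  have he : g⁻¹ * (g * s * g⁻¹) * g⁻¹⁻¹ = s := by group
  show s ∈ T
  rw [← he]
  exact hcl _ (hfirst h1) (hle0 h1) g⁻¹ (by rw [he]; exact hsU)

/-- The generators used for the normalizer. -/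
def locSet (R : Subgroup SUn) : Set SUn :=
  {x | (∀ r ∈ R, x * r * x⁻¹ ∈ R) ∧ ∃ k : ℕ, x ^ p ^ k = 1}

/-- Reducing a diagonal element by local elements. -/
theorem exists_local_diag (i1 : Fin m) {a : Fin m → F} (ha : ∀ j, a j ≠ 0) :
    ∃ t ∈ Subgroup.closure (locSet p R₀), ∃ b : Fin m → F, (∀ j, b j ≠ 0) ∧
      (∀ j, j ≠ i1 → b j = a j) ∧ ∀ j, mat t *ᵥ e j = b j • e j := by
  classical
  suffices ∀ s : Finset (Fin m), i1 ∉ s → ∃ t ∈ Subgroup.closure (locSet p R₀),
      ∃ b : Fin m → F, (∀ j, b j ≠ 0) ∧ (∀ j ∈ s, b j = a j) ∧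
        (∀ j, j ∉ s → j ≠ i1 → b j = 1) ∧ ∀ j, mat t *ᵥ e j = b j • e j by
    obtain ⟨t, ht, b, hb0, hb, -, hbt⟩ := this (Finset.univ.erase i1) (by simp)
    exact ⟨t, ht, b, hb0, fun j hj => hb j (by simp [hj]), hbt⟩
  intro s
  induction s using Finset.induction_on with
  | empty =>
    exact fun _ => ⟨1, one_mem _, fun _ => 1, fun _ => one_ne_zero, by simp, by simp,
      fun j => by rw [mat_one, Matrix.one_mulVec, one_smul]⟩
  | insert k s hks ih =>
    intro hi
    rw [Finset.mem_insert, not_or] at hi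
    obtain ⟨t, ht, b, hb0, hbs, hb1, hbt⟩ := ih hi.2
    have hK : ∀ l, ∀ x ∈ heisGroup hF (fr.ee l l), (∀ j, mat x *ᵥ e j ∈ Vsp e m) →
        x ∈ Subgroup.closure (locSet p R₀) := fun l x hx hxW =>
      Subgroup.subset_closure ⟨conj_fixFlag hF fr fun v hv =>
        mulVec_sub_mem (fun j _ => hxW j) hv, 2, heis_pow hF p _ hx⟩
    obtain ⟨t', ht', hk, h1, hl⟩ :=
      pair_torus hF fr (Subgroup.closure (locSet p R₀)) (Ne.symm hi.1) (hK k) (hK i1) (ha k)
    refine ⟨t' * t, mul_mem ht' ht,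
      fun j => b j * if j = k then a k else if j = i1 then (a k)⁻¹ else 1,
      fun j => mul_ne_zero (hb0 j) (by split_ifs <;> simp [ha k]), fun j hj => ?_,
      fun j hj hj1 => ?_, fun j => ?_⟩
    · rw [Finset.mem_insert] at hj
      rcases hj with rfl | hj
      · dsimp only
        rw [if_pos rfl, hb1 j hks (Ne.symm hi.1), one_mul]
      · have hjk : j ≠ k := fun h => hks (h ▸ hj)
        have hj1 : j ≠ i1 := fun h => hi.2 (h ▸ hj)
        dsimp only
        rw [if_neg hjk, if_neg hj1, mul_one, hbs j hj]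
    · rw [Finset.mem_insert, not_or] at hj
      dsimp only
      rw [if_neg hj.1, if_neg hj1, mul_one, hb1 j hj.2 hj1]
    · rw [mul_mulVec, hbt, Matrix.mulVec_smul]
      dsimp only
      split_ifs with h2 h3
      · subst h2; rw [hk, smul_smul]
      · subst h3; rw [h1, smul_smul]
      · rw [hl j h2 h3, mul_one]

/-- A vector orthogonal to the frame of prescribed norm. -/
theorem exists_rest_norm (hn : 2 ≤ n) (i1 : Fin m) {y : SUn} {lam b : F} (hlam : lam ≠ 0)
    (hbt : b + b ^ q = 0) (hy : ∀ j, mat y *ᵥ e j = (if j = i1 then lam else 1) • e j) :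
    ∃ w, (∀ j, H w (e j) = 0) ∧ (∀ j, H w (f j) = 0) ∧
      lam * b + (lam * b) ^ q = -H w w := by
  by_cases hR : ∀ x, rest q e f x = 0
  · refine ⟨0, fun j => H_zero_left _, fun j => H_zero_left _, ?_⟩
    obtain ⟨h, hh, hze, hzf⟩ :=
      adjust_f hF fr (a := fun j => if j = i1 then lam else 1)
        (fun j => by split_ifs <;> simp [hlam]) hy
    set z := h⁻¹ * y
    have hfe1 : H (f i1) (e i1) = 1 := by rw [fe hF fr, if_pos rfl]
    have hef1 : H (e i1) (f i1) = 1 := by rw [fr.ef, if_pos rfl]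
    have hz : mat z = two q ((lam - 1) • e i1) (f i1) (((lam ^ q)⁻¹ - 1) • f i1) (e i1) := by
      refine mat_ext fun x => ?_
      rw [two_mulVec, mulVec_decompose hF fr z x, hR, Matrix.mulVec_zero, zero_add]
      simp only [hze, hzf]
      conv_rhs => rw [decompose hF fr x, hR, zero_add]
      have e1 : ∀ j, H x (f j) • (if j = i1 then lam else 1) • e j +
          H x (e j) • ((if j = i1 then lam else 1) ^ q)⁻¹ • f j =
          (H x (f j) • e j + H x (e j) • f j) + if j = i1 then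
            H x (f i1) • (lam - 1) • e i1 + H x (e i1) • ((lam ^ q)⁻¹ - 1) • f i1 else 0 := by
        intro j
        split_ifs with hj
        · subst hj; module
        · simp
      rw [Finset.sum_congr rfl fun j _ => e1 j, Finset.sum_add_distrib, Finset.sum_ite_eq',
        if_pos (Finset.mem_univ _)]
      have hx1 : H x (f i1) = H (∑ j, (H x (f j) • e j + H x (e j) • f j)) (f i1) := by
        conv_lhs => rw [decompose hF fr x, hR, zero_add]
      have hx2 : H x (e i1) = H (∑ j, (H x (f j) • e j + H x (e j) • f j)) (e i1) := by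
        conv_lhs => rw [decompose hF fr x, hR, zero_add]
      rw [← hx1, ← hx2]
    have hd : (mat z).det = 1 := z.1.2
    rw [hz, det_two, H_smul_left, H_smul_left, H_smul_left, H_smul_left, hef1, hfe1, fr.ee, fr.ff]
      at hd
    have h2 : lam ^ q = lam := by
      have h3 : lam * (lam ^ q)⁻¹ = 1 := by linear_combination hd
      exact ((mul_inv_eq_one₀ (pow_ne_zero _ hlam)).1 h3).symm
    rw [mul_pow, h2, H_zero_left, neg_zero, ← mul_add, hbt, mul_zero]
  · push Not at hR
    obtain ⟨x, hx⟩ := hR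
    set r := rest q e f x
    have hre := rest_e hF fr x
    have hrf := rest_f hF fr x
    have hrr : H r r ≠ 0 := fun h => hx (fr.aniso r hre hrf h)
    obtain ⟨c, hc⟩ := UnitaryCount.exists_norm_eq' hF (μ := -(lam * b + (lam * b) ^ q) / H r r) (by
      rw [← HermStd.qHom_apply hF, map_div₀, map_neg, map_add, HermStd.qHom_apply,
        HermStd.qHom_apply, HermStd.qHom_apply, pow_qq hF, H_conj hF]
      ring)
    refine ⟨c • r, fun j => by rw [H_smul_left, hre, mul_zero],
      fun j => by rw [H_smul_left, hrf, mul_zero], ?_⟩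
    rw [UnitaryCount.hermForm_smul_smul, hc, div_mul_cancel₀ _ hrr, neg_neg]

/-- The remaining diagonal element is local. -/
theorem exists_local_one (hn : 2 ≤ n) (i0 i1 : Fin m) (h01 : i0 ≠ i1) {y : SUn} {lam : F}
    (hlam : lam ≠ 0) (hy : ∀ j, mat y *ᵥ e j = (if j = i1 then lam else 1) • e j) :
    ∃ t ∈ Subgroup.closure (locSet p (heisGroup hF (fr.ee i0 i0))),
      ∀ j, mat t *ᵥ e j = (if j = i1 then lam else 1) • e j := by
  obtain ⟨b, hb, hbt⟩ := exists_traceZero hF (F := F) (q := q)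
  obtain ⟨w, hwe, hwf, hw⟩ := exists_rest_norm hF fr p hn i1 hlam hbt hy
  have hew : ∀ j, H (e j) w = 0 := fun j => (H_eq_zero_comm hF).1 (hwe j)
  have hef1 : H (e i1) (f i1) = 1 := by rw [fr.ef, if_pos rfl]
  have hmem : ∀ (v : Vec) (hv : H v v = 0) (s : SUn) (c a : F), H (e i0) v = 0 →
      Ok q v (c • w) a → IsHeis v s (c • w) a →
      s ∈ Subgroup.closure (locSet p (heisGroup hF (fr.ee i0 i0))) :=
    fun v hv s c a hev hok hs => Subgroup.subset_closure ⟨conj_heisFirst hF fr i0 one_ne_zero (by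
      rw [hs, hev, H_smul_right, hew]; simp), 2, heis_pow hF p hv ⟨_, _, hok, hs⟩⟩
  obtain ⟨t, ht, hte, htx⟩ := torus hF _ (fr.ee i1 i1) (fr.ff i1 i1) hef1 (hwe i1) (hwf i1) hlam hb
    hbt hw
    (fun c a h => hmem _ (fr.ee i1 i1) _ c a (fr.ee i0 i1) h (isHeis_heisEl hF _ h))
    (fun c a h => hmem _ (fr.ff i1 i1) _ c a (by rw [fr.ef, if_neg h01]) h
      (isHeis_heisEl hF _ h))
  refine ⟨t, ht, fun j => ?_⟩
  split_ifs with hj
  · subst hj; exact hte
  · rw [one_smul, htx _ (fr.ee j i1) (by rw [fr.ef, if_neg hj]) (hew j)]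

end

/-- Simplicity. -/
theorem isSimple (hn : 4 ≤ n) (p : ℕ) [Fact p.Prime] [CharP F p] (S : Sylow p (PSU n F q)) :
    (groupFusionSystem (S : Subgroup (PSU n F q))).IsSimple p := by
  classical
  obtain ⟨m, e, f, hm, fr⟩ := exists_frame hF hn
  set U : Subgroup SUn := flagGroup hF e with hU
  set i0 : Fin m := ⟨0, by omega⟩ with hi0
  set i1 : Fin m := ⟨1, by omega⟩ with hi1
  have h01 : i0 ≠ i1 := by simp [hi0, hi1, Fin.ext_iff]
  obtain ⟨P, hP⟩ := exists_sylow hF fr p (by omega)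
  obtain ⟨x, hx⟩ := MulAction.exists_smul_eq (PSU n F q) P S
  suffices hmain : ∀ Q : Sylow p (PSU n F q), (∃ g : PSU n F q,
      ∀ y, y ∈ (Q : Subgroup (PSU n F q)) ↔ g⁻¹ * y * g ∈ U.map π) →
      (groupFusionSystem (Q : Subgroup (PSU n F q))).IsSimple p by
    refine hmain S ⟨x, fun y => ?_⟩
    rw [← hx, Sylow.coe_subgroup_smul, Subgroup.mem_pointwise_smul_iff_inv_smul_mem, hP]
    simp [MulAut.conj_symm_apply, hU]
  clear! S P
  rintro S ⟨g, hg⟩
  set cg : PSU n F q →* PSU n F q := (MulAut.conj g).toMonoidHom with hcg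
  have hmemS : ∀ y, g * y * g⁻¹ ∈ (S : Subgroup (PSU n F q)) ↔ y ∈ U.map π := fun y => by
    rw [hg]
    simp [mul_assoc]
  have hinj : ∀ {A B : SUn}, A ∈ U → B ∈ U → π A = π B → A = B :=
    fun hA hB h => mk_injOn hF fr p (by omega) hA hB h
  have hS1 : (S : Subgroup (PSU n F q)) ≠ ⊥ := by
    intro h
    obtain ⟨c, hc0, hc⟩ := exists_traceZero hF (F := F) (q := q)
    have htU : tvu hF (fr.ee i0 i0) hc ∈ U :=
      heisFirst_le hF fr i0 rfl (tvu_mem_heisGroup hF _ hc)
    have h1 := (hmemS _).2 (Subgroup.mem_map_of_mem π htU)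
    rw [h, Subgroup.mem_bot, mul_inv_eq_one, mul_eq_left] at h1
    have h2 := congrArg (fun B : SUn => H (mat B *ᵥ f i0) (f i0))
      (hinj htU (one_mem _) (h1.trans (map_one π).symm))
    simp [tvu_mulVec, mat_one, H_add_left, H_smul_left, fr.ff, fr.ef, fe hF fr] at h2
    exact hc0 h2
  refine SimpleCriterion.isSimple hS1 (fun T hT => ?_) fun y hy => ?_
  · refine or_iff_not_imp_left.2 fun hne => le_antisymm hT.1 ?_
    obtain ⟨z, hzT, hz1, hzc⟩ := SimpleCriterion.exists_central hT hne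
    obtain ⟨A, hAU, hAz⟩ := (hg z).1 (hT.1 hzT)
    have hzA : z = g * π A * g⁻¹ := by rw [hAz]; group
    have hle : U ≤ ((T.comap cg).comap π : Subgroup SUn) := by
      refine flag_le hF fr p (by omega) i0 i1 rfl h01 (fun B hB _ h hBh => ?_) hAU ?_ ?_
        fun B hB => ?_
      · show g * π (h * B * h⁻¹) * g⁻¹ ∈ T
        have e : g * π (h * B * h⁻¹) * g⁻¹ =
            (g * π h * g⁻¹) * (g * π B * g⁻¹) * (g * π h * g⁻¹)⁻¹ := by
          rw [map_mul, map_mul, map_inv]; group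
        rw [e]
        refine SimpleCriterion.closed hT hB ?_
        rw [← e]
        exact (hmemS _).2 (Subgroup.mem_map_of_mem π hBh)
      · show g * π A * g⁻¹ ∈ T
        rw [← hzA]; exact hzT
      · intro hA
        refine hz1 ?_
        rw [hzA, hA, map_one, mul_one, mul_inv_cancel]
      · refine hinj (mul_mem hAU hB) (mul_mem hB hAU) ?_
        have h1 := hzc _ ((hmemS _).2 (Subgroup.mem_map_of_mem π hB))
        rw [hzA] at h1
        rw [map_mul, map_mul]
        calc π A * π B = g⁻¹ * ((g * π A * g⁻¹) * (g * π B * g⁻¹)) * g := by group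
          _ = g⁻¹ * ((g * π B * g⁻¹) * (g * π A * g⁻¹)) * g := by rw [h1]
          _ = π B * π A := by group
    intro y hy
    obtain ⟨B, hB, hBy⟩ := (hg y).1 hy
    have h1 : g * π B * g⁻¹ ∈ T := hle hB
    rw [hBy] at h1
    simpa [mul_assoc] using h1
  · -- generation of the normalizer
    obtain ⟨t, ht⟩ := QuotientGroup.mk'_surjective (Subgroup.center SUn) (g⁻¹ * y * g)
    have htN : π t ∈ Subgroup.normalizer ((U.map π : Subgroup (PSU n F q)) : Set (PSU n F q)) := by
      rw [ht, Subgroup.mem_normalizer_iff]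
      intro u
      have h1 := Subgroup.mem_normalizer_iff.1 hy (g * u * g⁻¹)
      have e : y * (g * u * g⁻¹) * y⁻¹ =
          g * (g⁻¹ * y * g * u * (g⁻¹ * y * g)⁻¹) * g⁻¹ := by group
      rw [e] at h1
      exact (hmemS u).symm.trans (h1.trans (hmemS _))
    have hconj : ∀ s ∈ U, t⁻¹ * s * t ∈ U := by
      intro s hs
      have h1 : π (t⁻¹ * s * t) ∈ U.map π := by
        rw [map_mul, map_mul, map_inv]
        have h2 := (Subgroup.mem_normalizer_iff.1 (Subgroup.inv_mem _ htN) (π s)).1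
          (Subgroup.mem_map_of_mem π hs)
        rwa [inv_inv] at h2
      obtain ⟨u, hu, hus⟩ := h1
      obtain ⟨k, hk⟩ := pow_eq_one hF fr p hs
      obtain ⟨l, hl⟩ := pow_eq_one hF fr p hu
      have he : u = t⁻¹ * s * t := mk_inj_pow hF p (by omega) hl (j := k) (by
        rw [show t⁻¹ * s * t = t⁻¹ * s * t⁻¹⁻¹ by rw [inv_inv], conj_pow, hk, mul_one,
          mul_inv_cancel]) hus
      rwa [← he]
    obtain ⟨a, ha, hat⟩ := flag_stable hF fr hconj
    obtain ⟨h, hh, hy1⟩ := adjust_e hF fr ha hat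
    set L : Subgroup SUn := ((Subgroup.closure
      ((Subgroup.centralizer ((S : Subgroup (PSU n F q)) : Set (PSU n F q)) : Set (PSU n F q)) ∪
        ((S : Subgroup (PSU n F q)) : Set (PSU n F q)) ∪ SimpleCriterion.localSet S)).comap
          cg).comap π
    suffices hL : t ∈ L by
      have h1 : cg (π t) ∈ Subgroup.closure _ := hL
      rw [ht] at h1
      simpa [hcg, mul_assoc] using h1
    have hUL : U ≤ L := fun B hB =>
      Subgroup.subset_closure (Or.inl (Or.inr ((hmemS _).2 (Subgroup.mem_map_of_mem π hB))))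
    have hlocal : ∀ (R : Subgroup SUn) (h : SUn), R ≤ U →
        (∀ v ∈ U, ∀ r ∈ R, v * r * v⁻¹ ∈ R) →
        Subgroup.centralizer ((R.map π : Subgroup (PSU n F q)) : Set (PSU n F q)) ≤ R.map π →
        (∀ v ∈ U, h * v * h⁻¹ ∈ U) →
        h ∈ Subgroup.closure (locSet p R) → h ∈ L := by
      intro R h hRU hRn hRc hhU hh
      refine Subgroup.subset_closure (Or.inr
        ⟨mem_normalizer_of_forall fun v hv => ?_, (R.map π).map cg, ?_, ?_, ?_, ?_⟩)
      · obtain ⟨B, hB, hBv⟩ := (hg v).1 hv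
        have hv' : v = g * π B * g⁻¹ := by rw [hBv]; group
        rw [hv']
        simp only [MulEquiv.coe_toMonoidHom, hcg, MulAut.conj_apply]
        rw [show ∀ A : PSU n F q, g * A * g⁻¹ * (g * π B * g⁻¹) * (g * A * g⁻¹)⁻¹ =
          g * (A * π B * A⁻¹) * g⁻¹ from fun A => by group, hmemS, ← map_inv, ← map_mul, ← map_mul]
        exact Subgroup.mem_map_of_mem π (hhU B hB)
      · rintro _ ⟨v, ⟨r, hr, rfl⟩, rfl⟩
        exact (hmemS _).2 (Subgroup.mem_map_of_mem π (hRU hr))
      · intro v hv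
        obtain ⟨B, hB, hBv⟩ := (hg v).1 hv
        have hv' : v = cg (π B) := by rw [hBv]; simp [hcg, mul_assoc]
        rw [hv']
        refine Subgroup.le_normalizer_map cg (Subgroup.mem_map_of_mem cg
          (mem_normalizer_of_forall ?_))
        rintro _ ⟨r, hr, rfl⟩
        exact ⟨_, hRn B hB r hr, by simp⟩
      · intro v hv
        refine ⟨g⁻¹ * v * g, hRc fun r hr => ?_, by simp [hcg, mul_assoc]⟩
        have h1 : g * r * g⁻¹ * v = v * (g * r * g⁻¹) := hv _ ⟨r, hr, by simp [hcg]⟩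
        calc r * (g⁻¹ * v * g) = g⁻¹ * (g * r * g⁻¹ * v) * g := by group
          _ = g⁻¹ * (v * (g * r * g⁻¹)) * g := by rw [h1]
          _ = g⁻¹ * v * g * r := by group
      · refine (Subgroup.closure_le (K := ((Subgroup.closure _).comap cg).comap π)).2 ?_ hh
        rintro x ⟨hx, k, hk⟩
        refine Subgroup.subset_closure
          ⟨Subgroup.le_normalizer_map cg (Subgroup.mem_map_of_mem cg (mem_normalizer_of_forall ?_)),
            ?_⟩
        · rintro _ ⟨r, hr, rfl⟩
          exact ⟨_, hx r hr, by simp⟩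
        · have h1 : (cg (π x)) ^ p ^ k = 1 := by rw [← map_pow, ← map_pow, hk, map_one, map_one]
          obtain ⟨j, -, hj⟩ :=
            (Nat.dvd_prime_pow (Fact.out : p.Prime)).1 (orderOf_dvd_of_pow_eq_one h1)
          exact ⟨j, hj⟩
    have hmemU : h ∈ U := heisGen_le hF fr hh
    set y1 := h⁻¹ * t with hy1def
    rw [show t = h * y1 by rw [hy1def, mul_inv_cancel_left]]
    refine mul_mem (hUL hmemU) ?_
    obtain ⟨t1, ht1, b, hb0, hba, ht1e⟩ := exists_local_diag hF fr p i1 ha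
    have hfix : ∀ v ∈ U, ∀ r ∈ fixFlag q e, v * r * v⁻¹ ∈ fixFlag q e := fun v hv =>
      conj_fixFlag hF fr fun z hz => map_Vsp hF fr hv m hz
    have hh0 : ∀ v ∈ U, ∀ r ∈ heisGroup hF (fr.ee i0 i0),
        v * r * v⁻¹ ∈ heisGroup hF (fr.ee i0 i0) := fun v hv =>
      conj_heisFirst hF fr i0 one_ne_zero (by rw [one_smul]; exact flag_fix_first hF fr i0 rfl hv)
    have ht1L : t1 ∈ L := hlocal _ t1 (fixFlag_le hF fr) hfix
      (centralizer_fixFlag hF fr p (by omega) i0 i1 h01)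
      (fun v hv => diag_normalizes hF fr hb0 ht1e hv) ht1
    set lam := a i1 / b i1 with hlamdef
    have hlam : lam ≠ 0 := div_ne_zero (ha i1) (hb0 i1)
    have hy2 : ∀ j, mat (t1⁻¹ * y1) *ᵥ e j = (if j = i1 then lam else 1) • e j := by
      intro j
      rw [mul_mulVec, hy1, Matrix.mulVec_smul,
        inv_mulVec t1 (show mat t1 *ᵥ ((b j)⁻¹ • e j) = e j by
          rw [Matrix.mulVec_smul, ht1e, smul_smul, inv_mul_cancel₀ (hb0 j), one_smul]), smul_smul]
      split_ifs with hj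
      · subst hj; rw [hlamdef, div_eq_mul_inv]
      · rw [hba j hj, mul_inv_cancel₀ (ha j)]
    obtain ⟨t2, ht2, ht2e⟩ := exists_local_one hF fr p (by omega) i0 i1 h01 hlam hy2
    have hl' : ∀ j, (if j = i1 then lam else (1 : F)) ≠ 0 := fun j => by
      split_ifs <;> simp [hlam]
    have ht2L : t2 ∈ L := hlocal _ t2 (heisFirst_le hF fr i0 rfl) hh0
      (centralizer_heisFirst hF fr p (by omega) i0 rfl)
      (fun v hv => diag_normalizes hF fr hl' ht2e hv) ht2
    have hlast : t2⁻¹ * (t1⁻¹ * y1) ∈ U := fixFlag_le hF fr fun j => by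
      rw [mul_mulVec, hy2, Matrix.mulVec_smul,
        inv_mulVec t2 (show mat t2 *ᵥ ((if j = i1 then lam else 1)⁻¹ • e j) = e j by
          rw [Matrix.mulVec_smul, ht2e, smul_smul, inv_mul_cancel₀ (hl' j), one_smul]),
        smul_smul, mul_inv_cancel₀ (hl' j), one_smul]
    rw [show y1 = t1 * (t2 * (t2⁻¹ * (t1⁻¹ * y1))) by group]
    exact mul_mem ht1L (mul_mem ht2L (hUL hlast))

end Cfsg.Agent.Fusion.SimplePSU
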