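/-
The fusion system of `PSL_n(q)`, `n ≥ 3`, in the defining characteristic is simple.
-/
import Mathlib
import Cfsg.Agent.Lib.Fusion.SimpleCriterion
import Cfsg.Agent.Lib.AutPSL.Roots
import Cfsg.Agent.Lib.Classical.Linear

set_option autoImplicit false
set_option linter.unusedSectionVars false

namespace Cfsg.Agent.Fusion.SimplePSL

open Matrix Cfsg Cfsg.Agent.AutPSL.Basic Cfsg.Agent.AutPSL.Roots
  Cfsg.Agent.Fusion.Saturation

universe u

variable {F : Type u} [Field F] {n : ℕ}

local notation "SL" => Matrix.SpecialLinearGroup (Fin n) F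
local notation "PSL" => Matrix.ProjectiveSpecialLinearGroup (Fin n) F
local notation "M" => Matrix (Fin n) (Fin n) F
local notation "V" => Fin n → F
local notation "π" => (QuotientGroup.mk' (Subgroup.center SL) : SL →* PSL)

theorem mul_vmv {v w w' : V} (h : w ⬝ᵥ v = 0) :
    (1 + vecMulVec v w) * (1 + vecMulVec v w') = 1 + vecMulVec v (w + w') := by
  rw [mul_add, add_mul, add_mul, vecMulVec_mul_vecMulVec, h, zero_smul, vecMulVec_zero,
    vecMulVec_add]
  simp
  abel

theorem mul_vmv' {v v' w : V} (h : w ⬝ᵥ v' = 0) :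
    (1 + vecMulVec v w) * (1 + vecMulVec v' w) = 1 + vecMulVec (v + v') w := by
  rw [mul_add, add_mul, add_mul, vecMulVec_mul_vecMulVec, h, zero_smul, vecMulVec_zero,
    Matrix.add_vecMulVec]
  simp
  abel

/-- The transvections with centre `v`. -/
def rowR (v : V) : Subgroup SL where
  carrier := {s | ∃ w : V, w ⬝ᵥ v = 0 ∧ (s : M) = 1 + vecMulVec v w}
  one_mem' := ⟨0, zero_dotProduct v, by simp⟩
  mul_mem' := by
    rintro a b ⟨w, hw, ha⟩ ⟨w', hw', hb⟩
    refine ⟨w + w', by rw [add_dotProduct, hw, hw', add_zero], ?_⟩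
    change (a : M) * (b : M) = _
    rw [ha, hb, mul_vmv hw]
  inv_mem' := by
    rintro a ⟨w, hw, ha⟩
    have h : a⁻¹ = tv v (-w) (by rw [neg_dotProduct, hw, neg_zero]) := by
      refine inv_eq_of_mul_eq_one_right (Subtype.ext ?_)
      change (a : M) * (1 + vecMulVec v (-w)) = 1
      rw [ha, mul_vmv hw, add_neg_cancel]
      simp
    exact ⟨-w, by rw [neg_dotProduct, hw, neg_zero], by rw [h, tv_coe]⟩

/-- The transvections with axis `w`. -/
def colR (w : V) : Subgroup SL where
  carrier := {s | ∃ v : V, w ⬝ᵥ v = 0 ∧ (s : M) = 1 + vecMulVec v w}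
  one_mem' := ⟨0, dotProduct_zero w, by simp⟩
  mul_mem' := by
    rintro a b ⟨v, hv, ha⟩ ⟨v', hv', hb⟩
    refine ⟨v + v', by rw [dotProduct_add, hv, hv', add_zero], ?_⟩
    change (a : M) * (b : M) = _
    rw [ha, hb, mul_vmv' hv']
  inv_mem' := by
    rintro a ⟨v, hv, ha⟩
    have h : a⁻¹ = tv (-v) w (by rw [dotProduct_neg, hv, neg_zero]) := by
      refine inv_eq_of_mul_eq_one_right (Subtype.ext ?_)
      change (a : M) * (1 + vecMulVec (-v) w) = 1
      rw [ha, mul_vmv' (by rw [dotProduct_neg, hv, neg_zero]), add_neg_cancel]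
      simp
    exact ⟨-v, by rw [dotProduct_neg, hv, neg_zero], by rw [h, tv_coe]⟩

theorem coe_mul_inv (g : SL) : (g : M) * ((g⁻¹ : SL) : M) = 1 := by
  rw [← Matrix.SpecialLinearGroup.coe_mul, mul_inv_cancel, Matrix.SpecialLinearGroup.coe_one]

theorem coe_inv_mul (g : SL) : ((g⁻¹ : SL) : M) * (g : M) = 1 := by
  rw [← Matrix.SpecialLinearGroup.coe_mul, inv_mul_cancel, Matrix.SpecialLinearGroup.coe_one]

theorem conj_vmv (g : SL) {s : SL} {v w : V} (hs : (s : M) = 1 + vecMulVec v w) :
    ((g * s * g⁻¹ : SL) : M) = 1 + vecMulVec ((g : M) *ᵥ v) (w ᵥ* ((g⁻¹ : SL) : M)) := by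
  rw [Matrix.SpecialLinearGroup.coe_mul, Matrix.SpecialLinearGroup.coe_mul, hs, mul_add, add_mul,
    mul_one, coe_mul_inv, mul_vecMulVec, vecMulVec_mul]

theorem dot_conj (g : SL) (v w : V) :
    (w ᵥ* ((g⁻¹ : SL) : M)) ⬝ᵥ ((g : M) *ᵥ v) = w ⬝ᵥ v := by
  rw [← dotProduct_mulVec, mulVec_mulVec, coe_inv_mul, one_mulVec]

theorem conj_rowR {g s : SL} {v : V} (hv : v ≠ 0) {lam : F} (hg : (g : M) *ᵥ v = lam • v)
    (hs : s ∈ rowR v) : g * s * g⁻¹ ∈ rowR v := by
  obtain ⟨w, hw, hs⟩ := hs
  refine ⟨lam • (w ᵥ* ((g⁻¹ : SL) : M)), ?_, ?_⟩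
  · rw [smul_dotProduct]
    have h := dot_conj g v w
    rw [hg, dotProduct_smul, hw] at h
    exact h
  · rw [conj_vmv g hs, hg, vmv_smul, smul_vecMulVec]

theorem conj_colR {g s : SL} {w : V} {mu : F} (hg : w ᵥ* ((g⁻¹ : SL) : M) = mu • w)
    (hs : s ∈ colR w) : g * s * g⁻¹ ∈ colR w := by
  obtain ⟨v, hv, hs⟩ := hs
  refine ⟨mu • ((g : M) *ᵥ v), ?_, ?_⟩
  · rw [dotProduct_smul]
    have h := dot_conj g v w
    rw [hg, smul_dotProduct, hv] at h
    exact h
  · rw [conj_vmv g hs, hg, vmv_smul, smul_vecMulVec]

theorem single_transvection {i j : Fin n} (hij : i ≠ j) (c : F) {k : Fin n} (hk : j ≠ k) :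
    ((Matrix.SpecialLinearGroup.transvection hij c : SL) : M) *ᵥ Pi.single k 1 = Pi.single k 1 := by
  rw [Matrix.SpecialLinearGroup.transvection_coe, add_mulVec, one_mulVec, single_mulVec,
    add_eq_left]
  simp [Pi.single_apply, hk, Function.update_self]

theorem transvection_single {i j : Fin n} (hij : i ≠ j) (c : F) {k : Fin n} (hk : i ≠ k) :
    (Pi.single k 1 : V) ᵥ* ((Matrix.SpecialLinearGroup.transvection hij c : SL) : M) =
      Pi.single k 1 := by
  ext l
  rw [Matrix.SpecialLinearGroup.transvection_coe, vecMul_add, vecMul_one, Pi.add_apply,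
    single_one_vecMul, Matrix.row_apply, Matrix.single_apply, if_neg (fun h => hk h.1), add_zero]

theorem transvection_mem_unitri {i j : Fin n} (hij : i < j) (c : F) :
    Matrix.SpecialLinearGroup.transvection hij.ne c ∈ unitriSL (n := n) (F := F) := by
  constructor
  · intro a b hba
    rw [Matrix.SpecialLinearGroup.transvection_coe, Matrix.add_apply, Matrix.one_apply_ne hba.ne',
      zero_add, Matrix.single_apply, if_neg]
    rintro ⟨rfl, rfl⟩
    exact lt_asymm hij hba
  · intro b
    rw [Matrix.SpecialLinearGroup.transvection_coe, Matrix.add_apply, Matrix.one_apply_eq,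
      Matrix.single_apply, if_neg, add_zero]
    rintro ⟨rfl, rfl⟩
    exact lt_irrefl _ hij

variable [Fintype F] {p : ℕ} [Fact p.Prime] [CharP F p]

theorem pow_vmv {s : SL} {A : M} (hs : (s : M) = 1 + A) (hA : A * A = 0) : s ^ p = 1 := by
  have key : ∀ k : ℕ, ((s ^ k : SL) : M) = 1 + k • A := by
    intro k
    induction k with
    | zero => simp
    | succ k ih =>
      rw [pow_succ, Matrix.SpecialLinearGroup.coe_mul, ih, hs, mul_add, add_mul, add_mul, one_mul,
        one_mul, mul_one, smul_mul_assoc, hA, smul_zero, add_zero, succ_nsmul]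
      abel
  refine Subtype.ext ?_
  rw [key p, Matrix.SpecialLinearGroup.coe_one, add_eq_left]
  ext a b
  simp [Matrix.smul_apply, nsmul_eq_mul, CharP.cast_eq_zero F p]

theorem transvection_order {i j : Fin n} (hij : i ≠ j) (c : F) :
    ∃ k : ℕ, orderOf (π (Matrix.SpecialLinearGroup.transvection hij c)) = p ^ k := by
  have h : π (Matrix.SpecialLinearGroup.transvection hij c) ^ p ^ 1 = 1 := by
    rw [pow_one, ← map_pow, pow_vmv (p := p)
      (Matrix.SpecialLinearGroup.transvection_coe hij c) ?_, map_one]
    rw [Matrix.single_mul_single_of_ne (h := hij.symm)]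
  obtain ⟨k, -, hk⟩ := (Nat.dvd_prime_pow (Fact.out : p.Prime)).1 (orderOf_dvd_of_pow_eq_one h)
  exact ⟨k, hk⟩

/-- A column of an element of `unitriSL` is a product of transvections. -/
theorem col_mem {T : Subgroup SL}
    (hT : ∀ (i j : Fin n) (h : i < j) (c : F), Matrix.SpecialLinearGroup.transvection h.ne c ∈ T)
    (j : Fin n) (v : V) (hv : ∀ i, j ≤ i → v i = 0)
    (hdot : (Pi.single j 1 : V) ⬝ᵥ v = 0) : tv v (Pi.single j 1) hdot ∈ T := by
  classical
  suffices ∀ (s : Finset (Fin n)) (v : V), (∀ i, v i ≠ 0 → i ∈ s ∧ i < j) →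
      ∀ h : (Pi.single j 1 : V) ⬝ᵥ v = 0, tv v (Pi.single j 1) h ∈ T from
    this Finset.univ v (fun i hi => ⟨Finset.mem_univ _, not_le.1 fun h => hi (hv i h)⟩) hdot
  intro s
  induction s using Finset.induction_on with
  | empty =>
    intro v hv h
    have hv0 : v = 0 := funext fun i => by_contra fun hi => Finset.notMem_empty _ (hv i hi).1
    have he : tv v (Pi.single j 1) h = 1 := Subtype.ext (by rw [tv_coe, hv0]; simp)
    rw [he]
    exact one_mem T
  | @insert a s ha ih =>
    intro v hv h
    set v' : V := Function.update v a 0 with hv'def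
    have hv' : ∀ i, v' i ≠ 0 → i ∈ s ∧ i < j := by
      intro i hi
      rcases eq_or_ne i a with rfl | hia
      · simp [v'] at hi
      · rw [hv'def, Function.update_of_ne hia] at hi
        exact ⟨(Finset.mem_insert.1 (hv i hi).1).resolve_left hia, (hv i hi).2⟩
    have h' : (Pi.single j 1 : V) ⬝ᵥ v' = 0 := by
      rw [single_dotProduct, one_mul]
      exact by_contra fun hne => lt_irrefl _ (hv' j hne).2
    have hrec := ih v' hv' h'
    rcases eq_or_ne (v a) 0 with h0 | h0
    · have he : tv v (Pi.single j 1) h = tv v' (Pi.single j 1) h' :=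
        Subtype.ext (by rw [tv_coe, tv_coe, hv'def, ← h0, Function.update_eq_self])
      rw [he]
      exact hrec
    · have haj := (hv a h0).2
      have he : tv v (Pi.single j 1) h =
          tv v' (Pi.single j 1) h' * Matrix.SpecialLinearGroup.transvection haj.ne (v a) := by
        refine Subtype.ext ?_
        have hs : Matrix.single a j (v a) = vecMulVec (Pi.single a (v a) : V) (Pi.single j 1) := by
          ext x y
          simp [vecMulVec_apply, Matrix.single_apply, Pi.single_apply]
          grind
        rw [Matrix.SpecialLinearGroup.coe_mul, tv_coe, tv_coe,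
          Matrix.SpecialLinearGroup.transvection_coe, hs,
          mul_vmv' (by simp [haj.ne'])]
        congr 2
        funext i
        rcases eq_or_ne i a with rfl | hia
        · simp [v']
        · simp [v', hia]
      rw [he]
      exact mul_mem hrec (hT _ _ haj _)

/-- `unitriSL` is generated by its transvections. -/
theorem unitri_le {T : Subgroup SL}
    (hT : ∀ (i j : Fin n) (h : i < j) (c : F), Matrix.SpecialLinearGroup.transvection h.ne c ∈ T) :
    unitriSL (n := n) (F := F) ≤ T := by
  suffices ∀ m : ℕ, ∀ s ∈ unitriSL (n := n) (F := F),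
      (∀ a b : Fin n, m ≤ (b : ℕ) → a ≠ b → (s : M) a b = 0) → s ∈ T from
    fun s hs => this n s hs fun a b hb => absurd b.isLt (not_lt.2 hb)
  intro m
  induction m with
  | zero =>
    intro s hs hz
    have : s = 1 := by
      refine Subtype.ext ?_
      ext a b
      rcases eq_or_ne a b with rfl | hab
      · rw [Matrix.SpecialLinearGroup.coe_one, Matrix.one_apply_eq, hs.2]
      · rw [Matrix.SpecialLinearGroup.coe_one, Matrix.one_apply_ne hab, hz a b (Nat.zero_le _) hab]
    rw [this]
    exact one_mem T
  | succ m ih =>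
    intro s hs hz
    by_cases hm : m < n
    · set j : Fin n := ⟨m, hm⟩ with hj
      set v : V := fun a => if a < j then -(s : M) a j else 0 with hv
      have hdot : (Pi.single j 1 : V) ⬝ᵥ v = 0 := by simp [hv]
      have hy : tv v (Pi.single j 1) hdot ∈ T :=
        col_mem hT j v (fun i hi => by simp [hv, not_lt.2 hi]) hdot
      have hyU : tv v (Pi.single j 1) hdot ∈ unitriSL (n := n) (F := F) :=
        col_mem (fun _ _ h c => transvection_mem_unitri h c) j v
          (fun i hi => by simp [hv, not_lt.2 hi]) hdot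
      have hrow : (Pi.single j 1 : V) ᵥ* (s : M) = Pi.single j 1 := by
        funext b
        rw [single_one_vecMul, Matrix.row_apply]
        rcases lt_trichotomy j b with h | rfl | h
        · rw [hz j b (Nat.succ_le_of_lt h) h.ne, Pi.single_eq_of_ne h.ne']
        · rw [hs.2, Pi.single_eq_same]
        · rw [hs.1 j b h, Pi.single_eq_of_ne h.ne]
      have hmem : tv v (Pi.single j 1) hdot * s ∈ T := by
        refine ih _ (mul_mem hyU hs) fun a b hb hab => ?_
        rw [Matrix.SpecialLinearGroup.coe_mul, tv_coe, add_mul, one_mul, vecMulVec_mul, hrow,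
          Matrix.add_apply, vecMulVec_apply]
        rcases eq_or_lt_of_le hb with h | h
        · have hbj : b = j := Fin.ext h.symm
          subst hbj
          rw [Pi.single_eq_same, mul_one]
          rcases lt_or_gt_of_ne hab with h' | h'
          · simp [hv, h']
          · rw [hs.1 a j h']
            simp [hv, not_lt.2 h'.le]
        · rw [hz a b h hab, Pi.single_eq_of_ne (fun e => h.ne (by rw [e, hj])), mul_zero, add_zero]
      simpa using mul_mem (inv_mem hy) hmem
    · exact ih s hs fun a b hb => absurd b.isLt (by omega)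

theorem upper_of_normalizes {s : SL}
    (h : π s ∈ Subgroup.normalizer ((unitri (n := n) (F := F) : Subgroup PSL) : Set PSL))
    (hn : 2 ≤ n) : ∀ i j : Fin n, j < i → (s : M) i j = 0 := by
  classical
  have hA : ∀ (a b : Fin n) (hab : a < b), ∃ C : M, (∀ i j : Fin n, j ≤ i → C i j = 0) ∧
      C * (s : M) = (s : M) * Matrix.single a b 1 := by
    intro a b hab
    obtain ⟨x, hx, hxe⟩ := (Subgroup.mem_normalizer_iff.1 h _).1
      (Subgroup.mem_map_of_mem π (transvection_mem_unitri hab (1 : F)))
    rw [← map_inv, ← map_mul, ← map_mul] at hxe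
    obtain ⟨c, hc⟩ := (mk_eq_mk_iff x _).1 hxe
    rw [Matrix.SpecialLinearGroup.coe_mul, Matrix.SpecialLinearGroup.coe_mul,
      Matrix.SpecialLinearGroup.transvection_coe, mul_add, add_mul, mul_one, coe_mul_inv] at hc
    set C := (s : M) * Matrix.single a b 1 * ((s⁻¹ : SL) : M) with hC
    have hCe : C = c • (x : M) - 1 := by rw [← hc, add_sub_cancel_left]
    have hlow : ∀ i j : Fin n, j < i → C i j = 0 := fun i j hij => by
      rw [hCe, Matrix.sub_apply, Matrix.smul_apply, hx.1 i j hij, smul_zero,
        Matrix.one_apply_ne hij.ne', sub_zero]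
    have hsq : C * C = 0 := by
      calc C * C = (s : M) * Matrix.single a b 1 * (((s⁻¹ : SL) : M) * (s : M)) *
            Matrix.single a b 1 * ((s⁻¹ : SL) : M) := by simp only [hC, mul_assoc]
        _ = _ := by
          rw [coe_inv_mul, mul_one, mul_assoc ((s : M)), Matrix.single_mul_single_of_ne (h := hab.ne')]
          simp
    refine ⟨C, fun i j hij => ?_, by rw [hC, mul_assoc, coe_inv_mul, mul_one]⟩
    rcases eq_or_lt_of_le hij with rfl | hlt
    · have h2 := congrFun (congrFun hsq j) j
      rw [Matrix.mul_apply, Finset.sum_eq_single j, Matrix.zero_apply] at h2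
      · exact mul_self_eq_zero.1 h2
      · intro k _ hk
        rcases lt_or_gt_of_ne hk with h' | h'
        · rw [hlow j k h', zero_mul]
        · rw [hlow k j h', mul_zero]
      · simp
    · exact hlow i j hlt
  suffices ∀ d : ℕ, ∀ i j : Fin n, j < i → n - (i : ℕ) ≤ d → (s : M) i j = 0 from
    fun i j hij => this n i j hij (Nat.sub_le _ _)
  intro d
  induction d with
  | zero => exact fun i j _ h => absurd i.isLt (by omega)
  | succ d ih =>
    intro i j hij hd
    have hij' : (j : ℕ) < i := hij
    set k : Fin n := ⟨j + 1, lt_of_le_of_lt hij' i.isLt⟩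
    have hjk : j < k := show (j : ℕ) < j + 1 by omega
    obtain ⟨C, hC, he⟩ := hA j k hjk
    have h2 := congrFun (congrFun he i) k
    rw [Matrix.mul_single_apply_same, mul_one, Matrix.mul_apply, Finset.sum_eq_zero] at h2
    · exact h2.symm
    · intro c _
      rcases le_or_gt c i with hc | hc
      · rw [hC i c hc, zero_mul]
      · have hc' : (i : ℕ) < c := hc
        have hk : (k : ℕ) = (j : ℕ) + 1 := rfl
        rw [ih c k (show (k : ℕ) < c by omega) (by omega), mul_zero]

theorem centralizer_rowR (hn : 2 ≤ n) {k : Fin n} :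
    Subgroup.centralizer (((rowR (Pi.single k 1 : V)).map π : Subgroup PSL) : Set PSL) ≤
      (rowR (Pi.single k 1 : V)).map π := by
  classical
  intro x hx
  obtain ⟨s, rfl⟩ := QuotientGroup.mk'_surjective _ x
  have hdot : ∀ j, j ≠ k → (Pi.single j 1 : V) ⬝ᵥ (Pi.single k 1 : V) = 0 := fun j hj => by
    simp [hj.symm]
  have hcomm : ∀ j, j ≠ k → vecMulVec ((s : M) *ᵥ (Pi.single k 1 : V)) (Pi.single j 1) =
      vecMulVec (Pi.single k 1 : V) ((Pi.single j 1 : V) ᵥ* (s : M)) := by
    intro j hj
    have hx1 := hx _ (Subgroup.mem_map_of_mem π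
      (show tv (Pi.single k 1) (Pi.single j 1) (hdot j hj) ∈ rowR (Pi.single k 1 : V) from
        ⟨_, hdot j hj, rfl⟩))
    rw [← map_mul, ← map_mul] at hx1
    have h1 : π (s * tv (Pi.single k 1) (Pi.single j 1) (hdot j hj) * s⁻¹) =
        π (tv (Pi.single k 1) (Pi.single j 1) (hdot j hj)) := by
      rw [map_mul, map_mul, map_inv, ← map_mul, ← hx1, map_mul, mul_inv_cancel_right]
    obtain ⟨c, hc⟩ := (mk_eq_mk_iff _ (tv (Pi.single k 1) (Pi.single j 1) (hdot j hj))).1 h1
    rw [conj_vmv s (tv_coe _ _ _), tv_coe] at hc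
    have hz : (Pi.single k (1 : F) : V) ≠ 0 := by simp
    have h2 := eq_of_smul (sq_zero (by rw [dot_conj]; exact hdot j hj)) hz
      (by rw [vecMulVec_mulVec, hdot j hj]; simp) hc
    have h3 := congrArg (· * (s : M)) h2
    simp only [vecMulVec_mul, vecMul_vecMul, coe_inv_mul, vecMul_one] at h3
    exact h3.symm
  obtain ⟨j₀, hj₀⟩ : ∃ j, j ≠ k := by
    have : Nontrivial (Fin n) := Fin.nontrivial_iff_two_le.2 hn
    exact exists_ne k
  set lam := (s : M) k k with hlam
  have hent : ∀ j, j ≠ k → ∀ a b, (s : M) a k * (Pi.single j 1 : V) b =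
      (Pi.single k 1 : V) a * (s : M) j b := by
    intro j hj a b
    have := congrFun (congrFun (hcomm j hj) a) b
    simpa [vecMulVec_apply, mulVec_single_one, single_one_vecMul] using this
  have hcol : ∀ a, a ≠ k → (s : M) a k = 0 := fun a ha => by
    simpa [ha] using hent j₀ hj₀ a j₀
  have hoff : ∀ j, j ≠ k → ∀ b, (s : M) j b = if b = j then lam else 0 := fun j hj b => by
    have := hent j hj k b
    by_cases hb : b = j
    · subst hb
      simpa [hlam] using this.symm
    · simpa [hb] using this.symm
  have hut : (s : M).det = lam ^ n := by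
    have hs' : (s : M) = lam • 1 + vecMulVec (Pi.single k 1 : V)
        (Function.update ((s : M) k) k 0) := by
      ext a b
      rcases eq_or_ne a k with rfl | ha
      · rcases eq_or_ne b a with rfl | hb <;> simp_all [vecMulVec_apply, Ne.symm]
      · rw [hoff a ha b]
        rcases eq_or_ne b a with rfl | hb <;> simp_all [vecMulVec_apply, Ne.symm]
    rcases eq_or_ne lam 0 with h0 | h0
    · have hzero : (s : M).det = 0 := by
        refine Matrix.det_eq_zero_of_row_eq_zero j₀ fun b => ?_
        rw [hoff j₀ hj₀ b, h0, ite_self]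
      exact absurd (s.2.symm.trans hzero) one_ne_zero
    · have h1 : (s : M) = lam • (1 + vecMulVec (Pi.single k 1 : V)
          (lam⁻¹ • Function.update ((s : M) k) k 0)) := by
        refine hs'.trans ?_
        rw [smul_add, vmv_smul, smul_smul, mul_inv_cancel₀ h0, one_smul]
      rw [h1, det_smul, vecMulVec_eq Unit, det_one_add_replicateCol_mul_replicateRow,
        smul_dotProduct, dotProduct_single, mul_one, Function.update_self, smul_zero, add_zero,
        mul_one, Fintype.card_fin]
  have hne : lam ≠ 0 := fun h0 => by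
    rw [s.2, h0, zero_pow (by omega)] at hut
    exact one_ne_zero hut
  set w : V := lam⁻¹ • Function.update ((s : M) k) k 0 with hw
  have hwdot : w ⬝ᵥ (Pi.single k 1 : V) = 0 := by simp [hw]
  refine ⟨tv (Pi.single k 1) w hwdot, ⟨w, hwdot, rfl⟩, ?_⟩
  refine (mk_eq_mk_iff _ _).2 ⟨lam, ?_⟩
  rw [tv_coe]
  ext a b
  rcases eq_or_ne a k with rfl | ha
  · rcases eq_or_ne b a with rfl | hb
    · simp [hw, hlam, vecMulVec_apply]
    · simp [hw, vecMulVec_apply, hb, hb.symm]
      field_simp
  · rw [hoff a ha b]
    rcases eq_or_ne b a with rfl | hb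
    · simp [vecMulVec_apply, ha]
    · simp [vecMulVec_apply, ha, hb, hb.symm]

theorem centralizer_colR (hn : 2 ≤ n) {k : Fin n} :
    Subgroup.centralizer (((colR (Pi.single k 1 : V)).map π : Subgroup PSL) : Set PSL) ≤
      (colR (Pi.single k 1 : V)).map π := by
  classical
  intro x hx
  obtain ⟨s, rfl⟩ := QuotientGroup.mk'_surjective _ x
  have hdot : ∀ j, j ≠ k → (Pi.single k 1 : V) ⬝ᵥ (Pi.single j 1 : V) = 0 := fun j hj => by
    simp [hj]
  have hent : ∀ j, j ≠ k → ∀ a b, (s : M) a j * (Pi.single k 1 : V) b =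
      (Pi.single j 1 : V) a * (s : M) k b := by
    intro j hj
    have hx1 := hx _ (Subgroup.mem_map_of_mem π
      (show tv (Pi.single j 1) (Pi.single k 1) (hdot j hj) ∈ colR (Pi.single k 1 : V) from
        ⟨_, hdot j hj, rfl⟩))
    rw [← map_mul, ← map_mul] at hx1
    have h1 : π (s * tv (Pi.single j 1) (Pi.single k 1) (hdot j hj) * s⁻¹) =
        π (tv (Pi.single j 1) (Pi.single k 1) (hdot j hj)) := by
      rw [map_mul, map_mul, map_inv, ← map_mul, ← hx1, map_mul, mul_inv_cancel_right]
    obtain ⟨c, hc⟩ := (mk_eq_mk_iff _ (tv (Pi.single j 1) (Pi.single k 1) (hdot j hj))).1 h1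
    rw [conj_vmv s (tv_coe _ _ _), tv_coe] at hc
    have hz : (Pi.single j (1 : F) : V) ≠ 0 := by simp
    have h2 := eq_of_smul (sq_zero (by rw [dot_conj]; exact hdot j hj)) hz
      (by rw [vecMulVec_mulVec, hdot j hj]; simp) hc
    have h3 := congrArg (· * (s : M)) h2
    simp only [vecMulVec_mul, vecMul_vecMul, coe_inv_mul, vecMul_one] at h3
    intro a b
    have := congrFun (congrFun h3.symm a) b
    simpa [vecMulVec_apply, mulVec_single_one, single_one_vecMul] using this
  obtain ⟨j₀, hj₀⟩ : ∃ j, j ≠ k := by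
    have : Nontrivial (Fin n) := Fin.nontrivial_iff_two_le.2 hn
    exact exists_ne k
  set lam := (s : M) k k with hlam
  have hoff : ∀ b, b ≠ k → ∀ a, (s : M) a b = if a = b then lam else 0 := fun b hb a => by
    have := hent b hb a k
    by_cases ha : a = b
    · subst ha
      simpa [hlam] using this
    · simpa [ha] using this
  have hut : lam ≠ 0 := fun h0 => by
    have hzero : (s : M).det = 0 := by
      refine Matrix.det_eq_zero_of_column_eq_zero j₀ fun a => ?_
      rw [hoff j₀ hj₀ a, h0, ite_self]
    exact one_ne_zero (s.2.symm.trans hzero)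
  set v : V := lam⁻¹ • Function.update (fun a => (s : M) a k) k 0 with hv
  have hvdot : (Pi.single k 1 : V) ⬝ᵥ v = 0 := by simp [hv]
  refine ⟨tv v (Pi.single k 1) hvdot, ⟨v, hvdot, rfl⟩, ?_⟩
  refine (mk_eq_mk_iff _ _).2 ⟨lam, ?_⟩
  rw [tv_coe]
  ext a b
  rcases eq_or_ne b k with rfl | hb
  · rcases eq_or_ne a b with rfl | ha <;>
      simp_all [vecMulVec_apply, Matrix.one_apply, Ne.symm]
  · rw [hoff b hb a]
    rcases eq_or_ne a b with rfl | ha <;> simp_all [vecMulVec_apply, Matrix.one_apply, Ne.symm]

theorem map_mem_normalizer {R : Subgroup SL} {g : SL} (h : ∀ s ∈ R, g * s * g⁻¹ ∈ R) :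
    π g ∈ Subgroup.normalizer ((R.map π : Subgroup PSL) : Set PSL) := by
  refine mem_normalizer_of_forall ?_
  rintro _ ⟨s, hs, rfl⟩
  exact ⟨_, h s hs, by simp⟩

/-- Simplicity. -/
theorem isSimple (hn : 3 ≤ n) (S : Sylow p PSL) :
    (groupFusionSystem (S : Subgroup PSL)).IsSimple p := by
  classical
  obtain ⟨P, hP⟩ := exists_sylow_eq (n := n) (F := F) p (by omega)
  obtain ⟨x, hx⟩ := MulAction.exists_smul_eq PSL P S
  suffices hmain : ∀ Q : Sylow p PSL, (∃ g : PSL,
      ∀ y, y ∈ (Q : Subgroup PSL) ↔ g⁻¹ * y * g ∈ unitri (n := n) (F := F)) →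
      (groupFusionSystem (Q : Subgroup PSL)).IsSimple p by
    refine hmain S ⟨x, fun y => ?_⟩
    rw [← hx, Sylow.coe_subgroup_smul, Subgroup.mem_pointwise_smul_iff_inv_smul_mem, hP]
    simp [MulAut.conj_symm_apply]
  clear! S P
  rintro S ⟨g, hg⟩
  set a0 : Fin n := ⟨0, by omega⟩ with ha0
  set a1 : Fin n := ⟨n - 1, by omega⟩ with ha1
  have ha01 : a0 < a1 := show (0 : ℕ) < n - 1 by omega
  set cg : PSL →* PSL := (MulAut.conj g).toMonoidHom with hcg
  have hmemS : ∀ y, g * y * g⁻¹ ∈ (S : Subgroup PSL) ↔ y ∈ unitri (n := n) (F := F) := fun y => by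
    rw [hg]
    simp [mul_assoc]
  have hS1 : (S : Subgroup PSL) ≠ ⊥ := by
    intro h
    have h1 := (hmemS _).2 (Subgroup.mem_map_of_mem π (transvection_mem_unitri ha01 (1 : F)))
    rw [h, Subgroup.mem_bot] at h1
    have h2 : π (Matrix.SpecialLinearGroup.transvection ha01.ne (1 : F)) = 1 := by
      simpa [mul_inv_eq_one] using h1
    obtain ⟨c, hc⟩ := (mk_eq_one_iff _).1 h2
    have := congrFun (congrFun hc a0) a1
    simp [Matrix.SpecialLinearGroup.transvection_coe, Matrix.one_apply_ne ha01.ne] at this
  refine SimpleCriterion.isSimple hS1 (fun T hT => ?_) fun y hy => ?_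
  · refine or_iff_not_imp_left.2 fun hne => le_antisymm hT.1 ?_
    obtain ⟨z, hzT, hz1, hzc⟩ := SimpleCriterion.exists_central hT hne
    have hz' : g⁻¹ * z * g ∈ unitri (n := n) (F := F) := (hg z).1 (hT.1 hzT)
    have hzcen : (⟨_, hz'⟩ : unitri (n := n) (F := F)) ∈
        Subgroup.center (unitri (n := n) (F := F)) := by
      refine Subgroup.mem_center_iff.2 fun u => Subtype.ext ?_
      show (u : PSL) * (g⁻¹ * z * g) = g⁻¹ * z * g * u
      calc (u : PSL) * (g⁻¹ * z * g) = g⁻¹ * ((g * u * g⁻¹) * z) * g := by group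
        _ = g⁻¹ * (z * (g * u * g⁻¹)) * g := by rw [hzc _ ((hmemS _).2 u.2)]
        _ = g⁻¹ * z * g * u := by group
    obtain ⟨s, ⟨c, hs⟩, hsz⟩ := ((isRoot_center_unitri (F := F) (n := n) (by omega)).2 _).1
      (Subgroup.mem_map_of_mem (unitri (n := n) (F := F)).subtype hzcen)
    change g⁻¹ * z * g = π s at hsz
    have hc0 : c ≠ 0 := by
      intro hc
      have : s = 1 := Subtype.ext (by rw [hs, hc, zero_smul, add_zero]; rfl)
      rw [this, map_one] at hsz
      refine hz1 ?_
      calc z = g * (g⁻¹ * z * g) * g⁻¹ := by group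
        _ = 1 := by rw [hsz]; group
    have hzeq : z = g * π s * g⁻¹ := by rw [← hsz]; group
    -- every root element of the unipotent group is conjugate to `z`
    have hroot : ∀ (i j : Fin n) (h : i < j) (d : F),
        Matrix.SpecialLinearGroup.transvection h.ne d ∈
          ((T.comap cg).comap π : Subgroup SL) := by
      intro i j hij d
      by_cases hd : d = 0
      · subst hd
        rw [Matrix.SpecialLinearGroup.transvection_coeff_zero]
        exact one_mem _
      -- a monomial element of `SL`
      obtain ⟨σ, hσ0, hσ1⟩ : ∃ σ : Equiv.Perm (Fin n), σ a0 = i ∧ σ a1 = j := by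
        refine ⟨(Equiv.swap a0 i).trans (Equiv.swap (Equiv.swap a0 i a1) j), ?_, ?_⟩
        · rw [Equiv.trans_apply, Equiv.swap_apply_left, Equiv.swap_apply_of_ne_of_ne ?_ hij.ne]
          intro h
          have h1 : Equiv.swap a0 i a1 = Equiv.swap a0 i a0 := by rw [Equiv.swap_apply_left, ← h]
          exact ha01.ne' ((Equiv.swap a0 i).injective h1)
        · rw [Equiv.trans_apply, Equiv.swap_apply_left]
      obtain ⟨k, hki, hkj⟩ := Classical.Linear.exists_third
        (n := Fin n) (by simpa using hn) i j
      set P : M := fun a b => if a = σ b then 1 else 0 with hP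
      have hPdet : P.det ≠ 0 := by
        have hPP : P * (Matrix.of fun a b => if σ a = b then 1 else 0 : M) = 1 := by
          ext a b
          rw [Matrix.mul_apply, Finset.sum_eq_single (σ.symm b)]
          · simp [hP, Matrix.one_apply]
          · intro x _ hx
            have : σ x ≠ b := fun h => hx (by rw [← h, Equiv.symm_apply_apply])
            simp [this]
          · simp
        intro h0
        have := congrArg Matrix.det hPP
        rw [det_mul, h0, zero_mul, det_one] at this
        exact zero_ne_one this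
      set D : Fin n → F :=
        fun a => if a = i then d / c else if a = k then (P.det * (d / c))⁻¹ else 1 with hD
      have hDdet : (Matrix.diagonal D * P).det = 1 := by
        rw [det_mul, det_diagonal, ← Finset.prod_subset (Finset.subset_univ {i, k})
          (fun a _ ha => by
            simp only [Finset.mem_insert, Finset.mem_singleton, not_or] at ha
            simp [hD, ha.1, ha.2]),
          Finset.prod_pair hki.symm]
        simp only [hD, if_true, if_neg hki]
        field_simp
      let m : SL := ⟨Matrix.diagonal D * P, hDdet⟩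
      have hm : (m : M) * Matrix.single a0 a1 c = Matrix.single i j d * (m : M) := by
        ext a b
        have hmab : ∀ a b, (m : M) a b = if a = σ b then D a else 0 := fun a b => by
          show (Matrix.diagonal D * P) a b = _
          rw [Matrix.diagonal_mul, hP]
          simp
        have hDj : D j = 1 := by simp [hD, hij.ne', hkj.symm]
        have hDi : D i = d / c := by simp [hD]
        have hb1 : ∀ b, j = σ b ↔ b = a1 := fun b => by
          rw [← hσ1, σ.injective.eq_iff]; exact eq_comm
        rcases eq_or_ne b a1 with rfl | hb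
        · rw [Matrix.mul_single_apply_same, hmab, hσ0]
          rcases eq_or_ne a i with rfl | ha
          · rw [Matrix.single_mul_apply_same, hmab, if_pos rfl, if_pos ((hb1 _).2 rfl), hDi, hDj,
              mul_one, div_mul_cancel₀ _ hc0]
          · rw [Matrix.single_mul_apply_of_ne (h := ha), if_neg ha, zero_mul]
        · rw [Matrix.mul_single_apply_of_ne (hbj := hb)]
          rcases eq_or_ne a i with rfl | ha
          · rw [Matrix.single_mul_apply_same, hmab, if_neg fun h => hb ((hb1 b).1 h), mul_zero]
          · rw [Matrix.single_mul_apply_of_ne (h := ha)]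
      have hconj : Matrix.SpecialLinearGroup.transvection hij.ne d = m * s * m⁻¹ := by
        rw [eq_mul_inv_iff_mul_eq]
        refine Subtype.ext ?_
        have hv : c • vecMulVec (Pi.single a0 (1 : F)) (Pi.single a1 1) =
            Matrix.single a0 a1 c := by
          rw [← Matrix.single_eq_single_vecMulVec_single, Matrix.smul_single, smul_eq_mul, mul_one]
        rw [Matrix.SpecialLinearGroup.coe_mul, Matrix.SpecialLinearGroup.coe_mul,
          Matrix.SpecialLinearGroup.transvection_coe, hs, add_mul, one_mul, mul_add, mul_one]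
        exact congrArg ((m : M) + ·) ((congrArg ((m : M) * ·) hv).trans hm).symm
      show g * π _ * g⁻¹ ∈ T
      have he : g * π (Matrix.SpecialLinearGroup.transvection hij.ne d) * g⁻¹ =
          (g * π m * g⁻¹) * z * (g * π m * g⁻¹)⁻¹ := by
        rw [hconj, map_mul, map_mul, map_inv, hzeq]
        group
      rw [he]
      refine SimpleCriterion.closed hT hzT ?_
      rw [← he]
      exact (hmemS _).2 (Subgroup.mem_map_of_mem π (transvection_mem_unitri hij d))
    intro y hy
    obtain ⟨s', hs', hys⟩ := (hg y).1 hy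
    have h1 : g * π s' * g⁻¹ ∈ T := unitri_le hroot hs'
    rw [hys] at h1
    simpa [mul_assoc] using h1
  · -- generation of the normalizer
    obtain ⟨t, ht⟩ := QuotientGroup.mk'_surjective (Subgroup.center SL) (g⁻¹ * y * g)
    have htN : π t ∈ Subgroup.normalizer ((unitri (n := n) (F := F) : Subgroup PSL) : Set PSL) := by
      rw [ht, Subgroup.mem_normalizer_iff]
      intro u
      have h1 := Subgroup.mem_normalizer_iff.1 hy (g * u * g⁻¹)
      have e : y * (g * u * g⁻¹) * y⁻¹ =
          g * (g⁻¹ * y * g * u * (g⁻¹ * y * g)⁻¹) * g⁻¹ := by group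
      rw [e] at h1
      exact (hmemS u).symm.trans (h1.trans (hmemS _))
    have hupp := upper_of_normalizes htN (by omega)
    have htri : Matrix.BlockTriangular (t : M) id := fun i j h => hupp i j h
    have hdet : (Matrix.diagonal fun i => (t : M) i i).det = 1 := by
      rw [det_diagonal, ← Matrix.det_of_upperTriangular htri]
      exact t.2
    set d : SL := ⟨Matrix.diagonal fun i => (t : M) i i, hdet⟩ with hddef
    have hu : d⁻¹ * t ∈ unitriSL (n := n) (F := F) := by
      set u := d⁻¹ * t with hudef
      have he : (d : M) * (u : M) = (t : M) := by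
        rw [← Matrix.SpecialLinearGroup.coe_mul, hudef, mul_inv_cancel_left]
      have hne : ∀ i, (t : M) i i ≠ 0 :=
        fun i => Matrix.SpecialLinearGroup.diagonal_neZero _ hdet i
      have hab : ∀ a b, (t : M) a a * (u : M) a b = (t : M) a b := fun a b => by
        rw [← congrFun (congrFun he a) b]
        exact (Matrix.diagonal_mul _ _ _ _).symm
      refine ⟨fun a b h => ?_, fun a => ?_⟩
      · have := hab a b
        rw [hupp a b h] at this
        exact (mul_eq_zero.1 this).resolve_left (hne a)
      · exact mul_left_cancel₀ (hne a) (by rw [hab, mul_one])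
    have hye : y = (g * π d * g⁻¹) * (g * π (d⁻¹ * t) * g⁻¹) := by
      rw [map_mul, map_inv, ht]
      group
    rw [hye]
    refine Subgroup.mul_mem _ ?_
      (Subgroup.subset_closure (Or.inl (Or.inr ((hmemS _).2 (Subgroup.mem_map_of_mem π hu)))))
    let L : Subgroup PSL := (Subgroup.closure ((Subgroup.centralizer ((S : Subgroup PSL) : Set PSL) :
      Set PSL) ∪ ((S : Subgroup PSL) : Set PSL) ∪ SimpleCriterion.localSet S)).comap cg
    show π d ∈ L
    set i0 : Fin n := ⟨1, by omega⟩ with hi0
    rw [hddef, Matrix.SpecialLinearGroup.diag_eq_diag2n_prod i0]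
    show _ ∈ L.comap π
    refine Subgroup.noncommProd_mem _ _ fun i hi => ?_
    rw [dif_pos (Finset.mem_filter.1 hi).2]
    set a := (t : M) i i
    have hii : i ≠ i0 := (Finset.mem_filter.1 hi).2
    show π _ ∈ L
    -- the diagonal element normalizes the unipotent group
    refine Subgroup.subset_closure (Or.inr ?_)
    refine ⟨mem_normalizer_of_forall fun u hu => ?_, ?_⟩
    · obtain ⟨v, hv, hvu⟩ := (hg u).1 hu
      have hu' : u = g * π v * g⁻¹ := by rw [hvu]; group
      rw [hu']
      simp only [MulEquiv.coe_toMonoidHom, hcg, MulAut.conj_apply]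
      rw [show ∀ A : PSL, g * A * g⁻¹ * (g * π v * g⁻¹) * (g * A * g⁻¹)⁻¹ =
        g * (A * π v * A⁻¹) * g⁻¹ from fun A => by group, hmemS, ← map_inv, ← map_mul, ← map_mul]
      refine Subgroup.mem_map_of_mem π ?_
      set h := Matrix.SpecialLinearGroup.diag2n hii a _ with hh
      have hhe : ((h * v * h⁻¹ : SL) : M) * (h : M) = (h : M) * (v : M) := by
        rw [← Matrix.SpecialLinearGroup.coe_mul, ← Matrix.SpecialLinearGroup.coe_mul,
          inv_mul_cancel_right]
      set e : Fin n → F := fun k => if k = i then a else if k = i0 then a⁻¹ else 1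
      have hdiag : (h : M) = Matrix.diagonal e := rfl
      rw [hdiag] at hhe
      have hne : ∀ k, e k ≠ 0 := fun k => by
        have := h.2
        rw [hdiag] at this
        exact Matrix.SpecialLinearGroup.diagonal_neZero e this k
      have hab : ∀ a' b', ((h * v * h⁻¹ : SL) : M) a' b' * e b' = e a' * (v : M) a' b' :=
        fun a' b' => by
          have := congrFun (congrFun hhe a') b'
          rwa [Matrix.mul_diagonal, Matrix.diagonal_mul] at this
      refine ⟨fun a' b' hlt => ?_, fun a' => ?_⟩
      · have := hab a' b'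
        rw [hv.1 a' b' hlt, mul_zero] at this
        exact (mul_eq_zero.1 this).resolve_right (hne b')
      · exact mul_right_cancel₀ (hne a') (by rw [hab, hv.2, mul_one, one_mul])
    -- the relevant abelian unipotent radical
    obtain ⟨R, hRU, hRn, hRc, hRt⟩ : ∃ R : Subgroup SL, R ≤ unitriSL ∧
        (∀ v ∈ unitriSL (n := n) (F := F), ∀ s ∈ R, v * s * v⁻¹ ∈ R) ∧
        Subgroup.centralizer ((R.map π : Subgroup PSL) : Set PSL) ≤ R.map π ∧
        (∀ c : F, ∀ s ∈ R, Matrix.SpecialLinearGroup.transvection hii c * s *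
          (Matrix.SpecialLinearGroup.transvection hii c)⁻¹ ∈ R) ∧
        (∀ c : F, ∀ s ∈ R, Matrix.SpecialLinearGroup.transvection hii.symm c * s *
          (Matrix.SpecialLinearGroup.transvection hii.symm c)⁻¹ ∈ R) := by
      rcases eq_or_ne i a0 with rfl | hi0'
      · refine ⟨colR (Pi.single a1 1), ?_, fun v hv s hs => conj_colR (mu := 1) ?_ hs,
          centralizer_colR (by omega), fun c s hs => conj_colR (mu := 1) ?_ hs,
          fun c s hs => conj_colR (mu := 1) ?_ hs⟩
        · rintro s ⟨v, hv, hs⟩
          have hv1 : v a1 = 0 := by simpa using hv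
          refine ⟨fun a b h => ?_, fun b => ?_⟩
          · have hab : (b : ℕ) < a := h
            have hb : b ≠ a1 := fun e => by
              have := congrArg Fin.val e
              simp [ha1] at this
              omega
            simp [hs, vecMulVec_apply, Matrix.one_apply_ne h.ne', hb]
          · rcases eq_or_ne b a1 with hb | hb
            · rw [hb, hs, Matrix.add_apply, Matrix.one_apply_eq, vecMulVec_apply, hv1, zero_mul,
                add_zero]
            · simp [hs, vecMulVec_apply, hb]
        · have hv' := inv_mem hv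
          funext b
          rw [one_smul, single_one_vecMul, Matrix.row_apply]
          rcases eq_or_ne b a1 with rfl | hb
          · rw [hv'.2, Pi.single_eq_same]
          · have hlt : b < a1 := lt_of_le_of_ne (show (b : ℕ) ≤ n - 1 by omega) hb
            rw [hv'.1 _ _ hlt, Pi.single_eq_of_ne hb]
        · rw [one_smul, Matrix.SpecialLinearGroup.transvection_inv]
          exact transvection_single _ _ ha01.ne
        · rw [one_smul, Matrix.SpecialLinearGroup.transvection_inv]
          refine transvection_single _ _ fun e => ?_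
          have := congrArg Fin.val e
          simp [ha1, hi0] at this
          omega
      · refine ⟨rowR (Pi.single a0 1), ?_, fun v hv s hs => conj_rowR (lam := 1) (by simp) ?_ hs,
          centralizer_rowR (by omega), fun c s hs => conj_rowR (lam := 1) (by simp) ?_ hs,
          fun c s hs => conj_rowR (lam := 1) (by simp) ?_ hs⟩
        · rintro s ⟨w, hw, hs⟩
          have hw0 : w a0 = 0 := by simpa using hw
          refine ⟨fun a b h => ?_, fun b => ?_⟩
          · have ha : a ≠ a0 := fun e => by
              have h' : (b : ℕ) < a := h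
              rw [e, ha0] at h'
              exact absurd h' (Nat.not_lt_zero _)
            simp [hs, vecMulVec_apply, Matrix.one_apply_ne h.ne', ha]
          · rcases eq_or_ne b a0 with hb | hb
            · rw [hb, hs, Matrix.add_apply, Matrix.one_apply_eq, vecMulVec_apply, hw0, mul_zero,
                add_zero]
            · simp [hs, vecMulVec_apply, hb]
        · funext b
          rw [one_smul, mulVec_single_one]
          rcases eq_or_ne b a0 with rfl | hb
          · rw [Matrix.col_apply, hv.2, Pi.single_eq_same]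
          · have hlt : a0 < b := Fin.lt_def.2 (Nat.pos_of_ne_zero fun e => hb (Fin.ext e))
            rw [Matrix.col_apply, hv.1 _ _ hlt, Pi.single_eq_of_ne hb]
        · rw [one_smul]
          exact single_transvection _ _ fun e => by simp [hi0, ha0] at e
        · rw [one_smul]
          exact single_transvection _ _ hi0'
    refine ⟨(R.map π).map cg, ?_, ?_, ?_, ?_⟩
    · rintro _ ⟨u, ⟨s', hs', rfl⟩, rfl⟩
      exact (hmemS _).2 (Subgroup.mem_map_of_mem π (hRU hs'))
    · intro u hu
      obtain ⟨v, hv, hvu⟩ := (hg u).1 hu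
      have hu' : u = cg (π v) := by rw [hvu]; simp [hcg, mul_assoc]
      rw [hu']
      exact Subgroup.le_normalizer_map cg (Subgroup.mem_map_of_mem cg
        (map_mem_normalizer fun s hs => hRn v hv s hs))
    · intro u hu
      refine ⟨g⁻¹ * u * g, hRc fun r hr => ?_, by simp [hcg, mul_assoc]⟩
      have h1 : g * r * g⁻¹ * u = u * (g * r * g⁻¹) := hu _ ⟨r, hr, by simp [hcg]⟩
      calc r * (g⁻¹ * u * g) = g⁻¹ * (g * r * g⁻¹ * u) * g := by group
        _ = g⁻¹ * (u * (g * r * g⁻¹)) * g := by rw [h1]
        _ = g⁻¹ * u * g * r := by group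
    · have hgenmem : ∀ {a' b' : Fin n} (hab : a' ≠ b') (c : F),
          (∀ s ∈ R, Matrix.SpecialLinearGroup.transvection hab c * s *
            (Matrix.SpecialLinearGroup.transvection hab c)⁻¹ ∈ R) →
          cg (π (Matrix.SpecialLinearGroup.transvection hab c)) ∈
            Subgroup.closure {x : PSL |
              x ∈ Subgroup.normalizer (((R.map π).map cg : Subgroup PSL) : Set PSL) ∧
              ∃ k : ℕ, orderOf x = p ^ k} := by
        intro a' b' hab c hc
        refine Subgroup.subset_closure
          ⟨Subgroup.le_normalizer_map cg (Subgroup.mem_map_of_mem cg (map_mem_normalizer hc)), ?_⟩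
        obtain ⟨k, hk⟩ := transvection_order (p := p) hab c
        exact ⟨k, by rw [hcg, MulEquiv.coe_toMonoidHom, MulEquiv.orderOf_eq, hk]⟩
      rw [Classical.Linear.diag2n_eq_transvections]
      simp only [map_mul]
      exact mul_mem (mul_mem (mul_mem (mul_mem (mul_mem (hgenmem _ _ (hRt.1 _))
        (hgenmem _ _ (hRt.2 _))) (hgenmem _ _ (hRt.1 _))) (hgenmem _ _ (hRt.1 _)))
        (hgenmem _ _ (hRt.2 _))) (hgenmem _ _ (hRt.1 _))

end Cfsg.Agent.Fusion.SimplePSL
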