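/-
Block description of the standard unipotent subgroup of the symplectic group.
-/
import Mathlib
import Cfsg.Agent.Lib.AutPSp.SylowCentre
import Cfsg.Agent.Lib.Fusion.SimplePSL

set_option autoImplicit false
set_option linter.unusedSectionVars false
set_option linter.unusedSimpArgs false

namespace Cfsg.Agent.Fusion.SympBlocks

open Matrix Cfsg.Agent.Forms.SympStd Cfsg.Agent.Classical.Symplectic Cfsg.Agent.AutPSp.Basic
  Cfsg.Agent.AutPSp.Points Cfsg.Agent.AutPSp.SylowCentre

universe u

variable {F : Type u} [Field F] {m : ℕ}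

local notation "I" => (Fin m ⊕ Fin m)
local notation "M" => Matrix (Fin m ⊕ Fin m) (Fin m ⊕ Fin m) F
local notation "Mm" => Matrix (Fin m) (Fin m) F
local notation "Vec" => (Fin m ⊕ Fin m → F)
local notation "Sp" => Matrix.symplecticGroup (Fin m) F
local notation "sf" => Cfsg.sympForm m F

/-- `[[1, 0], [S, 1]]` for a symmetric `S`. -/
def symM (S : Mm) (h : S.IsSymm) : Sp :=
  ⟨fromBlocks 1 0 S 1, SymplecticGroup.fromBlocks_mem_iff.2 ⟨by simp [h.eq], by simp, by simp⟩⟩

theorem symM_coe (S : Mm) (h : S.IsSymm) : ((symM S h : Sp) : M) = fromBlocks 1 0 S 1 := rfl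

theorem symM_congr {S S' : Mm} {h : S.IsSymm} {h' : S'.IsSymm} (e : S = S') :
    symM S h = symM S' h' := by
  subst e; rfl

theorem symM_mul (S S' : Mm) (h : S.IsSymm) (h' : S'.IsSymm) :
    symM S h * symM S' h' = symM (S + S') (h.add h') :=
  Subtype.ext (by simp [symM_coe, fromBlocks_multiply])

theorem symM_zero : symM (0 : Mm) Matrix.isSymm_zero = 1 :=
  Subtype.ext (by simp [symM_coe, fromBlocks_one])

theorem symM_inv (S : Mm) (h : S.IsSymm) : (symM S h)⁻¹ = symM (-S) h.neg := by
  refine inv_eq_of_mul_eq_one_right ?_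
  rw [symM_mul, ← symM_zero]
  exact symM_congr (add_neg_cancel S)

/-- `GL_m` in the symplectic group. -/
def glM : GL (Fin m) F →* Sp where
  toFun W := ⟨fromBlocks (((W⁻¹ : GL (Fin m) F) : Mm))ᵀ 0 0 (W : Mm),
    SymplecticGroup.fromBlocks_mem_iff.2 ⟨by simp, by simp, by
      rw [transpose_transpose, Units.inv_mul]; simp⟩⟩
  map_one' := Subtype.ext (by simp [fromBlocks_one])
  map_mul' a b := Subtype.ext (by simp [fromBlocks_multiply, ← transpose_mul])

theorem glM_coe (W : GL (Fin m) F) :
    ((glM W : Sp) : M) = fromBlocks (((W⁻¹ : GL (Fin m) F) : Mm))ᵀ 0 0 (W : Mm) := rfl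

theorem glM_injective : Function.Injective (glM : GL (Fin m) F →* Sp) := fun a b h =>
  Units.ext (by simpa [glM_coe] using (fromBlocks_inj.1 (congrArg Subtype.val h)).2.2.2)

/-- `SL_m` in the symplectic group. -/
noncomputable def glS : Matrix.SpecialLinearGroup (Fin m) F →* Sp :=
  glM.comp Matrix.SpecialLinearGroup.toGL

theorem glS_coe (W : Matrix.SpecialLinearGroup (Fin m) F) :
    ((glS W : Sp) : M) =
      fromBlocks (((W⁻¹ : Matrix.SpecialLinearGroup (Fin m) F) : Mm))ᵀ 0 0 (W : Mm) := by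
  rw [glS, MonoidHom.comp_apply, glM_coe, ← map_inv]
  rfl

theorem isSymm_conj {S : Mm} (h : S.IsSymm) (W : Mm) : (W * S * Wᵀ).IsSymm := by
  rw [Matrix.IsSymm, transpose_mul, transpose_mul, transpose_transpose, h.eq, mul_assoc]

theorem glM_conj (W : GL (Fin m) F) (S : Mm) (h : S.IsSymm) :
    glM W * symM S h * (glM W)⁻¹ = symM ((W : Mm) * S * (W : Mm)ᵀ) (isSymm_conj h _) := by
  rw [mul_inv_eq_iff_eq_mul]
  refine Subtype.ext ?_
  rw [Submonoid.coe_mul, Submonoid.coe_mul, glM_coe, symM_coe, symM_coe, fromBlocks_multiply,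
    fromBlocks_multiply]
  congr 1 <;> simp [mul_assoc, ← transpose_mul]

/-- An element of the Siegel parabolic. -/
theorem exists_decomp {A : Sp} (h : ∀ i j, (A : M) (Sum.inl i) (Sum.inr j) = 0) :
    ∃ (S : Mm) (hS : S.IsSymm) (W : GL (Fin m) F),
      A = symM S hS * glM W ∧ ∀ i j, (W : Mm) i j = (A : M) (Sum.inr i) (Sum.inr j) := by
  set X := (A : M).toBlocks₁₁ with hX
  set Y := (A : M).toBlocks₂₁ with hY
  set D := (A : M).toBlocks₂₂ with hD
  have hA : (A : M) = fromBlocks X 0 Y D := by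
    conv_lhs => rw [← fromBlocks_toBlocks (A : M)]
    rw [show (A : M).toBlocks₁₂ = 0 from Matrix.ext fun i j => h i j]
  obtain ⟨h1, -, h3⟩ := SymplecticGroup.fromBlocks_mem_iff.1 (hA ▸ A.2)
  rw [Matrix.mul_zero, sub_zero] at h3
  have h4 : D * Xᵀ = 1 := mul_eq_one_comm.1 h3
  have h5 : X * Dᵀ = 1 := by
    have := congrArg Matrix.transpose h4
    rwa [transpose_mul, transpose_transpose, transpose_one] at this
  have hY' : Y = D * Yᵀ * X := by
    calc Y = D * Xᵀ * Y := by rw [h4, one_mul]
      _ = D * (Yᵀ * X) := by rw [mul_assoc, h1]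
      _ = _ := by rw [mul_assoc]
  have hS : (Y * Dᵀ).IsSymm := by
    rw [Matrix.IsSymm, transpose_mul, transpose_transpose]
    conv_rhs => rw [hY', mul_assoc, h5, mul_one]
  refine ⟨Y * Dᵀ, hS, ⟨D, Xᵀ, h4, h3⟩, Subtype.ext ?_, fun i j => rfl⟩
  rw [Submonoid.coe_mul, symM_coe, glM_coe, fromBlocks_multiply, hA]
  congr 1
  · simp
  · simp
  · simp only [Units.inv_mk, zero_mul, mul_zero, one_mul, add_zero, transpose_transpose]
    rw [mul_assoc, show Dᵀ * X = 1 from mul_eq_one_comm.1 h5, mul_one]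
  · simp

theorem tv_eq_symM (v : Fin m → F) (c : F) :
    ∃ h : (c • vecMulVec v v).IsSymm,
      symM (c • vecMulVec v v) h = tv (Sum.elim (0 : Fin m → F) v) (-c) := by
  refine ⟨Matrix.IsSymm.smul (by rw [Matrix.IsSymm, transpose_vecMulVec]) c, sp_ext fun x => ?_⟩
  rw [symM_coe, tv_mulVec, fromBlocks_mulVec]
  funext k
  rcases k with k | k
  · simp
  · simp [sympForm_eq, smul_mulVec, vecMulVec_mulVec, dotProduct, mul_comm]
    ring

/-- The Siegel unipotent radical. -/
def siegel : Subgroup Sp where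
  carrier := {A | ∃ (S : Mm) (h : S.IsSymm), A = symM S h}
  one_mem' := ⟨0, Matrix.isSymm_zero, symM_zero.symm⟩
  mul_mem' := by
    rintro _ _ ⟨S, h, rfl⟩ ⟨S', h', rfl⟩
    exact ⟨_, _, symM_mul S S' h h'⟩
  inv_mem' := by
    rintro _ ⟨S, h, rfl⟩
    exact ⟨_, _, symM_inv S h⟩

/-- The symplectic element swapping the `j`-th hyperbolic pair. -/
def weyl (j : Fin m) : Sp :=
  ⟨fromBlocks (diagonal fun k => if k = j then 0 else 1) (diagonal fun k => if k = j then -1 else 0)
    (diagonal fun k => if k = j then 1 else 0) (diagonal fun k => if k = j then 0 else 1),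
    SymplecticGroup.fromBlocks_mem_iff.2 ⟨by
      simp [diagonal_transpose, diagonal_mul_diagonal]
      intro i; split_ifs <;> simp, by
      simp [diagonal_transpose, diagonal_mul_diagonal]
      intro i; split_ifs <;> simp, by
      simp only [diagonal_transpose, diagonal_mul_diagonal, diagonal_sub]
      rw [← diagonal_one]
      congr 1
      funext k
      split_ifs <;> simp⟩⟩

theorem weyl_mulVec (j : Fin m) (x : Vec) : ((weyl j : Sp) : M) *ᵥ x =
    Sum.elim (fun k => if k = j then -x (Sum.inr k) else x (Sum.inl k))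
      (fun k => if k = j then x (Sum.inl k) else x (Sum.inr k)) := by
  rw [weyl, fromBlocks_mulVec]
  congr 1 <;> funext k <;> simp only [Pi.add_apply, mulVec_diagonal, Function.comp_apply] <;>
    split_ifs <;> simp

theorem isSymm_short (i j : Fin m) (b : F) :
    (Matrix.single i j b + Matrix.single j i b : Mm).IsSymm := by
  rw [Matrix.IsSymm, transpose_add, transpose_single, transpose_single, add_comm]

theorem weyl_conj_short {i j : Fin m} (hij : i ≠ j) (b : F) :
    weyl j * symM (Matrix.single i j b + Matrix.single j i b) (isSymm_short i j b) * (weyl j)⁻¹ =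
      glS (Matrix.SpecialLinearGroup.transvection hij b) := by
  rw [mul_inv_eq_iff_eq_mul]
  refine sp_ext fun x => ?_
  rw [mul_mulVec_sp, mul_mulVec_sp, weyl_mulVec, weyl_mulVec, symM_coe, glS_coe,
    Matrix.SpecialLinearGroup.transvection_inv, fromBlocks_mulVec, fromBlocks_mulVec,
    Matrix.SpecialLinearGroup.transvection_coe, Matrix.SpecialLinearGroup.transvection_coe]
  funext k
  rcases k with k | k
  · rcases eq_or_ne k j with rfl | hkj
    · simp [add_mulVec, single_mulVec, Function.update_apply, hij, hij.symm]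
    · simp [add_mulVec, single_mulVec, Function.update_apply, hij, hij.symm, hkj, transpose_add]
  · rcases eq_or_ne k j with rfl | hkj
    · simp [add_mulVec, single_mulVec, Function.update_apply, hij, hij.symm]
    · rcases eq_or_ne k i with rfl | hki
      · simp [add_mulVec, single_mulVec, Function.update_apply, hij, hij.symm, add_comm]
      · simp [add_mulVec, single_mulVec, Function.update_apply, hij, hij.symm, hkj, hki]

/-- A diagonal element of a symplectic `SL₂` as a product of transvections. -/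
theorem diag_tv (k : Fin m) (r : Fˣ) (W : GL (Fin m) F)
    (hW : (W : Mm) = diagonal (fun l => if l = k then (r : F) else 1)) :
    glM W = tv (Pi.single (Sum.inr k) 1) (-(r : F)) * tv (Pi.single (Sum.inl k) 1) (-(r : F)⁻¹) *
      tv (Pi.single (Sum.inr k) 1) (-(r : F)) * tv (Pi.single (Sum.inr k) 1) 1 *
      tv (Pi.single (Sum.inl k) 1) 1 * tv (Pi.single (Sum.inr k) 1) 1 := by
  have hr : (r : F) ≠ 0 := r.ne_zero
  have hWi : ((W⁻¹ : GL (Fin m) F) : Mm) = diagonal (fun l => if l = k then (r : F)⁻¹ else 1) := by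
    rw [Matrix.coe_units_inv, hW]
    refine Matrix.inv_eq_right_inv ?_
    rw [diagonal_mul_diagonal, ← diagonal_one]
    congr 1
    funext l
    split_ifs <;> simp [hr]
  have hR : ∀ y : Vec, sf y (Pi.single (Sum.inr k) 1) = -y (Sum.inl k) := fun y => form_inr y k
  have hL : ∀ y : Vec, sf y (Pi.single (Sum.inl k) 1) = y (Sum.inr k) := fun y => by
    simp [sympForm_eq, Pi.single_apply]
  refine sp_ext fun x => ?_
  rw [glM_coe, hWi, hW, diagonal_transpose, fromBlocks_mulVec]
  simp only [mul_mulVec_sp, tv_mulVec, hR, hL]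
  funext l
  rcases l with l | l <;>
    rcases eq_or_ne l k with rfl | hl <;>
      simp [mulVec_diagonal, Pi.single_apply, *] <;> field_simp <;> ring

variable [Finite F]

local notation "U" => (upperSubgroup : Subgroup Sp)

theorem symM_mem (S : Mm) (h : S.IsSymm) : symM S h ∈ U := by
  intro k l hkl
  rw [symM_coe, Matrix.sub_apply]
  rcases k with k | k <;> rcases l with l | l
  · simp [Matrix.one_apply]
  · simp
  · exfalso
    simp only [rk] at hkl
    have := k.isLt; have := l.isLt
    omega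
  · simp [Matrix.one_apply]

theorem glS_mem {W : Matrix.SpecialLinearGroup (Fin m) F}
    (hW : W ∈ Cfsg.Agent.AutPSL.Roots.unitriSL) : glS W ∈ U := by
  have : Fintype F := Fintype.ofFinite F
  obtain ⟨hWi1, hWi2⟩ := inv_mem hW
  intro k l hkl
  rw [glS_coe, Matrix.sub_apply]
  generalize ((W⁻¹ : Matrix.SpecialLinearGroup (Fin m) F) : Mm) = Wi at hWi1 hWi2 ⊢
  rcases k with k | k <;> rcases l with l | l
  · simp only [rk] at hkl
    have := k.isLt; have := l.isLt
    rcases eq_or_ne k l with rfl | hne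
    · simp [hWi2 k]
    · have hlt : k < l := Fin.lt_def.2 (by
        have := Fin.val_ne_of_ne hne
        omega)
      simp [hWi1 l k hlt, hne]
  · simp
  · simp
  · simp only [rk] at hkl
    rcases eq_or_lt_of_le (Fin.le_def.2 hkl) with rfl | hlt
    · simp [hW.2 l]
    · simp [hW.1 k l hlt, hlt.ne']

theorem inl_inr_zero {A : Sp} (hA : A ∈ U) (i j : Fin m) :
    (A : M) (Sum.inl i) (Sum.inr j) = 0 := by
  have h := hA (Sum.inl i) (Sum.inr j) (by simp only [rk]; have := i.isLt; have := j.isLt; omega)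
  simpa [Matrix.one_apply] using h

theorem exists_upper_decomp {A : Sp} (hA : A ∈ U) :
    ∃ (S : Mm) (hS : S.IsSymm) (W : Matrix.SpecialLinearGroup (Fin m) F),
      W ∈ Cfsg.Agent.AutPSL.Roots.unitriSL ∧ A = symM S hS * glS W := by
  have : Fintype F := Fintype.ofFinite F
  obtain ⟨S, hS, W, he, hWe⟩ := exists_decomp (inl_inr_zero hA)
  have h1 : ∀ i j : Fin m, j ≤ i → (W : Mm) i j = (1 : Mm) i j := fun i j hij => by
    have h := hA (Sum.inr i) (Sum.inr j) hij
    rw [Matrix.sub_apply, sub_eq_zero] at h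
    rw [hWe, h]
    simp [Matrix.one_apply]
  have hup : (W : Mm).BlockTriangular id := fun i j hij => by
    rw [h1 i j (le_of_lt hij)]
    exact Matrix.one_apply_ne (ne_of_gt hij)
  have hdet : (W : Mm).det = 1 := by
    rw [Matrix.det_of_isUpperTriangular hup, Finset.prod_eq_one]
    exact fun i _ => by rw [h1 i i le_rfl, Matrix.one_apply_eq]
  refine ⟨S, hS, ⟨(W : Mm), hdet⟩, ⟨fun i j h => hup h, fun i => ?_⟩, ?_⟩
  · show (W : Mm) i i = 1
    rw [h1 i i le_rfl, Matrix.one_apply_eq]
  · rw [he]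
    exact congrArg (symM S hS * ·) (congrArg glM (Units.ext rfl))

theorem natCard_upper [Fintype F] : Nat.card U = Fintype.card F ^ (m ^ 2) := by
  classical
  let Sf : (Fin m × Fin m → F) → Mm := fun f => Matrix.of fun i j =>
    if j ≤ i then f (i, j) else f (j, i)
  have hSf : ∀ f, (Sf f).IsSymm := fun f => by
    ext i j
    simp only [transpose_apply, Sf, Matrix.of_apply]
    rcases lt_trichotomy i j with h | rfl | h
    · simp [h.le, not_le.2 h]
    · rfl
    · simp [h.le, not_le.2 h]
  let Wf : (Fin m × Fin m → F) → Mm := fun f => Matrix.of fun i j =>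
    if i < j then f (i, j) else if i = j then 1 else 0
  have hWf : ∀ f, (Wf f).det = 1 := fun f => by
    rw [Matrix.det_of_isUpperTriangular (fun i j (h : j < i) => by
      simp [Wf, not_lt.2 h.le, h.ne'])]
    simp [Wf]
  have hWmem : ∀ f, (⟨Wf f, hWf f⟩ : Matrix.SpecialLinearGroup (Fin m) F) ∈
      Cfsg.Agent.AutPSL.Roots.unitriSL := fun f =>
    ⟨fun i j h => by simp [Wf, not_lt.2 h.le, h.ne'], fun i => by simp [Wf]⟩
  let Φ : (Fin m × Fin m → F) → U := fun f =>
    ⟨symM (Sf f) (hSf f) * glS ⟨Wf f, hWf f⟩, mul_mem (symM_mem _ _) (glS_mem (hWmem f))⟩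
  have hΦ : Function.Bijective Φ := by
    refine ⟨fun f g h => ?_, fun A => ?_⟩
    · have h1 : (symM (Sf f) (hSf f) * glS ⟨Wf f, hWf f⟩ : Sp) =
          symM (Sf g) (hSf g) * glS ⟨Wf g, hWf g⟩ := congrArg Subtype.val h
      have h2 := congrArg Subtype.val h1
      rw [Submonoid.coe_mul, Submonoid.coe_mul, symM_coe, symM_coe] at h2
      erw [glS_coe, glS_coe, fromBlocks_multiply, fromBlocks_multiply] at h2
      obtain ⟨hX, -, hY, hD⟩ := fromBlocks_inj.1 h2
      simp only [one_mul, mul_zero, zero_mul, add_zero, zero_add] at hX hY hD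
      have hSS : Sf f = Sf g := by
        rw [hX] at hY
        have hu : IsUnit ((((⟨Wf g, hWf g⟩ : Matrix.SpecialLinearGroup (Fin m) F)⁻¹ :
            Matrix.SpecialLinearGroup (Fin m) F) : Mm))ᵀ :=
          (Matrix.isUnit_iff_isUnit_det _).2 (by
            rw [det_transpose, Matrix.SpecialLinearGroup.det_coe]; exact isUnit_one)
        exact hu.mul_right_cancel hY
      funext ⟨i, j⟩
      rcases lt_or_ge i j with hij | hij
      · simpa [Wf, hij] using congrFun (congrFun hD i) j
      · simpa [Sf, hij] using congrFun (congrFun hSS i) j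
    · obtain ⟨A, hA⟩ := A
      obtain ⟨S, hS, W, hW, rfl⟩ := exists_upper_decomp hA
      refine ⟨fun ij => if ij.1 < ij.2 then (W : Mm) ij.1 ij.2 else S ij.1 ij.2, Subtype.ext ?_⟩
      refine congrArg₂ (· * ·) (symM_congr ?_) (congrArg glS (Subtype.ext ?_))
      · ext i j
        simp only [Sf, Matrix.of_apply]
        rcases lt_or_ge i j with hij | hij
        · rw [if_neg (not_le.2 hij), if_neg (not_lt.2 hij.le)]
          exact (hS.apply i j)
        · rw [if_pos hij, if_neg (not_lt.2 hij)]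
      · ext i j
        simp only [Wf, Matrix.of_apply]
        rcases lt_trichotomy i j with hij | rfl | hij
        · simp [hij]
        · simp [hW.2 i]
        · simp [not_lt.2 hij.le, hij.ne', hW.1 i j hij]
  rw [← Nat.card_congr (Equiv.ofBijective Φ hΦ), Nat.card_fun, Nat.card_eq_fintype_card,
    Nat.card_eq_fintype_card]
  simp [sq]

/-- The unipotent radical of the stabilizer of the first basis line. -/
def pointRad (hm : 1 ≤ m) : Subgroup Sp :=
  let e : Vec := Pi.single (Sum.inr ⟨0, hm⟩) 1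
  { toSubmonoid :=
      { carrier := {A | (A : M) *ᵥ e = e ∧ ∀ x, sf e x = 0 → ∃ c : F, (A : M) *ᵥ x = x + c • e}
        one_mem' := ⟨one_mulVec _, fun x _ => ⟨0, by simp⟩⟩
        mul_mem' := by
          rintro A B ⟨hA, hA'⟩ ⟨hB, hB'⟩
          refine ⟨by rw [mul_mulVec_sp, hB, hA], fun x hx => ?_⟩
          obtain ⟨c, hc⟩ := hB' x hx
          obtain ⟨d, hd⟩ := hA' x hx
          refine ⟨d + c, ?_⟩
          rw [mul_mulVec_sp, hc, mulVec_add, mulVec_smul, hA, hd, add_smul, add_assoc] }
    inv_mem' := by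
      rintro A ⟨hA, hA'⟩
      refine ⟨inv_mulVec_of_eq hA, fun x hx => ?_⟩
      obtain ⟨c, hc⟩ := hA' x hx
      refine ⟨-c, inv_mulVec_of_eq ?_⟩
      rw [mulVec_add, mulVec_smul, hA, hc, neg_smul, add_neg_cancel_right] }

theorem mem_pointRad {hm : 1 ≤ m} {A : Sp} : A ∈ pointRad hm ↔
    (A : M) *ᵥ Pi.single (Sum.inr ⟨0, hm⟩) 1 = Pi.single (Sum.inr ⟨0, hm⟩) 1 ∧
      ∀ x, sf (Pi.single (Sum.inr ⟨0, hm⟩) 1) x = 0 →
        ∃ c : F, (A : M) *ᵥ x = x + c • Pi.single (Sum.inr ⟨0, hm⟩) 1 :=
  Iff.rfl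

theorem pointRad_le (hm : 1 ≤ m) : (pointRad hm : Subgroup Sp) ≤ U := by
  rintro A ⟨hA, hA'⟩ k l hkl
  rw [sub_one_apply]
  set e : Vec := Pi.single (Sum.inr ⟨0, hm⟩) 1 with he
  by_cases hl : l = Sum.inl (⟨0, hm⟩ : Fin m)
  · subst hl
    rcases k with k | k
    · have hk : k = ⟨0, hm⟩ := Fin.ext (by
        simp only [rk] at hkl
        have := k.isLt
        simp only [Fin.val_mk] at *
        omega)
      subst hk
      have h1 := sympForm_mulVec A e (Pi.single (Sum.inl (⟨0, hm⟩ : Fin m)) 1)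
      rw [hA, sympForm_swap, form_inr, he, sympForm_inr_inl] at h1
      simp only [neg_neg, if_pos] at h1
      rw [Pi.sub_apply, h1, Pi.single_eq_same, sub_self]
    · exfalso
      simp only [rk] at hkl
      have := k.isLt
      omega
  · have hperp : sf e (Pi.single l 1) = 0 := by
      rw [sympForm_swap, form_inr]
      simp [Pi.single_apply, Ne.symm hl]
    obtain ⟨c, hc⟩ := hA' _ hperp
    rw [hc, add_sub_cancel_left, Pi.smul_apply, he]
    rcases eq_or_ne k (Sum.inr (⟨0, hm⟩ : Fin m)) with rfl | hk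
    · have hl' : l = Sum.inr (⟨0, hm⟩ : Fin m) := by
        rcases l with l | l
        · exfalso
          simp only [rk] at hkl
          have := l.isLt
          omega
        · exact congrArg Sum.inr (Fin.ext (Nat.le_zero.1 hkl))
      subst hl'
      have : c = 0 := by
        rw [hA] at hc
        have := congrFun hc (Sum.inr (⟨0, hm⟩ : Fin m))
        simpa [he] using this
      simp [this]
    · rw [Pi.single_eq_of_ne hk, smul_zero]

end Cfsg.Agent.Fusion.SympBlocks
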