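/-
The fusion system of `PSp_{2m}(q)` in the defining characteristic is simple.
-/
import Mathlib
import Cfsg.Agent.Lib.Fusion.SimpleCriterion
import Cfsg.Agent.Lib.Fusion.SimplePSL
import Cfsg.Agent.Lib.Fusion.SympBlocks
import Cfsg.Agent.Lib.Classical.Linear

set_option autoImplicit false
set_option linter.unusedSectionVars false
set_option linter.unusedSimpArgs false

namespace Cfsg.Agent.Fusion.SimplePSp

open Matrix Cfsg Cfsg.Agent.Forms.SympStd Cfsg.Agent.Classical.Symplectic Cfsg.Agent.AutPSp.Basic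
  Cfsg.Agent.AutPSp.Points Cfsg.Agent.AutPSp.SylowCentre Cfsg.Agent.Fusion.SympBlocks
  Cfsg.Agent.Fusion.Saturation

universe u

variable {F : Type u} [Field F] {m : ℕ}

local notation "I" => (Fin m ⊕ Fin m)
local notation "M" => Matrix (Fin m ⊕ Fin m) (Fin m ⊕ Fin m) F
local notation "Mm" => Matrix (Fin m) (Fin m) F
local notation "Vec" => (Fin m ⊕ Fin m → F)
local notation "Sp" => Matrix.symplecticGroup (Fin m) F
local notation "sf" => Cfsg.sympForm m F
local notation "π" => (QuotientGroup.mk' (Subgroup.center Sp) : Sp →* PSp m F)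

theorem toGL_coe (W : Matrix.SpecialLinearGroup (Fin m) F) :
    ((Matrix.SpecialLinearGroup.toGL W : GL (Fin m) F) : Mm) = (W : Mm) := rfl

theorem single_mul_diag (d : Fin m → F) (i j : Fin m) (c : F) :
    diagonal d * Matrix.single i j c * diagonal d = Matrix.single i j (d i * c * d j) := by
  ext k l
  rw [Matrix.mul_diagonal, Matrix.diagonal_mul, Matrix.single_apply, Matrix.single_apply]
  split_ifs with h
  · rw [← h.1, ← h.2]
  · simp

theorem tv_pow (p : ℕ) [CharP F p] (v : Vec) (c : F) : tv v c ^ p = 1 := by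
  have key : ∀ k : ℕ, tv v c ^ k = tv v ((k : F) * c) := by
    intro k
    induction k with
    | zero => simp [tv_zero]
    | succ k ih => rw [pow_succ, ih, tv_mul, Nat.cast_succ, add_mul, one_mul]
  rw [key, CharP.cast_eq_zero F p, zero_mul, tv_zero]

variable [Fintype F] {p : ℕ} [Fact p.Prime] [CharP F p]

local notation "U" => (upperSubgroup : Subgroup Sp)

include p in
theorem mk_injOn (hm : 1 ≤ m) {A B : Sp} (hA : A ∈ U) (hB : B ∈ U) (h : π A = π B) : A = B :=
  mk_inj p (isPGroup_upper p) hm hA hB h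

theorem eq_of_mk_eq (hm : 1 ≤ m) {X Y : Sp} {k l : ℕ} (hX : X ^ p ^ k = 1) (hY : Y ^ p ^ l = 1)
    (h : π X = π Y) : X = Y := by
  set z := X⁻¹ * Y with hz
  have hzc : z ∈ Subgroup.center Sp := QuotientGroup.eq.1 h
  have hzp : z ^ p ^ (k + l) = 1 := by
    have hY' : Y = X * z := by rw [hz, mul_inv_cancel_left]
    have h1 : Y ^ p ^ (k + l) = 1 := by rw [pow_add, mul_comm, pow_mul, hY, one_pow]
    have h2 : X ^ p ^ (k + l) = 1 := by rw [pow_add, pow_mul, hX, one_pow]
    rw [hY', (Commute.mul_pow ((Subgroup.mem_center_iff.1 hzc X))), h2, one_mul] at h1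
    exact h1
  have hP : IsPGroup p (Subgroup.zpowers z) := fun x => by
    obtain ⟨x, i, rfl⟩ := x
    refine ⟨k + l, Subtype.ext ?_⟩
    change (z ^ i) ^ (p ^ (k + l) : ℕ) = 1
    rw [← zpow_natCast, ← _root_.zpow_mul, mul_comm, _root_.zpow_mul, zpow_natCast, hzp, _root_.one_zpow]
  obtain ⟨a, ha⟩ := (Cfsg.Agent.Classical.Symplectic.mem_center_iff z).1 hzc
  have ha1 := scalar_eq_one p hP (Subgroup.mem_zpowers z)
    (single_ne_zero (Sum.inl ⟨0, hm⟩ : I)) (ha _)
  refine inv_mul_eq_one.1 (sp_ext fun v => ?_)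
  rw [← hz, ha, ha1, one_smul, OneMemClass.coe_one, Matrix.one_mulVec]

theorem upper_pow {A : Sp} (hA : A ∈ U) : ∃ k : ℕ, A ^ p ^ k = 1 := pow_mem_upper p hA

theorem upper_fixes (hm : 1 ≤ m) {A : Sp} (hA : A ∈ U) :
    (A : M) *ᵥ Pi.single (Sum.inr ⟨0, hm⟩) 1 = Pi.single (Sum.inr ⟨0, hm⟩) 1 := by
  funext k
  have h := hA k (Sum.inr ⟨0, hm⟩) (by simp [rk])
  rw [sub_one_apply, Pi.sub_apply, sub_eq_zero] at h
  exact h

theorem exists_sylow_eq (hm : 1 ≤ m) :
    ∃ P : Sylow p (PSp m F), (P : Subgroup (PSp m F)) = (U).map π := by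
  classical
  obtain ⟨a, hp, hF⟩ := FiniteField.card F p
  have hcard : Nat.card ((U).map π) = Fintype.card F ^ (m ^ 2) := by
    rw [← natCard_upper (F := F) (m := m)]
    refine (Nat.card_congr (Equiv.ofBijective
      (fun A : U => (⟨π A, Subgroup.mem_map_of_mem π A.2⟩ : (U).map π))
      ⟨fun A B h => Subtype.ext (mk_injOn (p := p) hm A.2 B.2 (congrArg Subtype.val h)), ?_⟩)).symm
    rintro ⟨_, A, hA, rfl⟩
    exact ⟨⟨A, hA⟩, rfl⟩
  refine ⟨IsPGroup.toSylow (P := (U).map π) ((isPGroup_upper p).map π) ?_, rfl⟩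
  intro hdvd
  have h6 := Subgroup.card_mul_index ((U).map π)
  rw [hcard] at h6
  have h1 : Nat.card Sp = Nat.card (PSp m F) * Nat.card (Subgroup.center Sp) :=
    Subgroup.card_eq_card_quotient_mul_card_subgroup _
  rw [natCard_sp, ← h6, mul_assoc] at h1
  have h7 := Nat.eq_of_mul_eq_mul_left (pow_pos (Fintype.card_pos (α := F)) _) h1
  have h8 := (hdvd.mul_right (Nat.card (Subgroup.center Sp))).trans h7.symm.dvd
  obtain ⟨i, -, hi⟩ := (Nat.prime_iff.1 hp).exists_mem_finset_dvd h8
  have h4 : p ∣ Fintype.card F ^ (2 * (i + 1)) := dvd_pow (hF ▸ dvd_pow_self p a.ne_zero) (by omega)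
  have h5 := Nat.dvd_sub h4 hi
  rw [Nat.sub_sub_self (Nat.one_le_pow _ _ Fintype.card_pos)] at h5
  exact hp.not_dvd_one h5

/-- A scalar element. -/
def scalarSp (a : F) (ha : a * a = 1) : Sp :=
  ⟨a • 1, mem_sp_iff.2 fun u v => by
    rw [smul_mulVec, smul_mulVec, one_mulVec, one_mulVec, f_smul_left, f_smul_right, ← mul_assoc, ha,
      one_mul]⟩

theorem scalarSp_mulVec (a : F) (ha : a * a = 1) (x : Vec) :
    ((scalarSp a ha : Sp) : M) *ᵥ x = a • x := by
  show (a • (1 : M)) *ᵥ x = a • x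
  rw [smul_mulVec, one_mulVec]

theorem mk_scalarSp (a : F) (ha : a * a = 1) : π (scalarSp a ha : Sp) = 1 :=
  (QuotientGroup.eq_one_iff _).2
    ((Cfsg.Agent.Classical.Symplectic.mem_center_iff _).2 ⟨a, scalarSp_mulVec a ha⟩)

include p in
/-- An element centralizing the image of a subgroup of `U` commutes with the subgroup. -/
theorem commutes (hm : 1 ≤ m) {R : Subgroup Sp} (hR : R ≤ U) {A : Sp}
    (hA : π A ∈ Subgroup.centralizer ((R.map π : Subgroup (PSp m F)) : Set (PSp m F))) :
    ∀ r ∈ R, A * r * A⁻¹ = r := by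
  intro r hr
  obtain ⟨k, hk⟩ := upper_pow (p := p) (hR hr)
  refine eq_of_mk_eq (p := p) hm (k := k) (l := k) ?_ hk ?_
  · rw [conj_pow, hk, mul_one, mul_inv_cancel]
  · rw [map_mul, map_mul, map_inv, ← hA _ (Subgroup.mem_map_of_mem π hr), mul_inv_cancel_right]

theorem siegel_le : (siegel : Subgroup Sp) ≤ U := by
  rintro _ ⟨S, h, rfl⟩
  exact symM_mem S h

theorem glM_normalizes_siegel (W : GL (Fin m) F) :
    ∀ r ∈ (siegel : Subgroup Sp), glM W * r * (glM W)⁻¹ ∈ (siegel : Subgroup Sp) := by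
  rintro _ ⟨S, h, rfl⟩
  exact ⟨_, _, glM_conj W S h⟩

theorem upper_normalizes_siegel {A : Sp} (hA : A ∈ U) :
    ∀ r ∈ (siegel : Subgroup Sp), A * r * A⁻¹ ∈ (siegel : Subgroup Sp) := by
  obtain ⟨S, hS, W, -, rfl⟩ := exists_upper_decomp hA
  intro r hr
  have h1 := glM_normalizes_siegel (Matrix.SpecialLinearGroup.toGL W) r hr
  have h2 : symM S hS ∈ (siegel : Subgroup Sp) := ⟨S, hS, rfl⟩
  have h3 := mul_mem (mul_mem h2 h1) (inv_mem h2)
  convert h3 using 1
  show symM S hS * glS W * r * (symM S hS * glS W)⁻¹ = _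
  rw [_root_.mul_inv_rev]
  simp only [glS, MonoidHom.comp_apply, mul_assoc]

theorem symM_injective {S S' : Mm} {h : S.IsSymm} {h' : S'.IsSymm} (e : symM S h = symM S' h') :
    S = S' := by
  have := congrArg Subtype.val e
  rw [symM_coe, symM_coe] at this
  exact (fromBlocks_inj.1 this).2.2.1

include p in
theorem centralizer_siegel (hm : 1 ≤ m) :
    Subgroup.centralizer (((siegel : Subgroup Sp).map π : Subgroup (PSp m F)) : Set (PSp m F)) ≤
      (siegel : Subgroup Sp).map π := by
  intro x hx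
  obtain ⟨A, rfl⟩ := QuotientGroup.mk'_surjective _ x
  have hc := commutes (p := p) hm siegel_le hx
  have h12 : ∀ i j, (A : M) (Sum.inl i) (Sum.inr j) = 0 := by
    intro i j
    have h1 := congrArg Subtype.val
      (mul_inv_eq_iff_eq_mul.1 (hc _ ⟨1, Matrix.isSymm_one, rfl⟩))
    rw [Submonoid.coe_mul, Submonoid.coe_mul, symM_coe, ← fromBlocks_toBlocks (A : M),
      fromBlocks_multiply, fromBlocks_multiply] at h1
    have h2 := congrFun (congrFun (fromBlocks_inj.1 h1).1 i) j
    simpa [Matrix.toBlocks₁₂] using h2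
  obtain ⟨S, hS, W, rfl, -⟩ := exists_decomp h12
  have hcomm : ∀ (S' : Mm), S'.IsSymm → (W : Mm) * S' * (W : Mm)ᵀ = S' := by
    intro S' hS'
    have h1 := hc _ ⟨S', hS', rfl⟩
    rw [_root_.mul_inv_rev, show symM S hS * glM W * symM S' hS' * ((glM W)⁻¹ * (symM S hS)⁻¹) =
      symM S hS * (glM W * symM S' hS' * (glM W)⁻¹) * (symM S hS)⁻¹ by group, glM_conj,
      symM_mul, symM_inv, symM_mul] at h1
    simpa using symM_injective h1
  have hWW : (W : Mm) * (W : Mm)ᵀ = 1 := by simpa using hcomm 1 Matrix.isSymm_one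
  have hWS : ∀ (S' : Mm), S'.IsSymm → (W : Mm) * S' = S' * (W : Mm) := fun S' hS' => by
    calc (W : Mm) * S' = (W : Mm) * S' * ((W : Mm)ᵀ * (W : Mm)) := by
          rw [mul_eq_one_comm.1 hWW, mul_one]
      _ = _ := by rw [← mul_assoc, hcomm S' hS']
  have hoff : ∀ k i, k ≠ i → (W : Mm) k i = 0 := by
    intro k i hki
    have h1 := congrFun (congrFun (hWS (Matrix.single i i 1) (by
      rw [Matrix.IsSymm, transpose_single])) k) i
    rwa [Matrix.mul_single_apply_same, mul_one, Matrix.single_mul_apply_of_ne (h := hki)] at h1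
  have hdiag : ∀ i j, (W : Mm) i i = (W : Mm) j j := by
    intro i j
    rcases eq_or_ne i j with rfl | hij
    · rfl
    have h1 := congrFun (congrFun (hWS _ (isSymm_short i j 1)) i) j
    simpa [mul_add, add_mul, hij, hij.symm, Matrix.mul_single_apply_of_ne,
      Matrix.single_mul_apply_of_ne] using h1
  set i0 : Fin m := ⟨0, hm⟩ with hi0
  set w := (W : Mm) i0 i0 with hw
  have hW : (W : Mm) = w • 1 := by
    ext k i
    rcases eq_or_ne k i with rfl | h
    · simpa [hw] using hdiag k i0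
    · simp [hoff k i h, h]
  have hww : w * w = 1 := by
    have h1 := congrFun (congrFun hWW i0) i0
    rw [hW] at h1
    simpa using h1
  have hWi : ((W⁻¹ : GL (Fin m) F) : Mm) = w • 1 := by
    rw [Matrix.coe_units_inv, hW]
    exact Matrix.inv_eq_right_inv (by
      rw [smul_mul_assoc, one_mul, smul_smul, hww, one_smul])
  have he : glM W = scalarSp w hww := by
    refine Subtype.ext ?_
    rw [glM_coe, hWi, hW, transpose_smul, transpose_one]
    show _ = w • (1 : M)
    rw [← fromBlocks_one, fromBlocks_smul]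
    simp
  refine ⟨symM S hS, ⟨S, hS, rfl⟩, ?_⟩
  rw [he, map_mul, mk_scalarSp, mul_one]

theorem tv_mem_pointRad (hm : 1 ≤ m) (c : F) :
    tv (Pi.single (Sum.inr ⟨0, hm⟩) 1) c ∈ (pointRad hm : Subgroup Sp) := by
  refine mem_pointRad.2 ⟨?_, fun x _ => ⟨_, tv_mulVec _ _ _⟩⟩
  rw [tv_mulVec, sympForm_self, mul_zero, zero_smul, add_zero]

theorem conj_pointRad (hm : 1 ≤ m) {g : Sp} {a : F} (ha : a ≠ 0)
    (hg : (g : M) *ᵥ Pi.single (Sum.inr ⟨0, hm⟩) 1 = a • Pi.single (Sum.inr ⟨0, hm⟩) 1) :
    ∀ r ∈ (pointRad hm : Subgroup Sp), g * r * g⁻¹ ∈ (pointRad hm : Subgroup Sp) := by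
  intro r hr
  obtain ⟨hr1, hr2⟩ := mem_pointRad.1 hr
  set e : Vec := Pi.single (Sum.inr ⟨0, hm⟩) 1
  have hgi : ((g⁻¹ : Sp) : M) *ᵥ e = a⁻¹ • e := by
    refine inv_mulVec_of_eq ?_
    rw [mulVec_smul, hg, smul_smul, inv_mul_cancel₀ ha, one_smul]
  refine mem_pointRad.2 ⟨?_, fun x hx => ?_⟩
  · rw [mul_mulVec_sp, mul_mulVec_sp, hgi, mulVec_smul, hr1, mulVec_smul, hg, smul_smul,
      inv_mul_cancel₀ ha, one_smul]
  · have hperp : sf e (((g⁻¹ : Sp) : M) *ᵥ x) = 0 := by
      have h1 := sympForm_mulVec g⁻¹ e x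
      rw [hgi, f_smul_left, hx, mul_eq_zero] at h1
      exact h1.resolve_left (inv_ne_zero ha)
    obtain ⟨c, hc⟩ := hr2 _ hperp
    refine ⟨c * a, ?_⟩
    rw [mul_mulVec_sp, mul_mulVec_sp, hc, mulVec_add, mulVec_smul, hg, smul_smul]
    congr 1
    rw [← mul_mulVec_sp, mul_inv_cancel, OneMemClass.coe_one, one_mulVec]

include p in
theorem centralizer_pointRad (hm : 1 ≤ m) :
    Subgroup.centralizer (((pointRad hm : Subgroup Sp).map π : Subgroup (PSp m F)) : Set (PSp m F)) ≤
      (pointRad hm : Subgroup Sp).map π := by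
  intro x hx
  obtain ⟨A, rfl⟩ := QuotientGroup.mk'_surjective _ x
  have hc := commutes (p := p) hm (pointRad_le hm) hx
  set e : Vec := Pi.single (Sum.inr ⟨0, hm⟩) 1 with he
  obtain ⟨y, hy⟩ := exists_partner (single_ne_zero (Sum.inr ⟨0, hm⟩ : I) : e ≠ 0)
  have hye : sf y e = -1 := by rw [sympForm_swap, hy]
  have h1 := hc _ (tv_mem_pointRad hm (1 : F))
  rw [← he, tv_conj] at h1
  have h2 := congrArg (fun B : Sp => (B : M) *ᵥ y) h1
  simp only [tv_mulVec, one_mul, hye, add_right_inj] at h2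
  set b := -sf y ((A : M) *ᵥ e) with hb
  have hAe : b • ((A : M) *ᵥ e) = e := by
    rw [hb, neg_smul, h2, neg_smul, one_smul, neg_neg]
  have hbb : b * b = 1 := by
    have h3 := congrArg (sf y) hAe
    rw [f_smul_right, hye] at h3
    linear_combination (-1 : F) * h3 + b * hb
  have hA' : (A : M) *ᵥ e = b • e := by
    conv_rhs => rw [← hAe, smul_smul, hbb, one_smul]
  refine ⟨A * scalarSp b hbb, mem_pointRad.2 ⟨?_, fun v hv => ?_⟩,
    by rw [map_mul, mk_scalarSp, mul_one]⟩
  · rw [mul_mulVec_sp, scalarSp_mulVec, ← he, mulVec_smul, hA', smul_smul, hbb, one_smul]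
  · rw [← he] at hv ⊢
    have hq : ∀ w z : Vec, sf e w = 0 →
        ((tv (w + e) 1 * tv e (-1) * tv w (-1) : Sp) : M) *ᵥ z = z + sf z e • w + sf z w • e := by
      intro w z hw
      have hw' : sf w e = 0 := by rw [sympForm_swap, hw, neg_zero]
      simp only [mul_mulVec_sp, tv_mulVec, f_add_left, f_add_right, f_smul_left, f_smul_right,
        sympForm_self, hw, hw']
      module
    have hqR : ∀ w : Vec, sf e w = 0 →
        (tv (w + e) 1 * tv e (-1) * tv w (-1) : Sp) ∈ (pointRad hm : Subgroup Sp) := by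
      intro w hw
      refine mem_pointRad.2 ⟨?_, fun z hz => ⟨sf z w, ?_⟩⟩
      · rw [← he, hq w e hw, sympForm_self, hw]
        simp
      · rw [← he] at hz ⊢
        rw [hq w z hw, sympForm_swap e z, hz, neg_zero, zero_smul, add_zero]
    set v' := b • v with hv'
    have hwe : sf e ((A : M) *ᵥ v') = 0 := by
      have h3 := sympForm_mulVec A e v'
      rw [hA', f_smul_left, hv', f_smul_right, hv, mul_zero, mul_eq_zero] at h3
      exact h3.resolve_left fun h0 => by rw [h0, zero_mul] at hbb; exact zero_ne_one hbb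
    have h4 := hc _ (hqR v' (by rw [hv', f_smul_right, hv, mul_zero]))
    set w := (A : M) *ᵥ v' with hw
    set u := b • w with hu
    have hwu : w = b • u := by rw [hu, smul_smul, hbb, one_smul]
    have h5 : A * (tv (v' + e) 1 * tv e (-1) * tv v' (-1)) * A⁻¹ =
        tv (u + e) 1 * tv e (-1) * tv u (-1) := by
      rw [← conj_mul, ← conj_mul, tv_conj, tv_conj, tv_conj, mulVec_add, hA', ← hw, hwu, ← smul_add,
        tv_smul, tv_smul, tv_smul, hbb, one_mul, one_mul]
    rw [h5] at h4
    have h6 := congrArg (fun B : Sp => (B : M) *ᵥ y) h4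
    rw [hq u y (by rw [hu, f_smul_right, hwe, mul_zero]),
      hq v' y (by rw [hv', f_smul_right, hv, mul_zero]), hye] at h6
    refine ⟨b * (sf y u - sf y v'), ?_⟩
    rw [mul_mulVec_sp, scalarSp_mulVec, ← hv', ← hw, hwu]
    have h7 : u = v' + (sf y u - sf y v') • e := by
      rw [neg_one_smul, neg_one_smul] at h6
      linear_combination (norm := module) -h6
    conv_lhs => rw [h7]
    rw [smul_add, hv', smul_smul, hbb, one_smul, smul_smul]

theorem mem_unitri_upper {W : GL (Fin m) F}
    (hW : ∀ (a b : Fin m), a < b → ∃ C : Mm, (∀ i j : Fin m, j ≤ i → C i j = 0) ∧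
      C * (W : Mm) = (W : Mm) * Matrix.single a b 1) :
    ∀ i j : Fin m, j < i → (W : Mm) i j = 0 := by
  suffices ∀ d : ℕ, ∀ i j : Fin m, j < i → m - (i : ℕ) ≤ d → (W : Mm) i j = 0 from
    fun i j hij => this m i j hij (Nat.sub_le _ _)
  intro d
  induction d with
  | zero => exact fun i j _ h => absurd i.isLt (by omega)
  | succ d ih =>
    intro i j hij hd
    have hij' : (j : ℕ) < i := hij
    set k : Fin m := ⟨j + 1, lt_of_le_of_lt hij' i.isLt⟩
    have hjk : j < k := show (j : ℕ) < j + 1 by omega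
    obtain ⟨C, hC, he⟩ := hW j k hjk
    have h2 := congrFun (congrFun he i) k
    rw [Matrix.mul_single_apply_same, mul_one, Matrix.mul_apply, Finset.sum_eq_zero] at h2
    · exact h2.symm
    · intro c _
      rcases le_or_gt c i with hc | hc
      · rw [hC i c hc, zero_mul]
      · have hc' : (i : ℕ) < c := hc
        have hk : (k : ℕ) = (j : ℕ) + 1 := rfl
        rw [ih c k (show (k : ℕ) < c by omega) (by omega), mul_zero]

theorem diag_normalizes (D : GL (Fin m) F) (d : Fin m → F) (hD : (D : Mm) = diagonal d)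
    {A : Sp} (hA : A ∈ U) : glM D * A * (glM D)⁻¹ ∈ U := by
  have hcoe : ∀ (D : GL (Fin m) F) (d : Fin m → F), (D : Mm) = diagonal d →
      ((glM D : Sp) : M) = diagonal (Sum.elim (fun i => (d i)⁻¹) d) := by
    intro D d hD
    have hne : ∀ i, d i ≠ 0 := fun i h => by
      have hu := (Matrix.isUnit_iff_isUnit_det _).1 D.isUnit
      rw [hD, det_diagonal, Finset.prod_eq_zero (Finset.mem_univ i) h] at hu
      exact not_isUnit_zero hu
    have hDi : ((D⁻¹ : GL (Fin m) F) : Mm) = diagonal fun i => (d i)⁻¹ := by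
      rw [Matrix.coe_units_inv, hD]
      refine Matrix.inv_eq_right_inv ?_
      rw [diagonal_mul_diagonal, ← diagonal_one]
      congr 1
      funext i
      exact mul_inv_cancel₀ (hne i)
    rw [glM_coe, hDi, hD, diagonal_transpose, fromBlocks_diagonal]
  have hinv : (((glM D)⁻¹ : Sp) : M) = diagonal (Sum.elim d fun i => (d i)⁻¹) := by
    rw [← map_inv, hcoe D⁻¹ (fun i => (d i)⁻¹) ?_]
    · simp only [inv_inv]
    · have := hcoe D d hD
      rw [glM_coe, ← fromBlocks_diagonal, fromBlocks_inj] at this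
      rw [← transpose_transpose ((D⁻¹ : GL (Fin m) F) : Mm), this.1, diagonal_transpose]
  intro k l hkl
  have h1 : ((glM D * A * (glM D)⁻¹ : Sp) : M) - 1 =
      diagonal (Sum.elim (fun i => (d i)⁻¹) d) * ((A : M) - 1) *
        diagonal (Sum.elim d fun i => (d i)⁻¹) := by
    rw [mul_sub, sub_mul, mul_one, Submonoid.coe_mul, Submonoid.coe_mul, hcoe D d hD, hinv]
    congr 1
    rw [← hcoe D d hD, ← hinv, ← Submonoid.coe_mul, mul_inv_cancel, OneMemClass.coe_one]
  rw [h1, mul_diagonal, diagonal_mul, hA k l hkl, mul_zero, zero_mul]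

theorem exists_short_one (hm : 2 ≤ m) (hex : m = 2 → 3 ≤ Fintype.card F) {T : Subgroup Sp}
    (hclo : ∀ A ∈ T, ∀ h : Sp, h * A * h⁻¹ ∈ U → h * A * h⁻¹ ∈ T) {a b : F} (h2 : 2 * b = 0)
    (hb : b ≠ 0) (hsym : (Matrix.single (⟨0, by omega⟩ : Fin m) ⟨0, by omega⟩ a +
      (Matrix.single (⟨0, by omega⟩ : Fin m) ⟨1, by omega⟩ b +
        Matrix.single (⟨1, by omega⟩ : Fin m) ⟨0, by omega⟩ b) : Mm).IsSymm)
    (hA : symM _ hsym ∈ T) :
    ∃ (i j : Fin m) (_ : i < j) (c : F), c ≠ 0 ∧
      symM (Matrix.single i j c + Matrix.single j i c) (isSymm_short i j c) ∈ T := by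
  classical
  set i0 : Fin m := ⟨0, by omega⟩ with hi0
  set i1 : Fin m := ⟨1, by omega⟩ with hi1
  have h01 : i0 ≠ i1 := by simp [hi0, hi1]
  have h20 : (2 : F) = 0 := (mul_eq_zero.1 h2).resolve_right hb
  have hdd : ∀ x : F, x + x = 0 := fun x => by rw [← two_mul, h20, zero_mul]
  rcases eq_or_lt_of_le hm with hm2 | hm3
  · -- rank two
    obtain ⟨t, ht0, ht1⟩ : ∃ t : F, t ≠ 0 ∧ t ≠ 1 := by
      by_contra hcon
      push Not at hcon
      have hsub : (Finset.univ : Finset F) ⊆ {0, 1} := fun x _ => by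
        simp only [Finset.mem_insert, Finset.mem_singleton]
        exact or_iff_not_imp_left.2 (hcon x)
      have h3 := (Finset.card_le_card hsub).trans Finset.card_le_two
      rw [Finset.card_univ] at h3
      have := hex hm2.symm
      omega
    let d : Fin m → F := fun i => if i = i1 then t else 1
    let W : GL (Fin m) F := Matrix.GeneralLinearGroup.mkOfDetNeZero (diagonal d) (by
      rw [det_diagonal]
      refine Finset.prod_ne_zero_iff.2 fun i _ => ?_
      simp only [d]
      split_ifs <;> simp [ht0])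
    have hW : (W : Mm) = diagonal d := rfl
    have h3 := hclo _ hA (glM W) (by rw [glM_conj]; exact symM_mem _ _)
    rw [glM_conj] at h3
    refine ⟨i0, i1, Fin.lt_def.2 (by simp [hi0, hi1]), b + b * t, ?_, ?_⟩
    · intro h
      have : b * (1 + t) = 0 := by rw [mul_add, mul_one, h]
      have h4 := (mul_eq_zero.1 this).resolve_left hb
      exact ht1 (by linear_combination h4 - hdd (1 : F))
    · convert mul_mem hA h3 using 1
      rw [symM_mul]
      refine symM_congr ?_
      rw [hW, diagonal_transpose, mul_add, mul_add, add_mul, add_mul, single_mul_diag,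
        single_mul_diag, single_mul_diag]
      simp only [← hi0, ← hi1, d, if_neg h01, if_pos, one_mul, mul_one]
      rw [Matrix.single_add, Matrix.single_add]
      have hz : (Matrix.single i0 i0 a + Matrix.single i0 i0 a : Mm) = 0 := by
        rw [← Matrix.single_add, hdd, Matrix.single_zero]
      rw [mul_comm b t, add_add_add_comm (Matrix.single i0 i0 a), hz, zero_add]
      abel
  · set i2 : Fin m := ⟨2, by omega⟩ with hi2
    have h02 : i0 ≠ i2 := by simp [hi0, hi2]
    have h12 : i1 ≠ i2 := by simp [hi1, hi2]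
    let W : GL (Fin m) F :=
      Matrix.SpecialLinearGroup.toGL (Matrix.SpecialLinearGroup.transvection h12.symm (1 : F))
    have hW : (W : Mm) = 1 + Matrix.single i2 i1 1 :=
      (toGL_coe _).trans (Matrix.SpecialLinearGroup.transvection_coe h12.symm 1)
    have h3 := hclo _ hA (glM W) (by rw [glM_conj]; exact symM_mem _ _)
    rw [glM_conj] at h3
    refine ⟨i0, i2, Fin.lt_def.2 (by simp [hi0, hi2]), b, hb, ?_⟩
    convert mul_mem hA h3 using 1
    rw [symM_mul]
    refine symM_congr ?_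
    rw [hW, transpose_add, transpose_one, transpose_single]
    simp only [← hi0, ← hi1, mul_add, add_mul, one_mul, mul_one, Matrix.single_mul_single_same,
      Matrix.single_mul_single_of_ne, ne_eq, h01, h01.symm, h02, h02.symm, h12, h12.symm,
      not_false_eq_true, add_zero, zero_add, zero_mul]
    have hS2 : ∀ X : Mm, X + X = 0 := fun X => by ext k l; exact hdd _
    linear_combination (norm := abel) -hS2 (Matrix.single i0 i0 a) - hS2 (Matrix.single i0 i1 b) -
      hS2 (Matrix.single i1 i0 b)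

include p in
/-- A nontrivial subgroup of `U` with a central element and closed under conjugation is `U`. -/
theorem upper_le (hm : 2 ≤ m) (hex : m = 2 → 3 ≤ Fintype.card F) {T : Subgroup Sp}
    (hclo : ∀ A ∈ T, ∀ h : Sp, h * A * h⁻¹ ∈ U → h * A * h⁻¹ ∈ T) {A : Sp} (hAT : A ∈ T)
    (hAU : A ∈ U) (hA1 : A ≠ 1) (hc : ∀ B ∈ U, A * B = B * A) : U ≤ T := by
  classical
  obtain ⟨a, b, h2, hform⟩ := centre_form p hm (isPGroup_upper p) le_rfl hAU hc
  set i0 : Fin m := ⟨0, by omega⟩ with hi0
  set i1 : Fin m := ⟨1, by omega⟩ with hi1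
  have hsym : (Matrix.single i0 i0 a + (Matrix.single i0 i1 b + Matrix.single i1 i0 b) : Mm).IsSymm :=
    Matrix.IsSymm.add (by rw [Matrix.IsSymm, transpose_single]) (isSymm_short i0 i1 b)
  have hAeq : A = symM _ hsym := by
    refine sp_ext fun x => ?_
    rw [hform, symM_coe, fromBlocks_mulVec, centreOp]
    funext k
    rcases k with k | k
    · simp
    · simp [add_mulVec, single_mulVec, Pi.single_apply, Function.update_apply, ← hi0, ← hi1]
      split_ifs <;> simp_all <;> ring
  -- an element with matrix `a Eii`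
  obtain ⟨i, c, hc0, hci⟩ : ∃ (i : Fin m) (c : F), c ≠ 0 ∧
      ∃ h, symM (Matrix.single i i c) h ∈ T := by
    by_cases hb : b = 0
    · refine ⟨i0, a, fun ha => hA1 ?_, by rw [Matrix.IsSymm, transpose_single], ?_⟩
      · rw [hAeq, ← symM_zero]
        exact symM_congr (by simp [ha, hb])
      · convert hAT using 1
        rw [hAeq]
        exact symM_congr (by simp [hb])
    obtain ⟨i, j, hij, c, hc, hcT⟩ := exists_short_one hm hex hclo h2 hb hsym (hAeq ▸ hAT)
    set g := glS (Matrix.SpecialLinearGroup.transvection hij.ne c) with hg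
    have hgU : g ∈ U := glS_mem (SimplePSL.transvection_mem_unitri hij c)
    have hgT : g ∈ T := by
      rw [hg, ← weyl_conj_short hij.ne c]
      exact hclo _ hcT _ (by rw [weyl_conj_short hij.ne c]; exact hgU)
    set s := symM (Matrix.single j j (1 : F)) (by rw [Matrix.IsSymm, transpose_single]) with hs
    have hsU : s ∈ U := symM_mem _ _
    have hcom : g * (s * g⁻¹ * s⁻¹) ∈ T := mul_mem hgT
      (hclo _ (inv_mem hgT) s (mul_mem (mul_mem hsU (inv_mem hgU)) (inv_mem hsU)))
    refine ⟨i, c * c, mul_ne_zero hc hc, by rw [Matrix.IsSymm, transpose_single], ?_⟩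
    convert mul_mem hcom (inv_mem hcT) using 1
    rw [← mul_assoc, ← mul_assoc, hg, glS, MonoidHom.comp_apply, hs, glM_conj, symM_inv, symM_inv,
      symM_mul, symM_mul]
    refine symM_congr ?_
    rw [toGL_coe, Matrix.SpecialLinearGroup.transvection_coe,
      transpose_add, transpose_one, transpose_single]
    simp only [mul_add, add_mul, one_mul, mul_one, Matrix.single_mul_single_same,
      Matrix.single_mul_single_of_ne, ne_eq, hij.ne, hij.ne', not_false_eq_true, add_zero, zero_add,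
      zero_mul]
    abel
  obtain ⟨hci, hciT⟩ := hci
  -- transvections
  have hbase : ∀ w : Vec, (∀ k, w (Sum.inl k) = 0) → tv w (-c) ∈ T := by
    intro w hw
    obtain ⟨h, he⟩ := tv_eq_symM (Pi.single i (1 : F) : Fin m → F) c
    have h1 : symM (Matrix.single i i c) hci = tv (Sum.elim 0 (Pi.single i 1)) (-c) := by
      rw [← he]
      refine symM_congr ?_
      rw [← Matrix.single_eq_single_vecMulVec_single, Matrix.smul_single, smul_eq_mul, mul_one]
    rcases eq_or_ne w 0 with rfl | hw0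
    · have : tv (0 : Vec) (-c) = 1 := sp_ext fun x => by simp [tv_mulVec]
      rw [this]
      exact one_mem T
    obtain ⟨g, hgv⟩ := exists_move (u := Sum.elim (0 : Fin m → F) (Pi.single i 1)) (fun h0 => by
      have := congrFun h0 (Sum.inr i)
      simp at this) hw0
    have h2 := hclo _ (h1 ▸ hciT) g
    rw [tv_conj, hgv] at h2
    exact h2 (tv_mem_upper hw (-c))
  have htv : ∀ w : Vec, (∀ k, w (Sum.inl k) = 0) → ∀ d : F, tv w d ∈ T := by
    intro w hw d
    have hsq : ∀ x : F, tv w (x * x * (-c)) ∈ T := fun x => by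
      rw [← tv_smul]
      exact hbase _ fun k => by simp [hw k]
    by_cases h20 : (2 : F) = 0
    · have hr : ringChar F = 2 := by
        have hd : ringChar F ∣ 2 := ringChar.dvd (by exact_mod_cast h20)
        exact ((Nat.dvd_prime Nat.prime_two).1 hd).resolve_left
          (CharP.ringChar_ne_one)
      obtain ⟨x, hx⟩ := FiniteField.isSquare_of_char_two hr (d / (-c))
      rw [show d = x * x * (-c) by rw [← hx, div_mul_cancel₀ _ (neg_ne_zero.2 hc0)]]
      exact hsq x
    · set e := d / (-c)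
      have he : d = (e + 1) / 2 * ((e + 1) / 2) * (-c) + -((e - 1) / 2 * ((e - 1) / 2) * (-c)) := by
        have : d = e * (-c) := (div_mul_cancel₀ _ (neg_ne_zero.2 hc0)).symm
        rw [this]
        field_simp
        ring
      rw [he, ← tv_mul]
      refine mul_mem (hsq _) ?_
      have : tv w (-((e - 1) / 2 * ((e - 1) / 2) * -c)) =
          (tv w ((e - 1) / 2 * ((e - 1) / 2) * -c))⁻¹ :=
        eq_inv_of_mul_eq_one_left (by rw [tv_mul, neg_add_cancel, tv_zero])
      rw [this]
      exact inv_mem (hsq _)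
  have hvv : ∀ (v : Fin m → F) (d : F), ∃ h, symM (d • vecMulVec v v) h ∈ T := by
    intro v d
    obtain ⟨h, he⟩ := tv_eq_symM v d
    exact ⟨h, he ▸ htv _ (fun k => by simp) _⟩
  let H : AddSubgroup Mm :=
    { carrier := {S | ∃ h, symM S h ∈ T}
      zero_mem' := ⟨Matrix.isSymm_zero, symM_zero (F := F) (m := m) ▸ one_mem T⟩
      add_mem' := by
        rintro S S' ⟨h, hS⟩ ⟨h', hS'⟩
        exact ⟨h.add h', symM_mul S S' h h' ▸ mul_mem hS hS'⟩
      neg_mem' := by
        rintro S ⟨h, hS⟩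
        exact ⟨h.neg, symM_inv S h ▸ inv_mem hS⟩ }
  have hdiag : ∀ (k : Fin m) (d : F), Matrix.single k k d ∈ H := by
    intro k d
    have h := hvv (Pi.single k 1) d
    rwa [← Matrix.single_eq_single_vecMulVec_single, Matrix.smul_single, smul_eq_mul, mul_one] at h
  have hshort : ∀ (k l : Fin m) (d : F), Matrix.single k l d + Matrix.single l k d ∈ H := by
    intro k l d
    have h := hvv (Pi.single k 1 + Pi.single l 1) d
    have h' := H.sub_mem (H.sub_mem (show _ ∈ H from h) (hdiag k d)) (hdiag l d)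
    convert h' using 1
    simp only [vecMulVec_add, Matrix.add_vecMulVec, ← Matrix.single_eq_single_vecMulVec_single,
      smul_add, Matrix.smul_single, smul_eq_mul, mul_one]
    abel
  have hall : ∀ S : Mm, S.IsSymm → S ∈ H := by
    intro S hS
    have hsum : S = ∑ kl : Fin m × Fin m,
        (if kl.1 < kl.2 then Matrix.single kl.1 kl.2 (S kl.1 kl.2) +
            Matrix.single kl.2 kl.1 (S kl.1 kl.2)
          else if kl.1 = kl.2 then Matrix.single kl.1 kl.1 (S kl.1 kl.1) else 0) := by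
      ext k l
      rw [Matrix.sum_apply, Finset.sum_eq_single (if k ≤ l then (k, l) else (l, k))]
      · rcases lt_trichotomy k l with h | rfl | h
        · simp [h.le, h, h.ne, h.ne']
        · simp
        · simp [not_le.2 h, h, h.ne, h.ne', hS.apply k l]
      · rintro ⟨x, y⟩ _ hxy
        dsimp only
        split_ifs with h1 h2
        · rw [Matrix.add_apply, Matrix.single_apply, Matrix.single_apply, if_neg, if_neg, add_zero]
          · rintro ⟨rfl, rfl⟩
            exact hxy (by rw [if_neg (not_le.2 h1)])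
          · rintro ⟨rfl, rfl⟩
            exact hxy (by rw [if_pos h1.le])
        · subst h2
          rw [Matrix.single_apply, if_neg]
          rintro ⟨rfl, rfl⟩
          simp at hxy
        · simp
      · simp
    rw [hsum]
    refine H.sum_mem fun kl _ => ?_
    split_ifs
    · exact hshort _ _ _
    · exact hdiag _ _
    · exact H.zero_mem
  intro B hB
  obtain ⟨S, hS, W, hW, rfl⟩ := exists_upper_decomp hB
  refine mul_mem (hall S hS).2 ?_
  refine SimplePSL.unitri_le (T := T.comap glS) (fun k l hkl d => ?_) hW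
  show glS _ ∈ T
  rw [← weyl_conj_short hkl.ne d]
  exact hclo _ (hshort k l d).2 _
    (by rw [weyl_conj_short hkl.ne d]; exact glS_mem (SimplePSL.transvection_mem_unitri hkl d))

include p in
/-- An element normalizing the image of `U` is a product of an element of the Siegel radical, a
diagonal element and a unipotent Levi element. -/
theorem normalizer_decomp (hm : 1 ≤ m) {t : Sp}
    (ht : π t ∈ Subgroup.normalizer (((U).map π : Subgroup (PSp m F)) : Set (PSp m F))) :
    ∃ (S : Mm) (hS : S.IsSymm) (D : GL (Fin m) F) (d : Fin m → F)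
      (u : Matrix.SpecialLinearGroup (Fin m) F),
      (D : Mm) = diagonal d ∧ u ∈ Cfsg.Agent.AutPSL.Roots.unitriSL ∧
        t = symM S hS * glM D * glS u := by
  classical
  have hnorm : ∀ B ∈ U, t * B * t⁻¹ ∈ U := by
    intro B hB
    obtain ⟨B', hB', he⟩ := (Subgroup.mem_normalizer_iff.1 ht _).1 (Subgroup.mem_map_of_mem π hB)
    obtain ⟨k, hk⟩ := upper_pow (p := p) hB'
    obtain ⟨l, hl⟩ := upper_pow (p := p) hB
    rw [← map_inv, ← map_mul, ← map_mul] at he
    have := eq_of_mk_eq (p := p) hm (X := B') (Y := t * B * t⁻¹) hk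
      (by rw [conj_pow, hl, mul_one, mul_inv_cancel]) he
    exact this ▸ hB'
  have h12 : ∀ i j, (t : M) (Sum.inl i) (Sum.inr j) = 0 := by
    intro i j
    set v := (t : M) *ᵥ Pi.single (Sum.inr j) 1 with hv
    have h1 := hnorm _ (tv_mem_upper (v := Pi.single (Sum.inr j) 1) (fun k => by simp) (1 : F))
    rw [tv_conj, ← hv] at h1
    have h2 := h1 (Sum.inl i) (Sum.inr i) (by simp only [rk]; have := i.isLt; omega)
    rw [sub_one_apply, tv_mulVec, add_sub_cancel_left, Pi.smul_apply, sympForm_swap, form_inr,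
      one_mul, neg_neg, smul_eq_mul, mul_self_eq_zero] at h2
    simpa [hv] using h2
  obtain ⟨S, hS, W, rfl, -⟩ := exists_decomp h12
  have hconj : ∀ T ∈ Cfsg.Agent.AutPSL.Roots.unitriSL (n := m) (F := F),
      glM (W * Matrix.SpecialLinearGroup.toGL T * W⁻¹) ∈ U := by
    intro T hT
    have h1 := hnorm _ (glS_mem hT)
    have h2 := mul_mem (mul_mem (inv_mem (symM_mem S hS)) h1) (symM_mem S hS)
    convert h2 using 1
    rw [map_mul, map_mul, map_inv, glS, MonoidHom.comp_apply]
    group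
  have hup : ∀ i j : Fin m, j < i → (W : Mm) i j = 0 := by
    refine mem_unitri_upper fun a b hab => ?_
    set T := Matrix.SpecialLinearGroup.transvection hab.ne (1 : F) with hT
    have h1 := hconj T (SimplePSL.transvection_mem_unitri hab 1)
    set X := W * Matrix.SpecialLinearGroup.toGL T * W⁻¹ with hX
    refine ⟨(X : Mm) - 1, fun i j hij => ?_, ?_⟩
    · have h2 := h1 (Sum.inr i) (Sum.inr j) hij
      simpa [glM_coe, Matrix.one_apply] using h2
    · have h3 : X * W = W * Matrix.SpecialLinearGroup.toGL T := by rw [hX, inv_mul_cancel_right]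
      rw [sub_mul, one_mul, ← Units.val_mul, h3, Units.val_mul,
        toGL_coe, hT, Matrix.SpecialLinearGroup.transvection_coe,
        mul_add, mul_one, add_sub_cancel_left]
  have htri : (W : Mm).BlockTriangular id := fun i j h => hup i j h
  have hdet : (W : Mm).det ≠ 0 := ((Matrix.isUnit_iff_isUnit_det _).1 W.isUnit).ne_zero
  have hdd : (diagonal fun i => (W : Mm) i i).det = (W : Mm).det := by
    rw [det_diagonal, Matrix.det_of_isUpperTriangular htri]
  set d := fun i => (W : Mm) i i with hd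
  let D : GL (Fin m) F := Matrix.GeneralLinearGroup.mkOfDetNeZero (diagonal d) (hdd ▸ hdet)
  have hDc : (D : Mm) = diagonal d := rfl
  set u0 : GL (Fin m) F := D⁻¹ * W with hu0
  have hDu : diagonal d * (u0 : Mm) = (W : Mm) := by
    rw [← hDc, ← Units.val_mul, hu0, mul_inv_cancel_left]
  have hu1 : (u0 : Mm).det = 1 := by
    have h := congrArg Matrix.det hDu
    rw [det_mul, hdd] at h
    exact mul_left_cancel₀ hdet (h.trans (mul_one _).symm)
  have hne : ∀ i, d i ≠ 0 := fun i h => hdet (by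
    rw [← hdd, det_diagonal, Finset.prod_eq_zero (Finset.mem_univ i) h])
  have hab : ∀ i j, d i * (u0 : Mm) i j = (W : Mm) i j := fun i j => by
    rw [← congrFun (congrFun hDu i) j, Matrix.diagonal_mul]
  refine ⟨S, hS, D, d, ⟨(u0 : Mm), hu1⟩, hDc, ⟨fun i j h => ?_, fun i => ?_⟩, ?_⟩
  · have := hab i j
    rw [hup i j h] at this
    exact (mul_eq_zero.1 this).resolve_left (hne i)
  · exact mul_left_cancel₀ (hne i) (by rw [hab, mul_one])
  · rw [mul_assoc, glS]
    erw [MonoidHom.comp_apply, ← map_mul]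
    congr 2
    refine Units.ext ?_
    rw [Units.val_mul]
    exact hDu.symm

theorem glS_closure (W : Matrix.SpecialLinearGroup (Fin m) F) :
    glS W ∈ Subgroup.closure
      {x : Sp | (∀ r ∈ (siegel : Subgroup Sp), x * r * x⁻¹ ∈ (siegel : Subgroup Sp)) ∧
        ∃ k : ℕ, x ^ p ^ k = 1} := by
  have h : W ∈ Subgroup.closure (Classical.Linear.transvectionSet (Fin m) F) := by
    rw [Classical.Linear.closure_transvectionSet]
    exact Subgroup.mem_top W
  refine (Subgroup.closure_le (K := (Subgroup.closure _).comap glS)).2 ?_ h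
  rintro _ ⟨i, j, hij, c, rfl⟩
  refine Subgroup.subset_closure ⟨fun r hr => glM_normalizes_siegel _ r hr, 1, ?_⟩
  rw [pow_one, ← map_pow, SimplePSL.pow_vmv (p := p)
    (Matrix.SpecialLinearGroup.transvection_coe hij c)
    (by rw [Matrix.single_mul_single_of_ne (h := hij.symm)]), map_one]

theorem glM_diag_closure (hm : 1 ≤ m) {k : Fin m} (hk : (⟨0, hm⟩ : Fin m) ≠ k) (r : Fˣ)
    (W : GL (Fin m) F) (hW : (W : Mm) = diagonal fun l => if l = k then (r : F) else 1) :
    glM W ∈ Subgroup.closure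
      {x : Sp | (∀ s ∈ (pointRad hm : Subgroup Sp), x * s * x⁻¹ ∈ (pointRad hm : Subgroup Sp)) ∧
        ∃ j : ℕ, x ^ p ^ j = 1} := by
  have hR : ∀ c : F, tv (Pi.single (Sum.inr k) 1) c ∈ Subgroup.closure
      {x : Sp | (∀ s ∈ (pointRad hm : Subgroup Sp), x * s * x⁻¹ ∈ (pointRad hm : Subgroup Sp)) ∧
        ∃ j : ℕ, x ^ p ^ j = 1} := fun c => by
    refine Subgroup.subset_closure ⟨conj_pointRad hm one_ne_zero ?_, 1, by rw [pow_one, tv_pow]⟩
    rw [tv_mulVec, sympForm_inr_inr, mul_zero, zero_smul, add_zero, one_smul]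
  have hL : ∀ c : F, tv (Pi.single (Sum.inl k) 1) c ∈ Subgroup.closure
      {x : Sp | (∀ s ∈ (pointRad hm : Subgroup Sp), x * s * x⁻¹ ∈ (pointRad hm : Subgroup Sp)) ∧
        ∃ j : ℕ, x ^ p ^ j = 1} := fun c => by
    refine Subgroup.subset_closure ⟨conj_pointRad hm one_ne_zero ?_, 1, by rw [pow_one, tv_pow]⟩
    rw [tv_mulVec, sympForm_inr_inl, if_neg hk, mul_zero, zero_smul, add_zero, one_smul]
  rw [diag_tv k r W hW]
  exact mul_mem (mul_mem (mul_mem (mul_mem (mul_mem (hR _) (hL _)) (hR _)) (hR _)) (hL _)) (hR _)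

/-- Simplicity. -/
theorem isSimple (hm : 2 ≤ m) (hex : m = 2 → 3 ≤ Fintype.card F) (S : Sylow p (PSp m F)) :
    (groupFusionSystem (S : Subgroup (PSp m F))).IsSimple p := by
  classical
  have hm1 : 1 ≤ m := by omega
  obtain ⟨P, hP⟩ := exists_sylow_eq (F := F) (p := p) hm1
  obtain ⟨x, hx⟩ := MulAction.exists_smul_eq (PSp m F) P S
  suffices hmain : ∀ Q : Sylow p (PSp m F), (∃ g : PSp m F,
      ∀ y, y ∈ (Q : Subgroup (PSp m F)) ↔ g⁻¹ * y * g ∈ (U).map π) →
      (groupFusionSystem (Q : Subgroup (PSp m F))).IsSimple p by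
    refine hmain S ⟨x, fun y => ?_⟩
    rw [← hx, Sylow.coe_subgroup_smul, Subgroup.mem_pointwise_smul_iff_inv_smul_mem, hP]
    simp [MulAut.conj_symm_apply]
  clear! S P
  rintro S ⟨g, hg⟩
  set cg : PSp m F →* PSp m F := (MulAut.conj g).toMonoidHom with hcg
  have hmemS : ∀ y, g * y * g⁻¹ ∈ (S : Subgroup (PSp m F)) ↔ y ∈ (U).map π := fun y => by
    rw [hg]
    simp [mul_assoc]
  have hS1 : (S : Subgroup (PSp m F)) ≠ ⊥ := by
    intro h
    set e : Vec := Pi.single (Sum.inr ⟨0, hm1⟩) 1 with he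
    have htU : tv e (1 : F) ∈ U := tv_mem_upper (fun i => by simp [he]) 1
    have h1 := (hmemS _).2 (Subgroup.mem_map_of_mem π htU)
    rw [h, Subgroup.mem_bot, mul_inv_eq_one, mul_eq_left] at h1
    have h2 := mk_injOn (p := p) hm1 htU (one_mem _) (h1.trans (map_one π).symm)
    obtain ⟨y, hy⟩ := exists_partner (single_ne_zero (Sum.inr ⟨0, hm1⟩ : I) : e ≠ 0)
    have h3 := congrArg (fun B : Sp => (B : M) *ᵥ y) h2
    simp [tv_mulVec, he] at h3
    rw [sympForm_swap, h3, neg_zero] at hy
    exact zero_ne_one hy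
  refine SimpleCriterion.isSimple hS1 (fun T hT => ?_) fun y hy => ?_
  · refine or_iff_not_imp_left.2 fun hne => le_antisymm hT.1 ?_
    obtain ⟨z, hzT, hz1, hzc⟩ := SimpleCriterion.exists_central hT hne
    obtain ⟨A, hAU, hAz⟩ := (hg z).1 (hT.1 hzT)
    have hzA : z = g * π A * g⁻¹ := by rw [hAz]; group
    have hle : U ≤ ((T.comap cg).comap π : Subgroup Sp) := by
      refine upper_le (p := p) hm hex (fun B hB h hBh => ?_) ?_ hAU ?_ fun B hB => ?_
      · show g * π (h * B * h⁻¹) * g⁻¹ ∈ T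
        have e : g * π (h * B * h⁻¹) * g⁻¹ =
            (g * π h * g⁻¹) * (g * π B * g⁻¹) * (g * π h * g⁻¹)⁻¹ := by
          rw [map_mul, map_mul, map_inv]; group
        rw [e]
        refine SimpleCriterion.closed hT hB ?_
        rw [← e]
        exact (hmemS _).2 (Subgroup.mem_map_of_mem π hBh)
      · show g * π A * g⁻¹ ∈ T
        rw [← hzA]; exact hzT
      · intro hA
        refine hz1 ?_
        rw [hzA, hA, map_one, mul_one, mul_inv_cancel]
      · refine mk_injOn (p := p) hm1 (mul_mem hAU hB) (mul_mem hB hAU) ?_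
        have h1 := hzc _ ((hmemS _).2 (Subgroup.mem_map_of_mem π hB))
        rw [hzA] at h1
        rw [map_mul, map_mul]
        calc π A * π B = g⁻¹ * ((g * π A * g⁻¹) * (g * π B * g⁻¹)) * g := by group
          _ = g⁻¹ * ((g * π B * g⁻¹) * (g * π A * g⁻¹)) * g := by rw [h1]
          _ = π B * π A := by group
    intro y hy
    obtain ⟨B, hB, hBy⟩ := (hg y).1 hy
    have h1 : g * π B * g⁻¹ ∈ T := hle hB
    rw [hBy] at h1
    simpa [mul_assoc] using h1
  · -- generation of the normalizer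
    obtain ⟨t, ht⟩ := QuotientGroup.mk'_surjective (Subgroup.center Sp) (g⁻¹ * y * g)
    have htN : π t ∈ Subgroup.normalizer (((U).map π : Subgroup (PSp m F)) : Set (PSp m F)) := by
      rw [ht, Subgroup.mem_normalizer_iff]
      intro u
      have h1 := Subgroup.mem_normalizer_iff.1 hy (g * u * g⁻¹)
      have e : y * (g * u * g⁻¹) * y⁻¹ =
          g * (g⁻¹ * y * g * u * (g⁻¹ * y * g)⁻¹) * g⁻¹ := by group
      rw [e] at h1
      exact (hmemS u).symm.trans (h1.trans (hmemS _))
    obtain ⟨S', hS', D, d, u, hD, hu, rfl⟩ := normalizer_decomp (p := p) hm1 htN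
    set L : Subgroup Sp := ((Subgroup.closure
      ((Subgroup.centralizer ((S : Subgroup (PSp m F)) : Set (PSp m F)) : Set (PSp m F)) ∪
        ((S : Subgroup (PSp m F)) : Set (PSp m F)) ∪ SimpleCriterion.localSet S)).comap cg).comap π
    suffices hL : symM S' hS' * glM D * glS u ∈ L by
      have h1 : cg (π (symM S' hS' * glM D * glS u)) ∈ Subgroup.closure _ := hL
      rw [ht] at h1
      simpa [hcg, mul_assoc] using h1
    have hUL : U ≤ L := fun B hB =>
      Subgroup.subset_closure (Or.inl (Or.inr ((hmemS _).2 (Subgroup.mem_map_of_mem π hB))))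
    refine mul_mem (mul_mem (hUL (symM_mem _ _)) ?_) (hUL (glS_mem hu))
    have hlocal : ∀ (R : Subgroup Sp) (h : Sp), R ≤ U →
        (∀ v ∈ U, ∀ r ∈ R, v * r * v⁻¹ ∈ R) →
        Subgroup.centralizer ((R.map π : Subgroup (PSp m F)) : Set (PSp m F)) ≤ R.map π →
        (∀ v ∈ U, h * v * h⁻¹ ∈ U) →
        h ∈ Subgroup.closure {x : Sp | (∀ r ∈ R, x * r * x⁻¹ ∈ R) ∧ ∃ k : ℕ, x ^ p ^ k = 1} →
        h ∈ L := by
      intro R h hRU hRn hRc hhU hh
      refine Subgroup.subset_closure (Or.inr
        ⟨mem_normalizer_of_forall fun v hv => ?_, (R.map π).map cg, ?_, ?_, ?_, ?_⟩)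
      · obtain ⟨B, hB, hBv⟩ := (hg v).1 hv
        have hv' : v = g * π B * g⁻¹ := by rw [hBv]; group
        rw [hv']
        simp only [MulEquiv.coe_toMonoidHom, hcg, MulAut.conj_apply]
        rw [show ∀ A : PSp m F, g * A * g⁻¹ * (g * π B * g⁻¹) * (g * A * g⁻¹)⁻¹ =
          g * (A * π B * A⁻¹) * g⁻¹ from fun A => by group, hmemS, ← map_inv, ← map_mul, ← map_mul]
        exact Subgroup.mem_map_of_mem π (hhU B hB)
      · rintro _ ⟨v, ⟨r, hr, rfl⟩, rfl⟩
        exact (hmemS _).2 (Subgroup.mem_map_of_mem π (hRU hr))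
      · intro v hv
        obtain ⟨B, hB, hBv⟩ := (hg v).1 hv
        have hv' : v = cg (π B) := by rw [hBv]; simp [hcg, mul_assoc]
        rw [hv']
        refine Subgroup.le_normalizer_map cg (Subgroup.mem_map_of_mem cg
          (mem_normalizer_of_forall ?_))
        rintro _ ⟨r, hr, rfl⟩
        exact ⟨_, hRn B hB r hr, by simp⟩
      · intro v hv
        refine ⟨g⁻¹ * v * g, hRc fun r hr => ?_, by simp [hcg, mul_assoc]⟩
        have h1 : g * r * g⁻¹ * v = v * (g * r * g⁻¹) := hv _ ⟨r, hr, by simp [hcg]⟩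
        calc r * (g⁻¹ * v * g) = g⁻¹ * (g * r * g⁻¹ * v) * g := by group
          _ = g⁻¹ * (v * (g * r * g⁻¹)) * g := by rw [h1]
          _ = g⁻¹ * v * g * r := by group
      · refine (Subgroup.closure_le (K := ((Subgroup.closure _).comap cg).comap π)).2 ?_ hh
        rintro x ⟨hx, k, hk⟩
        refine Subgroup.subset_closure
          ⟨Subgroup.le_normalizer_map cg (Subgroup.mem_map_of_mem cg (mem_normalizer_of_forall ?_)), ?_⟩
        · rintro _ ⟨r, hr, rfl⟩
          exact ⟨_, hx r hr, by simp⟩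
        · have h1 : (cg (π x)) ^ p ^ k = 1 := by rw [← map_pow, ← map_pow, hk, map_one, map_one]
          obtain ⟨j, -, hj⟩ :=
            (Nat.dvd_prime_pow (Fact.out : p.Prime)).1 (orderOf_dvd_of_pow_eq_one h1)
          exact ⟨j, hj⟩
    have hUfix : ∀ v ∈ U, ∀ r ∈ (pointRad hm1 : Subgroup Sp),
        v * r * v⁻¹ ∈ (pointRad hm1 : Subgroup Sp) := fun v hv =>
      conj_pointRad hm1 one_ne_zero (by rw [upper_fixes hm1 hv, one_smul])
    set k1 : Fin m := ⟨1, by omega⟩ with hk1
    have hne : ∀ i, d i ≠ 0 := fun i h => by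
      have hu' := (Matrix.isUnit_iff_isUnit_det _).1 D.isUnit
      rw [hD, det_diagonal, Finset.prod_eq_zero (Finset.mem_univ i) h] at hu'
      exact not_isUnit_zero hu'
    let r : Fˣ := Units.mk0 (∏ i, d i) (Finset.prod_ne_zero_iff.2 fun i _ => hne i)
    let Dr : GL (Fin m) F := Matrix.GeneralLinearGroup.mkOfDetNeZero
      (diagonal fun l => if l = k1 then (r : F) else 1) (by
        rw [det_diagonal]
        refine Finset.prod_ne_zero_iff.2 fun i _ => ?_
        split_ifs <;> simp)
    let d' : Fin m → F := fun l => d l * if l = k1 then (r : F)⁻¹ else 1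
    have hd' : (diagonal d').det = 1 := by
      rw [det_diagonal, Finset.prod_mul_distrib, Finset.prod_ite_eq' Finset.univ k1]
      simp only [Finset.mem_univ, if_true]
      exact mul_inv_cancel₀ r.ne_zero
    let D' : Matrix.SpecialLinearGroup (Fin m) F := ⟨diagonal d', hd'⟩
    have hsplit : D = Matrix.SpecialLinearGroup.toGL D' * Dr := by
      refine Units.ext ?_
      rw [Units.val_mul, hD, toGL_coe]
      show diagonal d = diagonal d' * diagonal _
      rw [diagonal_mul_diagonal]
      congr 1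
      funext l
      simp only [d']
      split_ifs <;> simp
    rw [hsplit, map_mul]
    refine mul_mem ?_ ?_
    · exact hlocal siegel (glS D') siegel_le (fun v hv => upper_normalizes_siegel hv)
        (centralizer_siegel (p := p) hm1) (fun v hv => diag_normalizes _ d'
          (toGL_coe D') hv) (glS_closure D')
    · exact hlocal (pointRad hm1) (glM Dr) (pointRad_le hm1) hUfix
        (centralizer_pointRad (p := p) hm1) (fun v hv => diag_normalizes _ _ rfl hv)
        (glM_diag_closure hm1 (by simp [hk1]) r Dr rfl)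

end Cfsg.Agent.Fusion.SimplePSp
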