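/-
Groups without subgroups of index two and with quasi-dihedral or wreathed Sylow 2-subgroups have
simple 2-fusion systems.
-/
import Mathlib
import Cfsg.Agent.S3116
import Cfsg.Agent.Lib.Involutions.CentralizerInvolution
import Cfsg.Agent.Lib.Fusion.TwoGroupAut
import Cfsg.Agent.Lib.Fusion.Subsystems
import Cfsg.Agent.Lib.Fusion.Normal
import Cfsg.Agent.Lib.Fusion.Group

set_option autoImplicit false
set_option linter.unusedSectionVars false

namespace Cfsg.Agent.Fusion.SimpleTwoRankTwo

open Cfsg Cfsg.FusionSystem Cfsg.Agent.Fusion.Basic Cfsg.Agent.Fusion.Saturation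
  Cfsg.Agent.Involutions

variable {G : Type*} [Group G] [Finite G] {S : Sylow 2 G}

/-- A subgroup strongly closed in the fusion system is closed under conjugation within `S`. -/
theorem closed_conj {T : Subgroup G} (hT : (groupFusionSystem (S : Subgroup G)).StronglyClosed T)
    {g t : G} (ht : t ∈ T) (hgt : g * t * g⁻¹ ∈ (S : Subgroup G)) : g * t * g⁻¹ ∈ T := by
  refine Normal.stronglyClosed_mem hT (R := Subgroup.zpowers t) (f := cj g)
    (Group.isMap_group_iff.2 ⟨Subgroup.zpowers_le.2 (hT.1 ht), ?_, g, fun _ _ => rfl⟩)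
    (Subgroup.mem_zpowers t) ht
  rintro _ ⟨j, rfl⟩
  show g * t ^ j * g⁻¹ ∈ _
  rw [← conj_zpow]
  exact Subgroup.zpow_mem _ hgt j

theorem mem_of_isConj {T : Subgroup G} (hT : (groupFusionSystem (S : Subgroup G)).StronglyClosed T)
    {t u : G} (ht : t ∈ T) (hu : u ∈ (S : Subgroup G)) (h : _root_.IsConj t u) : u ∈ T := by
  obtain ⟨g, rfl⟩ := isConj_iff.1 h
  exact closed_conj hT ht hu

theorem exists_involution {T : Subgroup G} (hT : T ≤ S) (hT1 : T ≠ ⊥) :
    ∃ t ∈ T, orderOf t = 2 := by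
  have : Fact (Nat.Prime 2) := ⟨Nat.prime_two⟩
  have : Nontrivial T := (Subgroup.nontrivial_iff_ne_bot T).2 hT1
  obtain ⟨j, hj, hcard⟩ := (S.2.to_le hT).nontrivial_iff_card.1 inferInstance
  obtain ⟨w, hw⟩ := exists_prime_orderOf_dvd_card' (G := T) 2 (hcard ▸ dvd_pow_self 2 (by omega))
  exact ⟨w, w.2, by rw [Subgroup.orderOf_coe, hw]⟩

section QD

variable (D : QuasiDihedral.Gens (S : Subgroup G))

include D in
theorem qd_closed (hG : ∀ H : Subgroup G, H.index ≠ 2) {T : Subgroup G}
    (hT : (groupFusionSystem (S : Subgroup G)).StronglyClosed T) (hT1 : T ≠ ⊥) : T = S := by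
  obtain ⟨t, htT, ht⟩ := exists_involution hT.1 hT1
  let T' := T.subgroupOf (S : Subgroup G)
  have hinv : ∀ s : (S : Subgroup G), orderOf s = 2 → s ∈ T' := fun s hs => by
    rw [← Subgroup.orderOf_coe] at hs
    exact mem_of_isConj hT htT s.2 ((CentralizerInvolution.qd_one_class D hG ht).trans
      (CentralizerInvolution.qd_one_class D hG hs).symm)
  have hq : ∀ i, Even i → D.q i ∈ T' := fun i hi => hinv _ (D.orderOf_q_even hi)
  have hP : ∀ i, Even i → D.P i ∈ T' := fun i hi => by
    have := T'.mul_mem (hq 0 ⟨0, by simp⟩) (hq (D.r * i) (D.even_r_mul_iff.2 hi))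
    rwa [D.q_mul_q, zero_add, ← mul_assoc, D.r_mul_r, one_mul] at this
  obtain ⟨i, hi, hc⟩ : ∃ i, ¬ Even i ∧ _root_.IsConj (D.q i : G) (D.P D.c : G) := by
    have h1 := (CentralizerInvolution.qd_not_fix D hG).2
    simp only [QuasiDihedralClasses.QFix, not_forall, not_not] at h1
    obtain ⟨i, hi, hc⟩ := h1
    exact ⟨i, hi, hc⟩
  have hqi : D.q i ∈ T' := mem_of_isConj hT (hP D.c D.even_c) (D.q i).2 hc.symm
  have hPi : D.P i ∈ T' := by
    have := T'.mul_mem hqi (hq 0 ⟨0, by simp⟩)
    rwa [D.q_mul_q, mul_zero, add_zero] at this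
  have hPall : ∀ j, D.P j ∈ T' := fun j => by
    rcases QuasiDihedral.even_or_even_sub_one j with hj | hj
    · exact hP j hj
    · have h1 : Even (j - i) := by
        rcases QuasiDihedral.even_or_even_sub_one i with h | h
        · exact absurd h hi
        · rw [show j - i = (j - 1) - (i - 1) by ring]
          exact hj.sub h
      have := T'.mul_mem (hP _ h1) hPi
      rwa [← D.P_add, sub_add_cancel] at this
  refine le_antisymm hT.1 fun s hs => ?_
  have hmem : (⟨s, hs⟩ : (S : Subgroup G)) ∈ T' := by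
    rcases D.forms ⟨s, hs⟩ with ⟨j, hj⟩ | ⟨j, hj⟩
    · rw [hj]; exact hPall j
    · rw [hj, show D.q j = D.P j * D.q 0 by rw [D.P_mul_q, add_zero]]
      exact T'.mul_mem (hPall j) (hq 0 ⟨0, by simp⟩)
  exact hmem

end QD

section Wreathed

variable (D : Wreathed.Gens (S : Subgroup G))

include D in
theorem w_closed (hG : ∀ H : Subgroup G, H.index ≠ 2) {T : Subgroup G}
    (hT : (groupFusionSystem (S : Subgroup G)).StronglyClosed T) (hT1 : T ≠ ⊥) : T = S := by
  obtain ⟨hU, hX⟩ := CentralizerInvolution.w_moves D hG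
  obtain ⟨t, htT, ht⟩ := exists_involution hT.1 hT1
  let T' := T.subgroupOf (S : Subgroup G)
  have hclass : ∀ u : G, orderOf u = 2 → _root_.IsConj u (WreathedFusion.ι D) := fun u hu => by
    rcases WreathedClasses.inv_cases D hu with h | h | h
    exacts [h, h.trans (WreathedClasses.isConj_ι_e D hU).symm,
      h.trans ((WreathedClasses.isConj_ι_e D hU).trans (WreathedClasses.isConj_e_w D hX)).symm]
  have hinv : ∀ s : (S : Subgroup G), orderOf s = 2 → s ∈ T' := fun s hs => by
    rw [← Subgroup.orderOf_coe] at hs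
    exact mem_of_isConj hT htT s.2 ((hclass t ht).trans (hclass s hs).symm)
  have hz : D.w 0 0 ∈ T' := hinv _ (by simpa using D.orderOf_w_neg 0)
  have hv : D.U 1 (-1) ∈ T' := by
    have := T'.mul_mem (hinv _ (D.orderOf_w_neg 1)) hz
    rwa [D.w_mul_w, add_zero, add_zero] at this
  obtain ⟨n, hn, hne⟩ := hU
  have hnv : n * ((D.U 1 (-1) : (S : Subgroup G)) : G) * n⁻¹ ∈ WreathedFusion.baseG D :=
    (Subgroup.mem_normalizer_iff.1 hn _).1 ((WreathedFusion.mem_baseG D).2 (D.U_mem_base 1 (-1)))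
  obtain ⟨_, ⟨a, b, rfl⟩, hab⟩ := hnv
  simp only [Subgroup.coe_subtype] at hab
  have habT : D.U a b ∈ T' := by
    show ((D.U a b : (S : Subgroup G)) : G) ∈ T
    rw [hab]
    exact closed_conj hT hv (hab ▸ (D.U a b).2)
  -- raise to the power half the exponent
  have hpow : n * WreathedFusion.ι D * n⁻¹ = ((D.U (D.h * a) (D.h * b) : (S : Subgroup G)) : G) := by
    have hcast : (((2 ^ (D.n - 1) : ℕ)) : ZMod (2 ^ D.n)) = D.h := by
      rw [Wreathed.Gens.h]; push_cast; rfl
    have h1 : D.U (D.h * a) (D.h * b) = D.U a b ^ 2 ^ (D.n - 1) := by rw [D.U_pow, hcast]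
    have h2 : D.U D.h D.h = D.U 1 (-1) ^ 2 ^ (D.n - 1) := by
      rw [D.U_pow, hcast, mul_one, mul_neg, mul_one, D.neg_h]
    rw [h1, WreathedFusion.ι, h2, SubgroupClass.coe_pow, SubgroupClass.coe_pow, hab, conj_pow]
  have hne1 : n * WreathedFusion.ι D * n⁻¹ ≠ 1 := fun h =>
    WreathedFusion.ι_ne_one D (conj_eq_one_iff.1 h)
  have hodd : ¬ Even (a + b) := by
    intro he
    by_cases ha : Even a
    · have hb : Even b := by
        have := he.sub ha
        rwa [add_sub_cancel_left] at this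
      refine hne1 (hpow.trans ?_)
      rw [Wreathed.Gens.h, QuasiDihedral.half_mul_even D.n1 ha, QuasiDihedral.half_mul_even D.n1 hb,
        D.U_zero]
      rfl
    · have hb : ¬ Even b := fun hb => ha (by
        have := he.sub hb
        rwa [add_sub_cancel_right] at this)
      refine hne (hpow.trans ?_)
      rw [Wreathed.Gens.h, QuasiDihedral.half_mul_odd D.n1 ha, QuasiDihedral.half_mul_odd D.n1 hb]
      rfl
  have hunit : IsUnit (a + b) := by
    rcases QuasiDihedral.even_or_even_sub_one (a + b) with h | ⟨m, hm⟩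
    · exact absurd h hodd
    · rw [show a + b = 1 + 2 * m by linear_combination hm]
      refine IsNilpotent.isUnit_one_add ⟨D.n, ?_⟩
      rw [mul_pow, QuasiDihedral.two_pow_self, zero_mul]
  have hab0 : D.U (a + b) 0 ∈ T' := by
    have := T'.mul_mem habT (T'.pow_mem hv b.val)
    rwa [D.U_pow, D.U_mul_U, ZMod.natCast_zmod_val, mul_one, mul_neg, mul_one, add_neg_cancel]
      at this
  obtain ⟨u, hu⟩ := hunit
  have hU0 : ∀ i, D.U i 0 ∈ T' := fun i => by
    have := T'.pow_mem hab0 (i * (u⁻¹ : (ZMod (2 ^ D.n))ˣ)).val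
    rwa [D.U_pow, ZMod.natCast_zmod_val, mul_zero, ← hu, mul_assoc, Units.inv_mul, mul_one] at this
  have hU1 : ∀ i, D.U 0 i ∈ T' := fun i => by
    have := T'.mul_mem (T'.mul_mem hz (hU0 i)) hz
    rwa [D.w_mul_U, D.w_mul_w, add_zero, zero_add, zero_add, add_zero] at this
  have hall : ∀ i j, D.U i j ∈ T' := fun i j => by
    have := T'.mul_mem (hU0 i) (hU1 j)
    rwa [D.U_mul_U, add_zero, zero_add] at this
  refine le_antisymm hT.1 fun s hs => ?_
  have hmem : (⟨s, hs⟩ : (S : Subgroup G)) ∈ T' := by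
    rcases D.forms ⟨s, hs⟩ with ⟨i, j, h⟩ | ⟨i, j, h⟩
    · rw [h]; exact hall i j
    · rw [h, show D.w i j = D.U i j * D.w 0 0 by rw [D.U_mul_w, add_zero, add_zero]]
      exact T'.mul_mem (hall i j) hz
  exact hmem

end Wreathed

/-- The 2-fusion system is simple. -/
theorem isSimple (S : Sylow 2 G)
    (hS : IsQuasiDihedral (S : Subgroup G) ∨ IsWreathed (S : Subgroup G))
    (hG : ∀ H : Subgroup G, H.index ≠ 2) :
    (groupFusionSystem (S : Subgroup G)).IsSimple 2 := by
  have : Fact (Nat.Prime 2) := ⟨Nat.prime_two⟩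
  have hsat := Group.group_saturated S
  have hS1 : (S : Subgroup G) ≠ ⊥ := by
    intro h
    have h2 : Nat.card (S : Subgroup G) = 1 := by rw [h, Subgroup.card_bot]
    rcases hS with ⟨n, -, hc, -⟩ | ⟨n, -, hc, -⟩ <;>
      · rw [h2] at hc
        exact absurd hc (Nat.one_lt_two_pow (by omega)).ne
  have hA : IsPGroup 2 (MulAut (S : Subgroup G)) := by
    rcases hS with hS | hS
    · exact S3116.result S.2 (Or.inr hS)
    · obtain ⟨D⟩ := Wreathed.exists_gens hS
      exact (WreathedFusion.top_aut D).of_equiv (MulAut.congr Subgroup.topEquiv)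
  refine Subsystems.simple_of_no_stronglyClosed hsat hS1
    (TwoGroupAut.autGroup_eq_inn S.2 hsat hA) fun T hT => or_iff_not_imp_left.2 fun hT1 => ?_
  rcases hS with hS | hS
  · obtain ⟨D⟩ := QuasiDihedral.exists_gens hS
    exact qd_closed D hG hT hT1
  · obtain ⟨D⟩ := Wreathed.exists_gens hS
    exact w_closed D hG hT hT1

/-- Simple groups with quasi-dihedral or wreathed Sylow 2-subgroups have simple 2-fusion systems. -/
theorem isSimple_of_isSimpleGroup [IsSimpleGroup G] (S : Sylow 2 G)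
    (hS : IsQuasiDihedral (S : Subgroup G) ∨ IsWreathed (S : Subgroup G)) :
    (groupFusionSystem (S : Subgroup G)).IsSimple 2 := by
  refine isSimple S hS fun H hH => ?_
  rcases (Subgroup.normal_of_index_eq_two hH).eq_bot_or_eq_top with h | h
  · rw [h, Subgroup.index_bot] at hH
    have := (S : Subgroup G).card_subgroup_dvd_card
    rw [hH] at this
    have := Nat.le_of_dvd two_pos this
    rcases hS with ⟨n, hn, hc, -⟩ | ⟨n, hn, hc, -⟩
    · rw [hc] at this
      have := Nat.pow_le_pow_right two_pos (show 2 ≤ n + 1 by omega)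
      omega
    · rw [hc] at this
      have := Nat.pow_le_pow_right two_pos (show 2 ≤ 2 * n + 1 by omega)
      omega
  · rw [h, Subgroup.index_top] at hH
    omega

end Cfsg.Agent.Fusion.SimpleTwoRankTwo
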