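/-
Sylow 2-subgroups of `PSL₃` and `PSU₃` in odd characteristic are quasi-dihedral or wreathed.
-/
import Mathlib
import Cfsg.Agent.S1219
import Cfsg.Agent.Lib.Involutions.SylowGLTwo
import Cfsg.Agent.Lib.Involutions.SylowGUTwo
import Cfsg.Agent.Lib.Involutions.CentralizerInvolution
import Cfsg.Agent.Lib.Classical.Linear
import Cfsg.Agent.Lib.Classical.UnitaryFrames
import Cfsg.Agent.Lib.Classical.UnitarySimple

set_option autoImplicit false
set_option linter.unusedSectionVars false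

namespace Cfsg.Agent.Fusion.SylowTwoRankTwo

open scoped MatrixGroups
open Matrix Cfsg Cfsg.Agent.Involutions Cfsg.Agent.Classical

/-- A homomorphism with kernel of odd exponent and image of odd index preserves Sylow 2-subgroups. -/
theorem sylow_equiv {H G : Type*} [Group H] [Finite H] [Group G] [Finite G] (f : H →* G) {m : ℕ}
    (hm : Odd m) (hker : ∀ x ∈ f.ker, x ^ m = 1) (hrange : ¬ 2 ∣ f.range.index)
    (P : Sylow 2 H) (S : Sylow 2 G) : Nonempty ((P : Subgroup H) ≃* (S : Subgroup G)) := by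
  have : Fact (Nat.Prime 2) := ⟨Nat.prime_two⟩
  have hinj : Function.Injective (f.comp (P : Subgroup H).subtype) := by
    refine (injective_iff_map_eq_one _).2 fun x hx => ?_
    obtain ⟨k, hk⟩ := P.2 x
    have h1 : x ^ m = 1 := Subtype.ext (by rw [SubgroupClass.coe_pow]; exact hker _ hx)
    have h2 := Nat.eq_one_of_dvd_coprimes (Nat.Coprime.pow_left k hm.coprime_two_left)
      (orderOf_dvd_of_pow_eq_one hk) (orderOf_dvd_of_pow_eq_one h1)
    exact orderOf_eq_one_iff.1 h2
  have hidx : ¬ 2 ∣ ((P : Subgroup H).map f).index := by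
    rw [Subgroup.index_map, Nat.prime_two.dvd_mul, not_or]
    exact ⟨fun h => P.not_dvd_index (h.trans (Subgroup.index_dvd_of_le le_sup_left)), hrange⟩
  let Q : Sylow 2 G := (P.2.map f).toSylow hidx
  have he : (f.comp (P : Subgroup H).subtype).range = (Q : Subgroup G) := by
    rw [MonoidHom.range_comp, Subgroup.range_subtype]
    rfl
  obtain ⟨g, hg⟩ := MulAction.exists_smul_eq G Q S
  refine ⟨((MonoidHom.ofInjective hinj).trans (MulEquiv.subgroupCongr he)).trans ?_⟩
  exact (Q.equivSMul g).trans (MulEquiv.subgroupCongr (congrArg Sylow.toSubgroup hg))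

theorem qd_or_wreathed_congr {A B : Type*} [Group A] [Group B] (e : A ≃* B)
    (h : IsQuasiDihedral A ∨ IsWreathed A) : IsQuasiDihedral B ∨ IsWreathed B := by
  rcases h with h | h
  · obtain ⟨D⟩ := QuasiDihedral.exists_gens h
    let D' := CentralizerInvolution.mapQ D e
    exact Or.inl ⟨D'.n, D'.hn, D'.hcard, D'.x, D'.y, D'.hx, D'.hy, D'.hxy⟩
  · obtain ⟨D⟩ := Wreathed.exists_gens h
    let D' := CentralizerInvolution.mapW D e
    exact Or.inr ⟨D'.n, D'.hn, D'.hcard, D'.x, D'.y, D'.z, D'.hx, D'.hxy, D'.hdis, D'.hz, D'.hzx⟩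

variable {F : Type*} [Field F] [Fintype F]

/-- The Sylow 2-subgroups of `PSL₃(q)` and `GL₂(q)` are isomorphic. -/
theorem sylow_PSL_equiv (hodd : Odd (Fintype.card F))
    (S : Sylow 2 (Matrix.ProjectiveSpecialLinearGroup (Fin 3) F)) :
    ∀ P : Sylow 2 (GL (Fin 2) F), Nonempty ((P : Subgroup (GL (Fin 2) F)) ≃*
      (S : Subgroup (Matrix.ProjectiveSpecialLinearGroup (Fin 3) F))) := by
  have : Fact (Nat.Prime 2) := ⟨Nat.prime_two⟩
  have hne : (-1 : F) ≠ 1 := by
    intro h
    have h2 : ringChar F = 2 := by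
      refine (Nat.prime_two.eq_one_or_self_of_dvd _ (ringChar.dvd ?_)).resolve_left
        CharP.ringChar_ne_one
      push_cast
      linear_combination -h
    have := FiniteField.even_card_of_char_two h2
    rw [Nat.odd_iff] at hodd
    omega
  -- the order is even
  let d : SL(3, F) := ⟨diagonal ![-1, -1, 1], by simp [Fin.prod_univ_three]⟩
  have hd2 : (QuotientGroup.mk d : Matrix.ProjectiveSpecialLinearGroup (Fin 3) F) ^ 2 = 1 := by
    rw [← QuotientGroup.mk_pow, show d ^ 2 = 1 from Subtype.ext (by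
      rw [Matrix.SpecialLinearGroup.coe_pow, sq]
      ext i j
      fin_cases i <;> fin_cases j <;> simp [d, Matrix.mul_apply, Fin.sum_univ_three])]
    rfl
  have hd1 : (QuotientGroup.mk d : Matrix.ProjectiveSpecialLinearGroup (Fin 3) F) ≠ 1 := by
    intro h
    rw [QuotientGroup.eq_one_iff, Matrix.SpecialLinearGroup.mem_center_iff] at h
    obtain ⟨r, -, hr⟩ := h
    have h0 := congrFun (congrFun hr 0) 0
    have h2 := congrFun (congrFun hr 2) 2
    simp [d] at h0 h2
    exact hne (by rw [← h0, h2])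
  have hS1 : (S : Subgroup (Matrix.ProjectiveSpecialLinearGroup (Fin 3) F)) ≠ ⊥ := by
    intro h
    refine S.not_dvd_index ?_
    rw [h, Subgroup.index_bot, ← orderOf_eq_prime hd2 hd1]
    exact orderOf_dvd_natCard _
  -- a central involution
  obtain ⟨t, htS, ht, htc⟩ : ∃ t ∈ (S : Subgroup _), orderOf t = 2 ∧
      ∀ s ∈ (S : Subgroup (Matrix.ProjectiveSpecialLinearGroup (Fin 3) F)), s * t = t * s := by
    have : Nontrivial (S : Subgroup (Matrix.ProjectiveSpecialLinearGroup (Fin 3) F)) :=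
      (Subgroup.nontrivial_iff_ne_bot _).2 hS1
    have hc := S.2.center_nontrivial
    obtain ⟨j, hj, hcard⟩ := (S.2.to_subgroup (Subgroup.center _)).nontrivial_iff_card.1 hc
    obtain ⟨w, hw⟩ := exists_prime_orderOf_dvd_card'
      (G := Subgroup.center (S : Subgroup (Matrix.ProjectiveSpecialLinearGroup (Fin 3) F))) 2
      (hcard ▸ dvd_pow_self 2 (by omega))
    exact ⟨_, w.1.2, by rw [Subgroup.orderOf_coe, Subgroup.orderOf_coe, hw],
      fun s hs => congrArg Subtype.val (Subgroup.mem_center_iff.1 w.2 ⟨s, hs⟩)⟩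
  obtain ⟨Z, hZn, -, hZcard, ⟨e⟩⟩ := S1219.result hodd t ht
  let f : GL (Fin 2) F →* Matrix.ProjectiveSpecialLinearGroup (Fin 3) F :=
    ((Subgroup.centralizer {t}).subtype.comp e.symm.toMonoidHom).comp (QuotientGroup.mk' Z)
  have hm : Odd (Nat.card Z) := by
    rw [hZcard]
    exact Odd.of_dvd_nat (by decide : Odd 3) (Nat.gcd_dvd_right _ _)
  have hker : ∀ x ∈ f.ker, x ^ Nat.card Z = 1 := by
    intro x hx
    have h1 : e.symm (QuotientGroup.mk' Z x) = 1 := Subtype.ext hx
    rw [map_eq_one_iff _ e.symm.injective, QuotientGroup.mk'_apply, QuotientGroup.eq_one_iff] at h1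
    exact congrArg Subtype.val (pow_card_eq_one' (x := (⟨x, h1⟩ : Z)))
  have hrange : f.range = Subgroup.centralizer {t} := by
    ext x
    refine ⟨fun ⟨y, hy⟩ => hy ▸ (e.symm (QuotientGroup.mk' Z y)).2, fun hx => ?_⟩
    obtain ⟨y, hy⟩ := QuotientGroup.mk'_surjective Z (e ⟨x, hx⟩)
    refine ⟨y, ?_⟩
    show ((e.symm (QuotientGroup.mk' Z y) : Subgroup.centralizer {t}) : _) = x
    rw [hy, e.symm_apply_apply]
  have hidx : ¬ 2 ∣ f.range.index := by
    rw [hrange]
    exact fun h => S.not_dvd_index (h.trans (Subgroup.index_dvd_of_le fun s hs =>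
      Subgroup.mem_centralizer_singleton_iff.2 (htc s hs)))
  exact fun P => sylow_equiv f hm hker hidx P S

theorem sylow_PSL (hodd : Odd (Fintype.card F))
    (S : Sylow 2 (Matrix.ProjectiveSpecialLinearGroup (Fin 3) F)) :
    IsQuasiDihedral (S : Subgroup (Matrix.ProjectiveSpecialLinearGroup (Fin 3) F)) ∨
      IsWreathed (S : Subgroup (Matrix.ProjectiveSpecialLinearGroup (Fin 3) F)) := by
  obtain ⟨P⟩ := (inferInstance : Nonempty (Sylow 2 (GL (Fin 2) F)))
  obtain ⟨e'⟩ := sylow_PSL_equiv hodd S P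
  refine qd_or_wreathed_congr e' ?_
  rcases Nat.odd_mod_four_iff.1 (Nat.odd_iff.1 hodd) with h | h
  · exact Or.inr (SylowGLTwo.isWreathed_GL h P)
  · exact Or.inl (SylowGLTwo.isQuasiDihedral_GL h P)

theorem blockMat_mulVec (A : GL (Fin 2) F) (u : Fin 3 → F) :
    S1219.blockMat A *ᵥ u = ![((A : Matrix (Fin 2) (Fin 2) F) *ᵥ ![u 0, u 1]) 0,
      ((A : Matrix (Fin 2) (Fin 2) F) *ᵥ ![u 0, u 1]) 1,
      (A : Matrix (Fin 2) (Fin 2) F).det⁻¹ * u 2] := by
  ext i
  fin_cases i <;> simp [S1219.blockMat, Matrix.mulVec, dotProduct, Fin.sum_univ_three,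
    Fin.sum_univ_two]

theorem blockMat_preserves {q : ℕ} (hF : Fintype.card F = q ^ 2) (A : Cfsg.GU 2 F q)
    (u v : Fin 3 → F) :
    Cfsg.hermForm 3 F q (S1219.blockMat A.1 *ᵥ u) (S1219.blockMat A.1 *ᵥ v) =
      Cfsg.hermForm 3 F q u v := by
  have h := Unitary.GU_H A ![u 0, u 1] ![v 0, v 1]
  have hd : (Unitary.gmat A).det ^ (q + 1) = 1 := Forms.HermStd.det_norm hF _ A.2
  rw [blockMat_mulVec, blockMat_mulVec]
  simp only [Cfsg.hermForm, Fin.sum_univ_three, Fin.sum_univ_two, Matrix.cons_val_zero,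
    Matrix.cons_val_one, Matrix.cons_val_two, Matrix.tail_cons, Matrix.head_cons] at h ⊢
  rw [h]
  have h0 : (A.1 : Matrix (Fin 2) (Fin 2) F).det ≠ 0 := fun e => by
    rw [show (Unitary.gmat A).det = (A.1 : Matrix (Fin 2) (Fin 2) F).det from rfl, e,
      zero_pow (by omega)] at hd
    exact zero_ne_one hd
  have hdi : ((A.1 : Matrix (Fin 2) (Fin 2) F).det⁻¹) ^ (q + 1) = 1 := by
    rw [inv_pow]; exact inv_eq_one.2 hd
  rw [mul_pow]
  linear_combination u 2 * v 2 ^ q * hdi

theorem sylow_PSU {q : ℕ} (hF : Fintype.card F = q ^ 2) (hodd : Odd q)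
    (S : Sylow 2 (Cfsg.PSU 3 F q)) :
    IsQuasiDihedral (S : Subgroup (Cfsg.PSU 3 F q)) ∨ IsWreathed (S : Subgroup (Cfsg.PSU 3 F q)) := by
  have : Fact (Nat.Prime 2) := ⟨Nat.prime_two⟩
  let g : Cfsg.GU 2 F q →* Cfsg.SU 3 F q :=
    ((S1219.blockHom F).comp (Cfsg.GU 2 F q).subtype).codRestrict _ fun A => blockMat_preserves hF A
  let f : Cfsg.GU 2 F q →* Cfsg.PSU 3 F q :=
    (QuotientGroup.mk' (Subgroup.center (Cfsg.SU 3 F q))).comp g
  have hker : ∀ x ∈ f.ker, x ^ 3 = 1 := by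
    intro A hA
    rw [MonoidHom.mem_ker, MonoidHom.comp_apply, QuotientGroup.mk'_apply,
      QuotientGroup.eq_one_iff, Unitary.mem_center_iff hF (by omega)] at hA
    obtain ⟨a, ha⟩ := hA
    have ha' : S1219.blockMat A.1 = a • (1 : Matrix (Fin 3) (Fin 3) F) := ha
    have hA1 : (A.1 : Matrix (Fin 2) (Fin 2) F) = a • 1 := by
      ext i j
      fin_cases i <;> fin_cases j
      · simpa [S1219.blockMat] using congrFun (congrFun ha' 0) 0
      · simpa [S1219.blockMat] using congrFun (congrFun ha' 0) 1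
      · simpa [S1219.blockMat] using congrFun (congrFun ha' 1) 0
      · simpa [S1219.blockMat] using congrFun (congrFun ha' 1) 1
    have hd : (A.1 : Matrix (Fin 2) (Fin 2) F).det⁻¹ = a := by
      simpa [S1219.blockMat] using congrFun (congrFun ha' 2) 2
    have hd0 : (A.1 : Matrix (Fin 2) (Fin 2) F).det ≠ 0 :=
      (Matrix.GeneralLinearGroup.det A.1).ne_zero
    rw [hA1, Matrix.det_smul, Fintype.card_fin, Matrix.det_one, mul_one] at hd hd0
    have ha3 : a ^ 3 = 1 := by
      have := mul_inv_cancel₀ hd0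
      rw [hd] at this
      linear_combination this
    refine Subtype.ext (Units.ext ?_)
    rw [SubgroupClass.coe_pow, Units.val_pow_eq_pow_val, hA1, smul_pow, ha3, one_pow, one_smul]
    rfl
  have hidx : ¬ 2 ∣ f.range.index := by
    obtain ⟨k, hk⟩ : ∃ k, q = 2 * k + 1 := hodd
    have hkodd : Odd (Nat.card f.ker) := by
      rw [Nat.odd_iff]
      by_contra hc
      obtain ⟨w, hw⟩ := exists_prime_orderOf_dvd_card' (G := f.ker) 2 (by omega)
      have h3 : w ^ 3 = 1 := Subtype.ext (hker _ w.2)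
      have h4 := orderOf_dvd_of_pow_eq_one h3
      rw [hw] at h4
      omega
    have h1 : Nat.card f.ker * Nat.card f.range = Nat.card (Cfsg.GU 2 F q) := by
      rw [← Subgroup.index_ker, Subgroup.card_mul_index]
    rw [SylowGUTwo.natCard_GU_two hF] at h1
    have h2 := Subgroup.card_mul_index f.range
    have h3 := Unitary.natCard_PSU_mul hF (n := 3) (by omega)
    rw [Unitary.natCard_GU hF] at h3
    simp only [Finset.prod_range_succ, Finset.prod_range_zero, one_mul, Nat.even_iff,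
      Nat.reduceMod, Nat.reduceAdd, Nat.reduceMul, Nat.reduceSub, Nat.reduceDiv, if_true,
      one_ne_zero, if_false] at h3
    intro hdvd
    -- compare with the odd number `q ^ 2 * (q ^ 2 - q + 1)`
    have hq1 : 1 ≤ q := by omega
    have hq2 : 1 ≤ q ^ 2 := Nat.one_le_pow _ _ hq1
    have hO : Odd (q ^ 2 * (q ^ 2 - q + 1)) := by
      have : q ≤ q ^ 2 := Nat.le_self_pow two_ne_zero q
      refine Odd.mul (Odd.pow ⟨k, hk⟩) ?_
      have e : q ^ 2 - q = 2 * (k * (2 * k + 1)) := by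
        rw [Nat.sub_eq_iff_eq_add this, hk]; ring
      exact ⟨k * (2 * k + 1), by rw [e]⟩
    have hcube : q ^ 3 + 1 = (q + 1) * (q ^ 2 - q + 1) := by
      have : q ≤ q ^ 2 := Nat.le_self_pow two_ne_zero q
      zify [this]
      ring
    have hsq : q ^ 2 - 1 = (q - 1) * (q + 1) := by
      zify [hq1, hq2]
      ring
    have key : Nat.gcd 3 (q + 1) * Nat.card (Cfsg.PSU 3 F q) =
        Nat.card f.ker * Nat.card f.range * (q ^ 2 * (q ^ 2 - q + 1)) := by
      rw [h1]
      refine Nat.eq_of_mul_eq_mul_left (show 0 < q + 1 by omega) ?_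
      calc (q + 1) * (Nat.gcd 3 (q + 1) * Nat.card (Cfsg.PSU 3 F q))
          = Nat.gcd 3 (q + 1) * ((q + 1) * Nat.card (Cfsg.PSU 3 F q)) := by ring
        _ = q ^ 3 * ((q + 1) * (q ^ 2 - 1) * (q ^ 3 + 1)) := by rw [h3, pow_one]
        _ = _ := by rw [hcube, hsq]; ring
    rw [← h2] at key
    have h5 : Nat.gcd 3 (q + 1) * f.range.index = Nat.card f.ker * (q ^ 2 * (q ^ 2 - q + 1)) := by
      refine Nat.eq_of_mul_eq_mul_left (Nat.card_pos (α := f.range)) ?_
      linear_combination key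
    have h6 : Odd (Nat.gcd 3 (q + 1) * f.range.index) := h5 ▸ hkodd.mul hO
    exact Nat.not_even_iff_odd.2 (Nat.odd_mul.1 h6).2 (even_iff_two_dvd.2 hdvd)
  obtain ⟨P⟩ := (inferInstance : Nonempty (Sylow 2 (Cfsg.GU 2 F q)))
  obtain ⟨e'⟩ := sylow_equiv f (by decide : Odd 3) hker hidx P S
  refine qd_or_wreathed_congr e' ?_
  rcases Nat.odd_mod_four_iff.1 (Nat.odd_iff.1 hodd) with h | h
  · exact Or.inl (SylowGUTwo.isQuasiDihedral_GU hF h P)
  · exact Or.inr (SylowGUTwo.isWreathed_GU hF h P)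

end Cfsg.Agent.Fusion.SylowTwoRankTwo
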