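/-
Restrictions on the isomorphism type of essential subgroups: invariant series with small steps,
abelian subgroups of rank two.
-/
import Mathlib
import Cfsg.Agent.Lib.Fusion.Normal
import Cfsg.Agent.Solvable.Basics

set_option autoImplicit false
set_option linter.all false

namespace Cfsg.Agent.Fusion.EssentialShape

open Subgroup

section Series

variable {H : Type*} [Group H] [Finite H] {p : ℕ} [hp : Fact p.Prime]

/-- A permutation of `p`-power order of at most `p` points with a fixed point is trivial. -/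
theorem perm_eq_one {X : Type*} [Finite X] (hX : Nat.card X ≤ p) (σ : Equiv.Perm X) {x0 : X}
    (h0 : σ x0 = x0) {k : ℕ} (hσ : σ ^ p ^ k = 1) : σ = 1 := by
  classical
  haveI : Fintype X := Fintype.ofFinite X
  have hpg : IsPGroup p (zpowers σ) := by
    obtain ⟨i, -, hi⟩ := (Nat.dvd_prime_pow hp.out).mp (orderOf_dvd_of_pow_eq_one hσ)
    exact IsPGroup.of_card (n := i) (by rw [Nat.card_zpowers, hi])
  have hmod := hpg.card_modEq_card_fixedPoints X
  have hfix : x0 ∈ MulAction.fixedPoints (zpowers σ) X := fun g => by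
    obtain ⟨n, hn⟩ := mem_zpowers_iff.mp g.2
    show (g : Equiv.Perm X) x0 = x0
    rw [← hn]
    exact Equiv.Perm.zpow_apply_eq_self_of_apply_eq_self h0 n
  have hle : Nat.card (MulAction.fixedPoints (zpowers σ) X) ≤ Nat.card X :=
    Nat.card_le_card_of_injective _ Subtype.val_injective
  have hpos : 0 < Nat.card (MulAction.fixedPoints (zpowers σ) X) := by
    haveI : Nonempty (MulAction.fixedPoints (zpowers σ) X) := ⟨⟨x0, hfix⟩⟩
    exact Nat.card_pos
  have heq : Nat.card (MulAction.fixedPoints (zpowers σ) X) = Nat.card X := by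
    by_contra hne
    have hd := (Nat.modEq_iff_dvd' hle).mp hmod.symm
    have := Nat.le_of_dvd (by omega) hd
    omega
  have hall : MulAction.fixedPoints (zpowers σ) X = Set.univ := by
    refine Set.eq_univ_of_forall fun x => ?_
    obtain ⟨⟨y, hy⟩, e⟩ := ((Nat.bijective_iff_injective_and_card (fun z : MulAction.fixedPoints (zpowers σ) X => (z : X))).mpr
      ⟨Subtype.val_injective, heq⟩).2 x
    exact (e : y = x) ▸ hy
  refine Equiv.ext fun x => ?_
  have hx : x ∈ MulAction.fixedPoints (zpowers σ) X := hall ▸ Set.mem_univ x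
  exact hx ⟨σ, mem_zpowers σ⟩

/-- An automorphism of `p`-power order fixes the cosets in a step of index at most `p`. -/
theorem step_fixed {C D : Subgroup H} (hidx : C.relIndex D ≤ p) {α : MulAut H}
    (hαC : ∀ x ∈ C, α x ∈ C) (hαD : ∀ x ∈ D, α x ∈ D) {k : ℕ} (hα : α ^ p ^ k = 1) :
    ∀ x ∈ D, x⁻¹ * α x ∈ C := by
  classical
  have honto : ∀ x, α x ∈ C → x ∈ C := by
    intro x hx
    obtain ⟨y, hy⟩ := Finite.surjective_of_injective
      (f := fun y : C => (⟨α y, hαC y y.2⟩ : C))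
      (fun a b h => Subtype.ext (α.injective (congrArg Subtype.val h))) ⟨α x, hx⟩
    rw [← α.injective (congrArg Subtype.val hy : α (y : H) = α x)]
    exact y.2
  let f : D ⧸ C.subgroupOf D → D ⧸ C.subgroupOf D := Quotient.map' (fun x : D => (⟨α x, hαD x x.2⟩ : D))
    fun a b h => by
      rw [QuotientGroup.leftRel_apply, mem_subgroupOf] at h ⊢
      show (α a)⁻¹ * α b ∈ C
      rw [← map_inv, ← map_mul]
      exact hαC _ h
  have hinj : Function.Injective f := by
    intro a b
    induction a using QuotientGroup.induction_on with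
    | H a =>
      induction b using QuotientGroup.induction_on with
      | H b =>
        intro h
        have h' := QuotientGroup.eq.mp h
        rw [mem_subgroupOf] at h'
        refine QuotientGroup.eq.mpr (mem_subgroupOf.mpr (honto _ ?_))
        show α ((a : H)⁻¹ * b) ∈ C
        rw [map_mul, map_inv]
        exact h'
  let σ : Equiv.Perm (D ⧸ C.subgroupOf D) := Equiv.ofBijective f ⟨hinj, Finite.surjective_of_injective hinj⟩
  have hpowD : ∀ (m : ℕ), ∀ x ∈ D, (α ^ m) x ∈ D := by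
    intro m
    induction m with
    | zero => intro x hx; simpa using hx
    | succ m ih => intro x hx; rw [pow_succ', MulAut.mul_apply]; exact hαD _ (ih x hx)
  have hσpow : ∀ (m : ℕ) (x : D), (σ ^ m) (QuotientGroup.mk x) = QuotientGroup.mk ⟨(α ^ m) x, hpowD m x x.2⟩ := by
    intro m
    induction m with
    | zero => intro x; simp
    | succ m ih =>
      intro x
      rw [pow_succ', Equiv.Perm.mul_apply, ih]
      exact congrArg QuotientGroup.mk (Subtype.ext (by
        show α ((α ^ m) x) = (α ^ (m + 1)) x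
        rw [pow_succ', MulAut.mul_apply]))
  have hone : σ = 1 := by
    refine perm_eq_one (p := p) (x0 := QuotientGroup.mk 1) ?_ σ ?_ (k := k) ?_
    · rw [← index_eq_card]; exact hidx
    · exact congrArg QuotientGroup.mk (Subtype.ext (map_one α))
    · refine Equiv.ext fun a => ?_
      induction a using QuotientGroup.induction_on with
      | H a => rw [hσpow, Equiv.Perm.one_apply]; exact congrArg QuotientGroup.mk (Subtype.ext (show (α ^ p ^ k) (a : H) = a by rw [hα]; rfl))
  intro x hx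
  have h : σ (QuotientGroup.mk ⟨x, hx⟩) = QuotientGroup.mk ⟨x, hx⟩ := by rw [hone]; rfl
  exact mem_subgroupOf.mp (QuotientGroup.eq.mp h.symm)

/-- Elements stabilizing an invariant series lie in the `p`-core. -/
theorem mem_pCore_of_stabilizes (hH : IsPGroup p H) (A : Subgroup (MulAut H)) (C : ℕ → Subgroup H) (n : ℕ)
    (h0 : C 0 = ⊥) (hn : C n = ⊤) (hmono : ∀ i < n, C i ≤ C (i + 1))
    (hinv : ∀ i ≤ n, ∀ a ∈ A, ∀ x ∈ C i, (a : MulAut H) x ∈ C i) {α : A}
    (hα : ∀ i < n, ∀ x ∈ C (i + 1), x⁻¹ * (α : MulAut H) x ∈ C i) : α ∈ Cfsg.pCore p A := by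
  let K : Subgroup A :=
    { carrier := {a | ∀ i < n, ∀ x ∈ C (i + 1), x⁻¹ * (a : MulAut H) x ∈ C i}
      one_mem' := fun i _ x _ => by simp [one_mem]
      mul_mem' := by
        intro a b ha hb i hi x hx
        have h1 : x⁻¹ * ((a * b : A) : MulAut H) x =
            x⁻¹ * (b : MulAut H) x * (((b : MulAut H) x)⁻¹ * (a : MulAut H) ((b : MulAut H) x)) := by
          simp [mul_assoc]
        rw [h1]
        exact (C i).mul_mem (hb i hi x hx) (ha i hi _ (hinv _ (by omega) b b.2 x hx))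
      inv_mem' := by
        intro a ha i hi x hx
        have h1 := ha i hi _ (hinv _ (by omega) (a⁻¹ : A) (a⁻¹ : A).2 x hx)
        rw [coe_inv] at h1 ⊢
        rw [MulAut.apply_inv_self] at h1
        simpa using (C i).inv_mem h1 }
  have hKn : K.Normal := by
    refine ⟨fun b hb a i hi x hx => ?_⟩
    have hy := hinv _ (by omega) (a⁻¹ : A) (a⁻¹ : A).2 x hx
    have h1 := hb i hi _ hy
    have h2 := hinv _ (by omega) a a.2 _ h1
    simpa [map_mul, map_inv, MulAut.apply_inv_self] using h2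
  have hKp : IsPGroup p K := by
    intro a
    obtain ⟨k, hk⟩ := Fusion.Normal.exists_pow_eq_one_of_stabilizes (p := p) hH C n h0 hn hmono
      ((a : A) : MulAut H) a.2
    exact ⟨k, Subtype.ext (Subtype.ext (by simpa using hk))⟩
  exact le_sSup (show K ∈ {N : Subgroup A | N.Normal ∧ IsPGroup p N} from ⟨hKn, hKp⟩) hα

/-- With an invariant series of steps of index at most `p`, every `p`-element lies in the `p`-core. -/
theorem mem_pCore_of_series (hH : IsPGroup p H) (A : Subgroup (MulAut H)) (C : ℕ → Subgroup H) (n : ℕ)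
    (h0 : C 0 = ⊥) (hn : C n = ⊤) (hmono : ∀ i < n, C i ≤ C (i + 1))
    (hinv : ∀ i ≤ n, ∀ a ∈ A, ∀ x ∈ C i, (a : MulAut H) x ∈ C i)
    (hstep : ∀ i < n, (C i).relIndex (C (i + 1)) ≤ p) {α : A} {k : ℕ} (hk : α ^ p ^ k = 1) :
    α ∈ Cfsg.pCore p A := by
  refine mem_pCore_of_stabilizes hH A C n h0 hn hmono hinv fun i hi => ?_
  exact step_fixed (p := p) (hstep i hi) (hinv i hi.le _ α.2) (hinv (i + 1) hi _ α.2) (k := k)
    (by rw [← SubgroupClass.coe_pow, hk]; rfl)

end Series

section Essential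

variable {Ω : Type*} [Group Ω] {S : Subgroup Ω} [Finite S] {F : Cfsg.FusionSystem S} {p : ℕ} [hp : Fact p.Prime]
  {H : Subgroup Ω}

theorem exists_outer (hH : F.IsEssential p H) :
    ∃ (α : F.autGroup H) (k : ℕ), α ^ p ^ k = 1 ∧ (α : MulAut H) ∉ Cfsg.Inn H := by
  classical
  obtain ⟨⟨hHS, -⟩, -, hnorm, Y, hY⟩ := hH
  haveI : Finite H := Fusion.Saturation.finite_of_le hHS
  obtain ⟨q, hq⟩ := exists_prime_orderOf_dvd_card' (G := F.autGroup H ⧸ (Cfsg.Inn H).subgroupOf (F.autGroup H)) p hY.1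
  obtain ⟨a, rfl⟩ := QuotientGroup.mk_surjective q
  obtain ⟨n, hn⟩ : ∃ n, n = orderOf a := ⟨_, rfl⟩
  have hn0 : n ≠ 0 := hn ▸ (orderOf_pos a).ne'
  refine ⟨a ^ ordCompl[p] n, n.factorization p, ?_, fun h => ?_⟩
  · rw [← pow_mul, mul_comm, Nat.ordProj_mul_ordCompl_eq_self, hn, pow_orderOf_eq_one]
  · have h1 : (QuotientGroup.mk a : F.autGroup H ⧸ (Cfsg.Inn H).subgroupOf (F.autGroup H)) ^ ordCompl[p] n = 1 := by
      rw [← QuotientGroup.mk_pow, QuotientGroup.eq_one_iff, mem_subgroupOf]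
      exact h
    have h2 := orderOf_dvd_of_pow_eq_one h1
    rw [hq] at h2
    exact Nat.not_dvd_ordCompl hp.out hn0 h2

theorem mem_inn_of_mem_pCore (hH : F.IsEssential p H) (hS : IsPGroup p S) {α : F.autGroup H}
    (h : α ∈ Cfsg.pCore p (F.autGroup H)) : (α : MulAut H) ∈ Cfsg.Inn H := by
  rw [← (Fusion.Alperin.essential_radical hH hS).2]
  exact ⟨α, h, rfl⟩

/-- An essential subgroup has no invariant series whose steps have index at most `p`. -/
theorem no_series (hH : F.IsEssential p H) (hS : IsPGroup p S) (C : ℕ → Subgroup H) (n : ℕ)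
    (h0 : C 0 = ⊥) (hn : C n = ⊤) (hmono : ∀ i < n, C i ≤ C (i + 1))
    (hinv : ∀ i ≤ n, ∀ a : MulAut H, ∀ x ∈ C i, a x ∈ C i)
    (hstep : ∀ i < n, (C i).relIndex (C (i + 1)) ≤ p) : False := by
  haveI : Finite H := Fusion.Saturation.finite_of_le hH.1.1
  obtain ⟨α, k, hk, hout⟩ := exists_outer hH
  exact hout (mem_inn_of_mem_pCore hH hS (mem_pCore_of_series (hS.to_le hH.1.1) _ C n h0 hn hmono
    (fun i hi a _ => hinv i hi a) hstep hk))

end Essential

section Abelian

variable {H : Type*} [CommGroup H] [Finite H] {p : ℕ} [hp : Fact p.Prime]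

/-- The image of the `p ^ j`-th power map. -/
abbrev powImage (H : Type*) [CommGroup H] (p j : ℕ) : Subgroup H := (powMonoidHom (p ^ j) : H →* H).range

omit [Finite H] hp in
theorem map_range_le {j : ℕ} {T : Subgroup H} (hT : powImage H p 1 ≤ T) :
    powImage H p (j + 1) ≤ T.map (powMonoidHom (p ^ j)) := by
  rintro _ ⟨x, rfl⟩
  exact ⟨x ^ p, hT ⟨x, by simp⟩, by simp [pow_succ', pow_mul]⟩

omit [Finite H] hp in
theorem aut_pow_mem (j : ℕ) {T : Subgroup H} (a : MulAut H) (hT : ∀ x ∈ T, a x ∈ T) :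
    ∀ x ∈ T.map (powMonoidHom (p ^ j)), a x ∈ T.map (powMonoidHom (p ^ j)) := by
  rintro _ ⟨y, hy, rfl⟩
  exact ⟨a y, hT y hy, (map_pow a y _).symm⟩

omit hp in
theorem relIndex_map_le {j : ℕ} {C D : Subgroup H} (hCD : C ≤ D) :
    (C.map (powMonoidHom (p ^ j))).relIndex (D.map (powMonoidHom (p ^ j))) ≤ C.relIndex D := by
  set k := (powMonoidHom (p ^ j) : H →* H).ker
  rw [relIndex_map_map]
  refine Nat.le_of_dvd (Nat.pos_of_ne_zero fun h => ?_) ?_
  · exact (index_ne_zero_of_finite (H := C.subgroupOf D)) h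
  · have e : D ⊔ k = D ⊔ (C ⊔ k) := by rw [← sup_assoc, sup_eq_left.mpr hCD]
    rw [e, relIndex_sup_right]
    exact relIndex_dvd_of_le_left D le_sup_left

/-- A series with small steps from an invariant subgroup between `H ^ p` and `H`. -/
theorem exists_series_of_abelian {a : ℕ} (hexp : ∀ x : H, x ^ p ^ a = 1) {T : Subgroup H}
    (hT : powImage H p 1 ≤ T) (h1 : (powImage H p 1).relIndex T ≤ p) (h2 : T.index ≤ p)
    (hTinv : ∀ α : MulAut H, ∀ x ∈ T, α x ∈ T) :
    ∃ (C : ℕ → Subgroup H) (n : ℕ), C 0 = ⊥ ∧ C n = ⊤ ∧ (∀ i < n, C i ≤ C (i + 1)) ∧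
      (∀ i ≤ n, ∀ α : MulAut H, ∀ x ∈ C i, α x ∈ C i) ∧ ∀ i < n, (C i).relIndex (C (i + 1)) ≤ p := by
  set φ : ℕ → H →* H := fun j => powMonoidHom (p ^ j) with hφ
  let C : ℕ → Subgroup H := fun i => if i % 2 = 0 then powImage H p (a - i / 2) else T.map (φ (a - i / 2 - 1))
  have he : ∀ m, C (2 * m) = powImage H p (a - m) := fun m => by
    show ite _ _ _ = _
    rw [if_pos (by omega), show 2 * m / 2 = m by omega]
  have ho : ∀ m, C (2 * m + 1) = T.map (φ (a - m - 1)) := fun m => by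
    show ite _ _ _ = _
    rw [if_neg (by omega), show (2 * m + 1) / 2 = m by omega]
  have htop : ∀ j, powImage H p j = (⊤ : Subgroup H).map (φ j) := fun j => (MonoidHom.range_eq_map _)
  have himg : ∀ j, (powImage H p 1).map (φ j) = powImage H p (j + 1) := fun j => by
    refine le_antisymm ?_ (map_range_le le_rfl)
    rintro _ ⟨_, ⟨x, rfl⟩, rfl⟩
    exact ⟨x, by simp [φ, pow_succ', pow_mul]⟩
  have hpair : ∀ i < 2 * a, C i ≤ C (i + 1) ∧ (C i).relIndex (C (i + 1)) ≤ p := by
    intro i hi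
    rcases Nat.even_or_odd' i with ⟨m, rfl | rfl⟩
    · rw [he, ho, show a - m = (a - m - 1) + 1 by omega, Nat.add_sub_cancel, ← himg]
      exact ⟨map_mono hT, (relIndex_map_le hT).trans h1⟩
    · rw [show 2 * m + 1 + 1 = 2 * (m + 1) by ring, he, ho, show a - (m + 1) = a - m - 1 by omega, htop]
      exact ⟨map_mono le_top, (relIndex_map_le le_top).trans (by rwa [relIndex_top_right])⟩
  refine ⟨C, 2 * a, ?_, ?_, fun i hi => (hpair i hi).1, fun i _ α => ?_, fun i hi => (hpair i hi).2⟩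
  · rw [show 0 = 2 * 0 by rfl, he, Nat.sub_zero]
    exact (MonoidHom.range_eq_bot_iff).mpr (MonoidHom.ext hexp)
  · rw [he, Nat.sub_self]
    exact MonoidHom.range_eq_top.mpr fun x => ⟨x, by simp⟩
  · rcases Nat.even_or_odd' i with ⟨m, rfl | rfl⟩
    · rw [he, htop]
      exact aut_pow_mem _ α fun _ _ => mem_top _
    · rw [ho]
      exact aut_pow_mem _ α (hTinv α)

/-- In rank at most two there is such a series unless the group is homocyclic of rank two. -/
theorem exists_series_or_homocyclic (hH : IsPGroup p H) [Nontrivial H] (hrk : (powImage H p 1).index ≤ p ^ 2) :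
    (∃ (C : ℕ → Subgroup H) (n : ℕ), C 0 = ⊥ ∧ C n = ⊤ ∧ (∀ i < n, C i ≤ C (i + 1)) ∧
      (∀ i ≤ n, ∀ α : MulAut H, ∀ x ∈ C i, α x ∈ C i) ∧ ∀ i < n, (C i).relIndex (C (i + 1)) ≤ p) ∨
    ∃ b : ℕ, (∀ x : H, x ^ p ^ (b + 1) = 1) ∧ (powMonoidHom (p ^ b) : H →* H).ker = powImage H p 1 ∧
      (powImage H p 1).index = p ^ 2 := by
  have hex : ∃ a, ∀ x : H, x ^ p ^ a = 1 := by
    obtain ⟨e, he⟩ := IsPGroup.iff_card.mp hH
    exact ⟨e, fun x => he ▸ pow_card_eq_one'⟩
  classical
  set a := Nat.find hex with ha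
  have ha0 : a ≠ 0 := fun h => by
    obtain ⟨x, hx⟩ := exists_ne (1 : H)
    exact hx (by simpa [← ha, h] using Nat.find_spec hex x)
  obtain ⟨b, hb⟩ := Nat.exists_eq_succ_of_ne_zero ha0
  have hspec : ∀ x : H, x ^ p ^ (b + 1) = 1 := fun x => by
    have := Nat.find_spec hex x
    rwa [← ha, hb] at this
  set φ : H →* H := powMonoidHom (p ^ b) with hφ
  have hle : powImage H p 1 ≤ φ.ker := by
    rintro _ ⟨x, rfl⟩
    simp [φ, MonoidHom.mem_ker, ← pow_mul, ← pow_succ', hspec x]
  have hne : φ.ker ≠ ⊤ := fun h => by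
    refine Nat.find_min hex (show b < Nat.find hex by omega) fun x => ?_
    have : x ∈ φ.ker := h ▸ mem_top x
    exact this
  have hmul := relIndex_mul_index hle
  obtain ⟨u, hu⟩ := hH.index φ.ker
  have hu0 : 1 ≤ u := by
    rcases Nat.eq_zero_or_pos u with rfl | h
    · exact absurd (index_eq_one.mp (by simpa using hu)) hne
    · exact h
  have hr : 0 < (powImage H p 1).relIndex φ.ker := Nat.pos_of_ne_zero index_ne_zero_of_finite
  rcases hu0.lt_or_eq with h2 | h2
  · right
    have hpu : p ^ 2 ≤ φ.ker.index := hu ▸ Nat.pow_le_pow_right hp.out.pos h2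
    have hge : φ.ker.index ≤ (powImage H p 1).index := by
      rw [← hmul]; exact Nat.le_mul_of_pos_left _ hr
    refine ⟨b, hspec, ?_, le_antisymm hrk (hpu.trans hge)⟩
    have he : (powImage H p 1).relIndex φ.ker = 1 := by
      have h1 : (powImage H p 1).relIndex φ.ker * φ.ker.index ≤ 1 * φ.ker.index := by
        rw [hmul, one_mul]; exact hrk.trans hpu
      have := Nat.le_of_mul_le_mul_right h1 (hu ▸ pow_pos hp.out.pos u)
      omega
    exact le_antisymm (relIndex_eq_one.mp he) hle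
  · left
    subst h2
    rw [pow_one] at hu
    refine exists_series_of_abelian hspec hle ?_ hu.le fun α x hx => ?_
    · rw [hu] at hmul
      refine Nat.le_of_mul_le_mul_right ?_ hp.out.pos
      rw [hmul, ← sq]; exact hrk
    · rw [MonoidHom.mem_ker] at hx ⊢
      show (α x) ^ p ^ b = 1
      rw [← map_pow, show x ^ p ^ b = 1 from hx, map_one]

/-- A homocyclic group of rank two. -/
theorem homocyclic_equiv (hH : IsPGroup p H) {b : ℕ} (hexp : ∀ x : H, x ^ p ^ (b + 1) = 1)
    (hker : (powMonoidHom (p ^ b) : H →* H).ker = powImage H p 1) (hidx : (powImage H p 1).index = p ^ 2) :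
    Nonempty (H ≃* Multiplicative (ZMod (p ^ (b + 1)) × ZMod (p ^ (b + 1)))) := by
  set M := powImage H p 1 with hM
  have hpm : ∀ x : H, x ^ p ∈ M := fun x => ⟨x, by simp⟩
  obtain ⟨x, hx⟩ : ∃ x : H, x ∉ M := by
    by_contra! h
    rw [(eq_top_iff' M).mpr h, index_top] at hidx
    exact absurd hidx.symm (Nat.one_lt_pow two_ne_zero hp.out.one_lt).ne'
  obtain ⟨y, hy⟩ : ∃ y : H, y ∉ M ⊔ zpowers x := by
    by_contra! h
    have hd := Cfsg.Agent.Solvable.Basics.relIndex_sup_zpowers_dvd (hpm x)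
    rw [(eq_top_iff' _).mpr h, relIndex_top_right, hidx] at hd
    exact absurd (Nat.le_of_dvd hp.out.pos hd) (not_le.mpr (by simpa using Nat.pow_lt_pow_right hp.out.one_lt one_lt_two))
  have hroot : ∀ (w : H) (i : ℤ), w ^ i ∈ M → ¬ (p : ℤ) ∣ i → w ∈ M := by
    intro w i hw hi
    obtain ⟨u, v, huv⟩ := (Int.isCoprime_iff_gcd_eq_one.mpr (by
      rw [Int.gcd_comm]
      exact_mod_cast ((Nat.prime_iff_prime_int.mp hp.out).coprime_iff_not_dvd.mpr hi |> Int.isCoprime_iff_gcd_eq_one.mp)) : IsCoprime i (p : ℤ))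
    rw [← zpow_one w, ← huv, zpow_add, mul_comm u, mul_comm v, zpow_mul, zpow_mul, zpow_natCast]
    exact mul_mem (zpow_mem hw u) (zpow_mem (hpm w) v)
  have hind : ∀ i k : ℤ, x ^ i * y ^ k ∈ M → (p : ℤ) ∣ i ∧ (p : ℤ) ∣ k := by
    intro i k h
    have hk : (p : ℤ) ∣ k := by
      by_contra hk
      apply hy
      obtain ⟨u, v, huv⟩ := ((Nat.prime_iff_prime_int.mp hp.out).coprime_iff_not_dvd.mpr hk).symm
      have hyk : y ^ k ∈ M ⊔ zpowers x := by
        rw [show y ^ k = (x ^ i)⁻¹ * (x ^ i * y ^ k) by group]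
        exact mul_mem (inv_mem (mem_sup_right ⟨i, rfl⟩)) (mem_sup_left h)
      rw [← zpow_one y, ← huv, zpow_add, mul_comm u, mul_comm v, zpow_mul, zpow_mul, zpow_natCast]
      exact mul_mem (zpow_mem hyk u) (zpow_mem (mem_sup_left (hpm y)) v)
    refine ⟨?_, hk⟩
    by_contra hi
    obtain ⟨c, rfl⟩ := hk
    refine hx (hroot x i ?_ hi)
    rw [show x ^ i = x ^ i * y ^ ((p : ℤ) * c) * (y ^ ((p : ℤ) * c))⁻¹ by group]
    refine mul_mem h (inv_mem ?_)
    rw [zpow_mul, zpow_natCast]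
    exact zpow_mem (hpm y) c
  have hdeep : ∀ j ≤ b + 1, ∀ i k : ℤ, x ^ i * y ^ k = 1 → (p ^ j : ℤ) ∣ i ∧ (p ^ j : ℤ) ∣ k := by
    intro j
    induction j with
    | zero => intro _ i k _; simp
    | succ j ih =>
      intro hj i k h
      obtain ⟨⟨i', hi⟩, ⟨k', hk⟩⟩ := ih (by omega) i k h
      subst hi hk
      have hz : (x ^ i' * y ^ k') ^ p ^ j = 1 := by
        rw [← zpow_natCast, mul_zpow, ← zpow_mul, ← zpow_mul, Nat.cast_pow, mul_comm i', mul_comm k']
        exact h
      have hmem : x ^ i' * y ^ k' ∈ M := by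
        rw [← hker, MonoidHom.mem_ker]
        show (x ^ i' * y ^ k') ^ p ^ b = 1
        rw [show b = j + (b - j) by omega, pow_add, pow_mul, hz, one_pow]
      obtain ⟨hi', hk'⟩ := hind i' k' hmem
      rw [pow_succ]
      exact ⟨mul_dvd_mul_left _ hi', mul_dvd_mul_left _ hk'⟩
  let ψ : Multiplicative (ZMod (p ^ (b + 1)) × ZMod (p ^ (b + 1))) →* H :=
    MonoidHom.mk' (fun v => x ^ v.toAdd.1.val * y ^ v.toAdd.2.val) fun u v => by
      haveI : NeZero (p ^ (b + 1)) := ⟨pow_ne_zero _ hp.out.ne_zero⟩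
      have hred : ∀ (w : H) (s t : ZMod (p ^ (b + 1))), w ^ (s + t).val = w ^ s.val * w ^ t.val := fun w s t => by
        rw [ZMod.val_add, ← pow_eq_pow_mod _ (hexp w), pow_add]
      simp only [toAdd_mul, Prod.fst_add, Prod.snd_add, hred]
      exact mul_mul_mul_comm _ _ _ _
  haveI : NeZero (p ^ (b + 1)) := ⟨pow_ne_zero _ hp.out.ne_zero⟩
  have hinj : Function.Injective ψ := by
    rw [injective_iff_map_eq_one]
    intro v hv
    have h : x ^ (v.toAdd.1.val : ℤ) * y ^ (v.toAdd.2.val : ℤ) = 1 := by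
      rw [zpow_natCast, zpow_natCast]; exact hv
    obtain ⟨h1, h2⟩ := hdeep (b + 1) le_rfl _ _ h
    have e : ∀ s : ZMod (p ^ (b + 1)), (p ^ (b + 1) : ℤ) ∣ (s.val : ℤ) → s = 0 := fun s hs => by
      have : (p ^ (b + 1)) ∣ s.val := by exact_mod_cast hs
      exact (ZMod.val_eq_zero s).mp (Nat.eq_zero_of_dvd_of_lt this (ZMod.val_lt s))
    exact Multiplicative.toAdd.injective (Prod.ext (e _ h1) (e _ h2))
  haveI := hH.isNilpotent
  have hMfr : M ≤ frattini H := by
    rintro _ ⟨w, rfl⟩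
    simpa using Cfsg.Agent.Solvable.Basics.pow_mem_frattini hH w
  have hsur : Function.Surjective ψ := by
    rw [← MonoidHom.range_eq_top]
    refine frattini_nongenerating (eq_top_iff.mpr ?_)
    have hgen : M ⊔ zpowers x ⊔ zpowers y = ⊤ := by
      refine index_eq_one.mp ?_
      have h1 := Cfsg.Agent.Solvable.Basics.relIndex_sup_zpowers_dvd (H := M) (hpm x)
      have h2 := Cfsg.Agent.Solvable.Basics.relIndex_sup_zpowers_dvd (H := M ⊔ zpowers x) (mem_sup_left (hpm y))
      have n1 : M.relIndex (M ⊔ zpowers x) ≠ 1 := fun h => hx (relIndex_eq_one.mp h (mem_sup_right (mem_zpowers x)))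
      have n2 : (M ⊔ zpowers x).relIndex (M ⊔ zpowers x ⊔ zpowers y) ≠ 1 := fun h => hy (relIndex_eq_one.mp h (mem_sup_right (mem_zpowers y)))
      have e1 := ((Nat.dvd_prime hp.out).mp h1).resolve_left n1
      have e2 := ((Nat.dvd_prime hp.out).mp h2).resolve_left n2
      have h3 := relIndex_mul_index (le_sup_left : M ≤ M ⊔ zpowers x)
      have h4 := relIndex_mul_index (le_sup_left : M ⊔ zpowers x ≤ M ⊔ zpowers x ⊔ zpowers y)
      rw [← h4, e1, e2, hidx, ← mul_assoc, ← sq] at h3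
      exact (mul_eq_left₀ (pow_ne_zero 2 hp.out.ne_zero)).mp h3
    rw [← hgen]
    haveI : Fact (1 < p ^ (b + 1)) := ⟨Nat.one_lt_pow (Nat.succ_ne_zero b) hp.out.one_lt⟩
    refine sup_le (sup_le (hMfr.trans le_sup_right) (zpowers_le.mpr (mem_sup_left ?_))) (zpowers_le.mpr (mem_sup_left ?_))
    · exact ⟨Multiplicative.ofAdd (1, 0), by simp [ψ, ZMod.val_one]⟩
    · exact ⟨Multiplicative.ofAdd (0, 1), by simp [ψ, ZMod.val_one]⟩
  exact ⟨(MulEquiv.ofBijective ψ ⟨hinj, hsur⟩).symm⟩

/-- For `p ≥ 5` an automorphism of order `p` of a homocyclic group of rank two and exponent at least `p²` stabilizes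
the series of power subgroups. -/
theorem stabilizes_of_five_le {b : ℕ} (hb : 1 ≤ b)
    (hker : (powMonoidHom (p ^ b) : H →* H).ker = powImage H p 1) (hidx : (powImage H p 1).index = p ^ 2)
    (h5 : 5 ≤ p) {α : MulAut H} (hα : α ^ p = 1) : ∀ x : H, x⁻¹ * α x ∈ powImage H p 1 := by
  classical
  set M := powImage H p 1 with hM
  have hinv : ∀ x ∈ M, α x ∈ M := by
    rintro _ ⟨w, rfl⟩
    exact ⟨α w, by simp⟩
  -- a fixed point modulo `M`
  let f : H ⧸ M → H ⧸ M := QuotientGroup.map M M α.toMonoidHom fun x hx => hinv x hx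
  have hfm : ∀ (m : ℕ) (x : H), f^[m] (QuotientGroup.mk x) = QuotientGroup.mk ((α ^ m) x) := by
    intro m
    induction m with
    | zero => intro x; rfl
    | succ m ih => intro x; rw [Function.iterate_succ_apply', ih, pow_succ', MulAut.mul_apply]; rfl
  have hfp : ∀ q, f^[p] q = q := fun q => by
    induction q using QuotientGroup.induction_on with
    | H x => rw [hfm, hα]; rfl
  let σ : Equiv.Perm (H ⧸ M) :=
    { toFun := f, invFun := f^[p - 1]
      left_inv := fun q => by
        rw [← Function.iterate_succ_apply, show (p - 1).succ = p by omega, hfp]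
      right_inv := fun q => by
        rw [← Function.iterate_succ_apply' f, show (p - 1).succ = p by omega, hfp] }
  have hσ : σ ^ p = 1 := Equiv.ext fun q => by
    rw [← Equiv.Perm.iterate_eq_pow]; exact hfp q
  have hpg : IsPGroup p (zpowers σ) := by
    obtain ⟨i, -, hi⟩ := (Nat.dvd_prime_pow hp.out).mp (orderOf_dvd_of_pow_eq_one (show σ ^ p ^ 1 = 1 by rwa [pow_one]))
    exact IsPGroup.of_card (n := i) (by rw [Nat.card_zpowers, hi])
  obtain ⟨q, hq, hq1⟩ := hpg.exists_fixed_point_of_prime_dvd_card_of_fixed_point (H ⧸ M)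
    (by rw [← index_eq_card, hidx]; exact dvd_pow_self p two_ne_zero) (a := QuotientGroup.mk 1) (fun g => by
      obtain ⟨n, hn⟩ := mem_zpowers_iff.mp g.2
      show (g : Equiv.Perm (H ⧸ M)) _ = _
      rw [← hn]
      exact Equiv.Perm.zpow_apply_eq_self_of_apply_eq_self (congrArg QuotientGroup.mk (map_one α)) n)
  obtain ⟨x, rfl⟩ := QuotientGroup.mk_surjective q
  have hx : x⁻¹ * α x ∈ M := by
    have := hq ⟨σ, mem_zpowers σ⟩
    exact QuotientGroup.eq.mp (this.symm : QuotientGroup.mk x = σ (QuotientGroup.mk x))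
  have hxM : x ∉ M := fun h => hq1 (((QuotientGroup.eq_one_iff x).mpr h).symm)
  set T := M ⊔ zpowers x with hT
  have hTinv : ∀ w ∈ T, α w ∈ T := by
    intro w hw
    have hle : T.map α.toMonoidHom ≤ T := by
      rw [hT, Subgroup.map_sup, MonoidHom.map_zpowers]
      refine sup_le ((map_le_iff_le_comap.mpr fun m hm => mem_sup_left (hinv m hm))) (zpowers_le.mpr ?_)
      show α x ∈ M ⊔ zpowers x
      rw [show α x = x * (x⁻¹ * α x) by group]
      exact mul_mem (mem_sup_right (mem_zpowers x)) (mem_sup_left hx)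
    exact hle ⟨w, hw, rfl⟩
  have hd := Cfsg.Agent.Solvable.Basics.relIndex_sup_zpowers_dvd (H := M) (show x ^ p ∈ M from ⟨x, by simp⟩)
  have hTidx : T.index ≤ p := by
    have h := relIndex_mul_index (le_sup_left : M ≤ T)
    rw [hidx, ((Nat.dvd_prime hp.out).mp hd).resolve_left (fun h => hxM (relIndex_eq_one.mp h (mem_sup_right (mem_zpowers x)))), sq] at h
    exact (mul_left_cancel₀ hp.out.ne_zero h).le
  have hN1 : ∀ w ∈ T, w⁻¹ * α w ∈ M :=
    step_fixed (p := p) (Nat.le_of_dvd hp.out.pos hd) hinv hTinv (k := 1) (by rwa [pow_one])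
  have hN2 : ∀ w : H, w⁻¹ * α w ∈ T := fun w =>
    step_fixed (p := p) (C := T) (D := ⊤) (by rwa [relIndex_top_right]) hTinv (fun _ _ => mem_top _) (k := 1)
      (by rwa [pow_one]) w (mem_top w)
  -- the binomial expansion
  let A : AddMonoid.End (Additive H) := MonoidHom.toAdditive α.toMonoidHom
  let N : AddMonoid.End (Additive H) := A - 1
  have hNa : ∀ v : Additive H, N v = Additive.ofMul (v.toMul⁻¹ * α v.toMul) := fun v => by
    show Additive.ofMul (α v.toMul) - v = _
    rw [mul_comm, sub_eq_add_neg]; rfl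
  have hAp : A ^ p = 1 := by
    have hm : ∀ (m : ℕ) (v : Additive H), (A ^ m) v = Additive.ofMul ((α ^ m) v.toMul) := by
      intro m
      induction m with
      | zero => intro v; rfl
      | succ m ih =>
        intro v
        rw [pow_succ', pow_succ']
        show A ((A ^ m) v) = _
        rw [ih]; rfl
    exact AddMonoidHom.ext fun v => (hm p v).trans (by rw [hα]; rfl)
  let P : ℕ → AddSubgroup (Additive H) := fun j => (powImage H p j).toAddSubgroup
  have hPmem : ∀ j v, v ∈ P j ↔ ∃ w : Additive H, (p ^ j) • w = v := fun j v =>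
    ⟨fun ⟨w, hw⟩ => ⟨Additive.ofMul w, hw⟩, fun ⟨w, hw⟩ => ⟨w.toMul, hw⟩⟩
  have hP1 : ∀ v : Additive H, v ∈ P 1 ↔ v.toMul ∈ M := fun v => Iff.rfl
  have hNN : ∀ v, N (N v) ∈ P 1 := fun v => by
    rw [hP1, hNa (N v), hNa v]
    exact hN1 _ (hN2 _)
  have hN4 : ∀ v, (N ^ 4) v ∈ P 2 := fun v => by
    obtain ⟨w, hw⟩ := (hPmem 1 _).mp (hNN v)
    obtain ⟨w', hw'⟩ := (hPmem 1 _).mp (hNN w)
    refine (hPmem 2 _).mpr ⟨w', ?_⟩
    show (p ^ 2) • w' = N (N (N (N v)))
    rw [← hw, map_nsmul, map_nsmul, ← hw', smul_smul, pow_one, sq]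
  have hkey : ∀ v : Additive H, p • N v ∈ P 2 := by
    intro v
    have hsum : A ^ p = ∑ m ∈ Finset.range (p + 1), N ^ m * 1 ^ (p - m) * ((p.choose m : ℕ) : AddMonoid.End (Additive H)) := by
      rw [← (Commute.one_right N).add_pow p]
      simp [N]
    have h := congrArg (fun g : AddMonoid.End (Additive H) => g v) (hsum.symm.trans hAp)
    obtain ⟨q, hq⟩ : ∃ q, p = q + 2 := ⟨p - 2, by omega⟩
    have hrest : ∀ m, 2 ≤ m → m ≤ p → (N ^ m) ((p.choose m) • v) ∈ P 2 := by
      intro m hm2 hmp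
      rcases hmp.lt_or_eq with hlt | rfl
      · obtain ⟨c, hc⟩ := hp.out.dvd_choose_self (by omega) hlt
        obtain ⟨w, hw⟩ := (hPmem 1 _).mp (hNN (c • v))
        refine (hPmem 2 _).mpr ⟨(N ^ (m - 2)) w, ?_⟩
        have e : N ^ m = N ^ (m - 2) * (N * N) := by rw [← pow_two, ← pow_add]; congr 1; omega
        rw [e, hc, mul_smul, map_nsmul]
        show _ = p • (N ^ (m - 2)) (N (N (c • v)))
        rw [← hw, map_nsmul, smul_smul, pow_one, sq]
      · obtain ⟨w, hw⟩ := (hPmem 2 _).mp (hN4 v)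
        refine (hPmem 2 _).mpr ⟨(N ^ (m - 4)) w, ?_⟩
        have e : N ^ m = N ^ (m - 4) * N ^ 4 := by rw [← pow_add]; congr 1; omega
        rw [Nat.choose_self, one_smul, e]
        show _ = (N ^ (m - 4)) ((N ^ 4) v)
        rw [← hw, map_nsmul]
    simp only [one_pow, mul_one, AddMonoidHom.finsetSum_apply] at h
    have h' : ∑ m ∈ Finset.range (p + 1), (N ^ m) ((p.choose m) • v) = v := by
      refine Eq.trans ?_ h
      exact (AddMonoidHom.finsetSum_apply
        (fun m => (N ^ m * ((p.choose m : ℕ) : AddMonoid.End (Additive H)) : AddMonoid.End (Additive H)))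
        (Finset.range (p + 1)) v).symm
    rw [hq, Finset.sum_range_succ', Finset.sum_range_succ'] at h'
    simp only [zero_add, Nat.choose_one_right, pow_one, Nat.choose_zero_right, one_smul, pow_zero] at h'
    have h'' : ∑ k ∈ Finset.range (q + 1), (N ^ (k + 1 + 1)) (((q + 2).choose (k + 1 + 1)) • v) + N ((q + 2) • v) = 0 := by
      have e : (1 : AddMonoid.End (Additive H)) v = v := rfl
      rw [e] at h'
      exact add_eq_right.mp h'
    rw [← hq] at h''
    rw [← map_nsmul, eq_neg_of_add_eq_zero_right h'']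
    refine neg_mem (sum_mem fun m hm => hrest _ (by omega) ?_)
    have := Finset.mem_range.mp hm
    omega
  intro w
  obtain ⟨u, hu⟩ := (hPmem 2 _).mp (hkey (Additive.ofMul w))
  set z := N (Additive.ofMul w) - p • u with hz
  have hz0 : p • z = 0 := by rw [hz, smul_sub, smul_smul, ← sq, hu, sub_self]
  have hzM : z.toMul ∈ M := by
    rw [← hker, MonoidHom.mem_ker]
    show z.toMul ^ p ^ b = 1
    obtain ⟨b', rfl⟩ := Nat.exists_eq_succ_of_ne_zero (by omega : b ≠ 0)
    have h1 : z.toMul ^ p = 1 := hz0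
    rw [pow_succ', pow_mul, h1, one_pow]
  have : w⁻¹ * α w = z.toMul * u.toMul ^ p := by
    have e : N (Additive.ofMul w) = z + p • u := (sub_add_cancel _ _).symm
    rw [hNa] at e
    exact congrArg Additive.toMul e
  rw [this]
  exact mul_mem hzM ⟨u.toMul, by simp⟩

end Abelian

end Cfsg.Agent.Fusion.EssentialShape
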