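/-
Focal and hyperfocal subgroups.
-/
import Mathlib
import Cfsg.Agent.Lib.Fusion.Alperin
import Cfsg.Agent.Lib.Fusion.Group
import Cfsg.Agent.Lib.Cores.Residual
import Cfsg.Agent.Lib.Transfer.Fusion
import Cfsg.Agent.Lib.Coprime.PGroup

set_option autoImplicit false

namespace Cfsg.Agent.Fusion.Focal

open Cfsg Cfsg.FusionSystem Cfsg.Agent.Fusion.Basic Cfsg.Agent.Fusion.Saturation
  Cfsg.Agent.Fusion.SylIn Cfsg.Agent.Fusion.Alperin

variable {Ω : Type*} [Group Ω] {S T : Subgroup Ω} {F : FusionSystem S} {E : FusionSystem T}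
  {p : ℕ} {P : Subgroup Ω}

theorem mem_hyp {α : MulAut P} (hP : P ≤ S)
    (hα : α ∈ (pResidual p (F.autGroup P)).map (F.autGroup P).subtype) {x : Ω} (hx : x ∈ P) :
    x⁻¹ * autFun α x ∈ F.hyperfocalSubgroup p := by
  obtain ⟨a, ha, rfl⟩ := hα
  exact Subgroup.subset_closure ⟨P, a, ⟨x, hx⟩, hP, ha, by rw [autFun_of_mem _ hx]; rfl⟩

theorem hyp_le : F.hyperfocalSubgroup p ≤ S := by
  rw [hyperfocalSubgroup, Subgroup.closure_le]
  rintro _ ⟨P, α, x, hP, -, rfl⟩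
  exact S.mul_mem (S.inv_mem (hP x.2)) (hP (SetLike.coe_mem _))

theorem hyp_le_focal : F.hyperfocalSubgroup p ≤ F.focalSubgroup := by
  rw [hyperfocalSubgroup, Subgroup.closure_le]
  rintro _ ⟨P, α, x, hP, -, rfl⟩
  refine Subgroup.subset_closure ⟨P, (isMap_of_mem_autGroup hP α.2).hom, x,
    IsMap.hom_mem_self _, ?_⟩
  rw [IsMap.hom_apply, autFun_apply]

theorem autGroup_mono (hE : E.IsSubsystemOf F) (P : Subgroup Ω) :
    E.autGroup P ≤ F.autGroup P :=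
  Subgroup.closure_mono fun _ h => hE P h

theorem hyp_mono (hTS : T ≤ S) (hE : E.IsSubsystemOf F) :
    E.hyperfocalSubgroup p ≤ F.hyperfocalSubgroup p := by
  rw [hyperfocalSubgroup, Subgroup.closure_le]
  rintro _ ⟨P, α, x, hP, hα, rfl⟩
  exact Subgroup.subset_closure ⟨P, Subgroup.inclusion (autGroup_mono hE P) α, x, hP.trans hTS,
    Cfsg.Agent.Cores.map_pResidual_le _ p ⟨α, hα, rfl⟩, rfl⟩

variable [Finite S] [Fact p.Prime]

/-- The hyperfocal subgroup is invariant under conjugation by `S`. -/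
theorem conj_mem_hyp {s : Ω} (hs : s ∈ S) {y : Ω} (hy : y ∈ F.hyperfocalSubgroup p) :
    s * y * s⁻¹ ∈ F.hyperfocalSubgroup p := by
  suffices F.hyperfocalSubgroup p ≤ (F.hyperfocalSubgroup p).comap (MulAut.conj s).toMonoidHom from
    this hy
  conv_lhs => rw [hyperfocalSubgroup]
  rw [Subgroup.closure_le]
  rintro _ ⟨P, α, x, hP, hα, rfl⟩
  show s * ((x : Ω)⁻¹ * ((α : MulAut P) x : P)) * s⁻¹ ∈ F.hyperfocalSubgroup p
  have hc : IsMap F P (cj s) := isMap_cj hP hs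
  obtain ⟨e, he⟩ := hc.exists_autEquiv
  have h1 : e α ∈ pResidual p (F.autGroup (img (cj s) P)) :=
    Cfsg.Agent.Cores.map_pResidual_le e.toMonoidHom p ⟨α, hα, rfl⟩
  have h2 := mem_hyp (F := F) (p := p) hc.img_le_S ⟨_, h1, rfl⟩ (mem_img_self (cj s) x.2)
  rw [Subgroup.subtype_apply, he α x x.2, autFun_apply] at h2
  simpa [cj, mul_assoc] using h2

/-- `Aut_F(P) = O^p(Aut_F(P)) Aut_S(P)` for fully normalized `P`. -/
theorem aut_decomp (hS : IsPGroup p S) (hF : F.IsSaturated p) (hP : F.IsFullyNormalized P)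
    {α : MulAut P} (hα : α ∈ F.autGroup P) :
    ∃ r ∈ (pResidual p (F.autGroup P)).map (F.autGroup P).subtype,
      ∃ a ∈ autInducedBy S P, α = a * r := by
  have hfin : Finite P := finite_of_le hP.1
  obtain ⟨R, hR⟩ := (fullyNormalized_fullyAutomized hS hF hP).2
  have h := Cfsg.Agent.Cores.pResidual_le_sylow_sup R
  obtain ⟨a, ha, r, hr, e⟩ := Subgroup.mem_sup_of_normal_right.1
    (h.ge (Subgroup.mem_top (⟨α, hα⟩ : F.autGroup P)))
  refine ⟨r, ⟨r, hr, rfl⟩, a, ?_, (congrArg Subtype.val e).symm⟩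
  rw [hR] at ha
  exact ha

/-- The maps moving elements within cosets of `N`. -/
def cosetSystem (F : FusionSystem S) (N : Subgroup Ω)
    (hN : ∀ a ∈ S, ∀ x ∈ S, x⁻¹ * (a * x * a⁻¹) ∈ N) : FusionSystem S where
  Hom P := {φ | φ ∈ F.Hom P ∧ ∀ x : P, (x : Ω)⁻¹ * φ x ∈ N}
  le_of_mem h := F.le_of_mem h.1
  injective_of_mem h := F.injective_of_mem h.1
  conj_mem hP ha := ⟨F.conj_mem hP ha, fun x => hN _ ha _ (hP x.2)⟩
  comp_mem := by
    rintro P R φ ψ ⟨hφ, hφ'⟩ ⟨hψ, hψ'⟩ h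
    refine ⟨F.comp_mem hφ hψ h, fun x => ?_⟩
    show (x : Ω)⁻¹ * ψ ⟨φ x, h x⟩ ∈ N
    simpa [mul_assoc] using N.mul_mem (hφ' x) (hψ' ⟨φ x, h x⟩)
  inv_mem := by
    rintro P φ ⟨hφ, hφ'⟩
    obtain ⟨ψ, hψ, hψe⟩ := F.inv_mem hφ
    refine ⟨ψ, ⟨hψ, fun y => ?_⟩, hψe⟩
    obtain ⟨x, hx⟩ := y.2
    obtain rfl : y = ⟨φ x, ⟨x, rfl⟩⟩ := Subtype.ext hx.symm
    rw [hψe]
    simpa using N.inv_mem (hφ' x)

/-- The maps preserving membership in `H`. -/
def closedSystem (F : FusionSystem S) (H : Subgroup Ω)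
    (hH : ∀ a ∈ S, ∀ x ∈ H, a * x * a⁻¹ ∈ H) : FusionSystem S where
  Hom P := {φ | φ ∈ F.Hom P ∧ ∀ x : P, (x : Ω) ∈ H ↔ φ x ∈ H}
  le_of_mem h := F.le_of_mem h.1
  injective_of_mem h := F.injective_of_mem h.1
  conj_mem := by
    intro P a hP ha
    refine ⟨F.conj_mem hP ha, fun x => ⟨hH a ha x, fun h => ?_⟩⟩
    have h1 := hH _ (S.inv_mem ha) _ h
    change a⁻¹ * (a * (x : Ω) * a⁻¹) * a⁻¹⁻¹ ∈ H at h1
    simpa [mul_assoc] using h1
  comp_mem := by
    rintro P R φ ψ ⟨hφ, hφ'⟩ ⟨hψ, hψ'⟩ h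
    exact ⟨F.comp_mem hφ hψ h, fun x => (hφ' x).trans (hψ' ⟨φ x, h x⟩)⟩
  inv_mem := by
    rintro P φ ⟨hφ, hφ'⟩
    obtain ⟨ψ, hψ, hψe⟩ := F.inv_mem hφ
    refine ⟨ψ, ⟨hψ, fun y => ?_⟩, hψe⟩
    obtain ⟨x, hx⟩ := y.2
    obtain rfl : y = ⟨φ x, ⟨x, rfl⟩⟩ := Subtype.ext hx.symm
    rw [hψe]
    exact (hφ' x).symm

theorem hyp_stronglyClosed (hS : IsPGroup p S) (hF : F.IsSaturated p) :
    F.StronglyClosed (F.hyperfocalSubgroup p) := by
  set H := F.hyperfocalSubgroup p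
  have hle : F ≤ closedSystem F H fun a ha x hx => conj_mem_hyp ha hx := by
    refine le_of_autGroup hS hF fun P hP _ α hα => ?_
    obtain ⟨r, hr, a, ha, rfl⟩ := aut_decomp hS hF hP hα
    obtain ⟨g, hg, hge⟩ := mem_autInducedBy_iff'.1 ha
    have hm := isMap_of_mem_autGroup hP.1 hα
    refine (mem_autGroup_iff hP.1).2 ⟨hm.hom, ⟨hm.hom_mem_self, fun x => ?_⟩, fun _ => rfl⟩
    rw [IsMap.hom_apply, autFun_mul, hge _ (autFun_mem r x.2), cj_apply]
    have h1 : (x : Ω) ∈ H ↔ autFun r x ∈ H := by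
      have h2 := mem_hyp (F := F) (p := p) hP.1 hr x.2
      constructor
      · intro hx; simpa using H.mul_mem hx h2
      · intro hx; simpa [mul_assoc] using H.mul_mem hx (H.inv_mem h2)
    refine h1.trans ⟨fun h => conj_mem_hyp hg.1 h, fun h => ?_⟩
    simpa [mul_assoc] using conj_mem_hyp (F := F) (p := p) (S.inv_mem hg.1) h
  exact ⟨hyp_le, fun R hR φ hφ x => ((hle R hφ).2 x).1 (hR x.2)⟩

omit [Finite S] [Fact p.Prime] in
theorem commutator_le_focal : ⁅S, S⁆ ≤ F.focalSubgroup := by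
  refine Subgroup.commutator_le.2 fun a ha b hb => ?_
  -- `[a,b] = (b a b⁻¹ a⁻¹)⁻¹`
  rw [commutatorElement_def, show a * b * a⁻¹ * b⁻¹ = (b⁻¹⁻¹ * (a * b⁻¹ * a⁻¹))⁻¹ by group]
  exact Subgroup.inv_mem _ (Subgroup.subset_closure ⟨S, conjHom S a, ⟨b⁻¹, S.inv_mem hb⟩,
    F.conj_mem le_rfl ha, rfl⟩)

theorem focal_eq (hS : IsPGroup p S) (hF : F.IsSaturated p) :
    F.focalSubgroup = F.hyperfocalSubgroup p ⊔ ⁅S, S⁆ := by
  refine le_antisymm ?_ (sup_le hyp_le_focal commutator_le_focal)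
  set N := F.hyperfocalSubgroup p ⊔ ⁅S, S⁆ with hN
  have hcom : ∀ a ∈ S, ∀ x ∈ S, x⁻¹ * (a * x * a⁻¹) ∈ N := by
    intro a ha x hx
    refine Subgroup.mem_sup_right ?_
    simpa [commutatorElement_def, mul_assoc] using
      Subgroup.commutator_mem_commutator (S.inv_mem hx) ha
  have hle : F ≤ cosetSystem F N hcom := by
    refine le_of_autGroup hS hF fun P hP _ α hα => ?_
    obtain ⟨r, hr, a, ha, rfl⟩ := aut_decomp hS hF hP hα
    obtain ⟨g, hg, hge⟩ := mem_autInducedBy_iff'.1 ha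
    have hm := isMap_of_mem_autGroup hP.1 hα
    refine (mem_autGroup_iff hP.1).2 ⟨hm.hom, ⟨hm.hom_mem_self, fun x => ?_⟩, fun _ => rfl⟩
    rw [IsMap.hom_apply, autFun_mul, hge _ (autFun_mem r x.2), cj_apply]
    simpa [mul_assoc] using N.mul_mem (Subgroup.mem_sup_left (mem_hyp (F := F) (p := p) hP.1 hr x.2))
      (hcom g hg.1 _ (hP.1 (autFun_mem r x.2)))
  rw [focalSubgroup, Subgroup.closure_le]
  rintro _ ⟨P, φ, x, hφ, rfl⟩
  exact (hle P hφ).2 x

/-- The hyperfocal subgroup theorem for groups. -/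
theorem hyp_group {G : Type*} [Group G] [Finite G] {p : ℕ} [Fact p.Prime] (S : Sylow p G) :
    (groupFusionSystem (S : Subgroup G)).hyperfocalSubgroup p =
      (S : Subgroup G) ⊓ pResidual p G := by
  set F := groupFusionSystem (S : Subgroup G)
  set K := pResidual p G with hK
  have hup : F.hyperfocalSubgroup p ≤ (S : Subgroup G) ⊓ K := by
    refine le_inf hyp_le ?_
    conv_lhs => rw [hyperfocalSubgroup]
    rw [Subgroup.closure_le]
    rintro _ ⟨P, α, x, hP, hα, rfl⟩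
    have hr : (conjAut ⊤ P).range = F.autGroup P := by
      rw [conjAut_range, Group.autGroup_group hP]
    let f : normalizerIn ⊤ P →* F.autGroup P :=
      (MulEquiv.subgroupCongr hr).toMonoidHom.comp (conjAut ⊤ P).rangeRestrict
    have hf : Function.Surjective f :=
      (MulEquiv.subgroupCongr hr).surjective.comp (conjAut ⊤ P).rangeRestrict_surjective
    rw [← Cfsg.Agent.Cores.map_pResidual_of_surjective hf p] at hα
    obtain ⟨n, hn, rfl⟩ := hα
    have hnK : (n : G) ∈ K :=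
      Cfsg.Agent.Cores.map_pResidual_le (normalizerIn ⊤ P).subtype p ⟨n, hn, rfl⟩
    show (x : G)⁻¹ * ((conjAut ⊤ P n x : P) : G) ∈ K
    rw [← autFun_apply, conjAut_apply n x.2, cj_apply]
    have h1 := K.mul_mem ((Subgroup.Normal.conj_mem inferInstance _ hnK (x : G)⁻¹)) (K.inv_mem hnK)
    simpa [mul_assoc] using h1
  refine le_antisymm hup ?_
  set T := (S : Subgroup G) ⊓ K with hT
  have hTK : T ≤ K := inf_le_right
  have hsyl : SylIn p T K := (of_sylow S).inf_normal le_top (by rw [Subgroup.normalizer_eq_top])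
  set E := fusionSystemOfSubgroup K T hsyl.1
  have hE : E.IsSaturated p := Group.sub_saturated hsyl
  have hsub : E.IsSubsystemOf F := fun P φ hφ =>
    ⟨hφ.1.trans inf_le_left, fun x => (hφ.2.1 x).1, let ⟨g, _, hg⟩ := hφ.2.2; ⟨g, hg⟩⟩
  obtain ⟨R, hR⟩ := (sylIn_iff_exists hTK).1 hsyl
  have hTfoc : T ≤ E.focalSubgroup := by
    have h1 := Cfsg.Agent.Transfer.Fusion.pResidual_inf_le R
    rw [Cfsg.Agent.Cores.pResidual_idem, top_inf_eq] at h1
    have h2 : commutator K ⊓ (R : Subgroup K) ≤ E.focalSubgroup.subgroupOf K := by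
      refine Cfsg.Agent.Transfer.Fusion.focal_le_of_fusion R fun x hx g hg => ⟨g, rfl, ?_⟩
      change x ∈ (R : Subgroup K) at hx
      change g * x * g⁻¹ ∈ (R : Subgroup K) at hg
      rw [hR] at hx hg
      have hxT : (x : G) ∈ T := hx
      have hgT : (g : G) * x * (g : G)⁻¹ ∈ T := hg
      have hz : Subgroup.zpowers (x : G) ≤ T := Subgroup.zpowers_le.2 hxT
      refine Subgroup.mem_subgroupOf.2 ?_
      rw [commutatorElement_def, Subgroup.coe_mul, Subgroup.coe_mul, Subgroup.coe_mul,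
        Subgroup.coe_inv, Subgroup.coe_inv]
      refine Subgroup.subset_closure ⟨Subgroup.zpowers (x : G), conjHom _ (g : G),
        ⟨(x : G)⁻¹, Subgroup.inv_mem _ (Subgroup.mem_zpowers _)⟩,
        ⟨hz, fun y => ?_, g, g.2, fun _ => rfl⟩, ?_⟩
      · obtain ⟨n, hn⟩ := Subgroup.mem_zpowers_iff.1 y.2
        show (g : G) * (y : G) * (g : G)⁻¹ ∈ T
        rw [← hn, ← conj_zpow]
        exact T.zpow_mem hgT n
      · show _ = ((x : G)⁻¹)⁻¹ * ((g : G) * (x : G)⁻¹ * (g : G)⁻¹)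
        group
    intro t ht
    exact h2 (h1 (show (⟨t, hTK ht⟩ : K) ∈ (R : Subgroup K) by rw [hR]; exact ht))
  rw [focal_eq hsyl.2.1 hE] at hTfoc
  have hle : T ≤ F.hyperfocalSubgroup p ⊔ ⁅T, T⁆ :=
    hTfoc.trans (sup_le_sup_right (hyp_mono inf_le_left hsub) _)
  set H := F.hyperfocalSubgroup p
  have : Group.IsNilpotent T := hsyl.2.1.isNilpotent
  have htop : H.subgroupOf T ⊔ frattini T = ⊤ := by
    rw [← top_le_iff]
    have h3 : H.subgroupOf T ⊔ (⁅T, T⁆).subgroupOf T = ⊤ := by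
      rw [← Subgroup.subgroupOf_sup hup (Subgroup.commutator_le_self T), Subgroup.subgroupOf_eq_top]
      exact hle
    rw [← h3]
    refine sup_le_sup_left (le_trans ?_ (Cfsg.Agent.Coprime.commutator_le_frattini T)) _
    rw [← Subgroup.map_subtype_commutator, Subgroup.subgroupOf,
      Subgroup.comap_map_eq_self_of_injective T.subtype_injective]
  exact Subgroup.subgroupOf_eq_top.1 (frattini_nongenerating htop)

end Cfsg.Agent.Fusion.Focal
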