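/-
Metacyclic 2-groups: coprime automorphisms, and the groups containing `D₈` or `Q₈`.
-/
import Mathlib
import Cfsg.Prelude.Def_CaseTheorems
import Cfsg.Prelude.Def_OddOrderLocal
import Cfsg.Agent.OddLocal.MetacyclicAction
import Cfsg.Agent.OddLocal.Coprime
import Cfsg.Agent.GroupStructure3.FrattiniAut
import Cfsg.Agent.Lib.PGroups.UniqueSubgroup
import Cfsg.Agent.Lib.PLocal.CyclicExtension
import Cfsg.Agent.Lib.Classical.CyclicExt

set_option autoImplicit false
set_option linter.all false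

namespace Cfsg.Agent.Fusion.MetacyclicTwo

open Subgroup
open scoped commutatorElement

variable {G : Type*} [Group G] [Finite G]

local instance : Fact (Nat.Prime 2) := ⟨Nat.prime_two⟩

theorem eq_one_of_pow_odd (hG : IsPGroup 2 G) {x : G} {r : ℕ} (hr : Odd r) (h : x ^ r = 1) :
    x = 1 := by
  obtain ⟨k, hk⟩ := IsPGroup.iff_orderOf.mp hG x
  refine orderOf_eq_one_iff.mp (Nat.eq_one_of_dvd_coprimes ?_ (orderOf_dvd_of_pow_eq_one h)
    (dvd_of_eq hk))
  exact (Nat.coprime_two_right.mpr hr).pow_right k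

/-- An odd automorphism trivial on the Frattini quotient is trivial. -/
theorem burnside (hG : IsPGroup 2 G) (α : MulAut G) (hα : Odd (orderOf α))
    (h : ∀ x, α x * x⁻¹ ∈ frattini G) : α = 1 := by
  obtain ⟨n, hn⟩ := hG.exists_card_eq
  obtain ⟨r, -, hr⟩ := (Nat.dvd_prime_pow Nat.prime_two).mp
    (hn ▸ (frattini G).index_dvd_card : (frattini G).index ∣ 2 ^ n)
  have hst : ∀ β ∈ zpowers α, ∀ x, β x * x⁻¹ ∈ frattini G := by
    intro β hβ
    obtain ⟨k, rfl⟩ := (Submonoid.mem_powers_iff _ _).mp (mem_powers_iff_mem_zpowers.mpr hβ)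
    induction k with
    | zero => intro x; simp [one_mem]
    | succ k ih =>
      intro x
      have e : (α ^ (k + 1)) x * x⁻¹ = α ((α ^ k) x) * ((α ^ k) x)⁻¹ * ((α ^ k) x * x⁻¹) := by
        rw [pow_succ', MulAut.mul_apply]; group
      rw [e]
      exact mul_mem (h _) (ih (pow_mem (mem_zpowers α) k) x)
  have h1 := Cfsg.Agent.GroupStructure3.FrattiniAut.card_stab_dvd hn hr (zpowers α) hst
  rw [Nat.card_zpowers] at h1
  obtain ⟨i, -, hi⟩ := (Nat.dvd_prime_pow Nat.prime_two).mp h1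
  refine orderOf_eq_one_iff.mp ?_
  rcases Nat.eq_zero_or_pos i with rfl | hi0
  · simpa using hi
  · rw [hi] at hα
    exact absurd (Nat.even_pow.mpr ⟨even_two, hi0.ne'⟩) (Nat.not_even_iff_odd.mpr hα)

/-- An odd automorphism fixes a cyclic invariant subgroup pointwise. -/
theorem fix_cyclic (hG : IsPGroup 2 G) (α : MulAut G) (hα : Odd (orderOf α)) {c : G}
    (hc : α c ∈ zpowers c) : α c = c := by
  obtain ⟨s, hs⟩ := Cfsg.Agent.PLocal.CyclicExtension.exists_pow_eq_of_mem_zpowers hc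
  have hpow : ∀ m : ℕ, (α ^ m) c = c ^ (s ^ m) := by
    intro m
    induction m with
    | zero => simp
    | succ m ih => rw [pow_succ', MulAut.mul_apply, ih, map_pow, hs, ← pow_mul, pow_succ']
  have h1 := hpow (orderOf α)
  rw [pow_orderOf_eq_one, MulAut.one_apply] at h1
  obtain ⟨l, hl⟩ := IsPGroup.iff_orderOf.mp hG c
  have h2 : c ^ 1 = c ^ (s ^ orderOf α) := by rw [pow_one]; exact h1
  rw [pow_eq_pow_iff_modEq, hl] at h2
  rcases Nat.eq_zero_or_pos l with rfl | hl0
  · have : c = 1 := orderOf_eq_one_iff.mp (by simpa using hl)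
    rw [this, map_one]
  have h3 : (s : ZMod (2 ^ l)) ^ orderOf α = 1 := by
    have := (ZMod.natCast_eq_natCast_iff _ _ _).mpr h2
    push_cast at this
    exact this.symm
  let u : (ZMod (2 ^ l))ˣ := (IsUnit.of_pow_eq_one h3 hα.pos.ne').unit
  have hu : u ^ orderOf α = 1 := Units.ext (by rw [Units.val_pow_eq_pow_val]; exact h3)
  have hcard : Nat.card (ZMod (2 ^ l))ˣ = 2 ^ (l - 1) := by
    rw [Nat.card_eq_fintype_card, ZMod.card_units_eq_totient, Nat.totient_prime_pow Nat.prime_two hl0]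
    simp
  have hu1 : u = 1 := orderOf_eq_one_iff.mp (Nat.eq_one_of_dvd_coprimes
    ((Nat.coprime_two_right.mpr hα).pow_right (l - 1)) (orderOf_dvd_of_pow_eq_one hu)
    (hcard ▸ orderOf_dvd_natCard u))
  have h4 : (s : ZMod (2 ^ l)) = 1 := by
    have := congrArg (Units.val) hu1
    simpa [u] using this
  rw [hs]
  conv_rhs => rw [← pow_one c]
  rw [pow_eq_pow_iff_modEq, hl]
  exact (ZMod.natCast_eq_natCast_iff _ _ _).mp (by push_cast; exact h4)

/-- An odd automorphism of an abelian 2-group fixing the involutions is trivial. -/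
theorem abelian_fix (hG : IsPGroup 2 G) (hab : ∀ x y : G, x * y = y * x) (α : MulAut G)
    (hα : Odd (orderOf α)) (h : ∀ x : G, x ^ 2 = 1 → α x = x) : α = 1 := by
  have key : ∀ (k : ℕ) (x : G), x ^ 2 ^ k = 1 → α x = x := by
    intro k
    induction k with
    | zero => intro x hx; rw [pow_zero, pow_one] at hx; rw [hx, map_one]
    | succ k ih =>
      intro x hx
      have hx2 : α (x ^ 2) = x ^ 2 := ih _ (by rw [← pow_mul, ← pow_succ']; exact hx)
      have hd2 : (x⁻¹ * α x) ^ 2 = 1 := by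
        rw [(show Commute x⁻¹ (α x) from hab _ _).mul_pow, ← map_pow, hx2, inv_pow, inv_mul_cancel]
      have hd := h _ hd2
      have hm : ∀ m : ℕ, (α ^ m) x = x * (x⁻¹ * α x) ^ m := by
        intro m
        induction m with
        | zero => simp
        | succ m ihm =>
          rw [pow_succ', MulAut.mul_apply, ihm, map_mul, map_pow, hd, pow_succ', ← mul_assoc x,
            mul_inv_cancel_left]
      have h1 := hm (orderOf α)
      rw [pow_orderOf_eq_one, MulAut.one_apply, left_eq_mul] at h1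
      have := eq_one_of_pow_odd hG hα h1
      rw [inv_mul_eq_one] at this
      exact this.symm
  refine MulEquiv.ext fun x => ?_
  obtain ⟨k, hk⟩ := hG x
  exact key k x hk

/-- A subgroup of exponent dividing `e` of a metacyclic group has order dividing `e ^ 2`. -/
theorem card_dvd_sq {N : Subgroup G} [N.Normal] (hN : IsCyclic N) (hQ : IsCyclic (G ⧸ N))
    (K : Subgroup G) {e : ℕ} (hexp : ∀ x ∈ K, x ^ e = 1) : Nat.card K ∣ e * e := by
  set f : K →* G ⧸ N := (QuotientGroup.mk' N).comp K.subtype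
  have hker : f.ker = N.subgroupOf K := by
    ext w
    exact QuotientGroup.eq_one_iff _
  have h1 : Nat.card f.range ∣ e := by
    rw [← IsCyclic.exponent_eq_card]
    refine Monoid.exponent_dvd_of_forall_pow_eq_one ?_
    rintro ⟨q, w, rfl⟩
    exact Subtype.ext (by
      rw [coe_pow, coe_one, ← map_pow, show w ^ e = 1 from Subtype.ext (by simpa using hexp w w.2),
        map_one])
  have h2 : Nat.card (N.subgroupOf K) ∣ e := by
    have : IsCyclic (N.subgroupOf K) := isCyclic_of_injective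
      ((K.subtype.comp (N.subgroupOf K).subtype).codRestrict N fun w => w.2)
      (fun u v h => Subtype.ext (Subtype.ext ((congrArg (fun z : N => (z : G)) h :) :
        ((u : K) : G) = (v : K))))
    rw [← IsCyclic.exponent_eq_card]
    exact Monoid.exponent_dvd_of_forall_pow_eq_one fun w =>
      Subtype.ext (Subtype.ext (by simpa using hexp _ (w : K).2))
  rw [← Subgroup.card_mul_index f.ker, Subgroup.index_ker, hker]
  exact mul_dvd_mul h2 h1

theorem comm_mem {N : Subgroup G} [N.Normal] (hQ : IsCyclic (G ⧸ N)) (a b : G) :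
    a * b * a⁻¹ * b⁻¹ ∈ N := by
  refine (QuotientGroup.eq_one_iff _).mp ?_
  show QuotientGroup.mk' N (a * b * a⁻¹ * b⁻¹) = 1
  rw [map_mul, map_mul, map_mul, map_inv, map_inv,
    hQ.isMulCommutative.is_comm.comm (QuotientGroup.mk' N a) _, mul_inv_cancel_right, mul_inv_cancel]

/-- A nonabelian metacyclic 2-group with a nontrivial odd automorphism contains a `Q₈`. -/
theorem quaternion_of_aut (hG : IsPGroup 2 G) (hm : Cfsg.IsMetacyclic G)
    (hna : ¬ ∀ x y : G, x * y = y * x) (α : MulAut G) (hα : Odd (orderOf α)) (hα1 : α ≠ 1) :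
    ∃ i t : G, orderOf i = 4 ∧ t * i * t⁻¹ = i⁻¹ ∧ t ^ 2 ∈ zpowers i := by
  classical
  have hnil := hG.isNilpotent
  obtain ⟨N, hNn, hNc, hQc⟩ := hm
  obtain ⟨h, hNh⟩ := (Subgroup.isCyclic_iff_exists_zpowers_eq_top N).mp hNc
  obtain ⟨bq, hbq⟩ := hQc.exists_generator
  obtain ⟨b, rfl⟩ := QuotientGroup.mk'_surjective N bq
  set Φ := frattini G with hΦ
  have hsq : ∀ x : G, x ^ 2 ∈ Φ := Cfsg.Agent.GroupStructure3.FrattiniAut.pow_mem_frattini hG
  set π := QuotientGroup.mk' Φ with hπ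
  have hπ1 : ∀ x, π x = 1 ↔ x ∈ Φ := fun x => QuotientGroup.eq_one_iff x
  have hπcomm : ∀ x y, π x * π y = π y * π x := by
    intro x y
    refine commutatorElement_eq_one_iff_mul_comm.mp ?_
    rw [← map_commutatorElement, hπ1]
    exact Cfsg.Agent.Coprime.commutator_le_frattini G
      (commutator_mem_commutator (mem_top x) (mem_top y))
  have hπsq : ∀ x, π x * π x = 1 := fun x => by rw [← map_mul, hπ1, ← pow_two]; exact hsq x
  have hπz : ∀ (x : G) (i : ℤ), π (x ^ i) = if Even i then 1 else π x := by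
    intro x i
    rw [map_zpow]
    rcases Int.even_or_odd i with ⟨k, rfl⟩ | ⟨k, rfl⟩
    · rw [if_pos ⟨k, rfl⟩, ← two_mul, zpow_mul, zpow_two, hπsq, one_zpow]
    · rw [if_neg (by simp [parity_simps]), zpow_add, zpow_one, zpow_mul, zpow_two, hπsq, one_zpow,
        one_mul]
  have hdec : ∀ x : G, ∃ u v : ℤ, x = h ^ u * b ^ v := by
    intro x
    obtain ⟨v, hv⟩ := mem_zpowers_iff.mp (hbq (QuotientGroup.mk' N x))
    rw [← map_zpow] at hv
    have hmem : x * (b ^ v)⁻¹ ∈ N := (QuotientGroup.eq_one_iff _).mp (show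
      QuotientGroup.mk' N (x * (b ^ v)⁻¹) = 1 by rw [map_mul, map_inv, hv, mul_inv_cancel])
    obtain ⟨u, hu⟩ := mem_zpowers_iff.mp (hNh ▸ hmem : x * (b ^ v)⁻¹ ∈ zpowers h)
    exact ⟨u, v, by rw [hu, inv_mul_cancel_right]⟩
  -- `G` is not cyclic
  have hgen : ∀ y : G, (∀ x, π x = 1 ∨ π x = π y) → False := by
    intro y hy
    have htop : zpowers y ⊔ Φ = ⊤ := by
      refine eq_top_iff.mpr fun x _ => ?_
      rcases hy x with h1 | h1
      · exact mem_sup_right ((hπ1 x).mp h1)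
      · have : y⁻¹ * x ∈ Φ := (hπ1 _).mp (by rw [map_mul, map_inv, h1, inv_mul_cancel])
        have e : x = y * (y⁻¹ * x) := by group
        rw [e]
        exact mul_mem (mem_sup_left (mem_zpowers y)) (mem_sup_right this)
    have hy' := frattini_nongenerating htop
    refine hna fun x z => ?_
    obtain ⟨m, hm⟩ := mem_zpowers_iff.mp (hy' ▸ mem_top x : x ∈ zpowers y)
    obtain ⟨n, hn⟩ := mem_zpowers_iff.mp (hy' ▸ mem_top z : z ∈ zpowers y)
    rw [← hm, ← hn]
    exact (Commute.zpow_zpow_self y m n).eq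
  have hfour : ∀ x, π x = 1 ∨ π x = π h ∨ π x = π b ∨ π x = π h * π b := by
    intro x
    obtain ⟨u, v, rfl⟩ := hdec x
    rw [map_mul, hπz, hπz]
    split_ifs
    · left; simp
    · right; right; left; simp
    · right; left; simp
    · right; right; right; rfl
  have hh1 : π h ≠ 1 := fun e => hgen b fun x => by
    rcases hfour x with h1 | h1 | h1 | h1
    exacts [Or.inl h1, Or.inl (h1.trans e), Or.inr h1, Or.inr (by rw [h1, e, one_mul])]
  have hb1 : π b ≠ 1 := fun e => hgen h fun x => by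
    rcases hfour x with h1 | h1 | h1 | h1
    exacts [Or.inl h1, Or.inr h1, Or.inl (h1.trans e), Or.inr (by rw [h1, e, mul_one])]
  have hhb : π h ≠ π b := fun e => hgen h fun x => by
    rcases hfour x with h1 | h1 | h1 | h1
    exacts [Or.inl h1, Or.inr h1, Or.inr (h1.trans e.symm),
      Or.inl (by rw [h1, e, hπsq])]
  -- the induced map on the quotient
  have hΦα : ∀ (β : MulAut G) (x : G), x ∈ Φ → β x ∈ Φ := fun β x hx =>
    characteristic_iff_map_le.mp (inferInstance : (frattini G).Characteristic) β ⟨x, hx, rfl⟩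
  have hcompat : ∀ (β : MulAut G) (x y : G), π x = π y ↔ π (β x) = π (β y) := by
    have h1 : ∀ (β : MulAut G) (x y : G), π x = π y → π (β x) = π (β y) := by
      intro β x y e
      have : x⁻¹ * y ∈ Φ := (hπ1 _).mp (by rw [map_mul, map_inv, e, inv_mul_cancel])
      have h2 := (hπ1 _).mpr (hΦα β _ this)
      rw [map_mul, map_mul, map_inv, map_inv, inv_mul_eq_one] at h2
      exact h2
    refine fun β x y => ⟨h1 β x y, fun e => ?_⟩
    have := h1 β⁻¹ _ _ e
    rwa [MulAut.inv_apply_self, MulAut.inv_apply_self] at this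
  -- `α` moves `π h`
  have hmove : π (α h) ≠ π h := by
    intro e
    refine hα1 ?_
    have hαb : π (α b) = π b ∨ π (α b) = π h * π b := by
      rcases hfour (α b) with h1 | h1 | h1 | h1
      · exact absurd ((hπ1 b).mpr (by
          have := hΦα α⁻¹ _ ((hπ1 _).mp h1)
          rwa [MulAut.inv_apply_self] at this)) hb1
      · exact absurd ((hcompat α h b).mpr (e.trans h1.symm)) hhb
      · exact Or.inl h1
      · exact Or.inr h1
    have hb2 : π ((α ^ 2) b) = π b := by
      rw [pow_two, MulAut.mul_apply]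
      rcases hαb with h1 | h1
      · exact ((hcompat α _ _).mp h1).trans h1
      · have h2 : π (α (α b)) = π (α (h * b)) := (hcompat α _ _).mp (by rw [h1, map_mul])
        rw [h2, map_mul, map_mul, e, h1, ← mul_assoc, hπsq, one_mul]
    have hh2 : π ((α ^ 2) h) = π h := by
      rw [pow_two, MulAut.mul_apply]
      exact ((hcompat α _ _).mp e).trans e
    have hα2 : α ^ 2 = 1 := by
      refine burnside hG _ ?_ fun x => (hπ1 _).mp ?_
      · rw [orderOf_pow' α two_ne_zero, Nat.coprime_two_right.mpr hα, Nat.div_one]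
        exact hα
      rw [map_mul, map_inv, mul_inv_eq_one]
      obtain ⟨u, v, rfl⟩ := hdec x
      rw [map_mul, map_zpow, map_zpow, map_mul, map_mul, map_zpow, map_zpow, map_zpow, map_zpow,
        hh2, hb2]
    obtain ⟨k, hk⟩ := hα
    have := pow_orderOf_eq_one α
    rwa [hk, pow_succ, pow_mul, hα2, one_pow, one_mul] at this
  have hh'1 : π (α h) ≠ 1 := fun e => hh1 ((hπ1 h).mpr (by
    have := hΦα α⁻¹ _ ((hπ1 _).mp e)
    rwa [MulAut.inv_apply_self] at this))
  set h' := α h with hh'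
  have htop : N ⊔ zpowers h' = ⊤ := by
    refine frattini_nongenerating (eq_top_iff.mpr fun x _ => ?_)
    have hhmem : h ∈ N := hNh ▸ mem_zpowers h
    have key : ∀ y : G, π x = π y → y ∈ N ⊔ zpowers h' → x ∈ N ⊔ zpowers h' ⊔ Φ := by
      intro y e hy
      have : y⁻¹ * x ∈ Φ := (hπ1 _).mp (by rw [map_mul, map_inv, e, inv_mul_cancel])
      have e' : x = y * (y⁻¹ * x) := by group
      rw [e']
      exact mul_mem (mem_sup_left hy) (mem_sup_right this)
    have hm1 : h' ∈ N ⊔ zpowers h' := mem_sup_right (mem_zpowers h')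
    have hm2 : h ∈ N ⊔ zpowers h' := mem_sup_left hhmem
    rcases hfour h' with h1 | h1 | h1 | h1
    · exact absurd h1 hh'1
    · exact absurd h1 hmove
    · rcases hfour x with h2 | h2 | h2 | h2
      · exact key 1 (by rw [h2, map_one]) (one_mem _)
      · exact key h h2 hm2
      · exact key h' (h2.trans h1.symm) hm1
      · exact key (h * h') (by rw [h2, map_mul, h1]) (mul_mem hm2 hm1)
    · rcases hfour x with h2 | h2 | h2 | h2
      · exact key 1 (by rw [h2, map_one]) (one_mem _)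
      · exact key h h2 hm2
      · exact key (h * h') (by rw [h2, map_mul, h1, ← mul_assoc, hπsq, one_mul]) (mul_mem hm2 hm1)
      · exact key h' (h2.trans h1.symm) hm1
  have hN' : N.map α.toMonoidHom = zpowers h' := by
    rw [← hNh, MonoidHom.map_zpowers]; rfl
  set c := ⁅h', h⁆ with hc
  have hhN : h ∈ N := hNh ▸ mem_zpowers h
  have hcN : c ∈ N := comm_mem hQc h' h
  have hcN' : c ∈ zpowers h' := by
    rw [← hN']
    refine ⟨α.symm c, comm_mem hQc (α.symm h') (α.symm h) |> fun hm => ?_, α.apply_symm_apply c⟩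
    rw [SetLike.mem_coe, hc, commutatorElement_def, map_mul, map_mul, map_mul, map_inv, map_inv]
    exact hm
  have hcyc : ∀ {z x : G}, x ∈ zpowers z → Commute x z := fun {z x} hx => by
    obtain ⟨m, rfl⟩ := mem_zpowers_iff.mp hx
    exact (Commute.self_zpow z m).symm
  have hcenter : ∀ x : G, x ∈ N → x ∈ zpowers h' → ∀ y, Commute x y := by
    intro x hxN hx' y
    obtain ⟨u, hu, v, hv, rfl⟩ := mem_sup_of_normal_left.mp (htop ▸ mem_top y : y ∈ N ⊔ zpowers h')
    obtain ⟨m, rfl⟩ := mem_zpowers_iff.mp (hNh ▸ hu : u ∈ zpowers h)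
    obtain ⟨n, rfl⟩ := mem_zpowers_iff.mp hv
    exact ((hcyc (hNh ▸ hxN : x ∈ zpowers h)).zpow_right m).mul_right ((hcyc hx').zpow_right n)
  have hccen := hcenter c hcN hcN'
  have hc1 : c ≠ 1 := by
    intro e
    have hcomm : Commute h' h := commutatorElement_eq_one_iff_mul_comm.mp e
    refine hna fun x y => ?_
    have hall : ∀ z : G, Commute z h ∧ Commute z h' := by
      intro z
      obtain ⟨u, hu, v, hv, rfl⟩ := mem_sup_of_normal_left.mp (htop ▸ mem_top z : z ∈ N ⊔ zpowers h')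
      obtain ⟨m, rfl⟩ := mem_zpowers_iff.mp (hNh ▸ hu : u ∈ zpowers h)
      obtain ⟨n, rfl⟩ := mem_zpowers_iff.mp hv
      exact ⟨((Commute.self_zpow h m).symm).mul_left (hcomm.zpow_left n),
        (hcomm.symm.zpow_left m).mul_left (Commute.self_zpow h' n).symm⟩
    obtain ⟨u, hu, v, hv, rfl⟩ := mem_sup_of_normal_left.mp (htop ▸ mem_top y : y ∈ N ⊔ zpowers h')
    obtain ⟨m, rfl⟩ := mem_zpowers_iff.mp (hNh ▸ hu : u ∈ zpowers h)
    obtain ⟨n, rfl⟩ := mem_zpowers_iff.mp hv
    exact (((hall x).1.zpow_right m).mul_right ((hall x).2.zpow_right n)).eq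
  have hconj : h' * h * h'⁻¹ = c * h := by rw [hc, commutatorElement_def]; group
  -- the derived subgroup is `⟨c⟩`
  have hcomm_all : ∀ x y : G, ⁅x, y⁆ ∈ zpowers c := by
    intro x y
    have hcn : (zpowers c).Normal := ⟨fun z hz g => by
      obtain ⟨m, rfl⟩ := mem_zpowers_iff.mp hz
      rw [← ((hccen g).zpow_left m).eq, mul_inv_cancel_right]
      exact zpow_mem (mem_zpowers c) m⟩
    rw [← QuotientGroup.eq_one_iff, ← QuotientGroup.mk'_apply, map_commutatorElement,
      commutatorElement_eq_one_iff_mul_comm]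
    set σ := QuotientGroup.mk' (zpowers c)
    have hb : Commute (σ h') (σ h) := by
      refine commutatorElement_eq_one_iff_mul_comm.mp ?_
      rw [← map_commutatorElement]
      exact (QuotientGroup.eq_one_iff _).mpr (mem_zpowers c)
    have hall : ∀ z : G, Commute (σ z) (σ h) ∧ Commute (σ z) (σ h') := by
      intro z
      obtain ⟨u, hu, v, hv, rfl⟩ := mem_sup_of_normal_left.mp (htop ▸ mem_top z : z ∈ N ⊔ zpowers h')
      obtain ⟨m, rfl⟩ := mem_zpowers_iff.mp (hNh ▸ hu : u ∈ zpowers h)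
      obtain ⟨n, rfl⟩ := mem_zpowers_iff.mp hv
      rw [map_mul, map_zpow, map_zpow]
      exact ⟨((Commute.self_zpow (σ h) m).symm).mul_left (hb.zpow_left n),
        (hb.symm.zpow_left m).mul_left (Commute.self_zpow (σ h') n).symm⟩
    obtain ⟨u, hu, v, hv, rfl⟩ := mem_sup_of_normal_left.mp (htop ▸ mem_top y : y ∈ N ⊔ zpowers h')
    obtain ⟨m, rfl⟩ := mem_zpowers_iff.mp (hNh ▸ hu : u ∈ zpowers h)
    obtain ⟨n, rfl⟩ := mem_zpowers_iff.mp hv
    rw [map_mul, map_zpow, map_zpow]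
    exact (((hall x).1.zpow_right m).mul_right ((hall x).2.zpow_right n)).eq
  have hαc : α c = c := fix_cyclic hG α hα (by
    rw [hc, map_commutatorElement]
    exact hcomm_all _ _)
  obtain ⟨e, he⟩ := Cfsg.Agent.PLocal.CyclicExtension.exists_pow_eq_of_mem_zpowers
    (hNh ▸ hcN : c ∈ zpowers h)
  have he' : c = h' ^ e := by rw [hh', ← map_pow, ← he, hαc]
  set h'' := α h' with hh''
  have he'' : c = h'' ^ e := by rw [hh'', ← map_pow, ← he', hαc]
  have heven : Even e := by
    by_contra hne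
    obtain ⟨k, hk⟩ := IsPGroup.iff_orderOf.mp hG h
    have hcop : Nat.Coprime e (orderOf h) := by
      rw [hk]; exact (Nat.coprime_two_right.mpr (Nat.not_even_iff_odd.mp hne)).pow_right k
    have hz : zpowers c = zpowers h := by
      refine le_antisymm (zpowers_le.mpr (hNh ▸ hcN)) (zpowers_le.mpr ?_)
      obtain ⟨m, hm⟩ := exists_pow_eq_self_of_coprime hcop
      rw [← hm, ← he]
      exact pow_mem (mem_zpowers c) m
    refine hc1 ?_
    have hhc : ∀ y, Commute h y := fun y => by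
      obtain ⟨m, hm⟩ := mem_zpowers_iff.mp (hz ▸ mem_zpowers h : h ∈ zpowers c)
      rw [← hm]
      exact (hccen y).zpow_left m
    exact commutatorElement_eq_one_iff_mul_comm.mpr (hhc h').symm
  obtain ⟨u, hu, v, hv, huv⟩ := mem_sup_of_normal_left.mp (htop ▸ mem_top h'' : h'' ∈ N ⊔ zpowers h')
  obtain ⟨i, rfl⟩ := Cfsg.Agent.PLocal.CyclicExtension.exists_pow_eq_of_mem_zpowers
    (hNh ▸ hu : u ∈ zpowers h)
  obtain ⟨j, rfl⟩ := Cfsg.Agent.PLocal.CyclicExtension.exists_pow_eq_of_mem_zpowers hv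
  have hπn : ∀ (x : G) (m : ℕ), Even m → π (x ^ m) = 1 := fun x m hm => by
    obtain ⟨k, rfl⟩ := hm
    rw [map_pow, ← two_mul, pow_mul, pow_two, hπsq, one_pow]
  have hπo : ∀ (x : G) (m : ℕ), ¬ Even m → π (x ^ m) = π x := fun x m hm => by
    obtain ⟨k, rfl⟩ := Nat.not_even_iff_odd.mp hm
    rw [map_pow, pow_succ, pow_mul, pow_two, hπsq, one_pow, one_mul]
  have hh''1 : π h'' ≠ 1 := fun e1 => hh'1 ((hπ1 _).mpr (by
    have := hΦα α⁻¹ _ ((hπ1 _).mp e1)
    rwa [hh'', MulAut.inv_apply_self] at this))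
  have hh''h' : π h'' ≠ π h' := fun e1 => hmove ((hcompat α _ _).mpr e1)
  have hh''h : π h'' ≠ π h := by
    intro e1
    have h2 : ∀ k : ℕ, π ((α ^ (2 * k)) h) = π h := by
      intro k
      induction k with
      | zero => simp
      | succ k ih =>
        rw [show 2 * (k + 1) = 2 + 2 * k by ring, pow_add, MulAut.mul_apply]
        exact ((hcompat (α ^ 2) _ _).mp ih).trans (by rw [pow_two, MulAut.mul_apply]; exact e1)
    obtain ⟨k, hk⟩ := hα
    have h3 := pow_orderOf_eq_one α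
    rw [hk, pow_succ'] at h3
    have h4 := (hcompat α _ _).mp (h2 k)
    rw [← MulAut.mul_apply, h3, MulAut.one_apply] at h4
    exact hmove h4.symm
  have hi : ¬ Even i := by
    intro hev
    have h1 : π h'' = π (h' ^ j) := by rw [← huv, map_mul, hπn h i hev, one_mul]
    by_cases hj : Even j
    · exact hh''1 (h1.trans (hπn _ _ hj))
    · exact hh''h' (h1.trans (hπo _ _ hj))
  have hj : ¬ Even j := by
    intro hev
    exact hh''h (by rw [← huv, map_mul, hπn h' j hev, mul_one, hπo h i hi])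
  -- the exponent of `c`
  have hv' : h' ^ j * h ^ i * (h' ^ j)⁻¹ = c ^ (i * j) * h ^ i := by
    have h1 := Cfsg.Agent.OddLocal.Coprime.pow_conj_of_central_commutator hconj (hccen h') j
    have h2 : h' ^ j * h * (h' ^ j)⁻¹ = c ^ j * h := by rw [h1, mul_inv_cancel_right]
    rw [← conj_pow, h2, ((hccen h).pow_left j).mul_pow, ← pow_mul, mul_comm i j]
  have hmain : c = c ^ (i * j * e.choose 2) * (c ^ i * c ^ j) := by
    have h1 := Cfsg.Agent.OddLocal.Coprime.mul_pow_of_central_commutator hv'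
      ((hccen _).pow_left _) ((hccen _).pow_left _) e
    rw [huv, ← he'', ← pow_mul, ← pow_mul, ← pow_mul, mul_comm i e, mul_comm j e, pow_mul h, ← he,
      pow_mul h', ← he'] at h1
    exact h1
  obtain ⟨f, hf⟩ := heven
  have hcho : Odd (e.choose 2) := by
    by_contra hne
    have hev := Nat.not_odd_iff_even.mp hne
    rw [← pow_add, ← pow_add] at hmain
    have h1 : c ^ (i * j * e.choose 2 + (i + j)) = c := hmain.symm
    have h2 : Even (i * j * e.choose 2 + (i + j)) := by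
      refine Nat.even_add.mpr ⟨fun _ => ?_, fun _ => hev.mul_left _⟩
      exact Nat.even_add'.mpr ⟨fun _ => Nat.not_even_iff_odd.mp hj, fun _ => Nat.not_even_iff_odd.mp hi⟩
    obtain ⟨k, hk⟩ := h2
    have hpos : 1 ≤ k + k := by
      by_contra hlt
      rw [hk, show k + k = 0 by omega, pow_zero] at h1
      exact hc1 h1.symm
    rw [hk, show k + k = (k + k - 1) + 1 by omega, pow_succ] at h1
    have h3 : c ^ (k + k - 1) = 1 := mul_eq_right.mp h1
    exact hc1 (eq_one_of_pow_odd hG ⟨k - 1, by omega⟩ h3)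
  have hfodd : Odd f := by
    by_contra hne
    obtain ⟨g, hg⟩ := Nat.not_odd_iff_even.mp hne
    rw [hf, Nat.choose_two_right, hg, show (g + g + (g + g)) * (g + g + (g + g) - 1)
      = 2 * ((g + g) * (g + g + (g + g) - 1)) by ring, Nat.mul_div_cancel_left _ two_pos] at hcho
    exact (Nat.not_odd_iff_even.mpr ((show Even (g + g) from ⟨g, rfl⟩).mul_right _)) hcho
  have hh2mem : h ^ 2 ∈ zpowers c := by
    obtain ⟨k, hk⟩ := IsPGroup.iff_orderOf.mp hG (h ^ 2)
    obtain ⟨m, hm⟩ := exists_pow_eq_self_of_coprime (x := h ^ 2) (n := f)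
      (by rw [hk]; exact (Nat.coprime_two_right.mpr hfodd).pow_right k)
    rw [← hm, ← pow_mul h 2 f, show 2 * f = e by omega, ← he]
    exact pow_mem (mem_zpowers c) m
  have hc2 : c ^ 2 = 1 := by
    have hh2c : Commute (h ^ 2) h' := by
      obtain ⟨m, hm⟩ := mem_zpowers_iff.mp hh2mem
      rw [← hm]
      exact (hccen h').zpow_left m
    have h1 : (h' * h * h'⁻¹) ^ 2 = h ^ 2 := by
      rw [conj_pow, ← hh2c.eq, mul_inv_cancel_right]
    rw [hconj, (hccen h).mul_pow] at h1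
    exact mul_eq_right.mp h1
  have hh2 : h ^ 2 = c := by
    obtain ⟨m, hm⟩ := Cfsg.Agent.PLocal.CyclicExtension.exists_pow_eq_of_mem_zpowers hh2mem
    rcases Nat.even_or_odd m with ⟨k, rfl⟩ | ⟨k, rfl⟩
    · exfalso
      rw [← two_mul, pow_mul, hc2, one_pow] at hm
      refine hc1 ?_
      rw [he, hf, ← two_mul, pow_mul, hm, one_pow]
    · rw [hm, pow_succ, pow_mul, hc2, one_pow, one_mul]
  have hord : orderOf h = 4 := by
    refine orderOf_eq_prime_pow (p := 2) (n := 1) ?_ ?_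
    · rw [pow_one, hh2]; exact hc1
    · rw [show 2 ^ (1 + 1) = 2 * 2 by norm_num, pow_mul, hh2, hc2]
  refine ⟨h, h', hord, ?_, ?_⟩
  · rw [hconj, ← hh2, eq_inv_iff_mul_eq_one]
    have : (h ^ 2) ^ 2 = 1 := by rw [hh2, hc2]
    calc h ^ 2 * h * h = (h ^ 2) ^ 2 := by group
      _ = 1 := this
  · rw [hh', ← map_pow, hh2, hαc, ← hh2]
    exact pow_mem (mem_zpowers h) 2

/-- A metacyclic 2-group with a nonabelian subgroup of order 8. -/
theorem maximal_class (hG : IsPGroup 2 G) (hm : Cfsg.IsMetacyclic G) {i t : G} (hi : orderOf i = 4)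
    (hit : t * i * t⁻¹ = i⁻¹) (ht2 : t ^ 2 ∈ zpowers i) :
    (∃ m : ℕ, Nonempty (G ≃* DihedralGroup m)) ∨ (∃ m : ℕ, Nonempty (G ≃* QuaternionGroup m)) ∨
      Cfsg.IsQuasiDihedral G := by
  classical
  obtain ⟨N, hNn, hNc, hQc⟩ := hm
  have hi4 : i ^ 4 = 1 := hi ▸ pow_orderOf_eq_one i
  have hiinv : i ≠ i⁻¹ := by
    intro e
    have : i ^ 2 = 1 := by rw [pow_two]; nth_rw 2 [e]; exact mul_inv_cancel i
    have := orderOf_dvd_of_pow_eq_one this
    rw [hi] at this
    norm_num at this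
  -- the commutator lies in `N`
  have hi2 : i ^ 2 ∈ N := by
    have h1 := comm_mem hQc t i
    rw [hit] at h1
    have : i⁻¹ * i⁻¹ = (i ^ 2)⁻¹ := by rw [pow_two, mul_inv_rev]
    rw [this] at h1
    simpa using inv_mem h1
  have hit2 : t ^ 2 = 1 ∨ t ^ 2 = i ^ 2 := by
    obtain ⟨k, hk⟩ := Cfsg.Agent.PLocal.CyclicExtension.exists_pow_eq_of_mem_zpowers ht2
    have hfix : t * t ^ 2 * t⁻¹ = t ^ 2 := by group
    rw [hk, ← conj_pow, hit, inv_pow, inv_eq_iff_mul_eq_one, ← pow_add] at hfix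
    have := orderOf_dvd_of_pow_eq_one hfix
    rw [hi] at this
    rcases Nat.even_or_odd k with ⟨l, rfl⟩ | ⟨l, rfl⟩
    · rw [← two_mul, pow_mul] at hk
      rcases Nat.even_or_odd l with ⟨q, rfl⟩ | ⟨q, rfl⟩
      · left; rw [hk, ← two_mul, pow_mul, ← pow_mul i 2 2, hi4, one_pow]
      · right; rw [hk, pow_succ, pow_mul, ← pow_mul i 2 2, hi4, one_pow, one_mul]
    · omega
  have htN2 : t ^ 2 ∈ N := by
    rcases hit2 with h | h
    · rw [h]; exact one_mem _
    · rw [h]; exact hi2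
  -- normalise: the element of order four lies in `N`
  obtain ⟨i, t, hi, hiN, hit, ht2N, hiinv⟩ : ∃ i t : G, orderOf i = 4 ∧ i ∈ N ∧
      t * i * t⁻¹ = i⁻¹ ∧ t ^ 2 ∈ N ∧ i ≠ i⁻¹ := by
    by_cases hiN : i ∈ N
    · exact ⟨i, t, hi, hiN, hit, htN2, hiinv⟩
    have hcen2 : ∀ x ∈ N, x ^ 2 = 1 → ∀ y, y * x = x * y := by
      intro x hxN hx2 y
      by_cases hx1 : x = 1
      · rw [hx1, mul_one, one_mul]
      have hle : zpowers x ≤ N := zpowers_le.mpr hxN
      have hn : (zpowers x).Normal := by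
        refine ⟨fun z hz g => ?_⟩
        obtain ⟨m, rfl⟩ := mem_zpowers_iff.mp hz
        rw [← conj_zpow]
        refine zpow_mem ?_ m
        let K : Subgroup G :=
          { carrier := {w | w ∈ N ∧ w ^ 2 = 1}
            one_mem' := ⟨N.one_mem, one_pow 2⟩
            mul_mem' := fun {u v} hu hv => ⟨N.mul_mem hu.1 hv.1, by
              rw [(show Commute u v from congrArg Subtype.val
                (hNc.isMulCommutative.is_comm.comm ⟨u, hu.1⟩ ⟨v, hv.1⟩)).mul_pow, hu.2, hv.2, one_mul]⟩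
            inv_mem' := fun {u} hu => ⟨N.inv_mem hu.1, by rw [inv_pow, hu.2, inv_one]⟩ }
        have hKN : K ≤ N := fun w hw => hw.1
        have : IsCyclic K := isCyclic_of_injective (inclusion hKN) (inclusion_injective hKN)
        have hK : Nat.card K ∣ 2 := by
          rw [← IsCyclic.exponent_eq_card]
          exact Monoid.exponent_dvd_of_forall_pow_eq_one fun w => Subtype.ext (by simpa using w.2.2)
        have hxK : zpowers x = K := eq_of_le_of_card_ge (zpowers_le.mpr ⟨hxN, hx2⟩) (by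
          rw [Nat.card_zpowers, orderOf_eq_prime hx2 hx1]
          exact Nat.le_of_dvd two_pos hK)
        rw [hxK]
        exact ⟨hNn.conj_mem x hxN g, by rw [conj_pow, hx2, mul_one, mul_inv_cancel]⟩
      exact mem_center_iff.mp (Cfsg.Agent.PLocal.CyclicExtension.le_center_of_card_eq hG
        (by rw [Nat.card_zpowers, orderOf_eq_prime hx2 hx1]) (mem_zpowers x)) y
    have hiinvI : ∀ {w : G}, w ^ 4 = 1 → w ^ 2 ≠ 1 → orderOf w = 4 := fun {w} h4 h2 =>
      orderOf_eq_prime_pow (p := 2) (n := 1) (by rwa [pow_one]) h4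
    set π := QuotientGroup.mk' N
    have hsq : ∀ x : G, x ^ 2 ∈ N → π x * π x = 1 := fun x hx => by
      rw [← map_mul, ← pow_two]; exact (QuotientGroup.eq_one_iff _).mpr hx
    have htwo : π t = 1 ∨ π t = π i := by
      by_contra hcon
      push Not at hcon
      let K : Subgroup (G ⧸ N) :=
        { carrier := {q | q ^ 2 = 1}
          one_mem' := one_pow 2
          mul_mem' := fun {u v} hu hv => by
            show (u * v) ^ 2 = 1
            rw [(show Commute u v from hQc.isMulCommutative.is_comm.comm u v).mul_pow,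
              show u ^ 2 = 1 from hu, show v ^ 2 = 1 from hv, one_mul]
          inv_mem' := fun {u} hu => by
            show u⁻¹ ^ 2 = 1
            rw [inv_pow, show u ^ 2 = 1 from hu, inv_one] }
      have hK : Nat.card K ∣ 2 := by
        rw [← IsCyclic.exponent_eq_card]
        exact Monoid.exponent_dvd_of_forall_pow_eq_one fun q => Subtype.ext (by rw [coe_pow]; exact q.2)
      have hi1 : π i ≠ 1 := fun h => hiN ((QuotientGroup.eq_one_iff i).mp h)
      have hiK : π i ∈ K := show (π i) ^ 2 = 1 by rw [pow_two]; exact hsq i hi2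
      have htK : π t ∈ K := show (π t) ^ 2 = 1 by rw [pow_two]; exact hsq t htN2
      have heq : zpowers (π i) = K := eq_of_le_of_card_ge (zpowers_le.mpr hiK) (by
        rw [Nat.card_zpowers, orderOf_eq_prime (show (π i) ^ 2 = 1 from hiK) hi1]
        exact Nat.le_of_dvd two_pos hK)
      obtain ⟨m, hm⟩ := mem_zpowers_iff.mp (heq ▸ htK : π t ∈ zpowers (π i))
      rcases Int.even_or_odd m with ⟨k, rfl⟩ | ⟨k, rfl⟩
      · rw [← two_mul, zpow_mul, zpow_two, hsq i hi2, one_zpow] at hm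
        exact hcon.1 hm.symm
      · rw [zpow_add, zpow_one, zpow_mul, zpow_two, hsq i hi2, one_zpow, one_mul] at hm
        exact hcon.2 hm.symm
    have hti : t * i ≠ i * t := fun e => hiinv (by
      have h1 : t * i * t⁻¹ = i := by rw [e, mul_inv_cancel_right]
      exact h1.symm.trans hit)
    rcases htwo with htN | htN
    · have htmem : t ∈ N := (QuotientGroup.eq_one_iff t).mp htN
      have ht2ne : t ^ 2 ≠ 1 := fun e => hti ((hcen2 t htmem e i).symm)
      have ht2i : t ^ 2 = i ^ 2 := hit2.resolve_left ht2ne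
      have ht4 : t ^ 4 = 1 := by rw [show 4 = 2 * 2 from rfl, pow_mul, ht2i, ← pow_mul]; exact hi4
      refine ⟨t, i, hiinvI ht4 ht2ne, htmem, ?_, hi2, ?_⟩
      · have h1 : t * i = i⁻¹ * t := mul_inv_eq_iff_eq_mul.mp hit
        have h2 : i * t = t * i⁻¹ := by
          calc i * t = i * (t * i) * i⁻¹ := by group
            _ = i * (i⁻¹ * t) * i⁻¹ := by rw [h1]
            _ = t * i⁻¹ := by group
        rw [h2, show t * i⁻¹ * i⁻¹ = t * (i ^ 2)⁻¹ by group, ← ht2i]
        group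
      · intro e
        exact ht2ne (by rw [pow_two]; nth_rw 2 [e]; exact mul_inv_cancel t)
    · have hitmem : i⁻¹ * t ∈ N := QuotientGroup.eq.mp htN.symm
      set w := i⁻¹ * t with hw
      have hw2 : w ^ 2 = t ^ 2 := by
        have h1 : t * i⁻¹ * t⁻¹ = i := by
          rw [show t * i⁻¹ * t⁻¹ = (t * i * t⁻¹)⁻¹ by group, hit, inv_inv]
        calc w ^ 2 = i⁻¹ * (t * i⁻¹ * t⁻¹) * t ^ 2 := by rw [hw]; simp only [pow_two]; group
          _ = t ^ 2 := by rw [h1, inv_mul_cancel, one_mul]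
      have hiw : i * w ≠ w * i := by
        intro e
        rw [hw, mul_inv_cancel_left] at e
        exact hti (by rw [mul_assoc] at e; exact (eq_inv_mul_iff_mul_eq.mp e).symm)
      have hw2ne : w ^ 2 ≠ 1 := fun e => hiw (hcen2 w hitmem e i)
      have ht2i : t ^ 2 = i ^ 2 := hit2.resolve_left (hw2 ▸ hw2ne)
      have hw4 : w ^ 4 = 1 := by rw [show 4 = 2 * 2 from rfl, pow_mul, hw2, ht2i, ← pow_mul]; exact hi4
      refine ⟨w, t, hiinvI hw4 hw2ne, hitmem, ?_, htN2, ?_⟩
      · rw [eq_inv_iff_mul_eq_one, hw]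
        have h1 : t * i⁻¹ * t⁻¹ = i := by
          rw [← inv_inj] at hit
          simpa [mul_assoc] using hit
        calc t * (i⁻¹ * t) * t⁻¹ * (i⁻¹ * t) = (t * i⁻¹ * t⁻¹) * (t ^ 2 * (t⁻¹ * i⁻¹ * t)) := by group
          _ = i * (i ^ 2 * (t⁻¹ * i⁻¹ * t)) := by rw [h1, ht2i]
          _ = i * (i ^ 2 * i) := by
            congr 2
            calc t⁻¹ * i⁻¹ * t = t⁻¹ * (t * i * t⁻¹) * t := by rw [hit]
              _ = i := by group
          _ = i ^ 4 := by group
          _ = 1 := hi4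
      · intro e
        exact hw2ne (by rw [pow_two]; nth_rw 2 [e]; exact mul_inv_cancel w)
  -- now `i ∈ N`
  obtain ⟨a, hNa⟩ := (Subgroup.isCyclic_iff_exists_zpowers_eq_top N).mp hNc
  obtain ⟨M, hM⟩ := IsPGroup.iff_orderOf.mp hG a
  have hia : i ∈ zpowers a := hNa ▸ hiN
  have htN : t ∉ N := fun h => hiinv (by
    have h1 : t * i = i * t := congrArg Subtype.val (hNc.isMulCommutative.is_comm.comm ⟨t, h⟩ ⟨i, hiN⟩)
    rw [h1, mul_inv_cancel_right] at hit
    exact hit)
  -- `N` has index two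
  have hidx : N.index = 2 := by
    obtain ⟨bq, hbq⟩ := hQc.exists_generator
    obtain ⟨b, rfl⟩ := QuotientGroup.mk'_surjective N bq
    set π := QuotientGroup.mk' N
    obtain ⟨s, hs⟩ := Cfsg.Agent.PLocal.CyclicExtension.exists_pow_eq_of_mem_zpowers (hbq (π t))
    have hb4 : b * i * b⁻¹ = i ∨ b * i * b⁻¹ = i⁻¹ := by
      -- conjugates of `i` are the elements of order four of `N`
      have hmem : b * i * b⁻¹ ∈ zpowers i := by
        have hle : zpowers i ≤ N := zpowers_le.mpr hiN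
        let K : Subgroup G :=
          { carrier := {w | w ∈ N ∧ w ^ 4 = 1}
            one_mem' := ⟨N.one_mem, one_pow 4⟩
            mul_mem' := fun {u v} hu hv => ⟨N.mul_mem hu.1 hv.1, by
              rw [(show Commute u v from congrArg Subtype.val
                (hNc.isMulCommutative.is_comm.comm ⟨u, hu.1⟩ ⟨v, hv.1⟩)).mul_pow, hu.2, hv.2, one_mul]⟩
            inv_mem' := fun {u} hu => ⟨N.inv_mem hu.1, by rw [inv_pow, hu.2, inv_one]⟩ }
        have hKN : K ≤ N := fun w hw => hw.1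
        have : IsCyclic K := isCyclic_of_injective (inclusion hKN) (inclusion_injective hKN)
        have hK : Nat.card K ∣ 4 := by
          rw [← IsCyclic.exponent_eq_card]
          exact Monoid.exponent_dvd_of_forall_pow_eq_one fun w => Subtype.ext (by simpa using w.2.2)
        have hi4' : i ^ 4 = 1 := hi ▸ pow_orderOf_eq_one i
        have hiK : zpowers i = K := eq_of_le_of_card_ge (zpowers_le.mpr ⟨hiN, hi4'⟩) (by
          rw [Nat.card_zpowers, hi]
          exact Nat.le_of_dvd (by norm_num) hK)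
        rw [hiK]
        exact ⟨hNn.conj_mem i hiN b, by rw [conj_pow, hi4', mul_one, mul_inv_cancel]⟩
      obtain ⟨k, hk⟩ := Cfsg.Agent.PLocal.CyclicExtension.exists_pow_eq_of_mem_zpowers hmem
      have hi4' : i ^ 4 = 1 := hi ▸ pow_orderOf_eq_one i
      have hk' : b * i * b⁻¹ = i ^ (k % 4) := by rw [hk, ← hi, pow_mod_orderOf]
      have hlt := Nat.mod_lt k (show 4 > 0 by norm_num)
      have hord : orderOf (b * i * b⁻¹) = 4 := by
        rw [show b * i * b⁻¹ = MulAut.conj b i from rfl, MulEquiv.orderOf_eq, hi]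
      generalize k % 4 = r at hk' hlt
      interval_cases r
      · rw [hk', pow_zero, orderOf_one] at hord
        omega
      · exact Or.inl (by rw [hk', pow_one])
      · rw [hk'] at hord
        have := orderOf_dvd_of_pow_eq_one (show (i ^ 2) ^ 2 = 1 by rw [← pow_mul]; exact hi4')
        rw [hord] at this
        norm_num at this
      · refine Or.inr (hk'.trans (eq_inv_of_mul_eq_one_left ?_))
        rw [← pow_succ]; exact hi4'
    have hb2 : b ^ 2 * i * (b ^ 2)⁻¹ = i := by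
      rw [show b ^ 2 * i * (b ^ 2)⁻¹ = b * (b * i * b⁻¹) * b⁻¹ by simp only [pow_two]; group]
      rcases hb4 with h | h <;> rw [h]
      · exact h
      · rw [show b * i⁻¹ * b⁻¹ = (b * i * b⁻¹)⁻¹ by group, h, inv_inv]
    have hsodd : Odd s := by
      by_contra hse
      obtain ⟨l, rfl⟩ := Nat.not_odd_iff_even.mp hse
      have htl : (b ^ (l + l))⁻¹ * t ∈ N := QuotientGroup.eq.mp (show π (b ^ (l + l)) = π t by rw [map_pow, ← hs])
      have hc : Commute (b ^ (l + l)) i := by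
        rw [← two_mul, pow_mul]
        exact (show Commute (b ^ 2) i from mul_inv_eq_iff_eq_mul.mp hb2).pow_left l
      have hc2 : Commute ((b ^ (l + l))⁻¹ * t) i :=
        congrArg Subtype.val (hNc.isMulCommutative.is_comm.comm ⟨_, htl⟩ ⟨i, hiN⟩)
      have hc3 : Commute t i := by
        have := hc.mul_left hc2
        rwa [mul_inv_cancel_left] at this
      exact hiinv (by rw [hc3.eq, mul_inv_cancel_right] at hit; exact hit)
    have hπt1 : π t ≠ 1 := fun h => htN ((QuotientGroup.eq_one_iff t).mp h)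
    have hπt : orderOf (π t) = 2 := orderOf_eq_prime
      (by rw [← map_pow]; exact (QuotientGroup.eq_one_iff _).mpr ht2N) hπt1
    obtain ⟨L, hL⟩ := IsPGroup.iff_orderOf.mp (hG.to_quotient N) (π b)
    have h1 : orderOf ((π b) ^ s) = orderOf (π b) :=
      Nat.Coprime.orderOf_pow (by rw [hL]; exact ((Nat.coprime_two_right.mpr hsodd).pow_right L).symm)
    rw [← hs, hπt] at h1
    rw [index_eq_card, h1, ← orderOf_eq_card_of_forall_mem_zpowers hbq]
  -- the action of `t`
  obtain ⟨r, hr⟩ := Cfsg.Agent.PLocal.CyclicExtension.exists_pow_eq_of_mem_zpowers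
    (hNa ▸ hNn.conj_mem a (hNa ▸ mem_zpowers a) t : t * a * t⁻¹ ∈ zpowers a)
  obtain ⟨l, hl⟩ := Cfsg.Agent.PLocal.CyclicExtension.exists_pow_eq_of_mem_zpowers hia
  have hM2 : 2 ≤ M := by
    have h1 : orderOf i ∣ orderOf a := orderOf_dvd_of_pow_eq_one (by
      rw [hl, ← pow_mul, mul_comm, pow_mul, pow_orderOf_eq_one, one_pow])
    rw [hi, hM, show 4 = 2 ^ 2 from rfl, Nat.pow_dvd_pow_iff_le_right one_lt_two] at h1
    exact h1
  have hr4 : 4 ∣ r + 1 := by
    have h1 : i ^ r = i⁻¹ := by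
      calc i ^ r = (a ^ l) ^ r := by rw [← hl]
        _ = t * a ^ l * t⁻¹ := by rw [← conj_pow, hr, ← pow_mul, ← pow_mul, mul_comm]
        _ = i⁻¹ := by rw [← hl, hit]
    have h2 : i ^ (r + 1) = 1 := by rw [pow_succ, h1, inv_mul_cancel]
    have h3 := orderOf_dvd_of_pow_eq_one h2
    rwa [hi] at h3
  obtain ⟨v, hv⟩ : ∃ v, r = 4 * v + 3 := ⟨(r + 1) / 4 - 1, by omega⟩
  have hrr : r * r ≡ 1 [MOD 2 ^ M] := by
    rw [← hM, ← pow_eq_pow_iff_modEq, pow_one, ← pow_two, ← Cfsg.Agent.PGroups.UniqueSubgroup.pow_conj_eq hr 2]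
    have := congrArg Subtype.val (hNc.isMulCommutative.is_comm.comm ⟨_, ht2N⟩ ⟨a, hNa ▸ mem_zpowers a⟩)
    simp only [Subgroup.coe_mul] at this
    rw [this, mul_inv_cancel_right]
  have hdiv : 2 ^ (M - 1) ∣ r + 1 := by
    have h1 : 2 ^ M ∣ r * r - 1 := (Nat.modEq_iff_dvd' (by nlinarith)).mp hrr.symm
    have h2 : r * r - 1 = 2 * ((2 * v + 1) * (r + 1)) := by
      subst hv
      rw [Nat.sub_eq_iff_eq_add (by nlinarith)]
      ring
    rw [h2, show 2 ^ M = 2 * 2 ^ (M - 1) by rw [← pow_succ']; congr 1; omega] at h1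
    exact ((Nat.coprime_two_right.mpr ⟨v, rfl⟩).pow_right _).symm.dvd_of_dvd_mul_left
      (Nat.dvd_of_mul_dvd_mul_left two_pos h1)
  have hta : t ∉ zpowers a := hNa.symm ▸ htN
  have hcard : Nat.card G = 2 ^ (M + 1) := by
    rw [← N.card_mul_index, hidx, ← hNa, Nat.card_zpowers, hM, pow_succ]
  set z := a ^ 2 ^ (M - 1) with hz
  have hzz : z * z = 1 := by
    rw [hz, ← pow_two, ← pow_mul, ← pow_succ, show M - 1 + 1 = M by omega, ← hM, pow_orderOf_eq_one]
  have ht2z : t ^ 2 = 1 ∨ t ^ 2 = z := by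
    obtain ⟨s, hs⟩ := Cfsg.Agent.PLocal.CyclicExtension.exists_pow_eq_of_mem_zpowers (hNa ▸ ht2N : t ^ 2 ∈ zpowers a)
    have hfix : t * t ^ 2 * t⁻¹ = t ^ 2 := by group
    rw [hs, ← conj_pow, hr, ← pow_mul, pow_eq_pow_iff_modEq, hM] at hfix
    have h1 : 2 ^ M ∣ r * s - s := (Nat.modEq_iff_dvd' (Nat.le_mul_of_pos_left s (by omega))).mp hfix.symm
    rw [show r * s - s = 2 * ((2 * v + 1) * s) by
      subst hv
      rw [Nat.sub_eq_iff_eq_add (Nat.le_mul_of_pos_left s (by omega))]; ring,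
      show 2 ^ M = 2 * 2 ^ (M - 1) by rw [← pow_succ']; congr 1; omega] at h1
    obtain ⟨q, hq⟩ := ((Nat.coprime_two_right.mpr ⟨v, rfl⟩).pow_right _).symm.dvd_of_dvd_mul_left
      (Nat.dvd_of_mul_dvd_mul_left two_pos h1)
    rw [hq, pow_mul, ← hz] at hs
    rcases Nat.even_or_odd q with ⟨k, rfl⟩ | ⟨k, rfl⟩
    · left; rw [hs, ← two_mul, pow_mul, pow_two, hzz, one_pow]
    · right; rw [hs, pow_succ, pow_mul, pow_two, hzz, one_pow, one_mul]
  haveI : NeZero (2 ^ M) := ⟨pow_ne_zero _ two_ne_zero⟩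
  haveI : NeZero (2 ^ (M - 1)) := ⟨pow_ne_zero _ two_ne_zero⟩
  obtain ⟨k, hk⟩ := hdiv
  rcases Nat.even_or_odd k with ⟨q, rfl⟩ | hkodd
  · -- inversion
    have hinv : t * a * t⁻¹ = a⁻¹ := by
      rw [hr, eq_inv_iff_mul_eq_one, ← pow_succ, hk, ← two_mul, ← mul_assoc, ← pow_succ,
        show M - 1 + 1 = M by omega, pow_mul, ← hM, pow_orderOf_eq_one, one_pow]
    rcases ht2z with h | h
    · left
      obtain ⟨f, hf, -, -⟩ := Cfsg.Agent.Classical.CyclicExt.exists_dihedral_hom a t hM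
        (by rw [← pow_two, h]) hinv hta
      exact ⟨2 ^ M, ⟨(MulEquiv.ofBijective f ((Nat.bijective_iff_injective_and_card f).mpr
        ⟨hf, by rw [DihedralGroup.nat_card, hcard, pow_succ, mul_comm]⟩)).symm⟩⟩
    · right; left
      obtain ⟨f, hf⟩ := Cfsg.Agent.Classical.CyclicExt.exists_quaternion_hom (n := 2 ^ (M - 1)) a t
        (by rw [hM, ← pow_succ']; congr 1; omega) (by rw [← pow_two, h]) hinv hta
      exact ⟨2 ^ (M - 1), ⟨(MulEquiv.ofBijective f ((Nat.bijective_iff_injective_and_card f).mpr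
        ⟨hf, by
          rw [Nat.card_eq_fintype_card, QuaternionGroup.card, hcard, show 4 = 2 ^ 2 from rfl, ← pow_add]
          congr 1
          omega⟩)).symm⟩⟩
  · -- quasi-dihedral
    right; right
    have hM3 : 3 ≤ M := by
      by_contra hlt
      obtain rfl : M = 2 := by omega
      obtain ⟨q, rfl⟩ := hkodd
      simp only [show (2 - 1 : ℕ) = 1 from rfl, pow_one] at hk
      omega
    have hconjr : t * a * t⁻¹ = a ^ (2 ^ (M - 1) - 1) := by
      rw [hr, pow_eq_pow_iff_modEq, hM]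
      obtain ⟨q, rfl⟩ := hkodd
      have hpos : 1 ≤ 2 ^ (M - 1) := Nat.one_le_two_pow
      refine Nat.ModEq.symm ((Nat.modEq_iff_dvd' ?_).mpr ⟨q, ?_⟩)
      · have := hk ▸ Nat.le_mul_of_pos_right (2 ^ (M - 1)) (show 0 < 2 * q + 1 by omega)
        omega
      · have : 2 ^ M = 2 * 2 ^ (M - 1) := by rw [← pow_succ']; congr 1; omega
        rw [this]
        have h' : r = 2 ^ (M - 1) * (2 * q + 1) - 1 := by omega
        rw [h', show 2 ^ (M - 1) * (2 * q + 1) = 2 * 2 ^ (M - 1) * q + 2 ^ (M - 1) by ring]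
        omega
    have hyex : ∃ y, y ∉ zpowers a ∧ y ^ 2 = 1 ∧ y * a * y⁻¹ = a ^ (2 ^ (M - 1) - 1) := by
      rcases ht2z with h | h
      · exact ⟨t, hta, h, hconjr⟩
      refine ⟨a * t, fun hm => hta ?_, ?_, ?_⟩
      · have := mul_mem (inv_mem (mem_zpowers a)) hm
        rwa [inv_mul_cancel_left] at this
      · rw [pow_two, show a * t * (a * t) = a * (t * a * t⁻¹) * t ^ 2 by group, hconjr, h, ← pow_succ',
          show 2 ^ (M - 1) - 1 + 1 = 2 ^ (M - 1) by have := Nat.one_le_two_pow (n := M - 1); omega,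
          ← hz, hzz]
      · rw [show a * t * a * (a * t)⁻¹ = a * (t * a * t⁻¹) * a⁻¹ by group, hconjr,
          (Commute.self_pow a _).eq, mul_inv_cancel_right]
    obtain ⟨y, hy, hy2, hyc⟩ := hyex
    exact ⟨M, hM3, hcard, a, y, hM,
      orderOf_eq_prime hy2 (fun h => hy (h ▸ one_mem _)), hyc⟩

/-- No element of `P` outside an abelian homocyclic `K` of exponent at least 4, squaring into `K`,
moves an involution of `K`. -/
theorem homocyclic_absurd (hG : IsPGroup 2 G) (hm : Cfsg.IsMetacyclic G) (K : Subgroup G)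
    (hab : ∀ x ∈ K, ∀ y ∈ K, x * y = y * x) (g : G) (hgK : ∀ x ∈ K, g * x * g⁻¹ ∈ K)
    (hg2 : g ^ 2 ∈ K) (m : ℕ) (hm0 : m ≠ 0) (hexp : ∀ x ∈ K, x ^ 2 ^ (m + 1) = 1)
    {q : G} (hq : q ∈ K) (hmove : g * q ^ 2 ^ m * g⁻¹ ≠ q ^ 2 ^ m) : False := by
  classical
  obtain ⟨N, hNn, hNc, hQc⟩ := hm
  set e := q ^ 2 ^ m with he
  set d := g * q * g⁻¹ * q⁻¹ with hd
  have hdN : d ∈ N := comm_mem hQc g q
  have hgq : g * q * g⁻¹ ∈ K := hgK q hq
  have hdK : d ∈ K := mul_mem hgq (inv_mem hq)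
  have hdm : d ^ 2 ^ m = g * e * g⁻¹ * e⁻¹ := by
    rw [hd, (show Commute (g * q * g⁻¹) q⁻¹ from hab _ hgq _ (inv_mem hq)).mul_pow, conj_pow, inv_pow]
  have hdne : d ^ 2 ^ m ≠ 1 := by
    rw [hdm, Ne, mul_inv_eq_one]
    exact hmove
  have hdord : orderOf d = 2 ^ (m + 1) := orderOf_eq_prime_pow hdne (hexp d hdK)
  have hgd : g * d * g⁻¹ = d⁻¹ := by
    have h1 : g ^ 2 * q * (g ^ 2)⁻¹ = q := by
      rw [hab _ hg2 q hq, mul_inv_cancel_right]
    calc g * d * g⁻¹ = (g ^ 2 * q * (g ^ 2)⁻¹) * (g * q * g⁻¹)⁻¹ := by rw [hd]; simp only [pow_two]; group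
      _ = d⁻¹ := by rw [h1, hd]; group
  have hd2 : d ^ 2 ≠ 1 := fun h => by
    have := orderOf_dvd_of_pow_eq_one h
    rw [hdord] at this
    have h2 := Nat.le_of_dvd two_pos this
    have h4 : 4 ≤ 2 ^ (m + 1) := by
      calc 4 = 2 ^ 2 := rfl
        _ ≤ 2 ^ (m + 1) := Nat.pow_le_pow_right two_pos (by omega)
    omega
  -- `N ∩ K = ⟨d⟩`
  have hNK : N ⊓ K = zpowers d := by
    refine (eq_of_le_of_card_ge (zpowers_le.mpr (mem_inf.mpr ⟨hdN, hdK⟩)) ?_).symm
    have : IsCyclic (N ⊓ K : Subgroup G) := isCyclic_of_injective (inclusion inf_le_left) (inclusion_injective _)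
    rw [Nat.card_zpowers, hdord]
    refine Nat.le_of_dvd (pow_pos two_pos _) ?_
    rw [← IsCyclic.exponent_eq_card]
    exact Monoid.exponent_dvd_of_forall_pow_eq_one fun w => Subtype.ext (by simpa using hexp _ w.2.2)
  set π := QuotientGroup.mk' N
  have heN : e ∉ N := by
    intro h
    obtain ⟨i, hi⟩ := mem_zpowers_iff.mp (hNK ▸ mem_inf.mpr ⟨h, pow_mem hq _⟩ : e ∈ zpowers d)
    have he2 : e * e = 1 := by rw [he, ← pow_two, ← pow_mul, ← pow_succ]; exact hexp q hq
    refine hmove ?_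
    rw [← hi, ← conj_zpow, hgd, inv_zpow, inv_eq_iff_mul_eq_one, hi, he2]
  have hπq : orderOf (π q) = 2 ^ (m + 1) := orderOf_eq_prime_pow
    (by rw [← map_pow]; exact fun h => heN ((QuotientGroup.eq_one_iff _).mp h))
    (by rw [← map_pow, hexp q hq, map_one])
  -- the image of `K`
  let T : Subgroup (G ⧸ N) :=
    { carrier := {w | w ^ 2 ^ (m + 1) = 1}
      one_mem' := one_pow _
      mul_mem' := fun {u v} hu hv => by
        show (u * v) ^ 2 ^ (m + 1) = 1
        rw [(show Commute u v from hQc.isMulCommutative.is_comm.comm u v).mul_pow,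
          show u ^ 2 ^ (m + 1) = 1 from hu, show v ^ 2 ^ (m + 1) = 1 from hv, one_mul]
      inv_mem' := fun {u} hu => by
        show u⁻¹ ^ 2 ^ (m + 1) = 1
        rw [inv_pow, show u ^ 2 ^ (m + 1) = 1 from hu, inv_one] }
  have hT : zpowers (π q) = T := by
    refine eq_of_le_of_card_ge (zpowers_le.mpr (show (π q) ^ 2 ^ (m + 1) = 1 by
      rw [← hπq, pow_orderOf_eq_one])) ?_
    rw [Nat.card_zpowers, hπq]
    refine Nat.le_of_dvd (pow_pos two_pos _) ?_
    rw [← IsCyclic.exponent_eq_card]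
    exact Monoid.exponent_dvd_of_forall_pow_eq_one fun w => Subtype.ext (by rw [coe_pow]; exact w.2)
  have hNab : ∀ x ∈ N, ∀ y ∈ N, x * y = y * x := fun x hx y hy =>
    congrArg Subtype.val (hNc.isMulCommutative.is_comm.comm ⟨x, hx⟩ ⟨y, hy⟩)
  by_cases hgT : (π g) ^ 2 ^ (m + 1) = 1
  · obtain ⟨j, hj⟩ := mem_zpowers_iff.mp (hT ▸ hgT : π g ∈ zpowers (π q))
    have hmem : g * (q ^ j)⁻¹ ∈ N := (QuotientGroup.eq_one_iff _).mp (show π (g * (q ^ j)⁻¹) = 1 by
      rw [map_mul, map_inv, map_zpow, hj, mul_inv_cancel])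
    refine hd2 ?_
    have h1 : g * (q ^ j)⁻¹ * d * (g * (q ^ j)⁻¹)⁻¹ = d := by
      rw [hNab _ hmem d hdN, mul_inv_cancel_right]
    have h2 : (q ^ j)⁻¹ * d * q ^ j = d := by
      rw [hab _ (inv_mem (zpow_mem hq j)) d hdK, inv_mul_cancel_right]
    rw [show g * (q ^ j)⁻¹ * d * (g * (q ^ j)⁻¹)⁻¹ = g * ((q ^ j)⁻¹ * d * q ^ j) * g⁻¹ by group, h2,
      hgd, inv_eq_iff_mul_eq_one, ← pow_two] at h1
    exact h1
  · obtain ⟨j, hj⟩ := Cfsg.Agent.PLocal.CyclicExtension.exists_pow_eq_of_mem_zpowers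
      (hT.symm ▸ (show (π (g ^ 2)) ^ 2 ^ (m + 1) = 1 by rw [← map_pow, hexp _ hg2, map_one]) :
        π (g ^ 2) ∈ zpowers (π q))
    have hjodd : Odd j := by
      by_contra hne
      obtain ⟨k, rfl⟩ := Nat.not_odd_iff_even.mp hne
      refine hgT ?_
      rw [pow_succ', pow_mul, ← map_pow, hj, ← pow_mul, show (k + k) * 2 ^ m = 2 ^ (m + 1) * k by
        rw [pow_succ]; ring, pow_mul, ← hπq, pow_orderOf_eq_one, one_pow]
    have hmem : g ^ 2 * (q ^ j)⁻¹ ∈ N ⊓ K := ⟨(QuotientGroup.eq_one_iff _).mp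
      (show π (g ^ 2 * (q ^ j)⁻¹) = 1 by rw [map_mul, map_inv, map_pow π q, hj, mul_inv_cancel]),
      K.mul_mem hg2 (K.inv_mem (pow_mem hq j))⟩
    rw [hNK] at hmem
    obtain ⟨i, hi⟩ := mem_zpowers_iff.mp hmem
    have hg2eq : g ^ 2 = d ^ i * q ^ j := by rw [hi, inv_mul_cancel_right]
    have hconjq : g * q * g⁻¹ = d * q := by rw [hd]; group
    have h1 : g * (d ^ i * q ^ j) * g⁻¹ = d ^ i * q ^ j := by rw [← hg2eq]; group
    rw [show g * (d ^ i * q ^ j) * g⁻¹ = g * d ^ i * g⁻¹ * (g * q ^ j * g⁻¹) by group, ← conj_zpow,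
      hgd, inv_zpow', ← conj_pow, hconjq, (show Commute d q from hab d hdK q hq).mul_pow,
      ← mul_assoc, mul_left_inj, ← zpow_natCast d j, ← zpow_add] at h1
    have h2 : d ^ (-i + j - i) = 1 := by rw [zpow_sub, h1, mul_inv_cancel]
    have h3 := orderOf_dvd_iff_zpow_eq_one.mpr h2
    rw [hdord] at h3
    have h4 : (2 : ℤ) ∣ -i + j - i := by
      refine dvd_trans ?_ h3
      push_cast
      exact dvd_pow_self 2 (by omega)
    obtain ⟨k, rfl⟩ := hjodd
    omega

end Cfsg.Agent.Fusion.MetacyclicTwo
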