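/-
Automorphisms of `p'`-order of nonabelian metacyclic `p`-groups, `p` odd.
-/
import Mathlib
import Cfsg.Prelude.Def_OddOrderLocal
import Cfsg.Agent.Lib.Fusion.SupersolubleChain
import Cfsg.Agent.Lib.Fusion.MetacyclicTwo
import Cfsg.Agent.Lib.Coprime.PGroup

set_option autoImplicit false
set_option linter.unusedSectionVars false

namespace Cfsg.Agent.Fusion.MetacyclicTop

open Subgroup
open scoped commutatorElement

variable {G : Type*} [Group G] [Finite G] {p : ℕ} [Fact p.Prime]

/-- A subgroup of prime index is maximal. -/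
theorem eq_top_of_lt {L K : Subgroup G} (h : L.index = p) (hle : L ≤ K) {x : G} (hx : x ∈ K)
    (hxL : x ∉ L) : K = ⊤ := by
  rcases (Nat.dvd_prime (Fact.out : p.Prime)).1 (h ▸ Subgroup.index_dvd_of_le hle) with h1 | h1
  · exact Subgroup.index_eq_one.1 h1
  · exfalso
    refine hxL ((Subgroup.eq_of_le_of_card_ge hle ?_).symm ▸ hx)
    have h2 := L.card_mul_index
    have h3 := K.card_mul_index
    rw [h] at h2
    rw [h1] at h3
    exact (Nat.eq_of_mul_eq_mul_right (Fact.out : p.Prime).pos (h3.trans h2.symm)).le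

theorem frattini_le_of_index {L : Subgroup G} (h : L.index = p) : frattini G ≤ L := by
  refine frattini_le_coatom ⟨fun h1 => ?_, fun K hK => ?_⟩
  · rw [h1, Subgroup.index_top] at h
    exact (Fact.out : p.Prime).ne_one h.symm
  · obtain ⟨x, hx, hxL⟩ := SetLike.exists_of_lt hK
    exact eq_top_of_lt h hK.le hx hxL

theorem index_frattini_ne (hnc : ¬ IsCyclic G) : (frattini G).index ≠ p := by
  intro h
  obtain ⟨x, hx⟩ : ∃ x, x ∉ frattini G := by
    by_contra! hall
    rw [(eq_top_iff' _).2 hall, index_top] at h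
    exact (Fact.out : p.Prime).ne_one h.symm
  have : zpowers x ⊔ frattini G = ⊤ :=
    eq_top_of_lt h le_sup_right (mem_sup_left (mem_zpowers x)) hx
  exact hnc (isCyclic_iff_exists_zpowers_eq_top.2 ⟨x, frattini_nongenerating this⟩)

theorem index_frattini_dvd (hG : IsPGroup p G) (hm : Cfsg.IsMetacyclic G) :
    (frattini G).index ∣ p * p := by
  obtain ⟨N, hN, hNc, hQc⟩ := hm
  let Φ := frattini G
  let π := QuotientGroup.mk' Φ
  have hs : Function.Surjective π := QuotientGroup.mk'_surjective Φ
  have : (N.map π).Normal := hN.map π hs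
  have h1 : IsCyclic (N.map π) :=
    isCyclic_of_surjective (π.subgroupMap N) (π.subgroupMap_surjective N)
  have h2 : IsCyclic ((G ⧸ Φ) ⧸ N.map π) := by
    refine isCyclic_of_surjective (QuotientGroup.map N (N.map π) π (Subgroup.le_comap_map _ _)) ?_
    intro y
    obtain ⟨z, rfl⟩ := QuotientGroup.mk'_surjective (N.map π) y
    obtain ⟨x, rfl⟩ := hs z
    exact ⟨QuotientGroup.mk' N x, rfl⟩
  have h3 := MetacyclicTwo.card_dvd_sq h1 h2 (⊤ : Subgroup (G ⧸ Φ)) (e := p) fun z _ => by
    obtain ⟨x, rfl⟩ := hs z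
    rw [← map_pow]
    exact (QuotientGroup.eq_one_iff _).2 (GroupStructure3.FrattiniAut.pow_mem_frattini hG x)
  rwa [Subgroup.card_top, ← Subgroup.index_eq_card] at h3

/-- An invariant subgroup of index `p` in a noncyclic group with two generators gives the condition
on `p'`-automorphisms. -/
theorem auts_of_line (hG : IsPGroup p G) (hΦ : (frattini G).index ∣ p * p) (hnc : ¬ IsCyclic G)
    {L : Subgroup G} (hL : L.index = p) (H : Subgroup (MulAut G))
    (hinv : ∀ α ∈ H, ∀ x ∈ L, α x ∈ L) (hcop : (Nat.card H).Coprime p) :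
    IsMulCommutative H ∧ ∀ a ∈ H, a ^ (p - 1) = 1 := by
  have hp := (Fact.out : p.Prime)
  set Φ := frattini G with hΦdef
  have hle : Φ ≤ L := frattini_le_of_index hL
  have hrel : Φ.relIndex L = p := by
    rw [← Subgroup.relIndex_mul_index hle, hL] at hΦ
    rcases (Nat.dvd_prime hp).1 (Nat.dvd_of_mul_dvd_mul_right hp.pos hΦ) with h | h
    · refine absurd ?_ (index_frattini_ne (p := p) hnc)
      show Φ.index = p
      rw [← Subgroup.relIndex_mul_index hle, hL, h, one_mul]
    · exact h
  have hmap : ∀ α : H, Φ.map ((α : MulAut G) : G →* G) = Φ := fun α =>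
    Subgroup.characteristic_iff_map_eq.1 (hΦdef ▸ frattini_characteristic) _
  let π := QuotientGroup.mk' Φ
  let ρ : H →* MulAut (G ⧸ Φ) := MonoidHom.mk'
    (fun a => QuotientGroup.congr Φ Φ (a : MulAut G) (hmap a))
    fun a b => MulEquiv.ext fun z => by
      induction z using QuotientGroup.induction_on
      rfl
  have hρ : Function.Injective ρ := by
    rw [injective_iff_map_eq_one]
    intro a ha
    obtain ⟨n, hn⟩ := IsPGroup.iff_card.1 hG
    obtain ⟨r, -, hr⟩ := (Nat.dvd_prime_pow hp).1
      (hn ▸ Φ.index_dvd_card : Φ.index ∣ p ^ n)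
    have hker : ∀ β ∈ (ρ.ker.map H.subtype), ∀ x : G, β x * x⁻¹ ∈ frattini G := by
      rintro _ ⟨b, hb, rfl⟩ x
      have h1 : π ((b : MulAut G) x) = π x := DFunLike.congr_fun (MonoidHom.mem_ker.1 hb) (π x)
      refine (QuotientGroup.eq_one_iff _).1 ?_
      show π ((b : MulAut G) x * x⁻¹) = 1
      rw [map_mul, h1, map_inv, mul_inv_cancel]
    have h2 := GroupStructure3.FrattiniAut.card_stab_dvd hn hr _ hker
    have h3 : Nat.card (ρ.ker.map H.subtype) = 1 := by
      refine Nat.eq_one_of_dvd_coprimes (hcop.pow_right _) ?_ h2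
      rw [Subgroup.card_map_of_injective Subtype.val_injective]
      exact Subgroup.card_subgroup_dvd_card _
    have h4 : (a : MulAut G) ∈ ρ.ker.map H.subtype := Subgroup.mem_map_of_mem _ ha
    rw [Subgroup.eq_bot_of_card_eq _ h3, Subgroup.mem_bot] at h4
    exact Subtype.ext h4
  let C : ℕ → Subgroup (G ⧸ Φ) := fun i => match i with
    | 0 => ⊥
    | 1 => L.map π
    | _ + 2 => ⊤
  have hLn : (L.map π).Normal := by
    refine Subgroup.Normal.map ?_ π (QuotientGroup.mk'_surjective Φ)
    refine ⟨fun y hy g => ?_⟩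
    have := commutator_le_frattini_of g y
    exact (by
      have h5 : g * y * g⁻¹ = (g * y * g⁻¹ * y⁻¹) * y := by group
      rw [h5]
      exact mul_mem (hle this) hy)
  have hidxL : (L.map π).index = p := by
    rw [Subgroup.index_map_eq L (QuotientGroup.mk'_surjective Φ)
      (by rw [QuotientGroup.ker_mk']; exact hle), hL]
  have hcardL : Nat.card (L.map π) = p := by
    have h1 := (L.map π).card_mul_index
    rw [hidxL, ← Subgroup.index_eq_card, ← Subgroup.relIndex_mul_index hle, hrel, hL] at h1
    exact Nat.eq_of_mul_eq_mul_right hp.pos h1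
  have hstep : ∀ i < 2, ∃ x ∈ C (i + 1), C (i + 1) ≤ C i ⊔ Subgroup.zpowers x := by
    intro i hi
    interval_cases i
    · have : IsCyclic (L.map π) := isCyclic_of_prime_card hcardL
      obtain ⟨x, hx⟩ := (Subgroup.isCyclic_iff_exists_zpowers_eq_top _).1 this
      exact ⟨x, (show x ∈ L.map π from hx ▸ Subgroup.mem_zpowers x),
        (show L.map π ≤ _ from hx.ge.trans le_sup_right)⟩
    · obtain ⟨x, hx⟩ : ∃ x, x ∉ L.map π := by
        by_contra! hall
        rw [(eq_top_iff' _).2 hall, index_top] at hidxL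
        exact hp.ne_one hidxL.symm
      exact ⟨x, Subgroup.mem_top x,
        (eq_top_of_lt hidxL le_sup_left (mem_sup_right (mem_zpowers x)) hx).ge⟩
  have h := SupersolubleChain.series_auts (C := C) (n := 2) (hG.to_quotient Φ) rfl rfl
    (fun i hi => by interval_cases i <;> [exact bot_le; exact le_top])
    (fun i hi => by interval_cases i <;> [exact Subgroup.normal_bot; exact hLn]) hstep
    (Subgroup.map ρ ⊤) (by
      rw [Subgroup.card_map_of_injective hρ, Subgroup.card_top]
      exact hcop)
    (by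
      rintro _ ⟨a, -, rfl⟩ i hi z hz
      interval_cases i
      · rw [Subgroup.mem_bot.1 hz, map_one]; exact one_mem _
      · obtain ⟨x, hx, rfl⟩ := hz
        exact ⟨(a : MulAut G) x, hinv _ a.2 x hx, rfl⟩
      · exact Subgroup.mem_top _)
  refine ⟨⟨⟨fun a b => hρ ?_⟩⟩, fun a ha => ?_⟩
  · rw [map_mul, map_mul]
    exact congrArg Subtype.val (h.1.is_comm.comm
      (⟨ρ a, Subgroup.mem_map_of_mem ρ (Subgroup.mem_top a)⟩ : Subgroup.map ρ ⊤)
      ⟨ρ b, Subgroup.mem_map_of_mem ρ (Subgroup.mem_top b)⟩)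
  · have h1 := h.2 _ (Subgroup.mem_map_of_mem ρ (Subgroup.mem_top (⟨a, ha⟩ : H)))
    rw [← map_pow, ← map_one ρ] at h1
    exact congrArg Subtype.val (hρ h1)
where
  commutator_le_frattini_of (g y : G) : g * y * g⁻¹ * y⁻¹ ∈ frattini G := by
    have := hG.isNilpotent
    exact Coprime.commutator_le_frattini G
      (Subgroup.commutator_mem_commutator (Subgroup.mem_top g) (Subgroup.mem_top y))

/-- Powers of a product in class two. -/
theorem mul_pow_central {x y c : G} (hc : ∀ g, c * g = g * c) (hxy : y * x = c * (x * y)) :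
    ∀ n : ℕ, (x * y) ^ n = c ^ n.choose 2 * (x ^ n * y ^ n) := by
  have hcom : ∀ (k : ℕ) (g : G), c ^ k * g = g * c ^ k := fun k g => (Commute.pow_left (hc g) k).eq
  have hyk : ∀ k : ℕ, y ^ k * x = c ^ k * (x * y ^ k) := by
    intro k
    induction k with
    | zero => simp
    | succ k ih =>
      rw [pow_succ', mul_assoc, ih, ← mul_assoc, ← hcom k y, mul_assoc, ← mul_assoc y x, hxy,
        pow_succ c k]
      simp only [mul_assoc]
  intro n
  induction n with
  | zero => simp
  | succ n ih =>
    rw [pow_succ, ih, Nat.choose_succ_succ', Nat.choose_one_right, add_comm n, pow_add, mul_assoc,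
      mul_assoc (x ^ n), ← mul_assoc (y ^ n) x, hyk, mul_assoc (c ^ n), ← mul_assoc (x ^ n) (c ^ n),
      ← hcom n, pow_succ x, pow_succ y]
    simp only [mul_assoc]

/-- The condition on `p'`-automorphisms for nonabelian metacyclic groups of odd order. -/
theorem auts_metacyclic (hp2 : p ≠ 2) (hG : IsPGroup p G) (hm : Cfsg.IsMetacyclic G)
    (hna : ¬ ∀ x y : G, x * y = y * x) (H : Subgroup (MulAut G))
    (hcop : (Nat.card H).Coprime p) : IsMulCommutative H ∧ ∀ a ∈ H, a ^ (p - 1) = 1 := by
  classical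
  have hp := (Fact.out : p.Prime)
  have hnc : ¬ IsCyclic G := fun h => hna h.isMulCommutative.is_comm.comm
  have hΦ := index_frattini_dvd hG hm
  obtain ⟨N, hN, hNc, hQc⟩ := hm
  obtain ⟨a, ha⟩ := (Subgroup.isCyclic_iff_exists_zpowers_eq_top _).1 hNc
  obtain ⟨bq, hbq⟩ := IsCyclic.exists_generator (α := G ⧸ N)
  obtain ⟨b, rfl⟩ := QuotientGroup.mk'_surjective N bq
  have hcommN : commutator G ≤ N := by
    rw [commutator_def, Subgroup.commutator_le]
    exact fun x _ y _ => MetacyclicTwo.comm_mem hQc x y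
  have hG' : ∀ α : MulAut G, ∀ x ∈ commutator G, α x ∈ commutator G := fun α x hx =>
    (Subgroup.characteristic_iff_le_comap.1 (inferInstance : (commutator G).Characteristic) α) hx
  by_cases hcen : commutator G ≤ Subgroup.center G
  swap
  · -- the centralizer of the derived subgroup
    set L := Subgroup.centralizer ((commutator G : Subgroup G) : Set G) ⊔ frattini G with hLdef
    have hNL : N ≤ L := fun x hx => mem_sup_left (Subgroup.mem_centralizer_iff.2 fun y hy =>
      congrArg Subtype.val (hNc.isMulCommutative.is_comm.comm (⟨y, hcommN hy⟩ : N) ⟨x, hx⟩))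
    have hne : L ≠ ⊤ := fun h => hcen fun x hx => Subgroup.mem_center_iff.2 fun g => by
      have h1 : g ∈ Subgroup.centralizer ((commutator G : Subgroup G) : Set G) := by
        rw [frattini_nongenerating h]; exact mem_top g
      exact (Subgroup.mem_centralizer_iff.1 h1 x hx).symm
    have hidx : L.index ∣ p := by
      have h1 : (N ⊔ frattini G).index ∣ p := by
        rw [Subgroup.index_eq_card]
        have hcy : IsCyclic (G ⧸ N ⊔ frattini G) :=
          isCyclic_of_surjective (QuotientGroup.map N (N ⊔ frattini G) (MonoidHom.id G)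
            (by rw [Subgroup.comap_id]; exact le_sup_left)) fun y => by
              obtain ⟨x, rfl⟩ := QuotientGroup.mk'_surjective _ y
              exact ⟨QuotientGroup.mk' N x, rfl⟩
        rw [← IsCyclic.exponent_eq_card]
        refine Monoid.exponent_dvd_of_forall_pow_eq_one fun y => ?_
        obtain ⟨x, rfl⟩ := QuotientGroup.mk'_surjective _ y
        rw [← map_pow]
        exact (QuotientGroup.eq_one_iff _).2
          (mem_sup_right (GroupStructure3.FrattiniAut.pow_mem_frattini hG x))
      exact (Subgroup.index_dvd_of_le (sup_le hNL le_sup_right)).trans h1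
    rcases (Nat.dvd_prime hp).1 hidx with h1 | h1
    · exact absurd (Subgroup.index_eq_one.1 h1) hne
    refine auts_of_line hG hΦ hnc h1 H (fun α _ => ?_) hcop
    have hinv : L ≤ L.comap α.toMonoidHom := by
      refine sup_le (fun x hx => mem_sup_left (Subgroup.mem_centralizer_iff.2 fun y hy => ?_)) ?_
      · have := congrArg α (Subgroup.mem_centralizer_iff.1 hx _ (hG' α⁻¹ y hy))
        rwa [map_mul, map_mul, MulAut.apply_inv_self] at this
      · exact (Subgroup.characteristic_iff_le_comap.1 frattini_characteristic α).trans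
          (Subgroup.comap_mono le_sup_right)
    exact fun x hx => hinv hx
  -- class two
  have haN : a ∈ N := ha ▸ mem_zpowers a
  have hapN : (zpowers (a ^ p)).Normal := ⟨fun z hz g => by
    obtain ⟨k, rfl⟩ := mem_zpowers_iff.1 hz
    rw [← conj_zpow]
    refine zpow_mem ?_ k
    obtain ⟨t, ht⟩ := mem_zpowers_iff.1 (ha.ge (hN.conj_mem a haN g))
    rw [show g * a ^ p * g⁻¹ = (g * a * g⁻¹) ^ p from conj_pow.symm, ← ht]
    exact mem_zpowers_iff.2 ⟨t, by rw [← zpow_natCast a p, ← zpow_mul, ← zpow_natCast, ← zpow_mul,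
      mul_comm]⟩⟩
  obtain ⟨e, he⟩ := IsPGroup.iff_orderOf.1 hG a
  have he0 : e ≠ 0 := by
    rintro rfl
    rw [pow_zero, orderOf_eq_one_iff] at he
    have hbot : N = ⊥ := by rw [← ha, he, zpowers_one_eq_bot]
    exact hna fun x y => by
      have h1 := hcommN (commutator_mem_commutator (mem_top x) (mem_top y))
      rw [hbot, mem_bot, commutatorElement_eq_one_iff_mul_comm] at h1
      exact h1
  have hcp : commutator G ≤ zpowers (a ^ p) := by
    let π := QuotientGroup.mk' (zpowers (a ^ p))
    have hacen : ∀ z, π a * z = z * π a := fun z => by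
      obtain ⟨g, rfl⟩ := QuotientGroup.mk'_surjective _ z
      have h1 : g * a * g⁻¹ * a⁻¹ ∈ zpowers (a ^ p) := by
        obtain ⟨j, rfl⟩ : ∃ j, e = j + 1 := ⟨e - 1, by omega⟩
        have h2 := SupersolubleChain.conj_exp hG (N := (⊥ : Subgroup G)) (M := N) haN bot_le
          (by rw [bot_sup_eq, ha]) haN (j := j) (mem_bot.2 (he ▸ pow_orderOf_eq_one a)) g
        rw [mem_bot] at h2
        obtain ⟨t, ht⟩ := mem_zpowers_iff.1
          (ha.ge (mul_mem (hN.conj_mem a haN g) (inv_mem haN)))
        rw [← ht, ← zpow_natCast, ← zpow_mul, ← orderOf_dvd_iff_zpow_eq_one, he, pow_succ'] at h2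
        push_cast at h2
        have hdt : (p : ℤ) ∣ t :=
          (mul_dvd_mul_iff_right (pow_ne_zero j (by exact_mod_cast hp.ne_zero))).1 h2
        obtain ⟨v, rfl⟩ := hdt
        exact mem_zpowers_iff.2 ⟨v, by rw [← ht, zpow_mul, zpow_natCast]⟩
      have h3 : π (g * a * g⁻¹ * a⁻¹) = 1 := (QuotientGroup.eq_one_iff _).2 h1
      rw [map_mul, map_mul, map_mul, map_inv, map_inv, mul_inv_eq_one, mul_inv_eq_iff_eq_mul] at h3
      exact h3.symm
    have hform : ∀ x : G, ∃ i j : ℤ, π x = π a ^ i * π b ^ j := fun x => by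
      obtain ⟨j, hj⟩ := mem_zpowers_iff.1 (hbq (QuotientGroup.mk' N x))
      have h1 : x * (b ^ j)⁻¹ ∈ N := (QuotientGroup.eq_one_iff _).1 (by
        show QuotientGroup.mk' N (x * (b ^ j)⁻¹) = 1
        rw [map_mul, map_inv, map_zpow, hj, mul_inv_cancel])
      obtain ⟨i, hi⟩ := mem_zpowers_iff.1 (ha.ge h1)
      exact ⟨i, j, by rw [← map_zpow, ← map_zpow, ← map_mul, hi, inv_mul_cancel_right]⟩
    rw [commutator_def, Subgroup.commutator_le]
    intro x _ y _
    refine (QuotientGroup.eq_one_iff _).1 ?_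
    show π ⁅x, y⁆ = 1
    rw [map_commutatorElement, commutatorElement_eq_one_iff_mul_comm]
    obtain ⟨i, j, hx⟩ := hform x
    obtain ⟨i', j', hy⟩ := hform y
    rw [hx, hy]
    have ca : ∀ z (k : ℤ), Commute (π a ^ k) z := fun z k => Commute.zpow_left (hacen z) k
    exact Commute.mul_left (Commute.mul_right (ca _ i) (ca _ i))
      (Commute.mul_right ((ca _ i').symm) ((Commute.refl (π b)).zpow_zpow j j'))
  -- the exponent
  have hnt : Nontrivial G := not_subsingleton_iff_nontrivial.1 fun hs => hna fun x y =>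
    Subsingleton.elim _ _
  obtain ⟨k, hk⟩ := IsPGroup.iff_card.1 hG
  obtain ⟨m', -, hexp⟩ := (Nat.dvd_prime_pow hp).1
    (hk ▸ Group.exponent_dvd_nat_card : Monoid.exponent G ∣ p ^ k)
  have hm0 : m' ≠ 0 := by
    rintro rfl
    rw [pow_zero, Monoid.exp_eq_one_iff] at hexp
    exact not_subsingleton G hexp
  obtain ⟨m, rfl⟩ : ∃ m, m' = m + 1 := ⟨m' - 1, by omega⟩
  set n := p ^ m with hn
  have hexp' : ∀ x : G, x ^ (n * p) = 1 := fun x => by
    rw [hn, ← pow_succ, ← hexp]
    exact Monoid.pow_exponent_eq_one x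
  have hmul : ∀ x y : G, (x * y) ^ n = x ^ n * y ^ n := by
    intro x y
    have hcm : ⁅y, x⁆ ∈ commutator G := commutator_mem_commutator (mem_top y) (mem_top x)
    have hc : ∀ g, ⁅y, x⁆ * g = g * ⁅y, x⁆ := fun g => (mem_center_iff.1 (hcen hcm) g).symm
    have hyx : y * x = ⁅y, x⁆ * (x * y) := by rw [commutatorElement_def]; group
    rw [mul_pow_central hc hyx]
    obtain ⟨t, ht⟩ := mem_zpowers_iff.1 (hcp hcm)
    have hcn : ⁅y, x⁆ ^ n = 1 := by
      rw [← ht, ← zpow_natCast, ← zpow_mul, mul_comm, zpow_mul, zpow_natCast, ← pow_mul,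
        mul_comm p n, hexp', one_zpow]
    have hdvd : n ∣ n.choose 2 := by
      rw [Nat.choose_two_right]
      have hodd : Odd n := (hp.odd_of_ne_two hp2).pow
      obtain ⟨v, hv⟩ := hodd
      exact ⟨v, by rw [show n - 1 = 2 * v by omega, mul_comm 2 v, ← mul_assoc,
        Nat.mul_div_cancel _ two_pos]⟩
    obtain ⟨w, hw⟩ := hdvd
    rw [hw, pow_mul, hcn, one_pow, one_mul]
  let f : G →* G := MonoidHom.mk' (fun x => x ^ n) hmul
  have hfinv : ∀ α : MulAut G, ∀ x, f (α x) = α (f x) := fun α x => (map_pow α x n).symm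
  have hrexp : ∀ z ∈ f.range, z ^ p = 1 := by
    rintro _ ⟨x, rfl⟩
    show (x ^ n) ^ p = 1
    rw [← pow_mul]; exact hexp' x
  have hrne : f.range ≠ ⊥ := by
    intro h
    have h1 : Monoid.exponent G ∣ n := Monoid.exponent_dvd_of_forall_pow_eq_one fun x =>
      mem_bot.1 (h ▸ (⟨x, rfl⟩ : f x ∈ f.range))
    rw [hexp, hn, Nat.pow_dvd_pow_iff_le_right hp.one_lt] at h1
    omega
  obtain ⟨l, hl, hcard⟩ := (Nat.dvd_prime_pow hp).1
    (pow_two p ▸ MetacyclicTwo.card_dvd_sq hNc hQc f.range hrexp : Nat.card f.range ∣ p ^ 2)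
  interval_cases l
  · exact absurd (Subgroup.eq_bot_of_card_eq _ (by rwa [pow_zero] at hcard)) hrne
  · refine auts_of_line hG hΦ hnc (L := f.ker) ?_ H (fun α _ x hx => ?_) hcop
    · rw [Subgroup.index_ker, hcard, pow_one]
    · rw [MonoidHom.mem_ker] at hx ⊢
      rw [hfinv, hx, map_one]
  · refine auts_of_line hG hΦ hnc (L := (commutator G).comap f) ?_ H (fun α _ x hx => ?_) hcop
    · rw [Subgroup.index_comap]
      set I := (commutator G).subgroupOf f.range with hI
      have h1 : Nat.card I ∣ p := by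
        have : IsCyclic I := isCyclic_of_injective
          ((f.range.subtype.comp I.subtype).codRestrict N fun w => hcommN w.2)
          (fun u v h => Subtype.ext (Subtype.ext ((congrArg (fun z : N => (z : G)) h :) :
            ((u : f.range) : G) = (v : f.range))))
        rw [← IsCyclic.exponent_eq_card]
        exact Monoid.exponent_dvd_of_forall_pow_eq_one fun w =>
          Subtype.ext (Subtype.ext (by simpa using hrexp _ (w : f.range).2))
      have h2 : Nat.card I ≠ 1 := by
        intro hI1
        obtain ⟨z, hz⟩ := exists_prime_orderOf_dvd_card' p (G := commutator G) (by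
          have hne : commutator G ≠ ⊥ := fun h => hna fun x y => by
            have h1 := commutator_mem_commutator (mem_top x) (mem_top y)
            rw [← commutator_def, h, mem_bot, commutatorElement_eq_one_iff_mul_comm] at h1
            exact h1
          have := Subgroup.nontrivial_iff_ne_bot _ |>.2 hne
          obtain ⟨j, hj, hc⟩ := (hG.to_subgroup (commutator G)).nontrivial_iff_card.1 this
          exact hc ▸ dvd_pow_self p hj.ne')
        have hzp : (z : G) ^ p = 1 := by
          rw [← Subgroup.orderOf_coe] at hz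
          exact hz ▸ pow_orderOf_eq_one _
        have hzr : (z : G) ∈ f.range := by
          by_contra hzr
          have hexp2 : ∀ w ∈ f.range ⊔ zpowers (z : G), w ^ p = 1 := by
            intro w hw
            have := zpowers_le_center (hcen z.2)
            rw [Subgroup.mem_sup_of_normal_right] at hw
            obtain ⟨u, hu, v, hv, rfl⟩ := hw
            obtain ⟨i, rfl⟩ := mem_zpowers_iff.1 hv
            have hcz : Commute u ((z : G) ^ i) :=
              (Commute.zpow_right (mem_center_iff.1 (hcen z.2) u) i)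
            rw [hcz.mul_pow, hrexp u hu, ← zpow_natCast ((z : G) ^ i), ← zpow_mul, mul_comm,
              zpow_mul, zpow_natCast, hzp, one_zpow, one_mul]
          have h3 := Nat.le_of_dvd (Nat.mul_pos hp.pos hp.pos)
            (MetacyclicTwo.card_dvd_sq hNc hQc _ hexp2)
          refine hzr ((Subgroup.eq_of_le_of_card_ge (le_sup_left (b := zpowers (z : G)))
            (by rw [hcard, pow_two]; exact h3)).symm ▸ mem_sup_right (mem_zpowers _))
        have h4 := (Subgroup.eq_bot_of_card_eq I hI1).le (show (⟨z, hzr⟩ : f.range) ∈ I from z.2)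
        rw [mem_bot] at h4
        have h5 : (z : G) = 1 := congrArg Subtype.val h4
        rw [← Subgroup.orderOf_coe, h5, orderOf_one] at hz
        exact hp.ne_one hz.symm
      have h6 := I.card_mul_index
      rw [((Nat.dvd_prime hp).1 h1).resolve_left h2, hcard, pow_two] at h6
      exact Nat.eq_of_mul_eq_mul_left hp.pos h6
    · rw [Subgroup.mem_comap] at hx ⊢
      rw [hfinv]
      exact hG' α _ hx
where
  zpowers_le_center {z : G} (hz : z ∈ Subgroup.center G) : (zpowers z).Normal :=
    ⟨fun w hw g => by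
      rw [Subgroup.mem_center_iff.1 ((zpowers_le.2 hz) hw) g, mul_inv_cancel_right]; exact hw⟩

end Cfsg.Agent.Fusion.MetacyclicTop
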