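/-
`K`-normalizer systems `N^K_F(Q)`; in particular normalizer and centralizer systems, and their
saturation.
-/
import Mathlib
import Cfsg.Agent.Lib.Fusion.Normal

set_option autoImplicit false

namespace Cfsg.Agent.Fusion.KNormalizer

open Cfsg Cfsg.FusionSystem Cfsg.Agent.Fusion.Basic Cfsg.Agent.Fusion.Saturation
  Cfsg.Agent.Fusion.SylIn Cfsg.Agent.Fusion.Normal

variable {Ω : Type*} [Group Ω] {S Q P R T : Subgroup Ω} {F : FusionSystem S}
  {K : Subgroup (MulAut Q)} {f g : Ω → Ω}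

/-- `f` restricts to an element of `K` on `Q`. -/
def InK (K : Subgroup (MulAut Q)) (f : Ω → Ω) : Prop := ∃ k ∈ K, ∀ x ∈ Q, f x = autFun k x

theorem inK_congr (h : ∀ x ∈ Q, f x = g x) (hf : InK K f) : InK K g := by
  obtain ⟨k, hk, he⟩ := hf
  exact ⟨k, hk, fun x hx => (h x hx).symm.trans (he x hx)⟩

theorem inK_id : InK K (id : Ω → Ω) := ⟨1, K.one_mem, fun x _ => by rw [autFun_one]⟩

theorem InK.mapsTo (hf : InK K f) {x : Ω} (hx : x ∈ Q) : f x ∈ Q := by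
  obtain ⟨k, -, he⟩ := hf
  exact he x hx ▸ autFun_mem k hx

theorem InK.comp (hg : InK K g) (hf : InK K f) : InK K (fun x => g (f x)) := by
  obtain ⟨k, hk, he⟩ := hf
  obtain ⟨l, hl, he'⟩ := hg
  refine ⟨l * k, K.mul_mem hl hk, fun x hx => ?_⟩
  show g (f x) = _
  rw [he x hx, he' _ (autFun_mem k hx), autFun_mul]

theorem InK.img_eq (hf : InK K f) : img f Q = Q := by
  obtain ⟨k, -, he⟩ := hf
  rw [img_congr he, autFun_img]

theorem InK.inv (hf : InK K f) (h : ∀ x ∈ Q, g (f x) = x) : InK K g := by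
  obtain ⟨k, hk, he⟩ := hf
  refine ⟨k⁻¹, K.inv_mem hk, fun x hx => ?_⟩
  conv_lhs => rw [← autFun_apply_inv k x, ← he _ (autFun_mem k⁻¹ hx)]
  exact h _ (autFun_mem k⁻¹ hx)

/-- `N^K_S(Q)`. -/
def kNorm (S : Subgroup Ω) (K : Subgroup (MulAut Q)) : Subgroup Ω where
  carrier := {g | g ∈ S ∧ InK K (cj g)}
  one_mem' := ⟨S.one_mem, by rw [cj_one]; exact inK_id⟩
  mul_mem' ha hb := ⟨S.mul_mem ha.1 hb.1,
    inK_congr (fun x _ => (cj_mul _ _ x).symm) (ha.2.comp hb.2)⟩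
  inv_mem' ha := ⟨S.inv_mem ha.1, ha.2.inv fun x _ => cj_inv_cj _ x⟩

theorem kNorm_le : kNorm S K ≤ normalizerIn S Q := by
  rintro g ⟨hg, k, -, he⟩
  exact ⟨hg, mem_normalizer_of_induced (α := k) fun x => by
    rw [← autFun_apply, ← he x x.2, cj_apply]⟩

theorem kNorm_le_S : kNorm S K ≤ S := fun _ h => h.1

theorem kNorm_top : kNorm S (⊤ : Subgroup (MulAut Q)) = normalizerIn S Q :=
  le_antisymm kNorm_le fun g hg =>
    ⟨hg.1, conjAut S Q ⟨g, hg⟩, Subgroup.mem_top _, fun x hx => (conjAut_apply ⟨g, hg⟩ hx).symm⟩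

theorem kNorm_bot : kNorm S (⊥ : Subgroup (MulAut Q)) = centralizerIn S Q := by
  refine le_antisymm ?_ fun g hg => ⟨hg.1, 1, Subgroup.mem_bot.2 rfl, fun x hx => ?_⟩
  · rintro g ⟨hg, k, hk, he⟩
    refine ⟨hg, fun x hx => ?_⟩
    have h := he x hx
    rw [Subgroup.mem_bot.1 hk, autFun_one, id, cj_apply, mul_inv_eq_iff_eq_mul] at h
    exact h.symm
  · rw [autFun_one, id, cj_apply, mul_inv_eq_iff_eq_mul]
    exact (hg.2 x hx).symm

/-- The maps of `N^K_F(Q)`. -/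
def IsKMap (F : FusionSystem S) (K : Subgroup (MulAut Q)) (P : Subgroup Ω) (f : Ω → Ω) : Prop :=
  P ≤ kNorm S K ∧ (∀ x ∈ P, f x ∈ kNorm S K) ∧
    ∃ g, IsMap F (P ⊔ Q) g ∧ (∀ x ∈ P, g x = f x) ∧ InK K g

theorem IsKMap.isMap (h : IsKMap F K P f) : IsMap F P f := by
  obtain ⟨-, -, g, hg, he, -⟩ := h
  exact (hg.restrict le_sup_left).congr he

theorem exists_kSystem (hQ : Q ≤ S) :
    ∃ E : FusionSystem (kNorm S K), ∀ (P : Subgroup Ω) (φ : P →* Ω),
      φ ∈ E.Hom P ↔ IsKMap F K P (ext φ) := by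
  refine ⟨{
      Hom := fun P => {φ | IsKMap F K P (ext φ)}
      le_of_mem := fun {P φ} h => ⟨h.1, fun x => ext_apply φ x ▸ h.2.1 x x.2⟩
      injective_of_mem := fun {P φ} h a b hab => Subtype.ext
        (h.isMap.inj a.2 b.2 (by rw [ext_apply, ext_apply, hab]))
      conj_mem := ?_
      comp_mem := ?_
      inv_mem := ?_ }, fun P φ => Iff.rfl⟩
  · intro P a hP ha
    refine ⟨hP, fun x hx => ?_, cj a, isMap_cj (sup_le (hP.trans kNorm_le_S) hQ) ha.1,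
      fun x hx => (ext_apply (conjHom P a) ⟨x, hx⟩).symm, ha.2⟩
    rw [ext_of_mem _ hx]
    exact (kNorm S K).mul_mem ((kNorm S K).mul_mem ha (hP hx)) ((kNorm S K).inv_mem ha)
  · rintro P R φ ψ ⟨hP, hf, g, hg, hge, hgK⟩ ⟨hR, hf', k, hk, hke, hkK⟩ h
    have hmaps : P ⊔ Q ≤ Subgroup.map (P ⊔ Q).subtype ((R ⊔ Q).comap hg.hom) := by
      refine sup_le (fun x hx => ⟨⟨x, Subgroup.mem_sup_left hx⟩, ?_, rfl⟩)
        (fun x hx => ⟨⟨x, Subgroup.mem_sup_right hx⟩, ?_, rfl⟩)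
      · refine Subgroup.mem_sup_left ?_
        rw [IsMap.hom_apply, hge x hx, ext_of_mem φ hx]
        exact h _
      · exact Subgroup.mem_sup_right (hgK.mapsTo hx)
    have hgR : ∀ x ∈ P ⊔ Q, g x ∈ R ⊔ Q := fun x hx => by
      obtain ⟨y, hy, rfl⟩ := hmaps hx
      exact hy
    have hval : ∀ x (hx : x ∈ P), ext (ψ.comp (φ.codRestrict R h)) x = ext ψ (ext φ x) := by
      intro x hx
      rw [ext_of_mem _ hx, ext_of_mem φ hx, ext_of_mem ψ (h ⟨x, hx⟩)]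
      rfl
    have hφR : ∀ x ∈ P, ext φ x ∈ R := fun x hx => by rw [ext_of_mem φ hx]; exact h _
    refine ⟨hP, fun x hx => hval x hx ▸ hf' _ (hφR x hx), fun x => k (g x), hk.comp hg hgR,
      fun x hx => ?_, hkK.comp hgK⟩
    show k (g x) = _
    rw [hval x hx, hge x hx, hke _ (hφR x hx)]
  · rintro P φ h
    obtain ⟨hP, hf, g, hg, hge, hgK⟩ := h
    have hφm : φ ∈ F.Hom P := (hg.restrict le_sup_left).hom_mem fun x => by
      rw [hge x x.2, ext_apply]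
    obtain ⟨ψ, hψ, hψe⟩ := F.inv_mem hφm
    obtain ⟨k, hk, -, hkg, -⟩ := hg.exists_inv
    have hr : φ.range = img g P := IsMap.range_eq fun x => by rw [hge x x.2, ext_apply]
    refine ⟨ψ, ⟨?_, fun y hy => ?_, k, ?_, fun y hy => ?_, ?_⟩, hψe⟩
    · rintro _ ⟨x, rfl⟩
      exact ext_apply φ x ▸ hf x x.2
    · obtain ⟨x, rfl⟩ := hy
      rw [ext_of_mem ψ ⟨x, rfl⟩, hψe]
      exact hP x.2
    · rw [hg.img_sup, hgK.img_eq, ← hr] at hk
      exact hk
    · obtain ⟨x, rfl⟩ := hy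
      rw [ext_of_mem ψ ⟨x, rfl⟩, hψe, ← ext_apply φ x, ← hge x x.2,
        hkg _ (Subgroup.mem_sup_left x.2)]
    · exact hgK.inv fun x hx => hkg x (Subgroup.mem_sup_right hx)

theorem mem_normalizerHom_iff {φ : P →* Ω} :
    φ ∈ F.normalizerHom Q P ↔ IsKMap F (⊤ : Subgroup (MulAut Q)) P (ext φ) := by
  constructor
  · rintro ⟨hφ, hP, hv, ψ, hψ, he, himg⟩
    have hm := IsMap.of_hom hψ
    refine ⟨kNorm_top.ge.trans' hP, fun x hx => ?_, ext ψ, hm, fun x hx => ?_, ?_⟩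
    · rw [kNorm_top, ext_of_mem φ hx]
      exact hv _
    · rw [ext_of_mem ψ (Subgroup.mem_sup_left hx), ext_of_mem φ hx]
      exact he ⟨x, hx⟩
    · have himg' : img (ext ψ) Q = Q := by
        rwa [← map_subgroupOf_eq_img (fun x => (ext_apply ψ x).symm) le_sup_right]
      have hmQ := hm.restrict (le_sup_right : Q ≤ P ⊔ Q)
      exact ⟨mkAut hmQ.isHom hmQ.injOn himg', Subgroup.mem_top _,
        fun x hx => (autFun_mkAut _ _ _ hx).symm⟩
  · intro h
    have hφ : φ ∈ F.Hom P := hom_mem_iff.2 h.isMap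
    obtain ⟨hP, hv, g, hg, he, hK⟩ := h
    rw [kNorm_top] at hP
    refine ⟨hφ, hP, fun x => ?_, hg.hom, hg.hom_mem_self, fun x => ?_, ?_⟩
    · rw [← kNorm_top, ← ext_apply φ x]
      exact hv x x.2
    · rw [IsMap.hom_apply, Subgroup.coe_inclusion, he x x.2, ext_apply]
    · rw [map_subgroupOf_eq_img (f := g) (fun _ => rfl) le_sup_right, hK.img_eq]

theorem mem_centralizerHom_iff {φ : P →* Ω} :
    φ ∈ F.centralizerHom Q P ↔ IsKMap F (⊥ : Subgroup (MulAut Q)) P (ext φ) := by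
  constructor
  · rintro ⟨hφ, hP, hv, ψ, hψ, he, hfix⟩
    refine ⟨kNorm_bot.ge.trans' hP, fun x hx => ?_, ext ψ, IsMap.of_hom hψ, fun x hx => ?_,
      1, Subgroup.mem_bot.2 rfl, fun x hx => ?_⟩
    · rw [kNorm_bot, ext_of_mem φ hx]
      exact hv _
    · rw [ext_of_mem ψ (Subgroup.mem_sup_left hx), ext_of_mem φ hx]
      exact he ⟨x, hx⟩
    · rw [autFun_one, id, ext_of_mem ψ (Subgroup.mem_sup_right hx)]
      exact hfix ⟨x, hx⟩
  · intro h
    have hφ : φ ∈ F.Hom P := hom_mem_iff.2 h.isMap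
    obtain ⟨hP, hv, g, hg, he, k, hk, hke⟩ := h
    rw [kNorm_bot] at hP
    refine ⟨hφ, hP, fun x => ?_, hg.hom, hg.hom_mem_self, fun x => ?_, fun x => ?_⟩
    · rw [← kNorm_bot, ← ext_apply φ x]
      exact hv x x.2
    · rw [IsMap.hom_apply, Subgroup.coe_inclusion, he x x.2, ext_apply]
    · rw [IsMap.hom_apply, Subgroup.coe_inclusion, hke x x.2, Subgroup.mem_bot.1 hk, autFun_one, id]

/-- The stabilizer in `Aut_F(R)` of `ρ(P)` and of `ρ(Q)` with action in `K`. -/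
def stab (F : FusionSystem S) (R P : Subgroup Ω) (K : Subgroup (MulAut Q)) (ρ : Ω → Ω)
    (hR : ∀ x ∈ P, ρ x ∈ R) [Finite (img ρ P)] : Subgroup (F.autGroup R) where
  carrier := {a | (∀ y ∈ img ρ P, autFun (a : MulAut R) y ∈ img ρ P) ∧
    ∃ k ∈ K, ∀ x ∈ Q, autFun (a : MulAut R) (ρ x) = ρ (autFun k x)}
  one_mem' := ⟨fun y hy => by simpa [autFun_one] using hy, 1, K.one_mem,
    fun x _ => by simp [autFun_one]⟩
  mul_mem' := by
    rintro a b ⟨ha, k, hk, hka⟩ ⟨hb, l, hl, hlb⟩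
    refine ⟨fun y hy => ?_, k * l, K.mul_mem hk hl, fun x hx => ?_⟩
    · rw [Subgroup.coe_mul, autFun_mul]
      exact ha _ (hb y hy)
    · rw [Subgroup.coe_mul, autFun_mul, hlb x hx, hka _ (autFun_mem l hx), autFun_mul]
  inv_mem' := by
    rintro a ⟨ha, k, hk, hka⟩
    have himg : img (autFun (a : MulAut R)) (img ρ P) = img ρ P := by
      refine eq_of_le_card (img_le ha) ?_
      have hle : img ρ P ≤ R := img_le hR
      have h1 : ((img (autFun (a : MulAut R)) (img ρ P) : Subgroup Ω) : Set Ω) =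
          autFun (a : MulAut R) '' (img ρ P : Set Ω) :=
        coe_img_of_hom ((autFun_isHom (a : MulAut R)).mono hle)
      have h2 : Nat.card (img (autFun (a : MulAut R)) (img ρ P)) =
          Nat.card (autFun (a : MulAut R) '' (img ρ P : Set Ω)) := by rw [← h1]; rfl
      rw [h2, Nat.card_image_of_injOn fun u _ v _ huv => by
        simpa [autFun_inv_apply] using congrArg (autFun (a : MulAut R)⁻¹) huv]
      rfl
    refine ⟨fun y hy => ?_, k⁻¹, K.inv_mem hk, fun x hx => ?_⟩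
    · have hy' : y ∈ ((img (autFun (a : MulAut R)) (img ρ P) : Subgroup Ω) : Set Ω) :=
        himg.symm ▸ hy
      rw [coe_img_of_hom ((autFun_isHom (a : MulAut R)).mono (img_le hR))] at hy'
      obtain ⟨z, hz, rfl⟩ := hy'
      rwa [Subgroup.coe_inv, autFun_inv_apply]
    · have h := hka _ (autFun_mem k⁻¹ hx)
      rw [autFun_apply_inv] at h
      rw [Subgroup.coe_inv, ← h, autFun_inv_apply]

theorem mem_stab {ρ : Ω → Ω} {hR : ∀ x ∈ P, ρ x ∈ R} [Finite (img ρ P)] {a : F.autGroup R} :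
    a ∈ stab F R P K ρ hR ↔ (∀ y ∈ img ρ P, autFun (a : MulAut R) y ∈ img ρ P) ∧
      ∃ k ∈ K, ∀ x ∈ Q, autFun (a : MulAut R) (ρ x) = ρ (autFun k x) := Iff.rfl

variable [Finite S] {p : ℕ} [Fact p.Prime]

/-- `Q` is fully `K`-normalized (receptive, with a Sylow `K`-automizer). -/
def KFull (F : FusionSystem S) (p : ℕ) (K : Subgroup (MulAut Q)) : Prop :=
  F.IsFullyCentralized Q ∧ ¬ p ∣ (autInducedBy S Q ⊓ K).relIndex (F.autGroup Q ⊓ K)

theorem kFull_top (hS : IsPGroup p S) (hF : F.IsSaturated p) (hQ : F.IsFullyNormalized Q) :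
    KFull F p (⊤ : Subgroup (MulAut Q)) := by
  refine ⟨fullyNormalized_fullyCentralized hS hF hQ, ?_⟩
  rw [inf_top_eq, inf_top_eq]
  exact ((fullyAutomized_iff hS).1 (fullyNormalized_fullyAutomized hS hF hQ)).2

theorem kFull_bot (hQ : F.IsFullyCentralized Q) : KFull F p (⊥ : Subgroup (MulAut Q)) := by
  refine ⟨hQ, ?_⟩
  rw [inf_bot_eq, inf_bot_eq, Subgroup.relIndex_self]
  exact (Fact.out : p.Prime).not_dvd_one

/-- The `K`-normalizer system of a fully `K`-normalized subgroup is saturated. -/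
theorem saturated (hS : IsPGroup p S) (hF : F.IsSaturated p) (hQ : KFull F p K)
    (hT : T = kNorm S K) (E : FusionSystem T)
    (hE : ∀ (P : Subgroup Ω) (φ : P →* Ω), φ ∈ E.Hom P ↔ IsKMap F K P (ext φ)) :
    E.IsSaturated p := by
  subst hT
  have hmapE : ∀ (P : Subgroup Ω) (f : Ω → Ω), IsMap E P f ↔ IsKMap F K P f := by
    intro P f
    constructor
    · rintro ⟨φ, hφ, he⟩
      obtain ⟨hP, hv, g, hg, hge, hK⟩ := (hE P φ).1 hφ
      have hcong : ∀ x ∈ P, ext φ x = f x := fun x hx => by rw [ext_of_mem φ hx, he ⟨x, hx⟩]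
      exact ⟨hP, fun x hx => hcong x hx ▸ hv x hx, g, hg,
        fun x hx => (hge x hx).trans (hcong x hx), hK⟩
    · intro h
      have hm := h.isMap
      obtain ⟨hP, hv, g, hg, hge, hK⟩ := h
      have hcong : ∀ x ∈ P, ext hm.hom x = f x := fun x hx => by rw [ext_of_mem _ hx]; rfl
      exact ⟨hm.hom, (hE P _).2 ⟨hP, fun x hx => (hcong x hx).symm ▸ hv x hx, g, hg,
        fun x hx => (hge x hx).trans (hcong x hx).symm, hK⟩, fun _ => rfl⟩
  have hQS : Q ≤ S := hQ.1.1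
  have hfinQ : Finite Q := finite_of_le hQS
  have hfinN : Finite (kNorm S K) := finite_of_le kNorm_le_S
  have hNp : IsPGroup p (kNorm S K) := hS.to_le kNorm_le_S
  intro P hP
  have hPS : P ≤ S := hP.trans kNorm_le_S
  -- move `P ⊔ Q` to a fully normalized subgroup, with a Sylow stabilizer
  obtain ⟨R, hPQR, hR⟩ := exists_fullyNormalized (F := F) (sup_le hPS hQS)
  obtain ⟨ρ₀, hρ₀, rfl⟩ := isConj_iff_map.1 hPQR
  set R := img ρ₀ (P ⊔ Q) with hRdef
  have hfinR : Finite R := finite_of_le hR.1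
  have hP₀ : ∀ x ∈ P, ρ₀ x ∈ R := fun x hx => mem_img_self ρ₀ (Subgroup.mem_sup_left hx)
  have hfin₀ : Finite (img ρ₀ P) := finite_of_le ((hρ₀.restrict le_sup_left).img_le_S)
  set A := (autInducedBy S R).subgroupOf (F.autGroup R) with hAdef
  have hAp : IsPGroup p A :=
    (isPGroup_autInducedBy hS).comap_of_injective _ Subtype.val_injective
  have hA : SylIn p A ⊤ := by
    refine ⟨le_top, hAp, ?_⟩
    rw [Subgroup.relIndex_top_right]
    exact ((fullyAutomized_iff hS).1 (fullyNormalized_fullyAutomized hS hF hR)).2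
  obtain ⟨T₀, -, hT₀⟩ := exists_sylIn (p := p) (M := (⊥ : Subgroup (F.autGroup R)))
    (B := stab F R P K ρ₀ hP₀) bot_le IsPGroup.of_bot
  obtain ⟨a, -, ha⟩ := hA.exists_conj le_top hT₀.2.1
  have ham := isMap_of_mem_autGroup hR.1 a.2
  set ρ := fun x => autFun (a : MulAut R) (ρ₀ x) with hρdef
  have hρ : IsMap F (P ⊔ Q) ρ := ham.comp hρ₀ fun x hx => mem_img_self ρ₀ hx
  have hρR : img ρ (P ⊔ Q) = R := by rw [hρdef, ← hρ₀.img_img, autFun_img]
  have hP₁ : ∀ x ∈ P, ρ x ∈ R := fun x hx => hρR.le (mem_img_self ρ (Subgroup.mem_sup_left hx))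
  have hQ₁ : ∀ x ∈ Q, ρ x ∈ R := fun x hx => hρR.le (mem_img_self ρ (Subgroup.mem_sup_right hx))
  have hfin₁ : Finite (img ρ P) := finite_of_le ((hρ.restrict le_sup_left).img_le_S)
  set L := stab F R P K ρ hP₁ with hLdef
  have hto : ∀ b ∈ stab F R P K ρ₀ hP₀, a * b * a⁻¹ ∈ L := by
    rintro b ⟨hb, k, hk, hkb⟩
    refine ⟨fun y hy => ?_, k, hk, fun x hx => ?_⟩
    · obtain ⟨x, hx, rfl⟩ := (hρ.restrict le_sup_left).mem_img.1 hy
      obtain ⟨z, hz, hze⟩ := (hρ₀.restrict le_sup_left).mem_img.1 (hb _ (mem_img_self ρ₀ hx))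
      simp only [Subgroup.coe_mul, Subgroup.coe_inv, autFun_mul, hρdef, autFun_inv_apply]
      rw [← hze]
      exact mem_img_self _ hz
    · simp only [Subgroup.coe_mul, Subgroup.coe_inv, autFun_mul, hρdef, autFun_inv_apply]
      rw [hkb x hx]
  have hfrom : ∀ b ∈ L, a⁻¹ * b * a ∈ stab F R P K ρ₀ hP₀ := by
    rintro b ⟨hb, k, hk, hkb⟩
    refine ⟨fun y hy => ?_, k, hk, fun x hx => ?_⟩
    · obtain ⟨x, hx, rfl⟩ := (hρ₀.restrict le_sup_left).mem_img.1 hy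
      obtain ⟨z, hz, hze⟩ := (hρ.restrict le_sup_left).mem_img.1 (hb _ (mem_img_self ρ hx))
      simp only [Subgroup.coe_mul, Subgroup.coe_inv, autFun_mul]
      rw [← hze]
      simp only [hρdef, autFun_inv_apply]
      exact mem_img_self _ hz
    · simp only [Subgroup.coe_mul, Subgroup.coe_inv, autFun_mul]
      rw [hkb x hx]
      simp only [hρdef, autFun_inv_apply]
  have hAL : SylIn p (A ⊓ L) L := by
    refine sylIn_of_card_max inf_le_right (hAp.to_le inf_le_left) fun M hM hp => ?_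
    have h1 : img (cj a⁻¹) M ≤ stab F R P K ρ₀ hP₀ := img_le fun b hb => by
      rw [cj_apply, inv_inv]
      exact hfrom b (hM hb)
    have h2 : img (cj a) T₀ ≤ A ⊓ L :=
      le_inf ha (img_le fun b hb => hto b (hT₀.1 hb))
    rw [← card_img_cj a⁻¹ M]
    refine le_trans (hT₀.card_le h1 (isPGroup_img_cj hp)) ?_
    rw [← card_img_cj a T₀]
    exact card_le_card h2
  -- the normalizer of `Q₁ = ρ(Q)` with action in `K` is carried back into `N^K_S(Q)`
  have hρQ := hρ.restrict (le_sup_right : Q ≤ P ⊔ Q)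
  set Q₁ := img ρ Q with hQ₁def
  have hfinQ₁ : Finite Q₁ := finite_of_le hρQ.img_le_S
  obtain ⟨σ, hσ, hσimg, hσρ, hρσ⟩ := hρQ.exists_inv
  let N₁ : Subgroup Ω :=
    { carrier := {g | g ∈ normalizerIn S Q₁ ∧ InK K (fun x => σ (cj g (ρ x)))}
      one_mem' := ⟨Subgroup.one_mem _,
        inK_congr (fun x hx => by simp [cj_one, hσρ x hx]) inK_id⟩
      mul_mem' := by
        rintro u v ⟨hu, huK⟩ ⟨hv, hvK⟩
        refine ⟨Subgroup.mul_mem _ hu hv, inK_congr (fun x hx => ?_) (huK.comp hvK)⟩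
        have h1 : cj v (ρ x) ∈ Q₁ :=
          (Subgroup.mem_normalizer_iff.1 hv.2 _).1 (mem_img_self ρ hx)
        show σ (cj u (ρ (σ (cj v (ρ x))))) = σ (cj (u * v) (ρ x))
        rw [hρσ _ h1, cj_mul]
      inv_mem' := by
        rintro u ⟨hu, huK⟩
        refine ⟨Subgroup.inv_mem _ hu, huK.inv fun x hx => ?_⟩
        show σ (cj u⁻¹ (ρ (σ (cj u (ρ x))))) = x
        rw [hρσ (cj u (ρ x)) ((Subgroup.mem_normalizer_iff.1 hu.2 _).1 (mem_img_self ρ hx)),
          cj_inv_cj,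
          hσρ x hx] }
  have hN₁S : N₁ ≤ S := fun g hg => hg.1.1
  -- choose `k`
  set B := autInducedBy S Q ⊓ K with hBdef
  have hBp : IsPGroup p B := (isPGroup_autInducedBy hS).to_le inf_le_left
  have hB : SylIn p B (F.autGroup Q ⊓ K) :=
    ⟨inf_le_inf_right _ (autInducedBy_le hQS), hBp, hQ.2⟩
  let M : Subgroup (MulAut Q) :=
    { carrier := {m | ∃ g ∈ N₁, ∀ x ∈ Q, autFun m x = σ (cj g (ρ x))}
      one_mem' := ⟨1, N₁.one_mem, fun x hx => by simp [autFun_one, cj_one, hσρ x hx]⟩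
      mul_mem' := by
        rintro m n ⟨u, hu, hm⟩ ⟨v, hv, hn⟩
        refine ⟨u * v, N₁.mul_mem hu hv, fun x hx => ?_⟩
        have h1 : cj v (ρ x) ∈ Q₁ :=
          (Subgroup.mem_normalizer_iff.1 hv.1.2 _).1 (mem_img_self ρ hx)
        rw [autFun_mul, hn x hx, hm _ (hσimg ▸ mem_img_self σ h1), hρσ _ h1, cj_mul]
      inv_mem' := by
        rintro m ⟨u, hu, hm⟩
        refine ⟨u⁻¹, N₁.inv_mem hu, fun x hx => ?_⟩
        have hz := autFun_mem m⁻¹ hx
        have h1 := hm _ hz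
        rw [autFun_apply_inv] at h1
        have h2 : cj u (ρ (autFun m⁻¹ x)) ∈ Q₁ :=
          (Subgroup.mem_normalizer_iff.1 hu.1.2 _).1 (mem_img_self ρ hz)
        conv_rhs => rw [h1, hρσ _ h2, cj_inv_cj, hσρ _ hz] }
  have hMle : M ≤ F.autGroup Q ⊓ K := by
    rintro m ⟨g, hg, hm⟩
    refine ⟨(mem_autGroup_iff hQS).2 ?_, ?_⟩
    · have h1 : IsMap F Q (fun x => σ (cj g (ρ x))) := by
        refine hσ.comp ((isMap_cj hρQ.img_le_S hg.1.1).comp hρQ fun x hx => mem_img_self ρ hx)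
          fun x hx => ?_
        exact (Subgroup.mem_normalizer_iff.1 hg.1.2 _).1 (mem_img_self ρ hx)
      exact h1.congr fun x hx => (hm x hx).symm
    · obtain ⟨k, hk, hke⟩ := hg.2
      have : m = k := autFun_ext fun x hx => by rw [hm x hx]; exact hke x hx
      exact this ▸ hk
  have hMp : IsPGroup p M := by
    intro m
    obtain ⟨g, hg, hm⟩ := m.2
    obtain ⟨j, hj⟩ := hS ⟨g, hg.1.1⟩
    refine ⟨j, Subtype.ext (autFun_ext fun x hx => ?_)⟩
    have hpow : ∀ n : ℕ, ∀ y ∈ Q, autFun ((m : MulAut Q) ^ n) y = σ (cj (g ^ n) (ρ y)) := by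
      intro n
      induction n with
      | zero => intro y hy; simp [autFun_one, cj_one, hσρ y hy]
      | succ n ih =>
        intro y hy
        have hgn : g ^ n ∈ N₁ := N₁.pow_mem hg n
        have h1 : cj (g ^ n) (ρ y) ∈ Q₁ :=
          (Subgroup.mem_normalizer_iff.1 hgn.1.2 _).1 (mem_img_self ρ hy)
        rw [pow_succ', autFun_mul, ih y hy, hm _ (hσimg ▸ mem_img_self σ h1), hρσ _ h1,
          pow_succ', cj_mul]
    rw [Subgroup.coe_pow, Subgroup.coe_one, autFun_one, hpow _ x hx]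
    have hg1 : g ^ p ^ j = 1 := congrArg Subtype.val hj
    rw [hg1, cj_one, id, hσρ x hx]
    rfl
  obtain ⟨k, hk, hkle⟩ := hB.exists_conj hMle hMp
  have hσQ : ∀ y ∈ Q₁, σ y ∈ Q := fun y hy => hσimg.le (mem_img_self σ hy)
  have hf₀ : IsMap F Q₁ (fun y => autFun k (σ y)) :=
    (isMap_of_mem_autGroup hQS hk.1).comp hσ hσQ
  have hf₀img : img (fun y => autFun k (σ y)) Q₁ = Q := by
    rw [← hσ.img_img, hσimg, autFun_img]
  have hN₁le : N₁ ≤ nSub S Q₁ (fun y => autFun k (σ y)) := by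
    intro g hg
    obtain ⟨k', hk', hke'⟩ := hg.2
    have hm : k' ∈ M := ⟨g, hg, fun x hx => (hke' x hx).symm⟩
    obtain ⟨h1, hh1, hh1e⟩ := mem_autInducedBy_iff'.1 (hkle (mem_img_self (cj k) hm)).1
    refine mem_nSub.2 ⟨hg.1.1, hg.1.2, h1, hh1.1, fun y hy => ?_⟩
    have h2 := hh1e _ (autFun_mem k (hσQ y hy))
    rw [cj_apply k k', autFun_mul, autFun_mul, autFun_inv_apply, ← hke' _ (hσQ y hy)] at h2
    simp only [hρσ y hy] at h2
    exact h2
  have hQ₁N : ∀ y ∈ Q₁, y ∈ nSub S Q₁ (fun y => autFun k (σ y)) := fun y hy => le_nSub hf₀ hy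
  have hRN : R ≤ N₁ ⊔ Q₁ := by
    rw [← hρR, hρ.img_sup]
    refine sup_le (le_trans (img_le fun x hx => ?_) le_sup_left) le_sup_right
    have hxS := hρ.mem (Subgroup.mem_sup_left hx)
    obtain ⟨k', hk', hke'⟩ := (hP hx).2
    have hconj : ∀ y ∈ Q, σ (cj (ρ x) (ρ y)) = autFun k' y := by
      intro y hy
      rw [cj_apply, ← hρ.map_conj (Subgroup.mem_sup_left hx) (Subgroup.mem_sup_right hy),
        ← cj_apply, hke' y hy, hσρ _ (autFun_mem k' hy)]
    refine ⟨⟨hxS, ?_⟩, k', hk', hconj⟩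
    exact hρ.mem_normalizer_img le_sup_right (Subgroup.mem_sup_left hx) (kNorm_le (hP hx)).2
  obtain ⟨χ₀, hχ₀, hχ₀e⟩ := exists_extension hS hF hf₀ (hf₀img.symm ▸ hQ.1)
  have hχR : IsMap F R χ₀ := hχ₀.restrict
    (hRN.trans (sup_le hN₁le fun y hy => hQ₁N y hy))
  have hN₁χ : ∀ g ∈ N₁, χ₀ g ∈ kNorm S K := by
    intro g hg
    refine ⟨hχ₀.mem (hN₁le hg), ?_⟩
    obtain ⟨k', hk', hke'⟩ := hg.2
    refine ⟨k * k' * k⁻¹, K.mul_mem (K.mul_mem hk.2 hk') (K.inv_mem hk.2), fun x hx => ?_⟩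
    have hx' := autFun_mem k⁻¹ hx
    have hy := mem_img_self ρ hx'
    have h1 : χ₀ (ρ (autFun k⁻¹ x)) = x := by
      rw [hχ₀e _ hy]
      show autFun k (σ (ρ (autFun k⁻¹ x))) = x
      rw [hσρ _ hx', autFun_apply_inv]
    have h2 : cj g (ρ (autFun k⁻¹ x)) ∈ Q₁ := (Subgroup.mem_normalizer_iff.1 hg.1.2 _).1 hy
    conv_lhs => rw [← h1, cj_apply, ← hχ₀.map_conj (hN₁le hg) (hQ₁N _ hy)]
    rw [← cj_apply, hχ₀e _ h2, autFun_mul, autFun_mul]
    show autFun k (σ (cj g (ρ (autFun k⁻¹ x)))) = _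
    rw [show σ (cj g (ρ (autFun k⁻¹ x))) = autFun k' (autFun k⁻¹ x) from hke' _ hx']
  have hχρK : InK K (fun x => χ₀ (ρ x)) := by
    refine ⟨k, hk.2, fun x hx => ?_⟩
    show χ₀ (ρ x) = _
    rw [hχ₀e _ (mem_img_self ρ hx)]
    show autFun k (σ (ρ x)) = _
    rw [hσρ x hx]
  have hφ : IsMap F (P ⊔ Q) (fun x => χ₀ (ρ x)) :=
    hχR.comp hρ fun x hx => hρR.le (mem_img_self ρ hx)
  set φ := fun x => χ₀ (ρ x) with hφdef
  have hPN₁ : ∀ x ∈ P, ρ x ∈ N₁ := by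
    intro x hx
    have hxS := hρ.mem (Subgroup.mem_sup_left hx)
    obtain ⟨k', hk', hke'⟩ := (hP hx).2
    refine ⟨⟨hxS, hρ.mem_normalizer_img le_sup_right (Subgroup.mem_sup_left hx)
      (kNorm_le (hP hx)).2⟩, k', hk', fun y hy => ?_⟩
    show σ (cj (ρ x) (ρ y)) = _
    rw [cj_apply, ← hρ.map_conj (Subgroup.mem_sup_left hx) (Subgroup.mem_sup_right hy),
      ← cj_apply, hke' y hy, hσρ _ (autFun_mem k' hy)]
  have hφN : ∀ x ∈ P, φ x ∈ kNorm S K := fun x hx => hN₁χ _ (hPN₁ x hx)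
  set P' := img φ P with hP'def
  have hconjE : E.IsConj P P' := isConj_iff_map.2
    ⟨φ, (hmapE P φ).2 ⟨hP, hφN, φ, hφ, fun _ _ => rfl, hχρK⟩, rfl⟩
  have hP'N : P' ≤ kNorm S K := img_le hφN
  have hfinP' : Finite P' := finite_of_le hP'N
  have hfinP'Q : Finite (P' ⊔ Q : Subgroup Ω) :=
    finite_of_le (sup_le (hP'N.trans kNorm_le_S) hQS)
  have hR' : img χ₀ R = P' ⊔ Q := by
    rw [← hρR, hρ.img_img, hφ.img_sup, hχρK.img_eq]
  obtain ⟨ν, hν, hνimg, hνχ, hχν⟩ := hχR.exists_inv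
  rw [hR'] at hν hνimg
  have hχν' : ∀ z ∈ P' ⊔ Q, χ₀ (ν z) = z := fun z hz => hχν z (hR'.symm ▸ hz)
  -- pull an element of the local automizer back to `L`
  have pull : ∀ (u : Ω → Ω), IsMap F (P' ⊔ Q) u → (∀ z ∈ P', u z ∈ P') → InK K u →
      ∃ b ∈ L, ∀ y ∈ R, autFun (b : MulAut R) y = ν (u (χ₀ y)) := by
    intro u hu huP huK
    have humaps : ∀ z ∈ P' ⊔ Q, u z ∈ P' ⊔ Q := by
      intro z hz
      have h1 := mem_img_self u hz
      rw [hu.img_sup, huK.img_eq] at h1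
      exact sup_le_sup_right (img_le huP) Q h1
    have hm : IsMap F R (fun y => ν (u (χ₀ y))) :=
      (hν.comp (hu.comp hχR fun y hy => hR'.le (mem_img_self χ₀ hy))
        fun y hy => humaps _ (hR'.le (mem_img_self χ₀ hy)))
    have himg : img (fun y => ν (u (χ₀ y))) R = R := by
      refine eq_of_le_card (img_le fun y hy => ?_) hm.card_img.ge
      exact hνimg.le (mem_img_self ν (humaps _ (hR'.le (mem_img_self χ₀ hy))))
    obtain ⟨b, hb, hbe⟩ := hm.exists_aut himg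
    refine ⟨⟨b, hb⟩, ⟨fun y hy => ?_, ?_⟩, hbe⟩
    · have hyR : y ∈ R := (img_le hP₁) hy
      rw [hbe y hyR]
      obtain ⟨x, hx, rfl⟩ := (hρ.restrict le_sup_left).mem_img.1 hy
      obtain ⟨x', hx', hxe⟩ := (hφ.restrict le_sup_left).mem_img.1
        (huP _ (mem_img_self φ hx))
      show ν (u (φ x)) ∈ _
      rw [← hxe]
      show ν (χ₀ (ρ x')) ∈ _
      rw [hνχ _ (hP₁ x' hx')]
      exact mem_img_self ρ hx'
    · obtain ⟨l, hl, hle⟩ := hχρK
      obtain ⟨m, hm', hme⟩ := huK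
      refine ⟨l⁻¹ * m * l, K.mul_mem (K.mul_mem (K.inv_mem hl) hm') hl, fun x hx => ?_⟩
      rw [hbe _ (hQ₁ x hx)]
      show ν (u (φ x)) = _
      have h1 : φ x = autFun l x := hle x hx
      rw [h1, hme _ (autFun_mem l hx), autFun_mul, autFun_mul]
      have hz := autFun_mem l⁻¹ (autFun_mem m (autFun_mem l hx))
      have h2 := hle _ hz
      rw [autFun_apply_inv] at h2
      exact (congrArg ν h2.symm).trans (hνχ _ (hQ₁ _ hz))
  -- conjugations by elements of the local group give elements of `A ⊓ L`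
  have hAinj : ∀ g ∈ normalizerIn (kNorm S K) P', ∀ b ∈ L,
      (∀ y ∈ R, autFun (b : MulAut R) y = ν (cj g (χ₀ y))) → b ∈ A := by
    have hgP : ∀ g ∈ normalizerIn (kNorm S K) P', IsMap F (P' ⊔ Q) (cj g) ∧
        (∀ z ∈ P', cj g z ∈ P') ∧ InK K (cj g) := fun g hg =>
      ⟨isMap_cj (sup_le (hP'N.trans kNorm_le_S) hQS) hg.1.1,
        fun z hz => (Subgroup.mem_normalizer_iff.1 hg.2 z).1 hz, hg.1.2⟩
    let Bs : Subgroup (F.autGroup R) :=
      { carrier := {b | b ∈ L ∧ ∃ g ∈ normalizerIn (kNorm S K) P',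
          ∀ y ∈ R, autFun (b : MulAut R) y = ν (cj g (χ₀ y))}
        one_mem' := ⟨L.one_mem, 1, Subgroup.one_mem _, fun y hy => by
          simp [autFun_one, cj_one, hνχ y hy]⟩
        mul_mem' := by
          rintro b c ⟨hb, g, hg, hge⟩ ⟨hc, h, hh, hhe⟩
          refine ⟨L.mul_mem hb hc, g * h, Subgroup.mul_mem _ hg hh, fun y hy => ?_⟩
          have hz : cj h (χ₀ y) ∈ P' ⊔ Q := by
            have h1 := mem_img_self (cj h) (hR'.le (mem_img_self χ₀ hy))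
            rw [(hgP h hh).1.img_sup, (hgP h hh).2.2.img_eq] at h1
            exact sup_le_sup_right (img_le (hgP h hh).2.1) Q h1
          rw [Subgroup.coe_mul, autFun_mul, hhe y hy, hge _ (hνimg.le (mem_img_self ν hz)),
            hχν' _ hz, cj_mul]
        inv_mem' := by
          rintro b ⟨hb, g, hg, hge⟩
          refine ⟨L.inv_mem hb, g⁻¹, Subgroup.inv_mem _ hg, fun y hy => ?_⟩
          have hy' := autFun_mem ((b : MulAut R)⁻¹) hy
          have h1 := hge _ hy'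
          rw [autFun_apply_inv] at h1
          have hz : cj g (χ₀ (autFun (b : MulAut R)⁻¹ y)) ∈ P' ⊔ Q := by
            have h2 := mem_img_self (cj g) (hR'.le (mem_img_self χ₀ hy'))
            rw [(hgP g hg).1.img_sup, (hgP g hg).2.2.img_eq] at h2
            exact sup_le_sup_right (img_le (hgP g hg).2.1) Q h2
          rw [Subgroup.coe_inv]
          conv_rhs => rw [h1, hχν' _ hz, cj_inv_cj, hνχ _ hy'] }
    have hBsp : IsPGroup p Bs := by
      intro b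
      obtain ⟨-, g, hg, hge⟩ := b.2
      obtain ⟨j, hj⟩ := hS ⟨g, hg.1.1⟩
      refine ⟨j, Subtype.ext (Subtype.ext (autFun_ext fun y hy => ?_))⟩
      have hpow : ∀ n : ℕ, ∀ z ∈ R,
          autFun (((b : F.autGroup R) ^ n : F.autGroup R) : MulAut R) z = ν (cj (g ^ n) (χ₀ z)) := by
        intro n
        induction n with
        | zero => intro z hz; simp [autFun_one, cj_one, hνχ z hz]
        | succ n ih =>
          intro z hz
          have hgn : g ^ n ∈ normalizerIn (kNorm S K) P' := Subgroup.pow_mem _ hg n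
          have hw : cj (g ^ n) (χ₀ z) ∈ P' ⊔ Q := by
            have h1 := mem_img_self (cj (g ^ n)) (hR'.le (mem_img_self χ₀ hz))
            rw [(hgP _ hgn).1.img_sup, (hgP _ hgn).2.2.img_eq] at h1
            exact sup_le_sup_right (img_le (hgP _ hgn).2.1) Q h1
          rw [pow_succ', Subgroup.coe_mul, autFun_mul, ih z hz,
            hge _ (hνimg.le (mem_img_self ν hw)), hχν' _ hw, pow_succ', cj_mul]
      show autFun _ y = autFun (1 : MulAut R) y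
      rw [autFun_one, id]
      have hg1 : g ^ p ^ j = 1 := congrArg Subtype.val hj
      have h := hpow (p ^ j) y hy
      rw [hg1, cj_one, id, hνχ y hy] at h
      exact h
    have hALB : A ⊓ L ≤ Bs := by
      rintro b ⟨hbA, hbL⟩
      obtain ⟨s, hs, hse⟩ := mem_autInducedBy_iff'.1 (Subgroup.mem_subgroupOf.1 hbA)
      obtain ⟨hbP, k', hk', hkb⟩ := hbL
      have hsN : s ∈ N₁ := by
        refine ⟨⟨hs.1, mem_normalizer_of_forall (P := Q₁) (g := s) fun y hy => ?_⟩, k', hk',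
          fun x hx => ?_⟩
        · obtain ⟨x, hx, rfl⟩ := hρQ.mem_img.1 hy
          rw [← cj_apply, ← hse _ (hQ₁ x hx), hkb x hx]
          exact mem_img_self ρ (autFun_mem k' hx)
        · show σ (cj s (ρ x)) = _
          rw [← hse _ (hQ₁ x hx), hkb x hx, hσρ _ (autFun_mem k' hx)]
      refine ⟨⟨hbP, k', hk', hkb⟩, χ₀ s, ⟨hN₁χ s hsN, ?_⟩, fun y hy => ?_⟩
      · refine mem_normalizer_of_forall fun z hz => ?_
        obtain ⟨x, hx, rfl⟩ := (hφ.restrict le_sup_left).mem_img.1 hz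
        obtain ⟨x', hx', hxe⟩ := (hρ.restrict le_sup_left).mem_img.1
          (hbP _ (mem_img_self ρ hx))
        show χ₀ s * χ₀ (ρ x) * (χ₀ s)⁻¹ ∈ P'
        rw [← hχ₀.map_conj (hN₁le hsN) (hN₁le (hPN₁ x hx)), ← cj_apply, ← hse _ (hP₁ x hx), ← hxe]
        exact mem_img_self φ hx'
      · have hy' : y ∈ nSub S Q₁ (fun y => autFun k (σ y)) :=
          (hRN.trans (sup_le hN₁le fun y hy => hQ₁N y hy)) hy
        rw [cj_apply, ← hχ₀.map_conj (hN₁le hsN) hy', ← cj_apply, ← hse y hy,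
          hνχ _ (autFun_mem _ hy)]
    have hBA : A ⊓ L = Bs := hAL.eq_of_le hALB (fun b hb => hb.1) hBsp
    intro g hg b hb hbe
    have : b ∈ Bs := ⟨hb, g, hg, hbe⟩
    rw [← hBA] at this
    exact this.1
  -- restriction of `L` to `P'`
  have hres : ∀ b : L, ∃ β ∈ E.autGroup P', ∀ x ∈ P,
      autFun β (φ x) = χ₀ (autFun ((b : F.autGroup R) : MulAut R) (ρ x)) := by
    rintro ⟨b, hb⟩
    obtain ⟨hbP, m, hm, hmb⟩ := mem_stab.1 hb
    have hgm : IsMap F (P' ⊔ Q) (fun z => χ₀ (autFun (b : MulAut R) (ν z))) :=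
      hχR.comp ((isMap_of_mem_autGroup hR.1 b.2).comp hν
        fun z hz => hνimg.le (mem_img_self ν hz)) fun z hz =>
          autFun_mem _ (hνimg.le (mem_img_self ν hz))
    have hval : ∀ x ∈ P ⊔ Q, χ₀ (autFun (b : MulAut R) (ν (φ x))) =
        χ₀ (autFun (b : MulAut R) (ρ x)) := fun x hx => by
      rw [show ν (φ x) = ρ x from hνχ _ (hρR.le (mem_img_self ρ hx))]
    have hP'' : ∀ z ∈ P', χ₀ (autFun (b : MulAut R) (ν z)) ∈ P' := by
      intro z hz
      obtain ⟨x, hx, rfl⟩ := (hφ.restrict le_sup_left).mem_img.1 hz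
      rw [hval x (Subgroup.mem_sup_left hx)]
      obtain ⟨x', hx', hxe⟩ := (hρ.restrict le_sup_left).mem_img.1
        (hbP _ (mem_img_self ρ hx))
      rw [← hxe]
      exact mem_img_self φ hx'
    have hK' : InK K (fun z => χ₀ (autFun (b : MulAut R) (ν z))) := by
      obtain ⟨l, hl, hle⟩ := hχρK
      refine ⟨l * m * l⁻¹, K.mul_mem (K.mul_mem hl hm) (K.inv_mem hl), fun x hx => ?_⟩
      have hz := autFun_mem l⁻¹ hx
      have h1 : φ (autFun l⁻¹ x) = x := (hle _ hz).trans (autFun_apply_inv l x)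
      conv_lhs => rw [← h1]
      show χ₀ (autFun (b : MulAut R) (ν (φ (autFun l⁻¹ x)))) = _
      rw [hval _ (Subgroup.mem_sup_right hz), hmb _ hz, autFun_mul, autFun_mul]
      exact hle _ (autFun_mem m hz)
    have hEm : IsMap E P' (fun z => χ₀ (autFun (b : MulAut R) (ν z))) :=
      (hmapE _ _).2 ⟨hP'N, fun z hz => hP'N (hP'' z hz), _, hgm, fun _ _ => rfl, hK'⟩
    obtain ⟨β, hβ, hβe⟩ := hEm.exists_aut
      (eq_of_le_card (img_le hP'') hEm.card_img.ge)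
    exact ⟨β, hβ, fun x hx => by
      rw [hβe _ (mem_img_self φ hx)]; exact hval x (Subgroup.mem_sup_left hx)⟩
  choose res hresmem hrese using hres
  have hresuniq : ∀ (b : L) (β : MulAut P'),
      (∀ x ∈ P, autFun β (φ x) = χ₀ (autFun ((b : F.autGroup R) : MulAut R) (ρ x))) →
      res b = β := by
    intro b β hβ
    refine autFun_ext fun z hz => ?_
    obtain ⟨x, hx, rfl⟩ := (hφ.restrict le_sup_left).mem_img.1 hz
    rw [hrese b x hx, hβ x hx]
  let resHom : L →* E.autGroup P' := MonoidHom.mk' (fun b => ⟨res b, hresmem b⟩)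
    fun b c => Subtype.ext (hresuniq (b * c) _ fun x hx => by
      simp only [Subgroup.coe_mul, autFun_mul]
      rw [hrese c x hx]
      obtain ⟨x', hx', hxe⟩ := (hρ.restrict le_sup_left).mem_img.1
        ((mem_stab.1 c.2).1 _ (mem_img_self ρ hx))
      rw [← hxe]
      exact hrese b x' hx')
  have hsurj : Function.Surjective resHom := by
    rintro ⟨β, hβ⟩
    obtain ⟨-, -, u, hu, hue, huK⟩ := (hmapE _ _).1 (isMap_of_mem_autGroup hP'N hβ)
    obtain ⟨b, hb, hbe⟩ := pull u hu (fun z hz => hue z hz ▸ autFun_mem β hz) huK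
    refine ⟨⟨b, hb⟩, Subtype.ext (hresuniq ⟨b, hb⟩ β fun x hx => ?_)⟩
    show autFun β (φ x) = χ₀ (autFun (b : MulAut R) (ρ x))
    have h2 : u (φ x) ∈ P' := hue _ (mem_img_self φ hx) ▸ autFun_mem β (mem_img_self φ hx)
    rw [hbe _ (hP₁ x hx), ← hue _ (mem_img_self φ hx), hχν' _ (Subgroup.mem_sup_left h2)]
  refine ⟨P', hconjE, ?_, isReceptive_iff.2 ⟨hP'N, fun U f hf hfimg => ?_⟩⟩
  · rw [fullyAutomized_iff hNp]
    refine ⟨hP'N, fun hd => ?_⟩
    apply hAL.2.2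
    rw [Subgroup.relIndex]
    refine dvd_trans (dvd_trans hd ?_)
      (Subgroup.index_map_dvd ((A ⊓ L).subgroupOf L) hsurj)
    refine Subgroup.index_dvd_of_le ?_
    rintro _ ⟨⟨b, hbL⟩, ⟨hbA', -⟩, rfl⟩
    have hbA : b ∈ A := hbA'
    obtain ⟨s, hs, hse⟩ := mem_autInducedBy_iff'.1 (Subgroup.mem_subgroupOf.1 hbA)
    obtain ⟨hbP, k', hk', hkb⟩ := mem_stab.1 hbL
    have hsN : s ∈ N₁ := by
      refine ⟨⟨hs.1, mem_normalizer_of_forall (P := Q₁) (g := s) fun y hy => ?_⟩, k', hk',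
        fun x hx => ?_⟩
      · obtain ⟨x, hx, rfl⟩ := hρQ.mem_img.1 hy
        rw [← cj_apply, ← hse _ (hQ₁ x hx), hkb x hx]
        exact mem_img_self ρ (autFun_mem k' hx)
      · show σ (cj s (ρ x)) = _
        rw [← hse _ (hQ₁ x hx), hkb x hx, hσρ _ (autFun_mem k' hx)]
    refine Subgroup.mem_subgroupOf.2 (mem_autInducedBy_iff.2 ⟨χ₀ s, hN₁χ s hsN, fun z => ?_⟩)
    obtain ⟨x, hx, hxz⟩ := (hφ.restrict le_sup_left).mem_img.1 z.2
    rw [← autFun_apply]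
    show autFun (res ⟨b, hbL⟩) (z : Ω) = _
    rw [← hxz, hrese ⟨b, hbL⟩ x hx, hse _ (hP₁ x hx), cj_apply,
      hχ₀.map_conj (hN₁le hsN) (hN₁le (hPN₁ x hx))]
  -- receptivity
  obtain ⟨hU, hfN, fhat, hfhat, hfhe, hfK⟩ := (hmapE U f).1 hf
  have hUS : U ⊔ Q ≤ S := sup_le (hU.trans kNorm_le_S) hQS
  have hfimg' : img fhat (U ⊔ Q) = P' ⊔ Q := by
    rw [hfhat.img_sup, img_congr hfhe, hfimg, hfK.img_eq]
  set g₁ := fun x => ν (fhat x) with hg₁def
  have hg₁ : IsMap F (U ⊔ Q) g₁ := hν.comp hfhat fun x hx => hfimg'.le (mem_img_self fhat hx)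
  have hg₁img : img g₁ (U ⊔ Q) = R := by rw [hg₁def, ← hfhat.img_img, hfimg', hνimg]
  set N := nSub (kNorm S K) U f with hNdef
  have hNnorm : ∀ g ∈ N, g ∈ Subgroup.normalizer ((U ⊔ Q : Subgroup Ω) : Set Ω) := by
    intro g hg
    have : Finite (U ⊔ Q : Subgroup Ω) := finite_of_le hUS
    have hle : img (cj g) (U ⊔ Q) ≤ U ⊔ Q := by
      rw [(isMap_cj (F := F) hUS hg.1.1).img_sup, hg.1.2.img_eq]
      exact sup_le_sup_right (img_le fun x hx => (Subgroup.mem_normalizer_iff.1 hg.2.1 x).1 hx) Q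
    exact mem_normalizer_of_forall fun x hx => hle (mem_img_self _ hx)
  have hinv₁ : ∀ y ∈ R, ∃ x ∈ U ⊔ Q, g₁ x = y := fun y hy => hg₁.mem_img.1 (hg₁img.symm ▸ hy)
  -- the action of `N` on `R`, as a `p`-subgroup
  obtain ⟨e', he'⟩ : ∃ e : F.autGroup (U ⊔ Q) ≃* F.autGroup R, ∀ (c : F.autGroup (U ⊔ Q)),
      ∀ x ∈ U ⊔ Q, autFun (e c : MulAut R) (g₁ x) = g₁ (autFun (c : MulAut (U ⊔ Q : Subgroup Ω)) x) := by
    have hgen : ∀ (X : Subgroup Ω), img g₁ (U ⊔ Q) = X →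
        ∃ e : F.autGroup (U ⊔ Q) ≃* F.autGroup X, ∀ (c : F.autGroup (U ⊔ Q)),
          ∀ x ∈ U ⊔ Q, autFun (e c : MulAut X) (g₁ x) =
            g₁ (autFun (c : MulAut (U ⊔ Q : Subgroup Ω)) x) := by
      intro X hX
      subst hX
      exact hg₁.exists_autEquiv
    exact hgen R hg₁img
  let ιN : N →* F.autGroup (U ⊔ Q) := MonoidHom.mk'
    (fun g : N => ⟨conjAut S (U ⊔ Q) ⟨g, g.2.1.1, hNnorm g g.2⟩,
      autInducedBy_le hUS (conjAut_range S (U ⊔ Q) ▸ ⟨_, rfl⟩)⟩)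
    fun u v => Subtype.ext (by
      show conjAut S _ _ = conjAut S _ _ * conjAut S _ _
      rw [← map_mul]
      rfl)
  have hγ : ∀ g : N, ∀ x ∈ U ⊔ Q,
      autFun (e' (ιN g) : MulAut R) (g₁ x) = g₁ (cj (g : Ω) x) := by
    intro g x hx
    rw [he' _ x hx]
    exact congrArg g₁ (conjAut_apply ⟨(g : Ω), g.2.1.1, hNnorm g g.2⟩ hx)
  obtain ⟨fi, hfi, hfiimg, hfif, hffi⟩ := hfhat.exists_inv
  rw [hfimg'] at hfi hfiimg
  have hg₁y : ∀ y ∈ R, fi (χ₀ y) ∈ U ⊔ Q ∧ g₁ (fi (χ₀ y)) = y := by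
    intro y hy
    have hz : χ₀ y ∈ P' ⊔ Q := hR'.le (mem_img_self χ₀ hy)
    refine ⟨hfiimg.le (mem_img_self fi hz), ?_⟩
    show ν (fhat (fi (χ₀ y))) = y
    rw [hffi _ (hfimg'.symm ▸ hz), hνχ y hy]
  have hB' : ∀ g : N, e' (ιN g) ∈ L ∧ ∃ c ∈ A ⊓ L,
      ∀ x ∈ U, autFun (e' (ιN g) : MulAut R) (g₁ x) = autFun (c : MulAut R) (g₁ x) := by
    intro g
    obtain ⟨h, hh, hhe⟩ := g.2.2.2
    have hgmap : IsMap F (P' ⊔ Q) (fun z => fhat (cj (g : Ω) (fi z))) :=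
      hfhat.comp ((isMap_cj hUS g.2.1.1).comp hfi fun z hz => hfiimg.le (mem_img_self fi hz))
        fun z hz => (Subgroup.mem_normalizer_iff.1 (hNnorm g g.2) _).1
          (hfiimg.le (mem_img_self fi hz))
    have hP'f : ∀ z ∈ P', ∃ x ∈ U, fi z = x ∧ f x = z := by
      intro z hz
      obtain ⟨x, hx, rfl⟩ := hf.mem_img.1 (hfimg.symm ▸ hz)
      exact ⟨x, hx, by rw [← hfhe x hx, hfif x (Subgroup.mem_sup_left hx)], rfl⟩
    have hgP' : ∀ z ∈ P', fhat (cj (g : Ω) (fi z)) = cj h z ∧ cj h z ∈ P' := by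
      intro z hz
      obtain ⟨x, hx, hfix, rfl⟩ := hP'f z hz
      have hgx : cj (g : Ω) x ∈ U := (Subgroup.mem_normalizer_iff.1 g.2.2.1 x).1 hx
      rw [hfix, hfhe _ hgx]
      refine ⟨hhe x hx, ?_⟩
      rw [show cj h (f x) = f (cj (g : Ω) x) from (hhe x hx).symm, ← hfimg]
      exact mem_img_self f hgx
    have hhN : h ∈ normalizerIn (kNorm S K) P' :=
      ⟨hh, mem_normalizer_of_forall fun z hz => (hgP' z hz).2⟩
    have hgK : InK K (fun z => fhat (cj (g : Ω) (fi z))) :=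
      hfK.comp (g.2.1.2.comp (hfK.inv fun x hx => hfif x (Subgroup.mem_sup_right hx)))
    obtain ⟨b, hb, hbe⟩ := pull _ hgmap (fun z hz => (hgP' z hz).1 ▸ (hgP' z hz).2) hgK
    have hbeq : e' (ιN g) = b := by
      refine Subtype.ext (autFun_ext fun y hy => ?_)
      obtain ⟨h1, h2⟩ := hg₁y y hy
      conv_lhs => rw [← h2, hγ g _ h1]
      rw [hbe y hy]
    obtain ⟨c, hc, hce⟩ := pull (cj h) (isMap_cj (sup_le (hP'N.trans kNorm_le_S) hQS) hh.1)
      (fun z hz => (hgP' z hz).2) hh.2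
    refine ⟨hbeq ▸ hb, c, ⟨hAinj h hhN c hc hce, hc⟩, fun x hx => ?_⟩
    have hxy : g₁ x ∈ R := hg₁img.le (mem_img_self g₁ (Subgroup.mem_sup_left hx))
    rw [hbeq, hbe _ hxy, hce _ hxy]
    show ν (fhat (cj (g : Ω) (fi (χ₀ (g₁ x))))) = ν (cj h (χ₀ (g₁ x)))
    have hfx : f x ∈ P' := hfimg ▸ mem_img_self f hx
    have h3 : χ₀ (g₁ x) = f x := by
      show χ₀ (ν (fhat x)) = f x
      rw [hfhe x hx, hχν' _ (Subgroup.mem_sup_left hfx)]
    rw [h3, (hgP' _ hfx).1]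
  -- conjugate the action of `N` into `A`
  let K₀ : Subgroup (F.autGroup R) :=
    { carrier := {b | b ∈ L ∧ ∀ x ∈ P, autFun (b : MulAut R) (ρ x) = ρ x}
      one_mem' := ⟨L.one_mem, fun x _ => by simp [autFun_one]⟩
      mul_mem' := fun {b c} hb hc => ⟨L.mul_mem hb.1 hc.1, fun x hx => by
        rw [Subgroup.coe_mul, autFun_mul, hc.2 x hx, hb.2 x hx]⟩
      inv_mem' := fun {b} hb => ⟨L.inv_mem hb.1, fun x hx => by
        rw [Subgroup.coe_inv]; conv_lhs => rw [← hb.2 x hx, autFun_inv_apply]⟩ }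
  have hLnorm : L ≤ Subgroup.normalizer (K₀ : Set (F.autGroup R)) := by
    intro c hc
    refine mem_normalizer_of_forall fun b hb => ⟨L.mul_mem (L.mul_mem hc hb.1) (L.inv_mem hc),
      fun x hx => ?_⟩
    obtain ⟨x', hx', hxe⟩ := (hρ.restrict le_sup_left).mem_img.1
      ((mem_stab.1 (L.inv_mem hc)).1 _ (mem_img_self ρ hx))
    rw [Subgroup.coe_mul, Subgroup.coe_mul, autFun_mul, autFun_mul, ← hxe, hb.2 x' hx', hxe,
      Subgroup.coe_inv, autFun_apply_inv]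
  have hU' : ∀ x ∈ P, ∃ u ∈ U, g₁ u = ρ x := by
    intro x hx
    obtain ⟨u, hu, hue⟩ := hf.mem_img.1 (hfimg.ge (mem_img_self φ hx))
    refine ⟨u, hu, ?_⟩
    show ν (fhat u) = ρ x
    rw [hfhe u hu, hue]
    exact hνχ _ (hP₁ x hx)
  let M' : Subgroup (F.autGroup R) := (e'.toMonoidHom.comp ιN).range
  have hM'p : IsPGroup p M' := ((hS.to_le kNorm_le_S).to_le (fun g hg => hg.1 : N ≤ kNorm S K))
    |>.of_surjective _ (e'.toMonoidHom.comp ιN).rangeRestrict_surjective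
  have hM'le : M' ≤ (A ⊓ L) ⊔ K₀ := by
    rintro _ ⟨g, rfl⟩
    show e' (ιN g) ∈ _
    obtain ⟨hbL, c, hc, hce⟩ := hB' g
    have hk0 : c⁻¹ * e' (ιN g) ∈ K₀ := by
      refine ⟨L.mul_mem (L.inv_mem hc.2) hbL, fun x hx => ?_⟩
      obtain ⟨u, hu, hue⟩ := hU' x hx
      rw [Subgroup.coe_mul, autFun_mul, ← hue, hce u hu, Subgroup.coe_inv, autFun_inv_apply]
    have := Subgroup.mul_mem_sup hc hk0
    rwa [mul_inv_cancel_left] at this
  obtain ⟨q, hq, hqle⟩ := (hAL.mono (M := (A ⊓ L) ⊔ K₀) le_sup_left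
    (sup_le inf_le_right fun b hb => hb.1)).exists_conj hM'le hM'p
  rw [← SetLike.mem_coe, Subgroup.coe_mul_of_left_le_normalizer_right _ _
    (inf_le_right.trans hLnorm)] at hq
  obtain ⟨s, hs, d, hd, rfl⟩ := hq
  have hd' : ∀ g : N, d * e' (ιN g) * d⁻¹ ∈ A := by
    intro g
    have h1 : cj (s * d) (e' (ιN g)) ∈ A := (hqle (mem_img_self _ ⟨g, rfl⟩)).1
    rw [cj_mul] at h1
    have h2 : cj s⁻¹ (cj s (cj d (e' (ιN g)))) ∈ A :=
      A.mul_mem (A.mul_mem (A.inv_mem hs.1) h1) (A.inv_mem (A.inv_mem hs.1))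
    rwa [cj_inv_cj] at h2
  have hg₁R : ∀ x ∈ U ⊔ Q, g₁ x ∈ R := fun x hx => hg₁img.le (mem_img_self g₁ hx)
  set g₂ := fun x => autFun (d : MulAut R) (g₁ x) with hg₂def
  have hg₂ : IsMap F (U ⊔ Q) g₂ := (isMap_of_mem_autGroup hR.1 d.2).comp hg₁ hg₁R
  have hg₂img : img g₂ (U ⊔ Q) = R := by rw [hg₂def, ← hg₁.img_img, hg₁img, autFun_img]
  obtain ⟨u, hu, hue⟩ := exists_extension hS hF hg₂
    (hg₂img.symm ▸ fullyNormalized_fullyCentralized hS hF hR)
  have hdom : N ⊔ Q ≤ nSub S (U ⊔ Q) g₂ := by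
    refine sup_le (fun g hg => ?_) (le_sup_right.trans (le_nSub hg₂))
    obtain ⟨h, hh, hhe⟩ := mem_autInducedBy_iff'.1 (Subgroup.mem_subgroupOf.1 (hd' ⟨g, hg⟩))
    refine mem_nSub.2 ⟨hg.1.1, hNnorm g hg, h, hh.1, fun x hx => ?_⟩
    have h3 := hhe _ (autFun_mem (d : MulAut R) (hg₁R x hx))
    rw [Subgroup.coe_mul, Subgroup.coe_mul, Subgroup.coe_inv, autFun_mul, autFun_mul,
      autFun_inv_apply, hγ ⟨g, hg⟩ x hx] at h3
    exact h3
  obtain ⟨hdL, hdfix⟩ := hd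
  obtain ⟨-, k₂, hk₂, hk₂e⟩ := mem_stab.1 hdL
  have hQ₂ : ∀ x ∈ Q, ∃ x' ∈ Q, g₂ x = ρ x' := by
    intro x hx
    obtain ⟨l, hl, hle⟩ := hχρK
    have hfx := hfK.mapsTo hx
    have hx₁ := autFun_mem l⁻¹ hfx
    refine ⟨autFun k₂ (autFun l⁻¹ (fhat x)), autFun_mem k₂ hx₁, ?_⟩
    have h1 : φ (autFun l⁻¹ (fhat x)) = fhat x := (hle _ hx₁).trans (autFun_apply_inv l _)
    show autFun (d : MulAut R) (ν (fhat x)) = _
    rw [show ν (fhat x) = ρ (autFun l⁻¹ (fhat x)) by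
      conv_lhs => rw [← h1]
      exact hνχ _ (hQ₁ _ hx₁)]
    exact hk₂e _ hx₁
  -- `u` maps `N` into `N₁`
  have huN : ∀ g ∈ N, u g ∈ N₁ := by
    intro g hg
    have hgd := hdom (Subgroup.mem_sup_left hg)
    obtain ⟨hcL, -⟩ := hB' ⟨g, hg⟩
    have hbL : d * e' (ιN ⟨g, hg⟩) * d⁻¹ ∈ L := L.mul_mem (L.mul_mem hdL hcL) (L.inv_mem hdL)
    obtain ⟨-, m, hm, hmb⟩ := mem_stab.1 hbL
    have key : ∀ y ∈ R,
        cj (u g) y = autFun ((d * e' (ιN ⟨g, hg⟩) * d⁻¹ : F.autGroup R) : MulAut R) y := by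
      intro y hy
      obtain ⟨x, hx, rfl⟩ := hg₂.mem_img.1 (hg₂img.symm ▸ hy)
      have hgx : g * x * g⁻¹ ∈ U ⊔ Q := (Subgroup.mem_normalizer_iff.1 (hNnorm g hg) x).1 hx
      rw [cj_apply, ← hue x hx, ← hu.map_conj hgd (le_nSub hg₂ hx), hue _ hgx, hue x hx]
      show autFun (d : MulAut R) (g₁ (cj g x)) = _
      rw [Subgroup.coe_mul, Subgroup.coe_mul, Subgroup.coe_inv, autFun_mul, autFun_mul,
        autFun_inv_apply, hγ ⟨g, hg⟩ x hx]
    refine ⟨⟨hu.mem hgd, mem_normalizer_of_forall (P := Q₁) fun y hy => ?_⟩, m, hm,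
      fun x hx => ?_⟩
    · obtain ⟨x, hx, rfl⟩ := hρQ.mem_img.1 hy
      rw [← cj_apply, key _ (hQ₁ x hx), hmb x hx]
      exact mem_img_self ρ (autFun_mem m hx)
    · show σ (cj (u g) (ρ x)) = _
      rw [key _ (hQ₁ x hx), hmb x hx, hσρ _ (autFun_mem m hx)]
  have humaps : ∀ z ∈ N ⊔ Q, u z ∈ nSub S Q₁ (fun y => autFun k (σ y)) := by
    intro z hz
    have h1 := mem_img_self u hz
    rw [(hu.restrict hdom).img_sup] at h1
    refine sup_le (img_le fun g hg => hN₁le (huN g hg)) (img_le fun x hx => ?_) h1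
    obtain ⟨x', hx', hxe⟩ := hQ₂ x hx
    rw [hue x (Subgroup.mem_sup_right hx), hxe]
    exact hQ₁N _ (mem_img_self ρ hx')
  refine ⟨fun z => χ₀ (u z), (hmapE _ _).2 ⟨fun g hg => hg.1, fun g hg => hN₁χ _ (huN g hg), _,
    hχ₀.comp (hu.restrict hdom) humaps, fun _ _ => rfl, ?_⟩, fun x hx => ?_⟩
  · obtain ⟨m, hm, hme⟩ := hfK
    obtain ⟨l, hl, hle⟩ := hχρK
    refine ⟨l * k₂ * l⁻¹ * m, K.mul_mem (K.mul_mem (K.mul_mem hl hk₂) (K.inv_mem hl)) hm,
      fun x hx => ?_⟩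
    have hfx := autFun_mem m hx
    have hx₁ := autFun_mem l⁻¹ hfx
    have h1 : φ (autFun l⁻¹ (autFun m x)) = autFun m x :=
      (hle _ hx₁).trans (autFun_apply_inv l _)
    show χ₀ (u x) = _
    rw [hue x (Subgroup.mem_sup_right hx)]
    show χ₀ (autFun (d : MulAut R) (ν (fhat x))) = _
    rw [hme x hx, show ν (autFun m x) = ρ (autFun l⁻¹ (autFun m x)) by
        conv_lhs => rw [← h1]
        exact hνχ _ (hQ₁ _ hx₁),
      hk₂e _ hx₁, autFun_mul, autFun_mul, autFun_mul]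
    exact hle _ (autFun_mem k₂ hx₁)
  · show χ₀ (u x) = f x
    rw [hue x (Subgroup.mem_sup_left hx)]
    show χ₀ (autFun (d : MulAut R) (ν (fhat x))) = f x
    obtain ⟨x', hx', hxe⟩ := (hφ.restrict le_sup_left).mem_img.1
      (hfimg ▸ mem_img_self f hx)
    rw [hfhe x hx, ← hxe, show ν (φ x') = ρ x' from hνχ _ (hP₁ x' hx'), hdfix x' hx']

end Cfsg.Agent.Fusion.KNormalizer

namespace Cfsg.Agent.Fusion.KNormalizer

open Cfsg Cfsg.FusionSystem Cfsg.Agent.Fusion.Basic Cfsg.Agent.Fusion.Saturation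

variable {Ω : Type*} [Group Ω] {S Q T : Subgroup Ω} {F : FusionSystem S}

theorem exists_kSystem' {K : Subgroup (MulAut Q)} (hT : T = kNorm S K) (hQ : Q ≤ S) :
    ∃ E : FusionSystem T, ∀ (P : Subgroup Ω) (φ : P →* Ω),
      φ ∈ E.Hom P ↔ IsKMap F K P (ext φ) := by
  subst hT
  exact exists_kSystem hQ

theorem exists_normalizerSystem (hQ : Q ≤ S) :
    ∃ E : FusionSystem (normalizerIn S Q), F.IsNormalizerSystem Q E := by
  obtain ⟨E, hE⟩ := exists_kSystem' (F := F) kNorm_top.symm hQ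
  exact ⟨E, fun P => Set.ext fun φ => (hE P φ).trans mem_normalizerHom_iff.symm⟩

theorem exists_centralizerSystem (hQ : Q ≤ S) :
    ∃ E : FusionSystem (centralizerIn S Q), F.IsCentralizerSystem Q E := by
  obtain ⟨E, hE⟩ := exists_kSystem' (F := F) kNorm_bot.symm hQ
  exact ⟨E, fun P => Set.ext fun φ => (hE P φ).trans mem_centralizerHom_iff.symm⟩

variable [Finite S] {p : ℕ} [Fact p.Prime]

theorem normalizerSystem_saturated (hS : IsPGroup p S) (hF : F.IsSaturated p)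
    (hQ : F.IsFullyNormalized Q) {E : FusionSystem (normalizerIn S Q)}
    (hE : F.IsNormalizerSystem Q E) : E.IsSaturated p :=
  saturated hS hF (kFull_top hS hF hQ) kNorm_top.symm E fun P φ => by
    rw [hE P]; exact mem_normalizerHom_iff

theorem centralizerSystem_saturated (hS : IsPGroup p S) (hF : F.IsSaturated p)
    (hQ : F.IsFullyCentralized Q) {E : FusionSystem (centralizerIn S Q)}
    (hE : F.IsCentralizerSystem Q E) : E.IsSaturated p :=
  saturated hS hF (kFull_bot hQ) kNorm_bot.symm E fun P φ => by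
    rw [hE P]; exact mem_centralizerHom_iff

end Cfsg.Agent.Fusion.KNormalizer
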