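/-
Realized systems, models, constrained systems and their subsystems.
-/
import Mathlib
import Cfsg.Prelude.Def_FusionComponents
import Cfsg.Agent.Lib.Fusion.Group
import Cfsg.Agent.Lib.Fusion.Factor
import Cfsg.Agent.Lib.Fusion.Subsystems
import Cfsg.Agent.Lib.Cores.Basic

set_option autoImplicit false

namespace Cfsg.Agent.Fusion.Constrained

open Cfsg Cfsg.FusionSystem Cfsg.Agent.Fusion.Basic Cfsg.Agent.Fusion.Saturation
  Cfsg.Agent.Fusion.Normal Cfsg.Agent.Fusion.Factor Cfsg.Agent.Fusion.Group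
  Cfsg.Agent.Fusion.Subsystems

variable {Ω : Type*} [Group Ω] {S : Subgroup Ω} {F : FusionSystem S} {P : Subgroup Ω}

section Realized

variable {G : Type*} [Group G] {ι : S →* G}

/-- The inverse of an injective `ι` on its image, with values in the ambient group. -/
noncomputable def backHom (hι : Function.Injective ι) : ι.range →* Ω :=
  S.subtype.comp (MonoidHom.ofInjective hι).symm.toMonoidHom

theorem backHom_apply (hι : Function.Injective ι) (x : S) :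
    backHom hι ⟨ι x, ⟨x, rfl⟩⟩ = x := by
  show (((MonoidHom.ofInjective hι).symm ⟨ι x, ⟨x, rfl⟩⟩ : S) : Ω) = x
  exact congrArg Subtype.val ((MulEquiv.symm_apply_eq _).2 (Subtype.ext rfl))

theorem along_back (hι : Function.Injective ι) (x : S) : along (backHom hι) (ι x) = x := by
  rw [along_of_mem _ (⟨x, rfl⟩ : ι x ∈ ι.range), backHom_apply]

theorem along_mem_S (hι : Function.Injective ι) {y : G} (hy : y ∈ ι.range) :
    along (backHom hι) y ∈ S := by
  obtain ⟨x, rfl⟩ := hy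
  rw [along_back]
  exact x.2

theorem isQuot_realized (h : F.IsRealizedBy ι) :
    IsQuot (groupFusionSystem ι.range) ⊥ (backHom h.1) F := by
  obtain ⟨hι, hmem⟩ := h
  refine ⟨normal_stronglyClosed isNormal_bot, fun s => ?_, ?_, fun P' f' hf' => ?_,
    fun P' f hP' hf => ?_⟩
  · obtain ⟨x, hx⟩ := s.2
    obtain rfl : s = ⟨ι x, ⟨x, rfl⟩⟩ := Subtype.ext hx.symm
    rw [backHom_apply, Subgroup.mem_bot]
    constructor
    · intro h
      show ι x = 1
      rw [show x = 1 from Subtype.ext h, _root_.map_one]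
    · intro h
      have : x = 1 := hι (h.trans (_root_.map_one ι).symm)
      rw [this]
      rfl
  · ext x
    constructor
    · rintro ⟨y, rfl⟩
      exact SetLike.coe_mem _
    · intro hx
      exact ⟨⟨ι ⟨x, hx⟩, ⟨⟨x, hx⟩, rfl⟩⟩, backHom_apply hι ⟨x, hx⟩⟩
  · obtain ⟨g, hg⟩ := (hmem P' hf'.le hf'.hom fun x => hf'.mem x.2).1 hf'.hom_mem_self
    have hval : ∀ y ∈ preimageAlong (backHom hι) P', ∃ x : P',
        y = ι ⟨x, hf'.le x.2⟩ ∧ cj g y = ι ⟨f' x, hf'.mem x.2⟩ := by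
      intro y hy
      obtain ⟨⟨s, rfl⟩, hy'⟩ := mem_preimageAlong.1 hy
      rw [along_back] at hy'
      exact ⟨⟨s, hy'⟩, rfl, (hg ⟨s, hy'⟩).symm⟩
    refine ⟨cj g, isMap_group_iff.2 ⟨preimageAlong_le _, fun y hy => ?_, g, fun _ _ => rfl⟩,
      fun y hy => ?_⟩
    · obtain ⟨x, -, h2⟩ := hval y hy
      rw [h2]
      exact ⟨_, rfl⟩
    · obtain ⟨x, h1, h2⟩ := hval y hy
      rw [h2, h1, along_back, along_back]
  · classical
    obtain ⟨-, hval, g, hg⟩ := isMap_group_iff.1 hf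
    let ιe : Ω → G := fun x => if hx : x ∈ S then ι ⟨x, hx⟩ else 1
    have hιe : ∀ x (hx : x ∈ S), ιe x = ι ⟨x, hx⟩ := fun x hx => dif_pos hx
    have hpre : ∀ x ∈ P', ιe x ∈ preimageAlong (backHom hι) P' := by
      intro x hx
      rw [hιe x (hP' hx)]
      exact mem_preimageAlong.2 ⟨⟨_, rfl⟩, by rw [along_back]; exact hx⟩
    let f' : Ω → Ω := fun x => along (backHom hι) (f (ιe x))
    have hf'S : ∀ x ∈ P', f' x ∈ S := fun x hx => along_mem_S hι (hval _ (hpre x hx))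
    let φ' : P' →* Ω := MonoidHom.mk' (fun x => f' x) fun x y => by
      show along (backHom hι) (f (ιe ((x : Ω) * y))) = _
      rw [hιe _ (S.mul_mem (hP' x.2) (hP' y.2)),
        show (⟨(x : Ω) * y, S.mul_mem (hP' x.2) (hP' y.2)⟩ : S) =
          ⟨x, hP' x.2⟩ * ⟨y, hP' y.2⟩ from rfl, _root_.map_mul, ← hιe _ (hP' x.2),
        ← hιe _ (hP' y.2), hf.map_mul (hpre _ x.2) (hpre _ y.2),
        along_mul _ (hval _ (hpre _ x.2)) (hval _ (hpre _ y.2))]
    have hφ' : φ' ∈ F.Hom P' := by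
      refine (hmem P' hP' φ' fun x => hf'S x x.2).2 ⟨g, fun x => ?_⟩
      obtain ⟨s, hs⟩ := hval _ (hpre _ x.2)
      have h1 : f' x = s := by
        show along (backHom hι) (f (ιe x)) = s
        rw [← hs, along_back]
      rw [show (⟨φ' x, hf'S x x.2⟩ : S) = s from Subtype.ext h1, hs, hg _ (hpre _ x.2),
        hιe _ (hP' x.2)]
      rfl
    refine ⟨f', ⟨φ', hφ', fun _ => rfl⟩, fun y hy => ?_⟩
    obtain ⟨⟨s, rfl⟩, -⟩ := mem_preimageAlong.1 hy
    show along (backHom hι) (f (ιe (along (backHom hι) (ι s)))) = _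
    rw [along_back, hιe _ s.2]

variable {p : ℕ} [Fact p.Prime] [Finite S]

theorem realized_saturated (hS : IsPGroup p S) [Finite G] (h : F.IsRealizedBy ι) {T : Sylow p G}
    (hT : (T : Subgroup G) = ι.range) : F.IsSaturated p := by
  have hsat : (groupFusionSystem ι.range).IsSaturated p := by
    rw [← hT]
    exact group_saturated T
  exact (isQuot_realized h).saturated (hS.of_surjective ι.rangeRestrict ι.rangeRestrict_surjective)
    hsat

/-- The preimage of `O_p` of a model is normal in the system. -/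
theorem model_isNormal (hr : F.IsRealizedBy ι) [Finite G] {T : Sylow p G}
    (hT : (T : Subgroup G) = ι.range) :
    F.IsNormal (((pCore p G).comap ι).map S.subtype) := by
  have hn : (pCore p G).Normal := Cfsg.Agent.Cores.pCore_normal p
  have hle : pCore p G ≤ ι.range := hT ▸ (pCore_isPGroup p G).le_sylow_of_normal T
  set Q := ((pCore p G).comap ι).map S.subtype with hQdef
  have hQS : Q ≤ S := Subgroup.map_subtype_le _
  have hmem : ∀ x : S, (x : Ω) ∈ Q ↔ ι x ∈ pCore p G := fun x =>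
    ⟨fun ⟨y, hy, he⟩ => (Subtype.ext he : y = x) ▸ hy, fun hx => ⟨x, hx, rfl⟩⟩
  refine isNormal_iff.2 ⟨hQS, fun P f hf => ?_⟩
  have hPS := hf.le
  obtain ⟨g, hg⟩ := (hr.2 P hPS hf.hom fun x => hf.mem x.2).1 hf.hom_mem_self
  let W : Subgroup S := ι.range.comap ((MulAut.conj g).toMonoidHom.comp ι)
  have hW : P ⊔ Q ≤ W.map S.subtype := by
    refine sup_le (fun x hx => ⟨⟨x, hPS hx⟩, ⟨⟨f x, hf.mem hx⟩, ?_⟩, rfl⟩)
      fun x hx => ⟨⟨x, hQS hx⟩, hle (hn.conj_mem _ ((hmem ⟨x, hQS hx⟩).1 hx) g), rfl⟩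
    exact hg ⟨x, hx⟩
  have hval : ∀ x : (P ⊔ Q : Subgroup Ω), ∃ s : S,
      ι s = g * ι ⟨x, sup_le hPS hQS x.2⟩ * g⁻¹ := by
    intro x
    obtain ⟨y, ⟨s, hs⟩, hy⟩ := hW x.2
    refine ⟨s, hs.trans ?_⟩
    rw [show y = ⟨x, sup_le hPS hQS x.2⟩ from Subtype.ext hy]
    rfl
  choose s hs using hval
  let φ : (P ⊔ Q : Subgroup Ω) →* Ω := S.subtype.comp (MonoidHom.mk' s fun x y => hr.1 (by
    rw [_root_.map_mul, hs, hs, hs,
      show (⟨((x * y : (P ⊔ Q : Subgroup Ω)) : Ω), sup_le hPS hQS (x * y).2⟩ : S) =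
        ⟨x, sup_le hPS hQS x.2⟩ * ⟨y, sup_le hPS hQS y.2⟩ from rfl, _root_.map_mul]
    group))
  have hφ : φ ∈ F.Hom (P ⊔ Q) :=
    (hr.2 _ (sup_le hPS hQS) φ fun x => (s x).2).2 ⟨g, fun x => hs x⟩
  have he : ∀ x ∈ P, ext φ x = f x := by
    intro x hx
    rw [ext_of_mem φ (Subgroup.mem_sup_left hx)]
    have h1 : s ⟨x, Subgroup.mem_sup_left hx⟩ = ⟨f x, hf.mem hx⟩ :=
      hr.1 ((hs _).trans (hg ⟨x, hx⟩).symm)
    exact congrArg Subtype.val h1
  have hfin' : Finite Q := finite_of_le hQS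
  refine ⟨ext φ, IsMap.of_hom hφ, he, eq_of_le_card (img_le fun x hx => ?_)
    ((IsMap.of_hom hφ).restrict le_sup_right).card_img.ge⟩
  rw [ext_of_mem φ (Subgroup.mem_sup_right hx)]
  refine (hmem _).2 ?_
  show ι (s ⟨x, _⟩) ∈ _
  rw [hs]
  exact hn.conj_mem _ ((hmem ⟨x, hQS hx⟩).1 hx) g

theorem model_constrained (hS : IsPGroup p S) (h : F.IsModel p G ι) : F.IsConstrained p := by
  obtain ⟨hfin, hr, ⟨T, hT⟩, hC⟩ := h
  have hn : (pCore p G).Normal := Cfsg.Agent.Cores.pCore_normal p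
  have hle : pCore p G ≤ ι.range := hT ▸ (pCore_isPGroup p G).le_sylow_of_normal T
  set Q := ((pCore p G).comap ι).map S.subtype with hQdef
  have hQS : Q ≤ S := Subgroup.map_subtype_le _
  have hmem : ∀ x : S, (x : Ω) ∈ Q ↔ ι x ∈ pCore p G := fun x =>
    ⟨fun ⟨y, hy, he⟩ => (Subtype.ext he : y = x) ▸ hy, fun hx => ⟨x, hx, rfl⟩⟩
  have hQn : F.IsNormal Q := model_isNormal hr hT
  refine ⟨realized_saturated hS hr hT, Q, hQn, hQS, fun R hR => ?_⟩
  obtain ⟨f, hf, rfl⟩ := isConj_iff_map.1 hR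
  rw [normal_img_eq hQn hf le_rfl]
  intro x hx
  refine (hmem ⟨x, hx.1⟩).2 (hC fun y hy => ?_)
  obtain ⟨z, rfl⟩ := hle hy
  rw [← _root_.map_mul, ← _root_.map_mul]
  exact congrArg ι (Subtype.ext (hx.2 z ((hmem z).2 hy)))

end Realized

variable [Finite S] {p : ℕ} [Fact p.Prime] {T : Subgroup Ω} {E : FusionSystem T}

/-- A saturated subsystem on a normal subgroup of a constrained system is constrained. -/
theorem constrained_sub (hS : IsPGroup p S) (hF : F.IsConstrained p) (hE : E.IsSubsystemOf F)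
    (hT : S ≤ Subgroup.normalizer (T : Set Ω)) (hEs : E.IsSaturated p) : E.IsConstrained p := by
  obtain ⟨-, Q, hQn, hQc⟩ := hF
  have hTS : T ≤ S := subsystem_le hE
  have hfinT : Finite T := finite_of_le hTS
  have hTp : IsPGroup p T := hS.to_le hTS
  have hsc : ∀ U : Subgroup Ω, F.IsNormal U → E.StronglyClosed (U ⊓ T) := fun U hU =>
    ⟨inf_le_right, fun A hA φ hφ x => ⟨(normal_stronglyClosed hU).2 A (hA.trans inf_le_left) φ
      (hE A hφ) x, (E.le_of_mem hφ).2 x⟩⟩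
  obtain ⟨n, C, C0, Cn, Cmono, CN, -, Ccomm⟩ := normal_series hS hQn
  have hQT : E.IsNormal (Q ⊓ T) := by
    refine normal_of_series hTp hEs n (fun i => C i ⊓ T) ?_ ?_
      (fun i _ => inf_le_inf_right _ (Cmono (Nat.le_succ i))) (fun i _ => hsc _ (CN i)) ?_
    · show C 0 ⊓ T = ⊥
      rw [C0, bot_inf_eq]
    · show C n ⊓ T = Q ⊓ T
      rw [Cn]
    · intro i _ x hx y hy
      exact ⟨Ccomm i x hx.1 y hy.1,
        T.mul_mem (T.mul_mem (T.mul_mem hx.2 hy.2) (T.inv_mem hx.2)) (T.inv_mem hy.2)⟩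
  have hD : E.IsNormal E.core := core_isNormal
  set D := E.core with hDdef
  have hQD : Q ⊓ T ≤ D := le_core hQT
  refine ⟨hEs, D, hD, hD.1, fun R hR => ?_⟩
  obtain ⟨f, hf, rfl⟩ := isConj_iff_map.1 hR
  rw [normal_img_eq hD hf le_rfl]
  have hQS := hQn.1
  have hQnorm := le_normalizer_of_stronglyClosed (normal_stronglyClosed hQn)
  -- commutators of elements of `C_T(D)` centralize `Q`
  have hδ : ∀ w ∈ centralizerIn T D, ∀ q ∈ Q, q⁻¹ * (w * q * w⁻¹) ∈ Q ⊓ T := by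
    intro w hw q hq
    refine ⟨Q.mul_mem (Q.inv_mem hq)
      ((Subgroup.mem_normalizer_iff.1 (hQnorm (hTS hw.1)) q).1 hq), ?_⟩
    have h1 := (Subgroup.mem_normalizer_iff.1 (hT (S.inv_mem (hQS hq))) w).1 hw.1
    simpa [mul_assoc] using T.mul_mem h1 (T.inv_mem hw.1)
  have hcomm : ∀ v ∈ centralizerIn T D, ∀ w ∈ centralizerIn T D,
      v * w * v⁻¹ * w⁻¹ ∈ D := by
    have hfix : ∀ u ∈ centralizerIn T D, ∀ t ∈ Q ⊓ T, u * t * u⁻¹ = t := fun u hu t ht => by
      rw [mul_inv_eq_iff_eq_mul]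
      exact (hu.2 t (hQD ht)).symm
    have main : ∀ v ∈ centralizerIn T D, ∀ w ∈ centralizerIn T D, ∀ q ∈ Q,
        v * (w * q * w⁻¹) * v⁻¹ = w * (v * q * v⁻¹) * w⁻¹ := by
      intro v hv w hw q hq
      have hvd := hδ v hv q hq
      have hwd := hδ w hw q hq
      have key : ∀ a ∈ centralizerIn T D, ∀ b ∈ centralizerIn T D,
          a * (b * q * b⁻¹) * a⁻¹ = a * q * a⁻¹ * (q⁻¹ * (b * q * b⁻¹)) := by
        intro a ha b hb
        calc a * (b * q * b⁻¹) * a⁻¹ = a * q * a⁻¹ * (a * (q⁻¹ * (b * q * b⁻¹)) * a⁻¹) := by group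
          _ = _ := by rw [hfix a ha _ (hδ b hb q hq)]
      have h3 : (w * q * w⁻¹) * (q⁻¹ * (v * q * v⁻¹)) * (w * q * w⁻¹)⁻¹ =
          q * (q⁻¹ * (v * q * v⁻¹)) * q⁻¹ := by
        have hin : q * (q⁻¹ * (v * q * v⁻¹)) * q⁻¹ ∈ Q ⊓ T :=
          ⟨Q.mul_mem (Q.mul_mem hq hvd.1) (Q.inv_mem hq),
            (Subgroup.mem_normalizer_iff.1 (hT (hQS hq)) _).1 hvd.2⟩
        have h2 : w⁻¹ * (q⁻¹ * (v * q * v⁻¹)) * w = q⁻¹ * (v * q * v⁻¹) := by
          simpa using hfix _ (Subgroup.inv_mem _ hw) _ hvd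
        calc (w * q * w⁻¹) * (q⁻¹ * (v * q * v⁻¹)) * (w * q * w⁻¹)⁻¹
            = w * (q * (w⁻¹ * (q⁻¹ * (v * q * v⁻¹)) * w) * q⁻¹) * w⁻¹ := by group
          _ = w * (q * (q⁻¹ * (v * q * v⁻¹)) * q⁻¹) * w⁻¹ := by rw [h2]
          _ = _ := hfix w hw _ hin
      have hcom : (q⁻¹ * (v * q * v⁻¹)) * (q⁻¹ * (w * q * w⁻¹)) =
          (q⁻¹ * (w * q * w⁻¹)) * (q⁻¹ * (v * q * v⁻¹)) := by
        calc (q⁻¹ * (v * q * v⁻¹)) * (q⁻¹ * (w * q * w⁻¹))
            = q⁻¹ * (q * (q⁻¹ * (v * q * v⁻¹)) * q⁻¹) * (w * q * w⁻¹) := by group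
          _ = q⁻¹ * ((w * q * w⁻¹) * (q⁻¹ * (v * q * v⁻¹)) * (w * q * w⁻¹)⁻¹) *
              (w * q * w⁻¹) := by rw [h3]
          _ = _ := by group
      rw [key v hv w hw, key w hw v hv]
      calc v * q * v⁻¹ * (q⁻¹ * (w * q * w⁻¹))
          = q * ((q⁻¹ * (v * q * v⁻¹)) * (q⁻¹ * (w * q * w⁻¹))) := by group
        _ = q * ((q⁻¹ * (w * q * w⁻¹)) * (q⁻¹ * (v * q * v⁻¹))) := by rw [hcom]
        _ = _ := by group
    intro v hv w hw
    refine hQD ⟨hQc.2 Q (isConj_refl hQS) ⟨S.mul_mem (S.mul_mem (S.mul_mem (hTS hv.1) (hTS hw.1))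
      (S.inv_mem (hTS hv.1))) (S.inv_mem (hTS hw.1)), fun q hq => ?_⟩,
      T.mul_mem (T.mul_mem (T.mul_mem hv.1 hw.1) (T.inv_mem hv.1)) (T.inv_mem hw.1)⟩
    have h4 := main _ (Subgroup.inv_mem _ hv) _ (Subgroup.inv_mem _ hw) q hq
    calc q * (v * w * v⁻¹ * w⁻¹)
        = v * w * (w⁻¹ * (v⁻¹ * q * v⁻¹⁻¹) * w⁻¹⁻¹) * v⁻¹ * w⁻¹ := by group
      _ = v * w * (v⁻¹ * (w⁻¹ * q * w⁻¹⁻¹) * v⁻¹⁻¹) * v⁻¹ * w⁻¹ := by rw [h4]
      _ = v * w * v⁻¹ * w⁻¹ * q := by group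
  have hV : E.StronglyClosed (D ⊔ centralizerIn T D) :=
    stronglyClosed_sup_centralizerIn hTp hEs (normal_stronglyClosed hD)
  obtain ⟨m, B, B0, Bm, Bmono, BN, Ble, Bcomm⟩ := normal_series hTp hD
  have hDn := le_normalizer_of_stronglyClosed (normal_stronglyClosed hD)
  have hdec : ∀ x ∈ D ⊔ centralizerIn T D, ∃ c ∈ centralizerIn T D, ∃ d ∈ D, c * d = x :=
    fun x hx => coe_sup_of_normal hDn centralizerIn_le (sup_comm D (centralizerIn T D) ▸ hx)
  have hVN : E.IsNormal (D ⊔ centralizerIn T D) := by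
    refine normal_of_series hTp hEs (m + 1)
      (fun i => if i ≤ m then B i else D ⊔ centralizerIn T D) (by simp [B0]) (by simp) ?_ ?_ ?_
    · intro i hi
      show (if i ≤ m then B i else D ⊔ centralizerIn T D) ≤
        if i + 1 ≤ m then B (i + 1) else D ⊔ centralizerIn T D
      rw [if_pos (by omega)]
      split_ifs
      exacts [Bmono (Nat.le_succ i), (Ble i).trans le_sup_left]
    · intro i _
      show E.StronglyClosed (if i ≤ m then B i else D ⊔ centralizerIn T D)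
      split_ifs
      exacts [normal_stronglyClosed (BN i), hV]
    · intro i hi x hx y hy
      show x * y * x⁻¹ * y⁻¹ ∈ if i ≤ m then B i else D ⊔ centralizerIn T D
      change y ∈ if i + 1 ≤ m then B (i + 1) else D ⊔ centralizerIn T D at hy
      rw [if_pos (by omega)]
      obtain ⟨c, hc, d, hd, rfl⟩ := hdec x hx
      split_ifs at hy with h
      · have h2 : d * y * d⁻¹ ∈ D := D.mul_mem (D.mul_mem hd (Ble _ hy)) (D.inv_mem hd)
        rw [show c * d * y * (c * d)⁻¹ * y⁻¹ = c * (d * y * d⁻¹) * c⁻¹ * y⁻¹ by group,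
          ← hc.2 _ h2, mul_inv_cancel_right]
        exact Bcomm i d hd y hy
      · obtain rfl : i = m := by omega
        rw [Bm]
        obtain ⟨c', hc', d', hd', rfl⟩ := hdec y hy
        rw [show c * d * (c' * d') * (c * d)⁻¹ * (c' * d')⁻¹ =
          (c * c') * (c'⁻¹ * d * c') * d' * d⁻¹ * (c * c')⁻¹ * (c * c' * c⁻¹ * c'⁻¹) *
            (c' * d'⁻¹ * c'⁻¹) by group]
        have hconj : ∀ u ∈ T, ∀ z ∈ D, u * z * u⁻¹ ∈ D :=
          fun u hu z hz => (Subgroup.mem_normalizer_iff.1 (hDn hu) z).1 hz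
        have h5 : (c * c') * (c'⁻¹ * d * c') * d' * d⁻¹ * (c * c')⁻¹ ∈ D := by
          have h6 : c'⁻¹ * d * c' ∈ D := by
            simpa using hconj _ (T.inv_mem hc'.1) d hd
          simpa [mul_assoc] using
            hconj _ (T.mul_mem hc.1 hc'.1) _ (D.mul_mem (D.mul_mem h6 hd') (D.inv_mem hd))
        exact D.mul_mem (D.mul_mem h5 (hcomm c hc c' hc')) (hconj _ hc'.1 _ (D.inv_mem hd'))
  exact le_sup_right.trans (le_core hVN)

theorem subnormal_constrained {S : Subgroup Ω} {F : FusionSystem S} {E : FusionSystem T} {q : ℕ}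
    (hE : E.IsSubnormalIn F q) :
    Fact q.Prime → Finite S → IsPGroup q S → F.IsConstrained q → E.IsConstrained q := by
  induction hE with
  | refl => exact fun _ _ _ h => h
  | step _ hD ih =>
    intro hq hfin hS hF
    have hUS := subsystem_le hD.1.2.2.1
    exact ih hq (finite_of_le hUS) (hS.to_le hUS)
      (constrained_sub hS hF hD.1.2.2.1 (le_normalizer_of_stronglyClosed hD.1.2.2.2.1) hD.1.1)

end Cfsg.Agent.Fusion.Constrained
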