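/-
Two maps agreeing on a centric subgroup differ by an element of its centre.
-/
import Mathlib
import Cfsg.Agent.Lib.Fusion.Normal

set_option autoImplicit false

namespace Cfsg.Agent.Fusion.CentricExt

open Cfsg Cfsg.FusionSystem Cfsg.Agent.Fusion.Basic Cfsg.Agent.Fusion.Saturation
  Cfsg.Agent.Fusion.Normal

variable {Ω : Type*} [Group Ω] {S : Subgroup Ω} [Finite S] {F : FusionSystem S} {p : ℕ}
  [Fact p.Prime] {P Q R : Subgroup Ω}

omit [Fact p.Prime] in
/-- An overgroup of a centric subgroup is centric. -/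
theorem centric_mono (hQ : F.IsCentric Q) (hQR : Q ≤ R) (hR : R ≤ S) : F.IsCentric R := by
  refine ⟨hR, fun R' hR' => ?_⟩
  obtain ⟨f, hf, rfl⟩ := isConj_iff_map.1 hR'
  have hle : img f Q ≤ img f R := img_mono f hQR
  intro x hx
  exact hle (hQ.2 _ (hf.restrict hQR).isConj ⟨hx.1, fun y hy => hx.2 y (hle hy)⟩)

omit [Finite S] [Fact p.Prime] in
/-- Elements inducing the same conjugation on a centric subgroup differ by an element of it. -/
theorem inv_mul_mem {Q₁ : Subgroup Ω} (hQ₁ : F.IsCentric Q₁) {a b : Ω} (ha : a ∈ S) (hb : b ∈ S)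
    (h : ∀ x ∈ Q₁, a * x * a⁻¹ = b * x * b⁻¹) : b⁻¹ * a ∈ centralizerIn S Q₁ := by
  refine ⟨S.mul_mem (S.inv_mem hb) ha, fun x hx => ?_⟩
  calc x * (b⁻¹ * a) = b⁻¹ * (b * x * b⁻¹) * a := by group
    _ = b⁻¹ * (a * x * a⁻¹) * a := by rw [h x hx]
    _ = b⁻¹ * a * x := by group

/-- An automorphism in `Aut_F(P)` fixing a normal centric subgroup `Q` pointwise is conjugation by
an element of `Q` centralizing `Q`. -/
theorem aut_fix_centric (hS : IsPGroup p S) (hF : F.IsSaturated p) (hQ : F.IsCentric Q)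
    (hQP : Q ≤ P) (hPS : P ≤ S) (hPN : P ≤ Subgroup.normalizer (Q : Set Ω)) {θ : Ω → Ω}
    (hθ : IsMap F P θ) (himg : img θ P = P) (hfix : ∀ x ∈ Q, θ x = x) :
    ∃ z ∈ Q, z ∈ centralizerIn S Q ∧ ∀ y ∈ P, θ y = z * y * z⁻¹ := by
  obtain ⟨P₁, hPP₁, hP₁⟩ := exists_fullyNormalized (F := F) hPS
  obtain ⟨χ₀, hχ₀, rfl⟩ := isConj_iff_map.1 hPP₁
  set P₁ := img χ₀ P with hP₁def
  have hfin : Finite P₁ := finite_of_le hP₁.1
  let K : Subgroup (F.autGroup P₁) :=
    { carrier := {a | ∀ x ∈ img χ₀ Q, autFun (a : MulAut P₁) x = x}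
      one_mem' := fun x _ => by rw [Subgroup.coe_one, autFun_one, id]
      mul_mem' := fun {a b} ha hb x hx => by rw [Subgroup.coe_mul, autFun_mul, hb x hx, ha x hx]
      inv_mem' := fun {a} ha x hx => by
        rw [Subgroup.coe_inv]; conv_lhs => rw [← ha x hx, autFun_inv_apply] }
  have hQ₁ : F.IsCentric (img χ₀ Q) := centric_conj hQ (hχ₀.restrict hQP).isConj
  have hQP₁ : img χ₀ Q ≤ P₁ := img_mono χ₀ hQP
  have hN₁ : ∀ y ∈ P₁, y ∈ Subgroup.normalizer (img χ₀ Q : Set Ω) := by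
    intro y hy
    obtain ⟨x, hx, rfl⟩ := hχ₀.mem_img.1 hy
    exact hχ₀.mem_normalizer_img hQP hx (hPN hx)
  have hKp : IsPGroup p K := by
    intro a
    let D : ℕ → Subgroup P₁ :=
      fun i => if i = 0 then ⊥ else if i = 1 then (img χ₀ Q).subgroupOf P₁ else ⊤
    obtain ⟨k, hk⟩ := exists_pow_eq_one_of_stabilizes (p := p) (hS.to_le hP₁.1) D 2
      (if_pos rfl) (by simp [D]) (fun i hi => by
        rcases i with _ | i
        · exact bot_le.trans' (le_of_eq (if_pos rfl))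
        · simp [D])
      ((a : F.autGroup P₁) : MulAut P₁) (fun i hi y hy => by
        rcases i with _ | _ | i
        · simp only [D, if_pos, one_ne_zero, zero_add, if_false] at hy ⊢
          rw [Subgroup.mem_bot, inv_mul_eq_one]
          refine Subtype.ext ?_
          rw [← autFun_apply]
          exact (a.2 _ (Subgroup.mem_subgroupOf.1 hy)).symm
        · simp only [D, one_ne_zero, if_false, zero_add, if_true]
          rw [Subgroup.mem_subgroupOf, Subgroup.coe_mul, Subgroup.coe_inv, ← autFun_apply]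
          have hm := isMap_of_mem_autGroup hP₁.1 ((a : F.autGroup P₁)).2
          refine centric_centralizerIn_le hQ₁
            (inv_mul_mem hQ₁ (hm.mem y.2) (hP₁.1 y.2) fun x hx => ?_)
          have hconj : (y : Ω) * x * (y : Ω)⁻¹ ∈ img χ₀ Q :=
            (Subgroup.mem_normalizer_iff.1 (hN₁ y y.2) x).1 hx
          have h1 := hm.map_conj y.2 (hQP₁ hx)
          rw [a.2 _ hconj, a.2 _ hx] at h1
          exact h1.symm
        · omega)
    exact ⟨k, Subtype.ext (Subtype.ext (by simpa using hk))⟩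
  obtain ⟨R, hR⟩ := (fullyNormalized_fullyAutomized hS hF hP₁).2
  obtain ⟨c, hc⟩ := exists_conj_le_sylow R hKp
  have hcm := isMap_of_mem_autGroup hP₁.1 c.2
  set χ := fun x => autFun (c : MulAut P₁) (χ₀ x) with hχdef
  have hχ : IsMap F P χ := hcm.comp hχ₀ fun x hx => mem_img_self χ₀ hx
  have hχimg : img χ P = P₁ := by rw [hχdef, ← hχ₀.img_img, autFun_img]
  obtain ⟨inv, hinv, hinvimg, hinvχ, -⟩ := hχ₀.exists_inv
  have hmaps : ∀ y ∈ P₁, θ (inv y) ∈ P := fun y hy =>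
    himg.le (mem_img_self θ (hinvimg.le (mem_img_self inv hy)))
  have htmp : IsMap F P₁ (fun y => χ₀ (θ (inv y))) :=
    hχ₀.comp (hθ.comp hinv fun y hy => hinvimg.le (mem_img_self inv hy)) hmaps
  obtain ⟨a, ha, hae⟩ := htmp.exists_aut
    (eq_of_le_card (img_le fun y hy => mem_img_self χ₀ (hmaps y hy)) htmp.card_img.ge)
  have haK : (⟨a, ha⟩ : F.autGroup P₁) ∈ K := by
    intro x hx
    obtain ⟨q, hq, rfl⟩ := (hχ₀.restrict hQP).mem_img.1 hx
    rw [hae _ (mem_img_self χ₀ (hQP hq))]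
    show χ₀ (θ (inv (χ₀ q))) = _
    rw [hinvχ q (hQP hq), hfix q hq]
  have h1 := hc _ haK
  rw [hR] at h1
  obtain ⟨s, hs, hse⟩ := mem_autInducedBy_iff'.1 (Subgroup.mem_subgroupOf.1 h1)
  have key : ∀ y ∈ P, χ (θ y) = s * χ y * s⁻¹ := by
    intro y hy
    have h2 := hse _ (autFun_mem (c : MulAut P₁) (mem_img_self χ₀ hy))
    rw [Subgroup.coe_mul, Subgroup.coe_mul, Subgroup.coe_inv, autFun_mul, autFun_mul,
      autFun_inv_apply, hae _ (mem_img_self χ₀ hy), hinvχ y hy] at h2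
    exact h2
  have hsQ : s ∈ centralizerIn S (img χ Q) := by
    refine ⟨hs.1, fun x hx => ?_⟩
    obtain ⟨q, hq, rfl⟩ := (hχ.restrict hQP).mem_img.1 hx
    have h2 := key q (hQP hq)
    rw [hfix q hq] at h2
    calc χ q * s = (s * χ q * s⁻¹) * s := by rw [← h2]
      _ = s * χ q := by group
  have hQ₂ : F.IsCentric (img χ Q) := centric_conj hQ (hχ.restrict hQP).isConj
  obtain ⟨z, hz, hze⟩ := (hχ.restrict hQP).mem_img.1 (centric_centralizerIn_le hQ₂ hsQ)
  subst hze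
  refine ⟨z, hz, ⟨hPS (hQP hz), fun q hq => ?_⟩, fun y hy => ?_⟩
  · refine hχ.inj (P.mul_mem (hQP hq) (hQP hz)) (P.mul_mem (hQP hz) (hQP hq)) ?_
    rw [hχ.map_mul (hQP hq) (hQP hz), hχ.map_mul (hQP hz) (hQP hq)]
    exact hsQ.2 _ (mem_img_self χ hq)
  · have h2 := key y hy
    rw [← hχ.map_conj (hQP hz) hy] at h2
    exact hχ.inj (himg.le (mem_img_self θ hy))
      (P.mul_mem (P.mul_mem (hQP hz) hy) (P.inv_mem (hQP hz))) h2

theorem agree_on_centric (hS : IsPGroup p S) (hF : F.IsSaturated p) (hQ : F.IsCentric Q)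
    (hQP : Q ≤ P) {f f' : Ω → Ω} (hf : IsMap F P f) (hf' : IsMap F P f')
    (h : ∀ x ∈ Q, f x = f' x) :
    ∃ z ∈ Q, z ∈ centralizerIn S Q ∧ ∀ y ∈ P, f' y = f (z * y * z⁻¹) := by
  induction hn : Nat.card P - Nat.card Q using Nat.strong_induction_on generalizing Q f with
  | _ n ih =>
  have hPS := hf.le
  have hfinP : Finite P := finite_of_le hPS
  set R := normalizerIn P Q with hRdef
  have hQR : Q ≤ R := le_normalizerIn hQP
  have hRP : R ≤ P := normalizerIn_le
  -- on `R` the two maps differ by an element of `Z(Q)`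
  have hfQ : F.IsCentric (img f Q) := centric_conj hQ (hf.restrict hQP).isConj
  have hdiff : ∀ y ∈ R, f' y ∈ img f R := by
    intro y hy
    have h1 : (f y)⁻¹ * f' y ∈ img f Q := by
      refine centric_centralizerIn_le hfQ (inv_mul_mem hfQ (hf'.mem (hRP hy)) (hf.mem (hRP hy))
        fun x hx => ?_)
      obtain ⟨q, hq, rfl⟩ := (hf.restrict hQP).mem_img.1 hx
      have hyq : y * q * y⁻¹ ∈ Q := (Subgroup.mem_normalizer_iff.1 hy.2 q).1 hq
      rw [← hf.map_conj (hRP hy) (hQP hq), h q hq, ← hf'.map_conj (hRP hy) (hQP hq),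
        h _ hyq]
    have h2 := Subgroup.mul_mem _ (mem_img_self f hy) (img_mono f hQR h1)
    simpa using h2
  obtain ⟨g, hg, hgimg, hgf, hfg⟩ := (hf.restrict hRP).exists_inv
  have hθ : IsMap F R (fun y => g (f' y)) := hg.comp (hf'.restrict hRP) hdiff
  have himg : img (fun y => g (f' y)) R = R := by
    have hfinR : Finite R := finite_of_le hRP
    exact eq_of_le_card (img_le fun y hy => hgimg.le (mem_img_self g (hdiff y hy))) hθ.card_img.ge
  obtain ⟨z, hzQ, hzC, hze⟩ := aut_fix_centric hS hF hQ hQR (hRP.trans hPS)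
    (fun y hy => hy.2) hθ himg fun x hx => by rw [← h x hx]; exact hgf x (hQR hx)
  have hR' : ∀ y ∈ R, f' y = f (z * y * z⁻¹) := by
    intro y hy
    rw [← hze y hy, hfg _ (hdiff y hy)]
  rcases eq_or_lt_of_le hQP with hQP' | hlt
  · refine ⟨z, hzQ, hzC, fun y hy => hR' y ?_⟩
    exact hQR (hQP' ▸ hy)
  have hQlt : Q < R := lt_normalizerIn (hS.to_le hPS) hlt
  have hfinR : Finite R := finite_of_le hRP
  have hf₂ : IsMap F P (fun y => f (cj z y)) :=
    hf.comp (isMap_cj hPS (hPS (hQP hzQ)))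
      fun y hy => P.mul_mem (P.mul_mem (hQP hzQ) hy) (P.inv_mem (hQP hzQ))
  have hlt' : Nat.card P - Nat.card R < n := by
    have h1 := card_lt_card hQlt
    have h2 := card_le_card hRP
    omega
  obtain ⟨w, hwR, hwC, hwe⟩ := ih _ hlt' (centric_mono hQ hQR (hRP.trans hPS)) hRP
    hf₂ (fun y hy => (hR' y hy).symm) rfl
  have hwQ : w ∈ centralizerIn S Q := ⟨hwC.1, fun q hq => hwC.2 q (hQR hq)⟩
  have hwQ' : w ∈ Q := centric_centralizerIn_le hQ hwQ
  refine ⟨z * w, Q.mul_mem hzQ hwQ', Subgroup.mul_mem _ hzC hwQ, fun y hy => ?_⟩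
  rw [hwe y hy]
  simp [cj, mul_assoc]

end Cfsg.Agent.Fusion.CentricExt
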