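/-
Existence of models of constrained fusion systems.

For a saturated `F` with a normal centric subgroup `Q`, put `A = Aut_F(Q)`, with Sylow subgroup the
image of `S`. We choose a monomial representation of `S` on the cosets of that image in `A`, with
components maps of `F`; the monomial group over `A`, pushed forward along the norm map into
`Z(Q)`, is a model.
-/
import Mathlib
import Cfsg.Agent.Lib.Fusion.CentricExt
import Cfsg.Agent.Lib.Cores.Basic

set_option autoImplicit false

namespace Cfsg.Agent.Fusion.Model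

open Cfsg Cfsg.FusionSystem Cfsg.Agent.Fusion.Basic Cfsg.Agent.Fusion.Saturation
  Cfsg.Agent.Fusion.Normal Cfsg.Agent.Fusion.CentricExt

universe u

variable {Ω : Type u} [Group Ω] {S : Subgroup Ω} {F : FusionSystem S} {p : ℕ} {Q : Subgroup Ω}

/-- A saturated fusion system with a normal centric subgroup. -/
structure Setting (F : FusionSystem S) (p : ℕ) (Q : Subgroup Ω) : Prop where
  finite : Finite S
  prime : Fact p.Prime
  pgroup : IsPGroup p S
  saturated : F.IsSaturated p
  normal : F.IsNormal Q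
  centric : F.IsCentric Q

theorem Setting.le (st : Setting F p Q) : Q ≤ S := st.normal.1

theorem Setting.le_normalizer (st : Setting F p Q) : S ≤ Subgroup.normalizer (Q : Set Ω) :=
  have := st.finite
  le_normalizer_of_stronglyClosed (normal_stronglyClosed st.normal)

theorem Setting.fullyNormalized (st : Setting F p Q) : F.IsFullyNormalized Q := by
  have := st.finite
  refine ⟨st.le, fun R _ => ?_⟩
  rw [show normalizerIn S Q = S from inf_eq_left.2 st.le_normalizer]
  exact card_le_card normalizerIn_le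

/-- The conjugation action of `S` on `Q`. -/
def cS (st : Setting F p Q) : S →* F.autGroup Q :=
  ((conjAut S Q).comp (Subgroup.inclusion (le_inf le_rfl st.le_normalizer))).codRestrict _ fun s =>
    autInducedBy_le st.le (by rw [← conjAut_range]; exact ⟨_, rfl⟩)

variable (st : Setting F p Q)

theorem cS_apply (s : S) {q : Ω} (hq : q ∈ Q) :
    autFun ((cS st s : F.autGroup Q) : MulAut Q) q = (s : Ω) * q * (s : Ω)⁻¹ :=
  conjAut_apply (Subgroup.inclusion (le_inf le_rfl st.le_normalizer) s) hq

theorem aut_ext {a b : F.autGroup Q}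
    (h : ∀ q ∈ Q, autFun (a : MulAut Q) q = autFun (b : MulAut Q) q) : a = b :=
  Subtype.ext (autFun_ext h)

theorem autFun_mul' (a b : F.autGroup Q) (x : Ω) :
    autFun ((a * b : F.autGroup Q) : MulAut Q) x =
      autFun (a : MulAut Q) (autFun (b : MulAut Q) x) :=
  autFun_mul _ _ x

theorem autFun_inv_self (a : F.autGroup Q) (x : Ω) :
    autFun ((a⁻¹ : F.autGroup Q) : MulAut Q) (autFun (a : MulAut Q) x) = x :=
  autFun_inv_apply _ x

theorem autFun_self_inv (a : F.autGroup Q) (x : Ω) :
    autFun (a : MulAut Q) (autFun ((a⁻¹ : F.autGroup Q) : MulAut Q) x) = x :=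
  autFun_apply_inv _ x

theorem cS_eq_one_iff {s : S} : cS st s = 1 ↔ (s : Ω) ∈ centralizerIn S Q := by
  constructor
  · refine fun h => ⟨s.2, fun q hq => ?_⟩
    have h2 := cS_apply st s hq
    rw [h, OneMemClass.coe_one, autFun_one, id] at h2
    calc q * (s : Ω) = (s : Ω) * q * (s : Ω)⁻¹ * s := by rw [← h2]
      _ = (s : Ω) * q := by group
  · refine fun h => aut_ext fun q hq => ?_
    rw [cS_apply st s hq, OneMemClass.coe_one, autFun_one, id,
      mul_inv_eq_iff_eq_mul]
    exact (h.2 q hq).symm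

theorem ker_le (z : (cS st).ker) : ((z : S) : Ω) ∈ Q :=
  have := st.finite
  centric_centralizerIn_le st.centric ((cS_eq_one_iff st).1 z.2)

theorem ker_comm (z : (cS st).ker) {q : Ω} (hq : q ∈ Q) :
    q * ((z : S) : Ω) = ((z : S) : Ω) * q :=
  ((cS_eq_one_iff st).1 z.2).2 q hq

noncomputable instance instCommGroupKer : CommGroup ↥(cS st).ker :=
  { (inferInstance : Group ↥(cS st).ker) with
    mul_comm := fun a b => Subtype.ext (Subtype.ext (ker_comm st b (ker_le st a))) }

/-- A map of the system that acts on `Q` as `α` transports `cS` by conjugation with `α`. -/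
theorem map_cS {P : Subgroup Ω} {f : Ω → Ω} (hf : IsMap F P f) (hQP : Q ≤ P) {α : F.autGroup Q}
    (hα : ∀ q ∈ Q, f q = autFun (α : MulAut Q) q) {s : S} (hs : (s : Ω) ∈ P) :
    cS st ⟨f s, hf.mem hs⟩ = α * cS st s * α⁻¹ := by
  refine aut_ext fun q hq => ?_
  have h1 : autFun ((α⁻¹ : F.autGroup Q) : MulAut Q) q ∈ Q := autFun_mem _ hq
  have h2 := autFun_mem ((cS st s : F.autGroup Q) : MulAut Q) h1
  rw [cS_apply st _ hq, autFun_mul', autFun_mul', ← hα _ h2, cS_apply st s h1,
    hf.map_conj hs (hQP h1), hα _ h1, autFun_self_inv]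

theorem cS_autFun (a : F.autGroup Q) {q : S} (hq : (q : Ω) ∈ Q) :
    cS st ⟨autFun (a : MulAut Q) q, st.le (autFun_mem _ hq)⟩ = a * cS st q * a⁻¹ :=
  map_cS st (isMap_of_mem_autGroup st.le a.2) le_rfl (fun _ _ => rfl) hq

/-- The coset space on which the monomial group acts. -/
abbrev Cos := ↥(F.autGroup Q) ⧸ (cS st).range

theorem inn_fix {q : S} (hq : (q : Ω) ∈ Q) (t : Cos st) : cS st q • t = t := by
  induction t using QuotientGroup.induction_on with
  | H a =>
    rw [MulAction.Quotient.smul_mk, QuotientGroup.eq, smul_eq_mul]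
    refine ⟨⟨autFun ((a⁻¹ : F.autGroup Q) : MulAut Q) ((q⁻¹ : S) : Ω), ?_⟩, ?_⟩
    · exact st.le (autFun_mem _ (by simpa using hq))
    · rw [cS_autFun st a⁻¹ (q := q⁻¹) (by simpa using hq), map_inv]
      group

/-- Orbits of `S` on the cosets. -/
def orbSetoid : Setoid (Cos st) where
  r t t' := ∃ s : S, cS st s • t = t'
  iseqv :=
    { refl := fun t => ⟨1, by rw [map_one, one_smul]⟩
      symm := fun {t t'} ⟨s, hs⟩ => ⟨s⁻¹, by rw [← hs, map_inv, inv_smul_smul]⟩
      trans := fun {t t' t''} ⟨s, hs⟩ ⟨s', hs'⟩ => ⟨s' * s, by rw [map_mul, mul_smul, hs, hs']⟩ }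

/-- The chosen representative of an orbit. -/
noncomputable def rep (t : Cos st) : Cos st := (Quotient.mk (orbSetoid st) t).out

theorem exists_xs (t : Cos st) : ∃ s : S, cS st s • rep st t = t :=
  Quotient.exact (s := orbSetoid st) (Quotient.out_eq (Quotient.mk (orbSetoid st) t))

theorem rep_smul (s : S) (t : Cos st) : rep st (cS st s • t) = rep st t := by
  unfold rep
  rw [Quotient.sound (s := orbSetoid st) (show (orbSetoid st).r t (cS st s • t) from ⟨s, rfl⟩)]

/-- An element of `S` carrying the representative of the orbit to the given coset. -/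
noncomputable def xs (t : Cos st) : S := (exists_xs st t).choose

theorem xs_spec (t : Cos st) : cS st (xs st t) • rep st t = t := (exists_xs st t).choose_spec

/-- The section of the coset space adapted to the orbits. -/
noncomputable def T (t : Cos st) : F.autGroup Q := cS st (xs st t) * (rep st t).out

theorem mk_T (t : Cos st) : (QuotientGroup.mk (T st t) : Cos st) = t := by
  rw [T, ← smul_eq_mul, ← MulAction.Quotient.smul_mk, QuotientGroup.out_eq', xs_spec]

theorem section_mem (a : F.autGroup Q) (t : Cos st) :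
    (T st (a • t))⁻¹ * a * T st t ∈ (cS st).range := by
  have h : (QuotientGroup.mk (T st (a • t)) : Cos st) = QuotientGroup.mk (a * T st t) := by
    rw [mk_T, ← smul_eq_mul a, ← MulAction.Quotient.smul_mk, mk_T]
  rw [mul_assoc]
  exact QuotientGroup.eq.1 h

/-- The stabiliser of a coset in `S`, as a subgroup of the ambient group. -/
def stab (r : Cos st) : Subgroup Ω :=
  ((MulAction.stabilizer (↥(F.autGroup Q)) r).comap (cS st)).map S.subtype

theorem mem_stab {r : Cos st} {s : S} : (s : Ω) ∈ stab st r ↔ cS st s • r = r :=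
  ⟨fun ⟨_, hy, he⟩ => (Subtype.ext he : _ = s) ▸ hy, fun h => ⟨s, h, rfl⟩⟩

theorem stab_le (r : Cos st) : stab st r ≤ S := Subgroup.map_subtype_le _

theorem le_stab (r : Cos st) : Q ≤ stab st r := fun q hq =>
  (mem_stab st (s := ⟨q, st.le hq⟩)).2 (inn_fix st hq r)

theorem exists_phi (r : Cos st) : ∃ f : Ω → Ω, IsMap F (stab st r) f ∧
    ∀ q ∈ Q, f q = autFun (((r.out)⁻¹ : F.autGroup Q) : MulAut Q) q := by
  have := st.finite
  have := st.prime
  set a : F.autGroup Q := (r.out)⁻¹ with ha
  obtain ⟨g, hg, he⟩ := exists_extension st.pgroup st.saturated (isMap_of_mem_autGroup st.le a.2)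
    (by rw [autFun_img]; exact centric_fullyCentralized st.centric)
  refine ⟨g, hg.restrict fun x hx => ?_, he⟩
  let s : S := ⟨x, stab_le st r hx⟩
  have hs : cS st s • r = r := (mem_stab st (s := s)).1 hx
  refine ⟨s.2, st.le_normalizer s.2, ?_⟩
  have h2 : (QuotientGroup.mk (cS st s * r.out) : Cos st) = QuotientGroup.mk r.out := by
    rw [← smul_eq_mul, ← MulAction.Quotient.smul_mk, QuotientGroup.out_eq', hs]
  obtain ⟨h, hh⟩ := QuotientGroup.eq.1 h2.symm
  refine ⟨h, h.2, fun q hq => ?_⟩
  have h3 : cS st h * a = a * cS st s := by rw [hh, ha]; group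
  have h4 := congrArg (fun b : F.autGroup Q => autFun (b : MulAut Q) q) h3
  simp only [autFun_mul'] at h4
  rw [cS_apply st s hq, cS_apply st h (autFun_mem _ hq)] at h4
  exact h4.symm

/-- The map of the system attached to an orbit representative. -/
noncomputable def phi (r : Cos st) : Ω → Ω := (exists_phi st r).choose

theorem phi_isMap (r : Cos st) : IsMap F (stab st r) (phi st r) :=
  (exists_phi st r).choose_spec.1

theorem phi_Q (r : Cos st) {q : Ω} (hq : q ∈ Q) :
    phi st r q = autFun (((r.out)⁻¹ : F.autGroup Q) : MulAut Q) q :=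
  (exists_phi st r).choose_spec.2 q hq

theorem arg_mem (s : S) (t : Cos st) :
    (((xs st (cS st s • t))⁻¹ * s * xs st t : S) : Ω) ∈ stab st (rep st t) := by
  rw [mem_stab, map_mul, map_mul, map_inv, mul_smul, mul_smul, xs_spec, inv_smul_eq_iff]
  conv_rhs => rw [← rep_smul st s t, xs_spec]

/-- The components of the monomial representation of `S`. -/
noncomputable def comp (s : S) (t : Cos st) : S :=
  ⟨phi st (rep st t) (((xs st (cS st s • t))⁻¹ * s * xs st t : S) : Ω),
    (phi_isMap st _).mem (arg_mem st s t)⟩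

theorem comp_mul (a b : S) (t : Cos st) :
    comp st (a * b) t = comp st a (cS st b • t) * comp st b t := by
  refine Subtype.ext ?_
  have h1 := arg_mem st a (cS st b • t)
  rw [rep_smul] at h1
  show phi st _ _ = phi st _ _ * phi st _ _
  rw [rep_smul, ← (phi_isMap st _).map_mul h1 (arg_mem st b t), map_mul, mul_smul,
    ← Subgroup.coe_mul]
  congr 2
  group

theorem comp_cS (s : S) (t : Cos st) :
    cS st (comp st s t) = (T st (cS st s • t))⁻¹ * cS st s * T st t := by
  rw [comp, map_cS st (phi_isMap st _) (le_stab st _) (fun q hq => phi_Q st _ hq) (arg_mem st s t),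
    map_mul, map_mul, map_inv, T, T, rep_smul]
  group

theorem comp_on_Q {q : S} (hq : (q : Ω) ∈ Q) (t : Cos st) :
    (comp st q t : Ω) = autFun (((T st t)⁻¹ : F.autGroup Q) : MulAut Q) q := by
  have h1 : (((xs st t)⁻¹ * q * xs st t : S) : Ω) =
      autFun (((cS st (xs st t))⁻¹ : F.autGroup Q) : MulAut Q) q := by
    rw [← map_inv, cS_apply st _ hq]
    simp
  show phi st _ _ = _
  rw [inn_fix st hq, h1, phi_Q st _ (autFun_mem _ hq), ← autFun_mul', T, mul_inv_rev]

/-- On a subgroup fixing a coset the component is a map of the system. -/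
theorem comp_stab {P : Subgroup Ω} (hPS : P ≤ S) (t : Cos st)
    (hfix : ∀ x : S, (x : Ω) ∈ P → cS st x • t = t) :
    ∃ f : Ω → Ω, IsMap F P f ∧ ∀ x : S, (x : Ω) ∈ P → (comp st x t : Ω) = f x := by
  have hmem : ∀ x ∈ P, cj (((xs st t)⁻¹ : S) : Ω) x ∈ stab st (rep st t) := by
    intro x hx
    have h := arg_mem st ⟨x, hPS hx⟩ t
    rw [hfix ⟨x, hPS hx⟩ hx] at h
    simpa [cj] using h
  refine ⟨_, (phi_isMap st _).comp (isMap_cj hPS ((xs st t)⁻¹ : S).2) hmem, fun x hx => ?_⟩
  show phi st _ _ = phi st _ _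
  rw [hfix x hx]
  simp [cj]

/-- The monomial group over `Aut_F(Q)`. -/
@[ext]
structure W where
  a : F.autGroup Q
  f : Cos st → S
  hf : ∀ t, cS st (f t) = (T st (a • t))⁻¹ * a * T st t

noncomputable instance instOneW : One (W st) := ⟨⟨1, fun _ => 1, fun t => by simp⟩⟩

noncomputable instance instMulW : Mul (W st) :=
  ⟨fun v w => ⟨v.a * w.a, fun t => v.f (w.a • t) * w.f t, fun t => by
    rw [map_mul, v.hf, w.hf, mul_smul]
    group⟩⟩

noncomputable instance instInvW : Inv (W st) :=
  ⟨fun v => ⟨v.a⁻¹, fun t => (v.f (v.a⁻¹ • t))⁻¹, fun t => by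
    rw [map_inv, v.hf, smul_inv_smul]
    group⟩⟩

theorem W.mul_a (v w : W st) : (v * w).a = v.a * w.a := rfl
theorem W.mul_f (v w : W st) (t : Cos st) : (v * w).f t = v.f (w.a • t) * w.f t := rfl
theorem W.one_a : (1 : W st).a = 1 := rfl
theorem W.one_f (t : Cos st) : (1 : W st).f t = 1 := rfl
theorem W.inv_a (v : W st) : v⁻¹.a = v.a⁻¹ := rfl
theorem W.inv_f (v : W st) (t : Cos st) : v⁻¹.f t = (v.f (v.a⁻¹ • t))⁻¹ := rfl

noncomputable instance instGroupW : Group (W st) :=
  Group.ofLeftAxioms
    (fun u v w => W.ext (mul_assoc _ _ _) (funext fun t => by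
      simp only [W.mul_f, W.mul_a, mul_smul, mul_assoc]))
    (fun v => W.ext (one_mul _) (funext fun t => by simp [W.mul_f, W.one_f]))
    (fun v => W.ext (inv_mul_cancel _) (funext fun t => by
      simp [W.mul_f, W.inv_f, W.one_f]))

/-- The projection to `Aut_F(Q)`. -/
noncomputable def proj : W st →* F.autGroup Q := MonoidHom.mk' (fun w => w.a) fun _ _ => rfl

theorem exists_lift (a : F.autGroup Q) : ∃ w : W st, w.a = a :=
  ⟨⟨a, fun t => (section_mem st a t).choose, fun t => (section_mem st a t).choose_spec⟩, rfl⟩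

/-- The monomial representation of `S`. -/
noncomputable def theta : S →* W st :=
  MonoidHom.mk' (fun s => ⟨cS st s, comp st s, comp_cS st s⟩) fun a b =>
    W.ext (map_mul _ _ _) (funext (comp_mul st a b))

theorem theta_a (s : S) : (theta st s).a = cS st s := rfl
theorem theta_f (s : S) (t : Cos st) : (theta st s).f t = comp st s t := rfl

theorem conj_theta_Q (w : W st) {q : S} (hq : (q : Ω) ∈ Q) :
    w * theta st q =
      theta st ⟨autFun (w.a : MulAut Q) q, st.le (autFun_mem _ hq)⟩ * w := by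
  have hq' : autFun (w.a : MulAut Q) q ∈ Q := autFun_mem _ hq
  refine W.ext ?_ (funext fun t => Subtype.ext ?_)
  · rw [W.mul_a, W.mul_a, theta_a, theta_a, cS_autFun st w.a hq]
    group
  · rw [W.mul_f, W.mul_f, theta_f, theta_f, theta_a, inn_fix st hq, Subgroup.coe_mul,
      Subgroup.coe_mul, comp_on_Q st hq,
      comp_on_Q st (q := ⟨autFun (w.a : MulAut Q) q, st.le hq'⟩) hq']
    set y := autFun (((T st t)⁻¹ : F.autGroup Q) : MulAut Q) q with hy
    have hyQ : y ∈ Q := autFun_mem _ hq
    have h1 : autFun (((T st (w.a • t))⁻¹ : F.autGroup Q) : MulAut Q)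
        (autFun (w.a : MulAut Q) q) = (w.f t : Ω) * y * (w.f t : Ω)⁻¹ := by
      rw [← cS_apply st (w.f t) hyQ, w.hf t, hy, autFun_mul', autFun_mul', autFun_self_inv]
    rw [h1]
    group

/-- The action of `Aut_F(Q)` on the kernel of `cS`. -/
noncomputable def act (a : F.autGroup Q) : (cS st).ker →* (cS st).ker :=
  MonoidHom.mk'
    (fun z => ⟨⟨autFun (a : MulAut Q) ((z : S) : Ω), st.le (autFun_mem _ (ker_le st z))⟩, by
      rw [MonoidHom.mem_ker, cS_autFun st a (ker_le st z), z.2, mul_one, mul_inv_cancel]⟩)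
    fun z z' => Subtype.ext (Subtype.ext
      (autFun_isHom (a : MulAut Q) _ (ker_le st z) _ (ker_le st z')))

theorem act_coe (a : F.autGroup Q) (z : (cS st).ker) :
    ((act st a z : S) : Ω) = autFun (a : MulAut Q) ((z : S) : Ω) := rfl

theorem act_mul (a b : F.autGroup Q) (z : (cS st).ker) :
    act st (a * b) z = act st a (act st b z) := by
  refine Subtype.ext (Subtype.ext ?_)
  rw [act_coe, act_coe, act_coe, autFun_mul']

theorem W.f_mem_ker (w : (proj st).ker) (t : Cos st) : (w : W st).f t ∈ (cS st).ker := by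
  have h : (w : W st).a = 1 := w.2
  rw [MonoidHom.mem_ker, (w : W st).hf, h]
  simp

section Push

variable [Fintype (Cos st)]

/-- The norm map on the kernel of the projection. -/
noncomputable def norm : (proj st).ker →* (cS st).ker :=
  MonoidHom.mk' (fun w => ∏ t : Cos st, act st (T st t) ⟨(w : W st).f t, W.f_mem_ker st w t⟩)
    fun v w => by
      rw [← Finset.prod_mul_distrib]
      refine Finset.prod_congr rfl fun t _ => ?_
      rw [← map_mul]
      congr 1
      refine Subtype.ext ?_
      show (v : W st).f ((w : W st).a • t) * (w : W st).f t = _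
      rw [show (w : W st).a = 1 from w.2, one_smul]
      rfl

/-- The kernel of the norm map. -/
noncomputable def normKer : Subgroup (W st) := (norm st).ker.map (proj st).ker.subtype

theorem norm_conj (v : W st) (w : (proj st).ker) (hw : v * (w : W st) * v⁻¹ ∈ (proj st).ker) :
    norm st ⟨v * (w : W st) * v⁻¹, hw⟩ = act st v.a (norm st w) := by
  show (∏ t : Cos st, act st (T st t) ⟨(v * (w : W st) * v⁻¹).f t, _⟩) =
    act st v.a (∏ t : Cos st, act st (T st t) ⟨(w : W st).f t, _⟩)
  rw [map_prod, ← Equiv.prod_comp (MulAction.toPerm v.a)]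
  refine Finset.prod_congr rfl fun t _ => Subtype.ext (Subtype.ext ?_)
  have hcomp : (v * (w : W st) * v⁻¹).f (v.a • t) =
      v.f t * (w : W st).f t * (v.f t)⁻¹ := by
    rw [W.mul_f, W.mul_f, W.inv_f, W.inv_a, inv_smul_smul, show (w : W st).a = 1 from w.2,
      one_smul]
  have hzQ := ker_le st ⟨(w : W st).f t, W.f_mem_ker st w t⟩
  rw [act_coe, act_coe, act_coe, MulAction.toPerm_apply]
  show autFun _ (((v * (w : W st) * v⁻¹).f (v.a • t) : S) : Ω) = _
  rw [hcomp, Subgroup.coe_mul, Subgroup.coe_mul, Subgroup.coe_inv,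
    ← cS_apply st (v.f t) hzQ, v.hf, ← autFun_mul', ← autFun_mul']
  congr 2
  group

instance normKer_normal : (normKer st).Normal := by
  constructor
  rintro _ ⟨w, hw, rfl⟩ v
  have hmem : v * (w : W st) * v⁻¹ ∈ (proj st).ker :=
    (MonoidHom.normal_ker (proj st)).conj_mem _ w.2 v
  refine ⟨⟨_, hmem⟩, ?_, rfl⟩
  show norm st _ = 1
  rw [norm_conj, show norm st w = 1 from hw, map_one]

omit [Fintype (Cos st)] in
theorem theta_ker_mem (z : (cS st).ker) : theta st (z : S) ∈ (proj st).ker := z.2

theorem norm_theta (z : (cS st).ker) :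
    norm st ⟨theta st (z : S), theta_ker_mem st z⟩ = z ^ Nat.card (Cos st) := by
  show (∏ t : Cos st, act st (T st t) ⟨comp st (z : S) t, _⟩) = _
  rw [Nat.card_eq_fintype_card, ← Finset.card_univ, ← Finset.prod_const]
  refine Finset.prod_congr rfl fun t _ => Subtype.ext (Subtype.ext ?_)
  rw [act_coe]
  show autFun _ (comp st (z : S) t : Ω) = _
  rw [comp_on_Q st (ker_le st z), autFun_self_inv]

end Push

theorem not_dvd_card_cos : ¬ p ∣ Nat.card (Cos st) := by
  have := st.finite
  have := st.prime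
  have hrange : (cS st).range = (autInducedBy S Q).subgroupOf (F.autGroup Q) := by
    ext a
    rw [Subgroup.mem_subgroupOf, ← conjAut_range]
    constructor
    · rintro ⟨s, rfl⟩
      exact ⟨_, rfl⟩
    · rintro ⟨g, hg⟩
      exact ⟨⟨g, g.2.1⟩, Subtype.ext hg⟩
  have h := ((fullyAutomized_iff st.pgroup).1
    (fullyNormalized_fullyAutomized st.pgroup st.saturated st.fullyNormalized)).2
  rwa [Subgroup.relIndex, ← hrange] at h

theorem pow_bijective_ker :
    Function.Bijective fun z : (cS st).ker => z ^ Nat.card (Cos st) := by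
  have := st.finite
  have := st.prime
  obtain ⟨k, hk⟩ := IsPGroup.iff_card.1 (st.pgroup.to_subgroup (cS st).ker)
  have hc : (Nat.card (cS st).ker).Coprime (Nat.card (Cos st)) := by
    rw [hk]
    exact Nat.Coprime.pow_left _ (st.prime.out.coprime_iff_not_dvd.2 (not_dvd_card_cos st))
  exact (powCoprime hc).bijective

section Model

variable [Fintype (Cos st)]

/-- The model. -/
abbrev L := W st ⧸ normKer st

/-- The embedding of `S` in the model. -/
noncomputable def iota : S →* L st := (QuotientGroup.mk' (normKer st)).comp (theta st)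

/-- The projection of the model onto `Aut_F(Q)`. -/
noncomputable def projL : L st →* F.autGroup Q :=
  QuotientGroup.lift _ (proj st) (Subgroup.map_subtype_le _)

theorem iota_apply (s : S) : iota st s = QuotientGroup.mk (theta st s) := rfl

theorem projL_mk (w : W st) : projL st (QuotientGroup.mk w) = w.a := rfl

theorem iota_injective : Function.Injective (iota st) := by
  rw [injective_iff_map_eq_one]
  intro s hs
  rw [iota_apply, QuotientGroup.eq_one_iff] at hs
  obtain ⟨w, hw, hwe⟩ := hs
  have hker : cS st s = 1 := by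
    have h2 : (w : W st).a = 1 := w.2
    rwa [show (w : W st) = theta st s from hwe] at h2
  have h3 : norm st ⟨theta st s, theta_ker_mem st ⟨s, hker⟩⟩ = 1 := by
    have : (⟨theta st s, theta_ker_mem st ⟨s, hker⟩⟩ : (proj st).ker) = w :=
      Subtype.ext hwe.symm
    rw [this]
    exact hw
  rw [norm_theta st ⟨s, hker⟩] at h3
  have h4 : (⟨s, hker⟩ : (cS st).ker) = 1 :=
    (pow_bijective_ker st).1 (h3.trans (one_pow _).symm)
  exact congrArg Subtype.val h4

theorem ker_projL_le {x : L st} (hx : projL st x = 1) : ∃ z : (cS st).ker, iota st z = x := by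
  induction x using QuotientGroup.induction_on with
  | H w =>
    have hw : w ∈ (proj st).ker := hx
    obtain ⟨z, hz⟩ := (pow_bijective_ker st).2 (norm st ⟨w, hw⟩)
    refine ⟨z, ?_⟩
    rw [iota_apply, QuotientGroup.eq]
    refine ⟨(⟨theta st (z : S), theta_ker_mem st z⟩ : (proj st).ker)⁻¹ * ⟨w, hw⟩, ?_, rfl⟩
    show norm st _ = 1
    rw [map_mul, map_inv, norm_theta, inv_mul_eq_one]
    exact hz

theorem finite_L : Finite (L st) := by
  have := st.finite
  have := finite_of_le st.le
  have : Finite (W st) := Finite.of_injective (fun w => (w.a, w.f)) fun v w h =>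
    W.ext (congrArg Prod.fst h) (congrArg Prod.snd h)
  infer_instance

theorem iota_conj (g : L st) {q : S} (hq : (q : Ω) ∈ Q) :
    g * iota st q * g⁻¹ = iota st ⟨autFun (projL st g : MulAut Q) q,
      st.le (autFun_mem _ hq)⟩ := by
  induction g using QuotientGroup.induction_on with
  | H w =>
    rw [mul_inv_eq_iff_eq_mul]
    exact congrArg (QuotientGroup.mk' (normKer st)) (conj_theta_Q st w hq)

/-- Every map of the system on an overgroup of `Q` is a conjugation in the model, by an element
over the induced automorphism of `Q`. -/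
theorem exists_conj {P : Subgroup Ω} (hQP : Q ≤ P) {φ : Ω → Ω} (hφ : IsMap F P φ)
    {α : F.autGroup Q} (hα : ∀ q ∈ Q, φ q = autFun (α : MulAut Q) q) :
    ∃ g : L st, projL st g = α ∧ ∀ (x : S) (hx : (x : Ω) ∈ P),
      iota st ⟨φ x, hφ.mem hx⟩ = g * iota st x * g⁻¹ := by
  classical
  have := st.finite
  have := st.prime
  -- the orbits of `P` on the cosets
  let PS : Subgroup S := P.subgroupOf S
  have hφc : ∀ (x : S) (hx : (x : Ω) ∈ P),
      cS st ⟨φ x, hφ.mem hx⟩ = α * cS st x * α⁻¹ := fun x hx => map_cS st hφ hQP hα hx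
  -- the twisted representation of `P`
  let φ' : PS → S := fun x => ⟨φ (x : S), hφ.mem x.2⟩
  have hφ'mul : ∀ x y : PS, φ' (x * y) = φ' x * φ' y := fun x y =>
    Subtype.ext (hφ.map_mul x.2 y.2)
  have hφ'one : φ' 1 = 1 := Subtype.ext hφ.map_one
  have hφ'c : ∀ x : PS, cS st (φ' x) = α * cS st (x : S) * α⁻¹ := fun x => hφc x x.2
  have hmove : ∀ (x : PS) (t : Cos st),
      α • (cS st (x : S) • t) = cS st (φ' x) • (α • t) := fun x t => by
    rw [hφ'c, mul_smul, mul_smul, inv_smul_smul]
  -- intertwining elements at a fixed coset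
  have hf0 : ∀ r : Cos st, ∃ c : S, cS st c = (T st (α • r))⁻¹ * α * T st r ∧
      ∀ x : PS, cS st (x : S) • r = r →
        c * comp st (x : S) r = comp st (φ' x) (α • r) * c := by
    intro r
    obtain ⟨c₀, hc₀⟩ := section_mem st α r
    let P' : Subgroup Ω := P ⊓ stab st r
    have hP'P : P' ≤ P := inf_le_left
    have hP'S : P' ≤ S := hP'P.trans hφ.le
    obtain ⟨f₁, hf₁, he₁⟩ := comp_stab st hP'S r fun x hx => (mem_stab st).1 hx.2
    let P'' : Subgroup Ω := img φ P'
    have hP''fix : ∀ y : S, (y : Ω) ∈ P'' → cS st y • (α • r) = α • r := by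
      intro y hy
      obtain ⟨x, hx, hxy⟩ := (hφ.restrict hP'P).mem_img.1 hy
      have : y = φ' ⟨⟨x, hP'S hx⟩, hP'P hx⟩ := Subtype.ext hxy.symm
      rw [this, ← hmove, (mem_stab st (s := ⟨x, hP'S hx⟩)).1 hx.2]
    obtain ⟨f₂, hf₂, he₂⟩ := comp_stab st (hφ.restrict hP'P).img_le_S (α • r) hP''fix
    have hQP' : Q ≤ P' := le_inf hQP (le_stab st r)
    -- the two maps on `P'`
    have hA : IsMap F P' fun x => cj (c₀ : Ω) (f₁ x) :=
      (isMap_cj hf₁.img_le_S c₀.2).comp hf₁ fun x hx => mem_img_self f₁ hx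
    have hB : IsMap F P' fun x => f₂ (φ x) :=
      hf₂.comp (hφ.restrict hP'P) fun x hx => mem_img_self φ hx
    have hAB : ∀ q ∈ Q, cj (c₀ : Ω) (f₁ q) = f₂ (φ q) := by
      intro q hq
      have e1 : f₁ q = autFun (((T st r)⁻¹ : F.autGroup Q) : MulAut Q) q :=
        ((he₁ ⟨q, st.le hq⟩ (hQP' hq)).symm).trans (comp_on_Q st (q := ⟨q, st.le hq⟩) hq r)
      have e2 : f₂ (φ q) = autFun (((T st (α • r))⁻¹ : F.autGroup Q) : MulAut Q) (φ q) := by
        have hφq : φ q ∈ Q := by rw [hα q hq]; exact autFun_mem _ hq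
        exact ((he₂ ⟨φ q, st.le hφq⟩ (mem_img_self φ (hQP' hq))).symm).trans
          (comp_on_Q st (q := ⟨φ q, st.le hφq⟩) hφq (α • r))
      rw [e1, e2, hα q hq, cj_apply, ← cS_apply st c₀ (autFun_mem _ hq), hc₀, autFun_mul',
        autFun_mul', autFun_self_inv]
    obtain ⟨z, hzQ, hzC, hze⟩ :=
      agree_on_centric st.pgroup st.saturated st.centric hQP' hA hB hAB
    let z' : S := ⟨z, st.le hzQ⟩
    refine ⟨c₀ * comp st z' r, ?_, fun x hx => ?_⟩
    · rw [map_mul, hc₀, comp_cS, inn_fix st hzQ, show cS st z' = 1 from (cS_eq_one_iff st).2 hzC]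
      group
    · have hxP' : ((x : S) : Ω) ∈ P' := ⟨x.2, (mem_stab st).2 hx⟩
      have hzP' : z ∈ P' := hQP' hzQ
      have h1 := hze _ hxP'
      rw [cj_apply, hf₁.map_conj hzP' hxP', ← he₁ (x : S) hxP', ← he₁ z' hzP'] at h1
      have h2 : f₂ (φ ((x : S) : Ω)) = (comp st (φ' x) (α • r) : Ω) :=
        (he₂ (φ' x) (mem_img_self φ hxP')).symm
      rw [h2] at h1
      refine Subtype.ext ?_
      rw [Subgroup.coe_mul, Subgroup.coe_mul, Subgroup.coe_mul, h1]
      simp only [Subgroup.coe_mul, mul_assoc, inv_mul_cancel_left, inv_mul_cancel, mul_one]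
  choose f0 hf0c hf0e using hf0
  -- orbit representatives for `P`
  let os : Setoid (Cos st) :=
    { r := fun t t' => ∃ x : PS, cS st (x : S) • t = t'
      iseqv :=
        { refl := fun t => ⟨1, by simp⟩
          symm := fun {t t'} ⟨s, hs⟩ => ⟨s⁻¹, by simp [← hs]⟩
          trans := fun {t t' t''} ⟨s, hs⟩ ⟨s', hs'⟩ => ⟨s' * s, by simp [mul_smul, hs, hs']⟩ } }
  let rp : Cos st → Cos st := fun t => (Quotient.mk os t).out
  have hrp : ∀ t, ∃ x : PS, cS st (x : S) • rp t = t := fun t =>
    Quotient.exact (s := os) (Quotient.out_eq (Quotient.mk os t))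
  choose xp hxp using hrp
  have hrp' : ∀ (x : PS) t, rp (cS st (x : S) • t) = rp t := fun x t => by
    show (Quotient.mk os _).out = (Quotient.mk os _).out
    rw [Quotient.sound (s := os) (show os.r t (cS st (x : S) • t) from ⟨x, rfl⟩)]
  let gfun : Cos st → S := fun t =>
    comp st (φ' (xp t)) (α • rp t) * f0 (rp t) * (comp st (xp t : S) (rp t))⁻¹
  -- the element does not depend on the choice of `xp`
  have hindep : ∀ (r : Cos st) (x x' : PS), cS st (x : S) • r = cS st (x' : S) • r →
      comp st (φ' x) (α • r) * f0 r * (comp st (x : S) r)⁻¹ =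
        comp st (φ' x') (α • r) * f0 r * (comp st (x' : S) r)⁻¹ := by
    intro r x x' h
    obtain ⟨s, rfl⟩ : ∃ s, x = x' * s := ⟨x'⁻¹ * x, (mul_inv_cancel_left x' x).symm⟩
    rw [Subgroup.coe_mul, map_mul, mul_smul] at h
    have hs : cS st (s : S) • r = r := (MulAction.injective (cS st (x' : S))) h
    have e := hf0e r _ hs
    have hs' : cS st (φ' s) • (α • r) = α • r := by rw [← hmove, hs]
    rw [hφ'mul, Subgroup.coe_mul, comp_mul, comp_mul, hs, hs']
    rw [mul_assoc (comp st (φ' x') (α • r)), ← e]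
    group
  have hgfun : ∀ t, cS st (gfun t) = (T st (α • t))⁻¹ * α * T st t := by
    intro t
    show cS st (comp st (φ' (xp t)) (α • rp t) * f0 (rp t) *
      (comp st (xp t : S) (rp t))⁻¹) = _
    rw [map_mul, map_mul, map_inv, comp_cS, comp_cS, hf0c, ← hmove, hxp, hφ'c]
    group
  let w : W st := ⟨α, gfun, hgfun⟩
  refine ⟨QuotientGroup.mk w, rfl, fun x hx => ?_⟩
  rw [eq_mul_inv_iff_mul_eq]
  refine congrArg (QuotientGroup.mk' (normKer st)) (W.ext ?_ (funext fun t => ?_))
  · rw [W.mul_a, W.mul_a, theta_a, theta_a, hφc x hx]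
    show α * cS st x * α⁻¹ * α = α * cS st x
    group
  · let x' : PS := ⟨x, hx⟩
    rw [W.mul_f, W.mul_f, theta_f, theta_f, theta_a]
    show comp st (φ' x') (α • t) * gfun t = gfun (cS st (x' : S) • t) * comp st (x' : S) t
    have h1 : gfun (cS st (x' : S) • t) =
        comp st (φ' (x' * xp t)) (α • rp t) * f0 (rp t) *
          (comp st ((x' * xp t : PS) : S) (rp t))⁻¹ := by
      have h := hindep (rp t) (xp (cS st (x' : S) • t)) (x' * xp t) (by
        rw [Subgroup.coe_mul, map_mul, mul_smul, hxp]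
        conv_lhs => rw [← hrp' x' t, hxp])
      show comp st _ (α • rp (cS st (x' : S) • t)) * f0 _ * _ = _
      rw [hrp']
      exact h
    rw [h1, hφ'mul, Subgroup.coe_mul, comp_mul, comp_mul, ← hmove, hxp]
    simp only [gfun]
    group

theorem iota_mem_range {q : S} (hq : (q : Ω) ∈ Q) :
    iota st q ∈ (Q.subgroupOf S).map (iota st) := ⟨q, hq, rfl⟩

theorem isModel : F.IsModel p (L st) (iota st) := by
  have := st.finite
  have := st.prime
  have := finite_L st
  refine ⟨inferInstance, ⟨iota_injective st, fun P hP φ hφ => ⟨fun h => ?_, ?_⟩⟩, ?_, ?_⟩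
  · obtain ⟨ψ, hψ, hψe, hψQ⟩ := (isNormal_iff.1 st.normal).2 P (ext φ) (IsMap.of_hom h)
    obtain ⟨α, hα, hαe⟩ := (hψ.restrict le_sup_right).exists_aut hψQ
    obtain ⟨g, -, hg⟩ := exists_conj st le_sup_right hψ (α := ⟨α, hα⟩) fun q hq => (hαe q hq).symm
    refine ⟨g, fun x => ?_⟩
    rw [← hg ⟨(x : Ω), hP x.2⟩ (Subgroup.mem_sup_left x.2)]
    refine congrArg (iota st) (Subtype.ext ?_)
    exact (ext_apply φ x).symm.trans (hψe _ x.2).symm
  · rintro ⟨g, hg⟩
    set α := projL st g with hα
    -- the whole preimage `P ⊔ Q` is moved into `S` by `g`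
    let R : Subgroup S := (iota st).range.comap ((MulAut.conj g).toMonoidHom.comp (iota st))
    have hR : ∀ x : S, x ∈ R → ∃ y : S, iota st y = g * iota st x * g⁻¹ := fun x hx => hx
    have hPR : P ⊔ Q ≤ R.map S.subtype :=
      sup_le (fun x hx => ⟨⟨x, hP hx⟩, ⟨⟨φ ⟨x, hx⟩, hφ _⟩, hg ⟨x, hx⟩⟩, rfl⟩)
        fun x hx => ⟨⟨x, st.le hx⟩, ⟨_, (iota_conj st g (q := ⟨x, st.le hx⟩) hx).symm⟩, rfl⟩
    have hN : P ⊔ Q ≤ nSub S Q (autFun (α : MulAut Q)) := by
      intro x hx
      obtain ⟨x', hx', rfl⟩ := hPR hx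
      obtain ⟨y, hy⟩ := hR x' hx'
      refine ⟨x'.2, st.le_normalizer x'.2, y, y.2, fun q hq => ?_⟩
      have h2 : cS st y = α * cS st x' * α⁻¹ := by
        have h := congrArg (projL st) hy
        rwa [map_mul, map_mul, map_inv] at h
      have h3 := congrArg (fun b : F.autGroup Q => autFun (b : MulAut Q)
        (autFun (α : MulAut Q) q)) h2
      simp only [autFun_mul', autFun_inv_self, cS_apply st x' hq,
        cS_apply st y (autFun_mem (α : MulAut Q) hq)] at h3
      exact h3.symm
    obtain ⟨ψ, hψ, hψQ⟩ := exists_extension st.pgroup st.saturated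
      (isMap_of_mem_autGroup st.le α.2)
      (by rw [autFun_img]; exact centric_fullyCentralized st.centric)
    have hψ' := hψ.restrict hN
    obtain ⟨g', hg'α, hg'⟩ := exists_conj st le_sup_right hψ' (α := α) hψQ
    obtain ⟨z, hz⟩ := ker_projL_le st (x := g'⁻¹ * g) (by
      rw [map_mul, map_inv, hg'α, hα, inv_mul_cancel])
    have hzQ := ker_le st z
    have hcj : ∀ x ∈ P ⊔ Q, cj ((z : S) : Ω) x ∈ P ⊔ Q := fun x hx =>
      Subgroup.mul_mem _ (Subgroup.mul_mem _ (Subgroup.mem_sup_right hzQ) hx)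
        (Subgroup.inv_mem _ (Subgroup.mem_sup_right hzQ))
    have hmap : IsMap F (P ⊔ Q) fun x => ψ (cj ((z : S) : Ω) x) :=
      hψ'.comp (isMap_cj (sup_le hP st.le) (z : S).2) hcj
    refine (hmap.restrict le_sup_left).hom_mem fun x => ?_
    have hxPQ : cj ((z : S) : Ω) (x : Ω) ∈ P ⊔ Q := hcj _ (Subgroup.mem_sup_left x.2)
    have h1 : iota st ⟨φ x, hφ x⟩ = iota st ⟨ψ (cj ((z : S) : Ω) x), hψ'.mem hxPQ⟩ := by
      rw [hg x, hg' ⟨cj ((z : S) : Ω) x, sup_le hP st.le hxPQ⟩ hxPQ,
        show (⟨cj ((z : S) : Ω) x, sup_le hP st.le hxPQ⟩ : S) =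
          (z : S) * ⟨x, hP x.2⟩ * (z : S)⁻¹ from rfl, map_mul, map_mul, map_inv, hz]
      group
    exact congrArg Subtype.val (iota_injective st h1)
  · have hsurj : Function.Surjective (projL st) := fun a => by
      obtain ⟨w, rfl⟩ := exists_lift st a
      exact ⟨QuotientGroup.mk w, rfl⟩
    have hrange : (iota st).range = (cS st).range.comap (projL st) := by
      ext x
      constructor
      · rintro ⟨s, rfl⟩
        exact ⟨s, rfl⟩
      · rintro ⟨s, hs⟩
        obtain ⟨z, hz⟩ := ker_projL_le st (x := (iota st s)⁻¹ * x) (by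
          rw [map_mul, map_inv, show projL st (iota st s) = cS st s from rfl, hs, inv_mul_cancel])
        exact ⟨s * z, by rw [map_mul, hz, mul_inv_cancel_left]⟩
    have hidx : ¬ p ∣ (iota st).range.index := by
      rw [hrange, Subgroup.index_comap_of_surjective _ hsurj]
      exact not_dvd_card_cos st
    have hp : IsPGroup p (iota st).range :=
      st.pgroup.of_surjective (iota st).rangeRestrict (iota st).rangeRestrict_surjective
    exact ⟨hp.toSylow hidx, rfl⟩
  · set Qi := (Q.subgroupOf S).map (iota st) with hQi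
    have hn : Qi.Normal := ⟨fun y hy g => by
      obtain ⟨q, hq, rfl⟩ := hy
      rw [iota_conj st g hq]
      exact iota_mem_range st (autFun_mem _ hq)⟩
    have hp : IsPGroup p Qi := (st.pgroup.to_subgroup _).map _
    have hle : Qi ≤ pCore p (L st) := le_sSup ⟨hn, hp⟩
    intro g hg
    refine hle ?_
    have h1 : projL st g = 1 := aut_ext fun q hq => by
      have h2 : iota st ⟨q, st.le hq⟩ * g = g * iota st ⟨q, st.le hq⟩ :=
        hg _ (hle (iota_mem_range st hq))
      have h3 := iota_conj st g (q := ⟨q, st.le hq⟩) hq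
      rw [← h2, mul_inv_cancel_right] at h3
      have h4 := congrArg Subtype.val (iota_injective st h3)
      rw [OneMemClass.coe_one, autFun_one, id]
      exact h4.symm
    obtain ⟨z, rfl⟩ := ker_projL_le st h1
    exact iota_mem_range st (ker_le st z)

end Model

/-- A constrained fusion system has a model. -/
theorem exists_model [Finite S] [Fact p.Prime] (hS : IsPGroup p S) (hF : F.IsConstrained p) :
    ∃ (G : Type u) (_ : Group G) (ι : S →* G), F.IsModel p G ι := by
  obtain ⟨hsat, Q, hn, hc⟩ := hF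
  have st : Setting F p Q := ⟨inferInstance, inferInstance, hS, hsat, hn, hc⟩
  have : Finite Q := finite_of_le hn.1
  have : Fintype (Cos st) := Fintype.ofFinite _
  exact ⟨L st, inferInstance, iota st, isModel st⟩

end Cfsg.Agent.Fusion.Model
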