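/-
Uniqueness of models of constrained fusion systems, and their automorphisms fixing `S`.
-/
import Mathlib
import Cfsg.Agent.Lib.Fusion.ModelExists
import Cfsg.Agent.Lib.Fusion.Constrained

set_option autoImplicit false

namespace Cfsg.Agent.Fusion.ModelUnique

open Cfsg Cfsg.FusionSystem Cfsg.Agent.Fusion.Basic Cfsg.Agent.Fusion.Saturation
  Cfsg.Agent.Fusion.Normal Cfsg.Agent.Fusion.Constrained Cfsg.Agent.Fusion.Model

variable {Ω : Type*} [Group Ω] {S : Subgroup Ω} {F : FusionSystem S} {p : ℕ} {Q : Subgroup Ω}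
  {G : Type*} [Group G] {ι : S →* G}

theorem model_setting [Finite S] [Fact p.Prime] (hS : IsPGroup p S) (h : F.IsModel p G ι) :
    Setting F p F.core := by
  obtain ⟨hsat, R, hRn, hRc⟩ := model_constrained hS h
  exact ⟨inferInstance, inferInstance, hS, hsat, core_isNormal,
    Cfsg.Agent.Fusion.CentricExt.centric_mono hRc (le_core hRn) core_isNormal.1⟩

theorem mem_preimage_iff {O : Subgroup G} (x : S) :
    (x : Ω) ∈ (O.comap ι).map S.subtype ↔ ι x ∈ O :=
  ⟨fun ⟨_, hy, he⟩ => (Subtype.ext he : _ = x) ▸ hy, fun h => ⟨x, h, rfl⟩⟩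

/-- In a model the image of `O_p(F)` is the largest normal `p`-subgroup. -/
theorem model_pCore [Finite S] [Fact p.Prime] (hS : IsPGroup p S) (h : F.IsModel p G ι) :
    pCore p G = (F.core.subgroupOf S).map ι := by
  obtain ⟨hfin, hr, ⟨T, hT⟩, hC⟩ := h
  have hn : (pCore p G).Normal := Cfsg.Agent.Cores.pCore_normal p
  have hle : pCore p G ≤ ι.range := hT ▸ (pCore_isPGroup p G).le_sylow_of_normal T
  have hO := le_core (model_isNormal (F := F) hr hT)
  have hOC : ∀ o ∈ pCore p G, o ∈ (F.core.subgroupOf S).map ι := fun o ho => by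
    obtain ⟨x, rfl⟩ := hle ho
    exact ⟨x, hO ((mem_preimage_iff x).2 ho), rfl⟩
  refine le_antisymm hOC (le_sSup ⟨⟨fun y hy g => ?_⟩, (hS.to_subgroup _).map ι⟩)
  -- `g` normalizes the image of the core
  obtain ⟨x, hx, rfl⟩ := hy
  set O := ((pCore p G).comap ι).map S.subtype with hOdef
  have hOS : O ≤ S := Subgroup.map_subtype_le _
  have hval : ∀ u : O, ∃ v : S, ι v = g * ι ⟨u, hOS u.2⟩ * g⁻¹ := fun u =>
    hle (hn.conj_mem _ ((mem_preimage_iff (ι := ι) (O := pCore p G) ⟨u, hOS u.2⟩).1 u.2) g)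
  choose v hv using hval
  let φ : O →* Ω := S.subtype.comp (MonoidHom.mk' v fun a b => hr.1 (by
    rw [map_mul, hv, hv, hv,
      show (⟨((a * b : O) : Ω), hOS (a * b).2⟩ : S) = ⟨a, hOS a.2⟩ * ⟨b, hOS b.2⟩ from rfl,
      map_mul]
    group))
  have hφ : φ ∈ F.Hom O := (hr.2 O hOS φ fun u => (v u).2).2 ⟨g, fun u => hv u⟩
  obtain ⟨ψ, hψ, hψe, hψC⟩ := (isNormal_iff.1 core_isNormal).2 O (ext φ) (IsMap.of_hom hφ)
  obtain ⟨h', hh'⟩ := (hr.2 _ (sup_le hOS core_isNormal.1) hψ.hom fun u => hψ.mem u.2).1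
    hψ.hom_mem_self
  have ho : h'⁻¹ * g ∈ pCore p G := hC fun o ho => by
    obtain ⟨u, rfl⟩ := hle ho
    have hu : (u : Ω) ∈ O := (mem_preimage_iff u).2 ho
    have h1 := hh' ⟨u, Subgroup.mem_sup_left hu⟩
    have h2 : (⟨hψ.hom ⟨(u : Ω), Subgroup.mem_sup_left hu⟩,
        hψ.mem (Subgroup.mem_sup_left hu)⟩ : S) = v ⟨u, hu⟩ :=
      Subtype.ext ((hψe _ hu).trans (ext_of_mem φ hu))
    rw [h2, hv] at h1
    change g * ι u * g⁻¹ = h' * ι u * h'⁻¹ at h1
    calc ι u * (h'⁻¹ * g) = h'⁻¹ * (h' * ι u * h'⁻¹) * g := by group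
      _ = h'⁻¹ * (g * ι u * g⁻¹) * g := by rw [h1]
      _ = h'⁻¹ * g * ι u := by group
  obtain ⟨o, ho'⟩ := hle ho
  have hgo : g = h' * ι o := by rw [ho']; group
  have hx' : ((o * x * o⁻¹ : S) : Ω) ∈ F.core :=
    (Subgroup.mem_normalizer_iff.1
      (le_normalizer_of_stronglyClosed (normal_stronglyClosed core_isNormal) o.2) (x : Ω)).1 hx
  refine ⟨⟨ψ ((o * x * o⁻¹ : S) : Ω), hψ.mem (Subgroup.mem_sup_right hx')⟩,
    hψC.le (mem_img_self ψ hx'), ?_⟩
  refine (hh' ⟨_, Subgroup.mem_sup_right hx'⟩).trans ?_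
  show h' * ι (o * x * o⁻¹) * h'⁻¹ = g * ι x * g⁻¹
  rw [map_mul, map_mul, map_inv, hgo]
  group

/-- A model with its data. -/
structure MSetting (F : FusionSystem S) (p : ℕ) (Q : Subgroup Ω) (ι : S →* G) : Prop where
  setting : Setting F p Q
  finite : Finite G
  realized : F.IsRealizedBy ι
  normal : ∀ (g : G) (x : S), (x : Ω) ∈ Q → ∃ y : S, (y : Ω) ∈ Q ∧ ι y = g * ι x * g⁻¹
  centralizer : ∀ g : G, (∀ x : S, (x : Ω) ∈ Q → g * ι x * g⁻¹ = ι x) →
    ∃ z : S, (z : Ω) ∈ Q ∧ ι z = g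

theorem model_mSetting [Finite S] [Fact p.Prime] (hS : IsPGroup p S) (h : F.IsModel p G ι) :
    MSetting F p F.core ι := by
  have hcore := model_pCore hS h
  have st := model_setting hS h
  obtain ⟨hfin, hr, ⟨T, hT⟩, hC⟩ := h
  refine ⟨st, hfin, hr, fun g x hx => ?_, fun g hg => ?_⟩
  · have hn : (pCore p G).Normal := Cfsg.Agent.Cores.pCore_normal p
    have hx' : ι x ∈ pCore p G := by
      rw [hcore]
      exact ⟨x, hx, rfl⟩
    have h1 := hn.conj_mem _ hx' g
    rw [hcore] at h1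
    exact h1
  · have h1 : g ∈ pCore p G := hC fun o ho => by
      rw [hcore] at ho
      obtain ⟨x, hx, rfl⟩ := ho
      exact (mul_inv_eq_iff_eq_mul.1 (hg x hx)).symm
    rw [hcore] at h1
    exact h1

variable (m : MSetting F p Q ι)
include m

/-- The element of `S` giving conjugation on the image of `Q`. -/
theorem exists_act (g : G) : ∃ a : F.autGroup Q, ∀ (x : S) (hx : (x : Ω) ∈ Q),
    ι ⟨autFun (a : MulAut Q) x, m.setting.le (autFun_mem _ hx)⟩ = g * ι x * g⁻¹ := by
  have := m.setting.finite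
  have hval : ∀ u : Q, ∃ v : S, (v : Ω) ∈ Q ∧ ι v = g * ι ⟨u, m.setting.le u.2⟩ * g⁻¹ := fun u =>
    m.normal g ⟨u, m.setting.le u.2⟩ u.2
  choose v hvQ hv using hval
  let φ : Q →* Ω := S.subtype.comp (MonoidHom.mk' v fun a b => m.realized.1 (by
    rw [map_mul, hv, hv, hv,
      show (⟨((a * b : Q) : Ω), m.setting.le (a * b).2⟩ : S) =
        ⟨a, m.setting.le a.2⟩ * ⟨b, m.setting.le b.2⟩ from rfl, map_mul]
    group))
  have hφ : φ ∈ F.Hom Q :=
    (m.realized.2 Q m.setting.le φ fun u => (v u).2).2 ⟨g, fun u => hv u⟩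
  have hQ : Finite Q := finite_of_le m.setting.le
  have hmap := IsMap.of_hom hφ
  obtain ⟨a, ha, hae⟩ := hmap.exists_aut (eq_of_le_card (img_le fun y hy => by
    rw [ext_of_mem φ hy]
    exact hvQ ⟨y, hy⟩) hmap.card_img.ge)
  refine ⟨⟨a, ha⟩, fun x hx => ?_⟩
  refine Eq.trans (congrArg ι (Subtype.ext ?_)) (hv ⟨x, hx⟩)
  exact (hae _ hx).trans (ext_of_mem φ hx)

/-- The action of the model on `Q`. -/
noncomputable def actHom : G →* F.autGroup Q :=
  MonoidHom.mk' (fun g => (exists_act m g).choose) fun g h => aut_ext fun q hq => by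
    have h1 := (exists_act m (g * h)).choose_spec ⟨q, m.setting.le hq⟩ hq
    have h2 := (exists_act m h).choose_spec ⟨q, m.setting.le hq⟩ hq
    have h3 := (exists_act m g).choose_spec
      ⟨autFun ((exists_act m h).choose : MulAut Q) q, m.setting.le (autFun_mem _ hq)⟩
      (autFun_mem _ hq)
    rw [Model.autFun_mul']
    have h4 : ι ⟨autFun ((exists_act m (g * h)).choose : MulAut Q) q,
          m.setting.le (autFun_mem _ hq)⟩ =
        ι ⟨autFun ((exists_act m g).choose : MulAut Q)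
            (autFun ((exists_act m h).choose : MulAut Q) q),
          m.setting.le (autFun_mem _ (autFun_mem _ hq))⟩ := by
      rw [h1, h3, h2]
      group
    exact congrArg Subtype.val (m.realized.1 h4)

theorem actHom_spec (g : G) {x : S} (hx : (x : Ω) ∈ Q) :
    ι ⟨autFun (actHom m g : MulAut Q) x, m.setting.le (autFun_mem _ hx)⟩ = g * ι x * g⁻¹ :=
  (exists_act m g).choose_spec x hx

theorem actHom_eq {g : G} {a : F.autGroup Q}
    (h : ∀ (x : S) (hx : (x : Ω) ∈ Q),
      ι ⟨autFun (a : MulAut Q) x, m.setting.le (autFun_mem _ hx)⟩ = g * ι x * g⁻¹) :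
    actHom m g = a :=
  aut_ext fun q hq => congrArg Subtype.val (m.realized.1
    ((actHom_spec m g (x := ⟨q, m.setting.le hq⟩) hq).trans (h ⟨q, m.setting.le hq⟩ hq).symm))

theorem actHom_iota (s : S) : actHom m (ι s) = cS m.setting s :=
  actHom_eq m fun x hx => by
    rw [← map_inv, ← map_mul, ← map_mul]
    exact congrArg ι (Subtype.ext (cS_apply m.setting s hx))

theorem mem_ker_actHom {g : G} (h : actHom m g = 1) : ∃ z : (cS m.setting).ker, ι z = g := by
  obtain ⟨z, -, rfl⟩ := m.centralizer g fun x hx => by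
    rw [← actHom_spec m g hx]
    refine congrArg ι (Subtype.ext ?_)
    show autFun (actHom m g : MulAut Q) (x : Ω) = x
    rw [h, OneMemClass.coe_one, autFun_one, id]
  exact ⟨⟨z, by rwa [actHom_iota] at h⟩, rfl⟩

theorem actHom_surjective : Function.Surjective (actHom m) := fun a => by
  have := m.setting.finite
  have hmap := isMap_of_mem_autGroup m.setting.le a.2
  obtain ⟨g, hg⟩ :=
    (m.realized.2 Q m.setting.le hmap.hom fun x => hmap.mem x.2).1 hmap.hom_mem_self
  exact ⟨g, actHom_eq m fun x hx => hg ⟨x, hx⟩⟩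

theorem ker_actHom_comm : ∀ a b : (actHom m).ker, a * b = b * a := fun a b => by
  obtain ⟨z, hz⟩ := mem_ker_actHom m a.2
  obtain ⟨z', hz'⟩ := mem_ker_actHom m b.2
  refine Subtype.ext ?_
  show (a : G) * b = b * a
  rw [← hz, ← hz', ← map_mul, ← map_mul, ← Subgroup.coe_mul, ← Subgroup.coe_mul, mul_comm z]

noncomputable instance instCommGroupActKer : CommGroup ↥(actHom m).ker :=
  { (inferInstance : Group ↥(actHom m).ker) with mul_comm := ker_actHom_comm m }

theorem index_range : ι.range.index = (cS m.setting).range.index := by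
  rw [← Subgroup.index_comap_of_surjective _ (actHom_surjective m)]
  congr 1
  ext x
  constructor
  · rintro ⟨s, rfl⟩
    exact ⟨s, (actHom_iota m s).symm⟩
  · rintro ⟨s, hs⟩
    obtain ⟨z, hz⟩ := mem_ker_actHom m (g := (ι s)⁻¹ * x) (by
      rw [map_mul, map_inv, actHom_iota, ← hs]
      exact inv_mul_cancel _)
    exact ⟨s * z, by rw [map_mul, hz, mul_inv_cancel_left]⟩

theorem not_dvd_index : ¬ p ∣ ι.range.index := by
  rw [index_range m]
  exact not_dvd_card_cos m.setting

theorem pow_bijective_actKer :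
    Function.Bijective fun z : (actHom m).ker => z ^ ι.range.index := by
  have := m.setting.finite
  have := m.setting.prime
  have := m.finite
  have hp : IsPGroup p (actHom m).ker := by
    rintro ⟨g, hg⟩
    obtain ⟨z, rfl⟩ := mem_ker_actHom m hg
    obtain ⟨k, hk⟩ := m.setting.pgroup (z : S)
    exact ⟨k, Subtype.ext (by simp [← map_pow, hk])⟩
  obtain ⟨k, hk⟩ := IsPGroup.iff_card.1 hp
  have hc : (Nat.card (actHom m).ker).Coprime ι.range.index := by
    rw [hk]
    exact Nat.Coprime.pow_left _ (m.setting.prime.out.coprime_iff_not_dvd.2 (not_dvd_index m))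
  exact (powCoprime hc).bijective

omit m

/-- An automorphism of a model fixing `S` is conjugation by a central element of `S`. -/
theorem aut_eq_conj (m : MSetting F p Q ι) (ψ : G ≃* G) (hψ : ∀ x : S, ψ (ι x) = ι x) :
    ∃ z : S, z ∈ Subgroup.center S ∧ ∀ g : G, ψ g = ι z * g * (ι z)⁻¹ := by
  classical
  have := m.finite
  have : Fintype (G ⧸ ι.range) := Fintype.ofFinite _
  -- `ψ g g⁻¹` centralizes `Q`
  have hker : ∀ g : G, ψ g * g⁻¹ ∈ (actHom m).ker := by
    intro g
    have h : actHom m (ψ g) = actHom m g := actHom_eq m fun x hx => by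
      rw [← hψ ⟨autFun (actHom m g : MulAut Q) x, m.setting.le (autFun_mem _ hx)⟩,
        actHom_spec m g hx, map_mul, map_mul, map_inv, hψ]
    rw [MonoidHom.mem_ker, map_mul, map_inv, h, mul_inv_cancel]
  let δ : G → (actHom m).ker := fun g => ⟨ψ g * g⁻¹, hker g⟩
  have hconj : ∀ (g : G) (z : (actHom m).ker), g * (z : G) * g⁻¹ ∈ (actHom m).ker := fun g z =>
    (MonoidHom.normal_ker (actHom m)).conj_mem _ z.2 g
  let conjK : G → ((actHom m).ker →* (actHom m).ker) := fun g =>
    MonoidHom.mk' (fun z => ⟨g * (z : G) * g⁻¹, hconj g z⟩) fun a b => Subtype.ext (by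
      show g * ((a : G) * b) * g⁻¹ = g * a * g⁻¹ * (g * b * g⁻¹)
      group)
  have hmul : ∀ g h : G, δ (g * h) = δ g * conjK g (δ h) := fun g h => Subtype.ext (by
    show ψ (g * h) * (g * h)⁻¹ = ψ g * g⁻¹ * (g * (ψ h * h⁻¹) * g⁻¹)
    rw [map_mul]
    group)
  have hright : ∀ (g : G) (s : S), δ (g * ι s) = δ g := fun g s => Subtype.ext (by
    show ψ (g * ι s) * (g * ι s)⁻¹ = ψ g * g⁻¹
    rw [map_mul, hψ]
    group)
  let e : G ⧸ ι.range → (actHom m).ker := fun t => δ t.out
  have he : ∀ g : G, e (QuotientGroup.mk g) = δ g := by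
    intro g
    obtain ⟨⟨_, s, rfl⟩, hs⟩ := QuotientGroup.mk_out_eq_mul ι.range g
    show δ (QuotientGroup.mk g : G ⧸ ι.range).out = _
    rw [hs]
    exact hright g s
  set w := ∏ t : G ⧸ ι.range, e t with hw
  have key : ∀ x : G, δ x ^ ι.range.index * conjK x w = w := by
    intro x
    rw [hw, map_prod, Subgroup.index, Nat.card_eq_fintype_card, ← Finset.card_univ,
      ← Finset.prod_const, ← Finset.prod_mul_distrib]
    conv_rhs => rw [← Equiv.prod_comp (MulAction.toPerm x)]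
    refine Finset.prod_congr rfl fun t _ => ?_
    induction t using QuotientGroup.induction_on with
    | H g =>
      rw [MulAction.toPerm_apply, MulAction.Quotient.smul_mk, smul_eq_mul, he, he, hmul]
  obtain ⟨v, hv⟩ := (pow_bijective_actKer m).2 w
  have hδ : ∀ x : G, δ x * conjK x v = v := fun x => by
    refine (pow_bijective_actKer m).1 ?_
    show (δ x * conjK x v) ^ ι.range.index = v ^ ι.range.index
    rw [mul_pow, ← map_pow]
    show δ x ^ _ * conjK x (v ^ ι.range.index) = _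
    rw [show v ^ ι.range.index = w from hv]
    exact key x
  obtain ⟨z, hz⟩ := mem_ker_actHom m v.2
  have hψ' : ∀ g : G, ψ g = ι z * g * (ι z)⁻¹ := fun g => by
    have h := congrArg Subtype.val (hδ g)
    rw [hz]
    calc ψ g = ψ g * g⁻¹ * (g * (v : G) * g⁻¹) * g * (v : G)⁻¹ := by group
      _ = (v : G) * g * (v : G)⁻¹ := by
        rw [show ψ g * g⁻¹ * (g * (v : G) * g⁻¹) = (v : G) from h]
  refine ⟨z, Subgroup.mem_center_iff.2 fun s => m.realized.1 ?_, hψ'⟩
  have h := hψ' (ι s)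
  rw [hψ, eq_mul_inv_iff_mul_eq] at h
  rw [map_mul, map_mul]
  exact h

/-- Two models are isomorphic by an isomorphism respecting the embeddings of `S`. -/
theorem exists_iso {G₂ : Type*} [Group G₂] {ι₂ : S →* G₂} (m₁ : MSetting F p Q ι)
    (m₂ : MSetting F p Q ι₂) : ∃ φ : G ≃* G₂, ∀ x : S, φ (ι x) = ι₂ x := by
  classical
  have := m₁.finite
  have := m₂.finite
  have := m₁.setting.finite
  have hQS := m₁.setting.le
  have : Fintype (G ⧸ ι.range) := Fintype.ofFinite _
  have hcS : ∀ s : S, actHom m₁ (ι s) = actHom m₂ (ι₂ s) := fun s => by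
    rw [actHom_iota, actHom_iota]
  -- orbit representatives
  let os : Setoid (G ⧸ ι.range) :=
    { r := fun t t' => ∃ s : S, ι s • t = t'
      iseqv :=
        { refl := fun t => ⟨1, by simp⟩
          symm := fun {t t'} ⟨s, hs⟩ => ⟨s⁻¹, by simp [← hs]⟩
          trans := fun {t t' t''} ⟨s, hs⟩ ⟨s', hs'⟩ => ⟨s' * s, by simp [mul_smul, hs, hs']⟩ } }
  let rp : G ⧸ ι.range → G ⧸ ι.range := fun t => (Quotient.mk os t).out
  have hrp : ∀ t, ∃ s : S, ι s • rp t = t := fun t =>
    Quotient.exact (s := os) (Quotient.out_eq (Quotient.mk os t))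
  choose xp hxp using hrp
  have hrp' : ∀ (s : S) t, rp (ι s • t) = rp t := fun s t => by
    show (Quotient.mk os _).out = (Quotient.mk os _).out
    rw [Quotient.sound (s := os) (show os.r t (ι s • t) from ⟨s, rfl⟩)]
  -- a partner in the second model of each orbit representative
  have hpartner : ∀ r : G ⧸ ι.range, ∃ g' : G₂, actHom m₂ g' = actHom m₁ r.out ∧
      ∀ u : S, ι u • r = r → ∃ v : S, ι u * r.out = r.out * ι v ∧ ι₂ u * g' = g' * ι₂ v := by
    intro r
    set g := r.out with hg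
    let P : Subgroup Ω :=
      (ι.range.comap ((MulAut.conj g⁻¹).toMonoidHom.comp ι)).map S.subtype
    have hPS : P ≤ S := Subgroup.map_subtype_le _
    have hval : ∀ u : P, ∃ v : S, ι v = g⁻¹ * ι ⟨u, hPS u.2⟩ * g⁻¹⁻¹ := by
      intro u
      obtain ⟨y, ⟨v, hv⟩, hy⟩ := u.2
      refine ⟨v, ?_⟩
      rw [show (⟨(u : Ω), hPS u.2⟩ : S) = y from Subtype.ext hy.symm]
      exact hv
    choose v hv using hval
    let φ : P →* Ω := S.subtype.comp (MonoidHom.mk' v fun a b => m₁.realized.1 (by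
      rw [map_mul, hv, hv, hv,
        show (⟨((a * b : P) : Ω), hPS (a * b).2⟩ : S) = ⟨a, hPS a.2⟩ * ⟨b, hPS b.2⟩ from rfl,
        map_mul]
      group))
    have hφ : φ ∈ F.Hom P :=
      (m₁.realized.2 P hPS φ fun u => (v u).2).2 ⟨g⁻¹, fun u => hv u⟩
    obtain ⟨k, hk⟩ := (m₂.realized.2 P hPS φ fun u => (v u).2).1 hφ
    refine ⟨k⁻¹, ?_, fun u hu => ?_⟩
    · rw [map_inv, inv_eq_iff_eq_inv, ← map_inv]
      refine actHom_eq m₂ fun x hx => ?_
      have hxP : (x : Ω) ∈ P := by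
        refine ⟨x, ?_, rfl⟩
        obtain ⟨y, -, hy⟩ := m₁.normal g⁻¹ x hx
        exact ⟨y, hy⟩
      refine Eq.trans (congrArg ι₂ (Subtype.ext ?_)) (hk ⟨x, hxP⟩)
      exact congrArg Subtype.val (m₁.realized.1
        ((actHom_spec m₁ g⁻¹ hx).trans (hv ⟨x, hxP⟩).symm))
    · have hmem : (u : Ω) ∈ P := by
        refine ⟨u, ?_, rfl⟩
        rw [← QuotientGroup.out_eq' r, MulAction.Quotient.smul_mk, smul_eq_mul,
          QuotientGroup.eq, ← hg, mul_inv_rev] at hu
        show g⁻¹ * ι u * g⁻¹⁻¹ ∈ ι.range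
        rw [inv_inv]
        simpa [mul_assoc] using ι.range.inv_mem hu
      refine ⟨v ⟨u, hmem⟩, ?_, ?_⟩
      · rw [hv ⟨u, hmem⟩]
        group
      · have := hk ⟨u, hmem⟩
        show ι₂ u * k⁻¹ = k⁻¹ * ι₂ (v ⟨u, hmem⟩)
        rw [show v ⟨u, hmem⟩ = ⟨φ ⟨u, hmem⟩, (v ⟨u, hmem⟩).2⟩ from rfl, this]
        group
  choose g' hg'a hg'e using hpartner
  -- the section and its partner
  let T : G ⧸ ι.range → G := fun t => ι (xp t) * (rp t).out
  let T' : G ⧸ ι.range → G₂ := fun t => ι₂ (xp t) * g' (rp t)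
  have hT : ∀ t, (QuotientGroup.mk (T t) : G ⧸ ι.range) = t := fun t => by
    show (QuotientGroup.mk (ι (xp t) * (rp t).out) : G ⧸ ι.range) = t
    rw [← smul_eq_mul, ← MulAction.Quotient.smul_mk, QuotientGroup.out_eq', hxp]
  have hTa : ∀ t, actHom m₁ (T t) = actHom m₂ (T' t) := fun t => by
    simp only [T, T', map_mul, hcS, hg'a]
  have hrem : ∀ (x : G) (t : G ⧸ ι.range), ∃ s : S, x * T t = T (x • t) * ι s := by
    intro x t
    have h : (QuotientGroup.mk (T (x • t)) : G ⧸ ι.range) = QuotientGroup.mk (x * T t) := by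
      rw [hT, ← smul_eq_mul, ← MulAction.Quotient.smul_mk, hT]
    obtain ⟨s, hs⟩ := QuotientGroup.eq.1 h
    exact ⟨s, by rw [hs, mul_inv_cancel_left]⟩
  choose rem hremE using hrem
  let c : G → G ⧸ ι.range → G₂ := fun x t => T' (x • t) * ι₂ (rem x t) * (T' t)⁻¹
  have hca : ∀ x t, actHom m₂ (c x t) = actHom m₁ x := fun x t => by
    simp only [c, map_mul, map_inv, ← hTa, ← hcS]
    rw [← map_mul, ← hremE, map_mul, mul_inv_cancel_right]
  have hcmul : ∀ x y t, c (x * y) t = c x (y • t) * c y t := by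
    intro x y t
    have h : rem (x * y) t = rem x (y • t) * rem y t := by
      refine m₁.realized.1 (mul_left_cancel (a := T ((x * y) • t)) ?_)
      rw [← hremE, map_mul, mul_smul, ← mul_assoc (T (x • y • t)), ← hremE, mul_assoc x (T _),
        ← hremE, mul_assoc]
    simp only [c, h, map_mul, mul_smul]
    group
  have hcS' : ∀ (s : S) t, c (ι s) t = ι₂ s := by
    intro s t
    have hu : ι ((xp (ι s • t))⁻¹ * s * xp t) • rp t = rp t := by
      rw [map_mul, map_mul, map_inv, mul_smul, mul_smul, hxp, inv_smul_eq_iff]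
      conv_rhs => rw [← hrp' s t, hxp]
    obtain ⟨v, hv1, hv2⟩ := hg'e (rp t) _ hu
    have hrv : rem (ι s) t = v := by
      refine m₁.realized.1 (mul_left_cancel (a := T (ι s • t)) ?_)
      rw [← hremE]
      simp only [T, hrp']
      rw [mul_assoc (ι (xp (ι s • t))), ← hv1, map_mul, map_mul, map_inv]
      group
    simp only [c, T', hrv, hrp']
    rw [mul_inv_eq_iff_eq_mul, mul_assoc (ι₂ (xp (ι s • t))), ← hv2, map_mul, map_mul, map_inv]
    group
  -- the averaged map
  set n := ι.range.index with hn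
  have hindex : n = ι₂.range.index := by rw [hn, index_range m₁, index_range m₂]
  have hbij := pow_bijective_actKer m₂
  rw [← hindex] at hbij
  let K := (actHom m₂).ker
  have hlift : ∀ x : G, ∃ y : G₂, actHom m₂ y = actHom m₁ x := fun x =>
    actHom_surjective m₂ _
  choose lift hliftE using hlift
  -- the defect of a candidate `y` at the coset `t`
  let e : ∀ (x : G) (y : G₂), actHom m₂ y = actHom m₁ x → G ⧸ ι.range → K :=
    fun x y hy t => ⟨y⁻¹ * c x t, by rw [MonoidHom.mem_ker, map_mul, map_inv, hy, hca,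
      inv_mul_cancel]⟩
  have hgood : ∀ x : G, ∃ y : G₂, ∃ hy : actHom m₂ y = actHom m₁ x, ∏ t, e x y hy t = 1 := by
    intro x
    obtain ⟨v, hv⟩ := hbij.2 (∏ t, e x (lift x) (hliftE x) t)
    have hy : actHom m₂ (lift x * (v : G₂)) = actHom m₁ x := by
      rw [map_mul, show actHom m₂ (v : G₂) = 1 from v.2, mul_one, hliftE]
    refine ⟨_, hy, ?_⟩
    have h : ∀ t, e x _ hy t = v⁻¹ * e x (lift x) (hliftE x) t := fun t => Subtype.ext (by
      show (lift x * (v : G₂))⁻¹ * c x t = (v : G₂)⁻¹ * ((lift x)⁻¹ * c x t)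
      group)
    rw [Finset.prod_congr rfl fun t _ => h t, Finset.prod_mul_distrib, Finset.prod_const, ← hv,
      Finset.card_univ, ← Nat.card_eq_fintype_card, inv_pow]
    exact inv_mul_cancel _
  choose f hfa hfe using hgood
  have huniq : ∀ x y (hy : actHom m₂ y = actHom m₁ x), ∏ t, e x y hy t = 1 → f x = y := by
    intro x y hy h
    have hd : (f x)⁻¹ * y ∈ K := by
      rw [MonoidHom.mem_ker, map_mul, map_inv, hy, hfa, inv_mul_cancel]
    have h' : ∀ t, e x (f x) (hfa x) t = ⟨_, hd⟩ * e x y hy t := fun t => Subtype.ext (by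
      show (f x)⁻¹ * c x t = (f x)⁻¹ * y * (y⁻¹ * c x t)
      group)
    have h2 := hfe x
    rw [Finset.prod_congr rfl fun t _ => h' t, Finset.prod_mul_distrib, Finset.prod_const, h,
      mul_one, Finset.card_univ, ← Nat.card_eq_fintype_card] at h2
    have h3 : (⟨_, hd⟩ : K) = 1 := hbij.1 (h2.trans (one_pow _).symm)
    exact inv_mul_eq_one.1 (congrArg Subtype.val h3)
  have hfmul : ∀ x y, f (x * y) = f x * f y := by
    intro x y
    have hxy : actHom m₂ (f x * f y) = actHom m₁ (x * y) := by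
      rw [map_mul, map_mul, hfa, hfa]
    refine huniq _ _ hxy ?_
    let cj' : K →* K := MonoidHom.mk'
      (fun z => ⟨(f y)⁻¹ * (z : G₂) * f y, by
        have h := (MonoidHom.normal_ker (actHom m₂)).conj_mem _ z.2 (f y)⁻¹
        rwa [inv_inv] at h⟩)
      fun a b => Subtype.ext (by
        show (f y)⁻¹ * ((a : G₂) * b) * f y = (f y)⁻¹ * a * f y * ((f y)⁻¹ * b * f y)
        group)
    have h : ∀ t, e _ _ hxy t = cj' (e x (f x) (hfa x) (y • t)) * e y (f y) (hfa y) t :=
      fun t => Subtype.ext (by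
        show (f x * f y)⁻¹ * c (x * y) t =
          (f y)⁻¹ * ((f x)⁻¹ * c x (y • t)) * f y * ((f y)⁻¹ * c y t)
        rw [hcmul]
        group)
    rw [Finset.prod_congr rfl fun t _ => h t, Finset.prod_mul_distrib, hfe, mul_one, ← map_prod]
    have hre := Equiv.prod_comp (MulAction.toPerm y) fun t => e x (f x) (hfa x) t
    simp only [MulAction.toPerm_apply] at hre
    rw [hre, hfe, map_one]
  have hfS : ∀ s : S, f (ι s) = ι₂ s := fun s =>
    huniq _ _ (hcS s).symm (Finset.prod_eq_one fun t _ => Subtype.ext (by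
      show (ι₂ s)⁻¹ * c (ι s) t = 1
      rw [hcS', inv_mul_cancel]))
  let φ : G →* G₂ := MonoidHom.mk' f hfmul
  have hinj : Function.Injective φ := by
    rw [injective_iff_map_eq_one]
    intro x hx
    have hx1 : actHom m₁ x = 1 := by
      rw [← hfa x, show f x = 1 from hx, map_one]
    obtain ⟨z, rfl⟩ := mem_ker_actHom m₁ hx1
    have h := (hfS z).symm.trans hx
    rw [show (z : S) = 1 from m₂.realized.1 (h.trans (map_one _).symm), map_one]
  have hsurj : Function.Surjective φ := by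
    intro y
    obtain ⟨x, hx⟩ := actHom_surjective m₁ (actHom m₂ y)
    obtain ⟨z, hz⟩ := mem_ker_actHom m₂ (g := (f x)⁻¹ * y) (by
      rw [map_mul, map_inv, hfa, hx, inv_mul_cancel])
    refine ⟨x * ι z, ?_⟩
    show f (x * ι z) = y
    rw [hfmul, hfS, hz, mul_inv_cancel_left]
  exact ⟨MulEquiv.ofBijective φ ⟨hinj, hsurj⟩, hfS⟩

end Cfsg.Agent.Fusion.ModelUnique
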