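/-
The normalizer system of a fully normalized centric subgroup is constrained.
-/
import Mathlib
import Cfsg.Agent.Lib.Fusion.KNormalizer
import Cfsg.Agent.Lib.Fusion.ModelUnique

set_option autoImplicit false

namespace Cfsg.Agent.Fusion.NormalizerModel

open Cfsg Cfsg.FusionSystem Cfsg.Agent.Fusion.Basic Cfsg.Agent.Fusion.Saturation
  Cfsg.Agent.Fusion.Normal Cfsg.Agent.Fusion.KNormalizer

universe u

variable {Ω : Type u} [Group Ω] {S : Subgroup Ω} {F : FusionSystem S} {p : ℕ} {R : Subgroup Ω}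
  {E : FusionSystem (normalizerIn S R)}

/-- The maps of a normalizer system. -/
theorem isMap_iff (hE : F.IsNormalizerSystem R E) {P : Subgroup Ω} {f : Ω → Ω} :
    IsMap E P f ↔ P ≤ normalizerIn S R ∧ (∀ x ∈ P, f x ∈ normalizerIn S R) ∧
      ∃ g, IsMap F (P ⊔ R) g ∧ (∀ x ∈ P, g x = f x) ∧ img g R = R := by
  constructor
  · intro h
    have h' := h.hom_mem_self
    rw [hE P] at h'
    obtain ⟨-, hP, hv, ψ, hψ, he, himg⟩ := h'
    refine ⟨hP, fun x hx => hv ⟨x, hx⟩, ext ψ, IsMap.of_hom hψ, fun x hx => ?_, ?_⟩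
    · rw [ext_of_mem ψ (Subgroup.mem_sup_left hx)]
      exact he ⟨x, hx⟩
    · rwa [← map_subgroupOf_eq_img (fun x => (ext_apply ψ x).symm) le_sup_right]
  · rintro ⟨hP, hv, g, hg, he, himg⟩
    have hfm : IsMap F P f := (hg.restrict le_sup_left).congr he
    refine ⟨hfm.hom, ?_, fun _ => rfl⟩
    rw [hE P]
    refine ⟨hfm.hom_mem_self, hP, fun x => hv x x.2, hg.hom, hg.hom_mem_self,
      fun x => he x x.2, ?_⟩
    rwa [map_subgroupOf_eq_img (f := g) (fun _ => rfl) le_sup_right]

theorem isMap_le (hE : F.IsNormalizerSystem R E) {P : Subgroup Ω} {f : Ω → Ω}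
    (h : IsMap E P f) : IsMap F P f := by
  obtain ⟨-, -, g, hg, he, -⟩ := (isMap_iff hE).1 h
  exact (hg.restrict le_sup_left).congr he

theorem isNormal (hE : F.IsNormalizerSystem R E) (hRS : R ≤ S) : E.IsNormal R := by
  refine isNormal_iff.2 ⟨le_normalizerIn hRS, fun P f hf => ?_⟩
  obtain ⟨hP, hv, g, hg, he, himg⟩ := (isMap_iff hE).1 hf
  refine ⟨g, (isMap_iff hE).2 ⟨sup_le hP (le_normalizerIn hRS), fun x hx => ?_, g, ?_,
    fun _ _ => rfl, himg⟩, he, himg⟩
  · have h1 : img g (P ⊔ R) ≤ normalizerIn S R := by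
      rw [hg.img_sup, himg]
      exact sup_le (img_le fun y hy => (he y hy).symm ▸ hv y hy) (le_normalizerIn hRS)
    exact h1 (mem_img_self g hx)
  · rwa [sup_eq_left.2 le_sup_right]

theorem autGroup_eq (hE : F.IsNormalizerSystem R E) (hRS : R ≤ S) :
    E.autGroup R = F.autGroup R := by
  ext α
  rw [mem_autGroup_iff (le_normalizerIn hRS), mem_autGroup_iff hRS]
  refine ⟨isMap_le hE, fun h => (isMap_iff hE).2 ⟨le_normalizerIn hRS,
    fun x hx => le_normalizerIn hRS (autFun_mem α hx), autFun α, ?_, fun _ _ => rfl, autFun_img α⟩⟩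
  rwa [sup_idem]

theorem isCentric (hE : F.IsNormalizerSystem R E) (hRc : F.IsCentric R) : E.IsCentric R := by
  refine ⟨le_normalizerIn hRc.1, fun R' hR' => ?_⟩
  obtain ⟨f, hf, rfl⟩ := isConj_iff_map.1 hR'
  exact fun x hx => hRc.2 _ (isMap_le hE hf).isConj ⟨hx.1.1, hx.2⟩

theorem constrained [Finite S] [Fact p.Prime] (hS : IsPGroup p S) (hF : F.IsSaturated p)
    (hRn : F.IsFullyNormalized R) (hRc : F.IsCentric R) (hE : F.IsNormalizerSystem R E) :
    E.IsConstrained p :=
  ⟨normalizerSystem_saturated hS hF hRn hE, R, isNormal hE hRc.1, isCentric hE hRc⟩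

theorem isRadical (hE : F.IsNormalizerSystem R E) (hR : F.IsRadical p R) : E.IsRadical p R :=
  ⟨le_normalizerIn hR.1, by rw [autGroup_eq hE hR.1]; exact hR.2⟩

theorem core_eq [Finite S] [Fact p.Prime] (hS : IsPGroup p S) (hRc : F.IsCentric R)
    (hRr : F.IsRadical p R) (hE : F.IsNormalizerSystem R E) : E.core = R := by
  have : Finite (normalizerIn S R) := finite_of_le normalizerIn_le
  exact le_antisymm (normal_le_centricRadical (hS.to_le normalizerIn_le) core_isNormal
    (isCentric hE hRc) (isRadical hE hRr)) (le_core (isNormal hE hRc.1))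

/-- Every fully normalized centric subgroup has a model of its normalizer system. -/
theorem exists_normalizer_model [Finite S] [Fact p.Prime] (hS : IsPGroup p S)
    (hF : F.IsSaturated p) (hRn : F.IsFullyNormalized R) (hRc : F.IsCentric R) :
    ∃ E : FusionSystem (normalizerIn S R), F.IsNormalizerSystem R E ∧
      ∃ (G : Type u) (_ : Group G) (ι : normalizerIn S R →* G), E.IsModel p G ι := by
  obtain ⟨E, hE⟩ := exists_normalizerSystem (F := F) hRc.1
  have : Finite (normalizerIn S R) := finite_of_le normalizerIn_le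
  exact ⟨E, hE, Cfsg.Agent.Fusion.Model.exists_model (hS.to_le normalizerIn_le)
    (constrained hS hF hRn hRc hE)⟩

end Cfsg.Agent.Fusion.NormalizerModel
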