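/-
Models of normalizer systems at centric subgroups: embeddings between them, and section freeness.
-/
import Mathlib
import Cfsg.Prelude.Def_FusionReduction
import Cfsg.Agent.Lib.Fusion.NormalizerModel

set_option autoImplicit false

namespace Cfsg.Agent.Fusion.LocalModels

open Cfsg Cfsg.FusionSystem Cfsg.Agent.Fusion.Basic Cfsg.Agent.Fusion.Saturation
  Cfsg.Agent.Fusion.Normal Cfsg.Agent.Fusion.Model Cfsg.Agent.Fusion.ModelUnique

universe u

/-! ### Sections -/

section Sections

variable {H A B : Type*} [Group H] [Group A] [Group B]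

theorem involves_of_surj {K : Subgroup A} (f : K →* H) (hf : Function.Surjective f) :
    Involves H A := by
  have e : (f.ker.map K.subtype).subgroupOf K = f.ker :=
    Subgroup.comap_map_eq_self_of_injective K.subtype_injective _
  have hn : ((f.ker.map K.subtype).subgroupOf K).Normal := by rw [e]; infer_instance
  exact ⟨K, f.ker.map K.subtype, hn,
    ⟨((QuotientGroup.quotientMulEquivOfEq e).trans
      (QuotientGroup.quotientKerEquivOfSurjective f hf))⟩⟩

theorem exists_surj (h : Involves H A) :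
    ∃ (K : Subgroup A) (f : K →* H), Function.Surjective f := by
  obtain ⟨K, R, hR, ⟨e⟩⟩ := h
  exact ⟨K, e.toMonoidHom.comp (QuotientGroup.mk' _),
    e.surjective.comp (QuotientGroup.mk'_surjective _)⟩

theorem involves_of_injective (e : A →* B) (he : Function.Injective e) (h : Involves H A) :
    Involves H B := by
  obtain ⟨K, f, hf⟩ := exists_surj h
  let k := (K.equivMapOfInjective e he).symm
  exact involves_of_surj (f.comp k.toMonoidHom) (hf.comp k.surjective)

theorem involves_of_surjective (e : A →* B) (he : Function.Surjective e) (h : Involves H B) :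
    Involves H A := by
  obtain ⟨K, f, hf⟩ := exists_surj h
  exact involves_of_surj (f.comp (e.subgroupComap K))
    (hf.comp (MonoidHom.subgroupComap_surjective_of_surjective e K he))

end Sections

variable {Ω : Type u} [Group Ω] {S : Subgroup Ω} {F : FusionSystem S} {p : ℕ}

/-- The data of a model at any normal centric subgroup. -/
theorem mSetting_of_normal [Finite S] [Fact p.Prime] {G : Type*} [Group G] {ι : S →* G}
    (hS : IsPGroup p S) (h : F.IsModel p G ι) {Q : Subgroup Ω} (hQn : F.IsNormal Q)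
    (hQc : F.IsCentric Q) : MSetting F p Q ι := by
  have m := model_mSetting hS h
  have st : Setting F p Q :=
    ⟨inferInstance, inferInstance, hS, m.setting.saturated, hQn, hQc⟩
  have hQD : Q ≤ F.core := le_core hQn
  refine ⟨st, m.finite, m.realized, fun g x hx => ?_, fun g hg => ?_⟩
  · have hmap := isMap_of_mem_autGroup m.setting.le (actHom m g).2
    refine ⟨⟨autFun (actHom m g : MulAut F.core) x, m.setting.le (autFun_mem _ (hQD hx))⟩,
      ?_, actHom_spec m g (hQD hx)⟩
    exact (normal_img_eq hQn hmap hQD).le (mem_img_self _ hx)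
  · have hmap := isMap_of_mem_autGroup m.setting.le (actHom m g).2
    obtain ⟨z, hzQ, -, hze⟩ := Cfsg.Agent.Fusion.CentricExt.aut_fix_centric hS m.setting.saturated
      hQc hQD m.setting.le (m.setting.le.trans st.le_normalizer) hmap (autFun_img _) fun q hq =>
        congrArg Subtype.val (m.realized.1
          ((actHom_spec m g (x := ⟨q, hQc.1 hq⟩) (hQD hq)).trans (hg ⟨q, hQc.1 hq⟩ hq)))
    let z' : S := ⟨z, hQc.1 hzQ⟩
    have hz' : actHom m g = actHom m (ι z') := aut_ext fun y hy => by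
      rw [hze y hy, actHom_iota, cS_apply m.setting z' hy]
    obtain ⟨w, hw⟩ := mem_ker_actHom m (g := (ι z')⁻¹ * g) (by
      rw [map_mul, map_inv, hz', inv_mul_cancel])
    have hgu : ι (z' * w) = g := by rw [map_mul, hw, mul_inv_cancel_left]
    refine ⟨z' * w, ?_, hgu⟩
    refine centric_centralizerIn_le hQc ⟨(z' * w : S).2, fun q hq => ?_⟩
    have h1 := hg ⟨q, hQc.1 hq⟩ hq
    rw [← hgu, ← map_inv, ← map_mul, ← map_mul] at h1
    have h2 := congrArg Subtype.val (m.realized.1 h1)
    exact (mul_inv_eq_iff_eq_mul.1 h2).symm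

/-- A model of a system that is cut out of a normalizer system by a map `f` embeds into the model
of that normalizer system. -/
theorem exists_embedding [Finite S] [Fact p.Prime] (hS : IsPGroup p S) {D' : Subgroup Ω}
    (hD'c : F.IsCentric D') {N' : FusionSystem (normalizerIn S D')}
    (hN' : F.IsNormalizerSystem D' N') {L' : Type*} [Group L'] {ι' : normalizerIn S D' →* L'}
    (hL' : N'.IsModel p L' ι') {T D Y : Subgroup Ω} {M : FusionSystem T} {L : Type*} [Group L]
    {ι : T →* L} (m : MSetting M p D ι) (hYD : Y ≤ D) {f : Ω → Ω} (hf : IsMap F T f)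
    (hfD : img f D = D') (hfT : ∀ x ∈ T, f x ∈ normalizerIn S D')
    (hM : ∀ (P : Subgroup Ω) (h : Ω → Ω), D ≤ P → P ≤ T → (IsMap M P h ↔
      IsMap F P h ∧ (∀ x ∈ P, h x ∈ T) ∧ img h D = D ∧ img h Y = Y)) :
    ∃ e : L →* L', Function.Injective e := by
  have hfin' : Finite (normalizerIn S D') := finite_of_le normalizerIn_le
  have hfinT := m.setting.finite
  have hDT : D ≤ T := m.setting.le
  have hYT : Y ≤ T := hYD.trans hDT
  have m' : MSetting N' p D' ι' := mSetting_of_normal (hS.to_le normalizerIn_le) hL'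
    (NormalizerModel.isNormal hN' hD'c.1) (NormalizerModel.isCentric hN' hD'c)
  obtain ⟨fi, hfi, hfiimg, hfif, hffi⟩ := hf.exists_inv
  let fN : T →* normalizerIn S D' := MonoidHom.mk' (fun t => ⟨f t, hfT t t.2⟩)
    fun a b => Subtype.ext (hf.map_mul a.2 b.2)
  let κ : T →* L' := ι'.comp fN
  have hκinj : Function.Injective κ := m'.realized.1.comp fun a b h =>
    Subtype.ext (hf.inj a.2 b.2 (congrArg Subtype.val h))
  -- the stabiliser of the image of `Y`
  let YL : Subgroup L' := (Y.subgroupOf T).map κ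
  let L₀ : Subgroup L' := Subgroup.normalizer (YL : Set L')
  have hfinL' := m'.finite
  have hL₀mem : ∀ k : L', (∀ x : T, (x : Ω) ∈ Y →
      ∃ y : T, (y : Ω) ∈ Y ∧ κ y = k * κ x * k⁻¹) → k ∈ L₀ := fun k hk =>
    mem_normalizer_of_forall fun y hy => by
      obtain ⟨x, hx, rfl⟩ := hy
      obtain ⟨y, hy, hye⟩ := hk x hx
      exact ⟨y, hy, hye⟩
  have hTL₀ : ∀ t : T, κ t ∈ L₀ := fun t => hL₀mem _ fun x hx => by
    obtain ⟨-, -, -, hY⟩ := (hM T (cj (t : Ω)) hDT le_rfl).1 (isMap_cj le_rfl t.2)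
    exact ⟨t * x * t⁻¹, hY.le (mem_img_self (cj (t : Ω)) hx),
      by rw [map_mul, map_mul, map_inv]⟩
  let κ₀ : T →* L₀ := κ.codRestrict L₀ hTL₀
  -- conjugation by any element carries the image of `D` into itself
  have hDconj : ∀ (k : L') (x : T), (x : Ω) ∈ D →
      ∃ y : T, (y : Ω) ∈ D ∧ κ y = k * κ x * k⁻¹ := by
    intro k x hx
    obtain ⟨y, hy, hye⟩ := m'.normal k (fN x) (hfD.le (mem_img_self f hx))
    obtain ⟨d, hd, hde⟩ := (hf.restrict hDT).mem_img.1 (hfD.ge hy)
    exact ⟨⟨d, hDT hd⟩, hd, (congrArg ι' (Subtype.ext hde : fN ⟨d, hDT hd⟩ = y)).trans hye⟩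
  have hreal : M.IsRealizedBy κ₀ := by
    refine ⟨fun a b h => hκinj (congrArg Subtype.val h), fun P hP φ hφ => ⟨fun hmem => ?_, ?_⟩⟩
    · obtain ⟨g, hg, hge, hgD⟩ :=
        (isNormal_iff.1 m.setting.normal).2 P (ext φ) (IsMap.of_hom hmem)
      obtain ⟨hgF, hgT, -, hgY⟩ := (hM _ g le_sup_right (sup_le hP hDT)).1 hg
      set R := P ⊔ D with hRdef
      have hRT : R ≤ T := sup_le hP hDT
      set R₁ := img f R with hR₁
      have hfiR : IsMap F R₁ fi := hfi.restrict (img_mono f hRT)
      have hfiR' : ∀ y ∈ R₁, fi y ∈ R := by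
        intro y hy
        obtain ⟨x, hx, rfl⟩ := (hf.restrict hRT).mem_img.1 hy
        rwa [hfif x (hRT hx)]
      have hh : IsMap F R₁ fun y => f (g (fi y)) :=
        hf.comp (hgF.comp hfiR hfiR') fun y hy => hgT _ (hfiR' y hy)
      have hR₁N : R₁ ≤ normalizerIn S D' := img_le fun x hx => hfT x (hRT hx)
      have hD'R₁ : D' ≤ R₁ := hfD ▸ img_mono f le_sup_right
      have hhD : img (fun y => f (g (fi y))) D' = D' := by
        have := finite_of_le hD'c.1
        refine eq_of_le_card (img_le fun y hy => ?_) (hh.restrict hD'R₁).card_img.ge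
        obtain ⟨x, hx, rfl⟩ := (hf.restrict hDT).mem_img.1 (hfD.ge hy)
        show f (g (fi (f x))) ∈ D'
        rw [hfif x (hDT hx)]
        exact hfD.le (mem_img_self f (hgD.le (mem_img_self g hx)))
      have hhN : IsMap N' R₁ fun y => f (g (fi y)) :=
        (NormalizerModel.isMap_iff hN').2
          ⟨hR₁N, fun y hy => hfT _ (hgT _ (hfiR' y hy)), _, by rwa [sup_eq_left.2 hD'R₁],
            fun _ _ => rfl, hhD⟩
      obtain ⟨k, hk⟩ := (m'.realized.2 R₁ hR₁N hhN.hom fun y => hhN.mem y.2).1 hhN.hom_mem_self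
      have hkκ : ∀ (x : T) (hx : (x : Ω) ∈ R),
          κ ⟨g x, hgT x hx⟩ = k * κ x * k⁻¹ := fun x hx => by
        refine Eq.trans (congrArg ι' (Subtype.ext ?_)) (hk ⟨f x, mem_img_self f hx⟩)
        show f (g x) = f (g (fi (f x)))
        rw [hfif x x.2]
      refine ⟨⟨k, hL₀mem k fun x hx => ?_⟩, fun x => Subtype.ext ?_⟩
      · exact ⟨⟨g x, hgT x (Subgroup.mem_sup_right (hYD hx))⟩, hgY.le (mem_img_self g hx),
          hkκ x (Subgroup.mem_sup_right (hYD hx))⟩
      · refine Eq.trans ?_ (hkκ ⟨x, hP x.2⟩ (Subgroup.mem_sup_left x.2))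
        exact congrArg κ (Subtype.ext ((ext_apply φ x).symm.trans (hge x x.2).symm))
    · rintro ⟨⟨k, hk₀⟩, hk⟩
      have hkP : ∀ x : P, κ ⟨φ x, hφ x⟩ = k * κ ⟨x, hP x.2⟩ * k⁻¹ := fun x =>
        congrArg Subtype.val (hk x)
      set R := P ⊔ D with hRdef
      have hRT : R ≤ T := sup_le hP hDT
      let W : Subgroup T := κ.range.comap ((MulAut.conj k).toMonoidHom.comp κ)
      have hW : R ≤ W.map T.subtype :=
        sup_le (fun x hx => ⟨⟨x, hP hx⟩, ⟨⟨φ ⟨x, hx⟩, hφ _⟩, hkP ⟨x, hx⟩⟩, rfl⟩) fun x hx => by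
          obtain ⟨y, -, hy⟩ := hDconj k ⟨x, hDT hx⟩ hx
          exact ⟨⟨x, hDT hx⟩, ⟨y, hy⟩, rfl⟩
      have hval : ∀ u : R, ∃ t : T, κ t = k * κ ⟨u, hRT u.2⟩ * k⁻¹ := by
        intro u
        obtain ⟨x, ⟨t, ht⟩, hx⟩ := hW u.2
        refine ⟨t, ?_⟩
        rw [show (⟨(u : Ω), hRT u.2⟩ : T) = x from Subtype.ext hx.symm]
        exact ht
      choose t ht using hval
      let χ : R →* Ω := T.subtype.comp (MonoidHom.mk' t fun a b => hκinj (by
        rw [map_mul, ht, ht, ht,
          show (⟨((a * b : R) : Ω), hRT (a * b).2⟩ : T) = ⟨a, hRT a.2⟩ * ⟨b, hRT b.2⟩ from rfl,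
          map_mul]
        group))
      have hχT : ∀ x ∈ R, ext χ x ∈ T := fun x hx => by
        rw [ext_of_mem χ hx]
        exact (t ⟨x, hx⟩).2
      have hχmul : ∀ a ∈ R, ∀ b ∈ R, ext χ (a * b) = ext χ a * ext χ b := fun a ha b hb => by
        rw [ext_of_mem χ ha, ext_of_mem χ hb, ext_of_mem χ (R.mul_mem ha hb), ← map_mul]
        rfl
      set R₁ := img f R with hR₁
      have hfR := hf.restrict hRT
      have hR₁N : R₁ ≤ normalizerIn S D' := img_le fun x hx => hfT x (hRT hx)
      have hR₁T : R₁ ≤ img f T := img_mono f hRT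
      have hfiR' : ∀ y ∈ R₁, fi y ∈ R := by
        intro y hy
        obtain ⟨x, hx, rfl⟩ := hfR.mem_img.1 hy
        rwa [hfif x (hRT hx)]
      let η : R₁ →* Ω := MonoidHom.mk' (fun y => f (ext χ (fi y))) fun a b => by
        show f (ext χ (fi ((a : Ω) * b))) = _
        rw [hfi.map_mul (hR₁T a.2) (hR₁T b.2), hχmul _ (hfiR' _ a.2) _ (hfiR' _ b.2),
          hf.map_mul (hχT _ (hfiR' _ a.2)) (hχT _ (hfiR' _ b.2))]
      have hηN : η ∈ N'.Hom R₁ := by
        refine (m'.realized.2 R₁ hR₁N η fun y => hfT _ (hχT _ (hfiR' y y.2))).2 ⟨k, fun y => ?_⟩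
        obtain ⟨x, hx, hxy⟩ := hfR.mem_img.1 y.2
        refine Eq.trans (congrArg ι' (Subtype.ext ?_)) ((ht ⟨x, hx⟩).trans ?_)
        · show f (ext χ (fi y)) = f (t ⟨x, hx⟩)
          rw [← hxy, hfif x (hRT hx), ext_of_mem χ hx]
          rfl
        · rw [show κ ⟨x, hRT hx⟩ = ι' ⟨y, hR₁N y.2⟩ from congrArg ι' (Subtype.ext hxy)]
      have hχF : IsMap F R (ext χ) := by
        have h1 := NormalizerModel.isMap_le hN' (IsMap.of_hom hηN)
        have h2 : IsMap F R₁ fun y => f (ext χ (fi y)) := h1.congr fun y hy => ext_of_mem η hy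
        refine (hfi.comp (h2.comp hfR fun x hx => mem_img_self f hx) fun x hx => ?_).congr
          fun x hx => ?_
        · exact mem_img_self f (hχT _ (hfiR' _ (mem_img_self f hx)))
        · show fi (f (ext χ (fi (f x)))) = ext χ x
          rw [hfif x (hRT hx), hfif _ (hχT x hx)]
      have himg : ∀ Z : Subgroup Ω, Z ≤ R →
          (∀ x : T, (x : Ω) ∈ Z → ∃ y : T, (y : Ω) ∈ Z ∧ κ y = k * κ x * k⁻¹) →
          img (ext χ) Z = Z := by
        intro Z hZR hZ
        have := finite_of_le (hZR.trans hRT)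
        refine eq_of_le_card (img_le fun x hx => ?_) (hχF.restrict hZR).card_img.ge
        rw [ext_of_mem χ (hZR hx)]
        obtain ⟨y, hy, hye⟩ := hZ ⟨x, hRT (hZR hx)⟩ hx
        show ((t ⟨x, hZR hx⟩ : T) : Ω) ∈ Z
        rw [show t ⟨x, hZR hx⟩ = y from hκinj ((ht _).trans hye.symm)]
        exact hy
      have hχM : IsMap M R (ext χ) := (hM R _ le_sup_right hRT).2 ⟨hχF, hχT,
        himg D le_sup_right (fun x hx => hDconj k x hx),
        himg Y (hYD.trans le_sup_right) fun x hx => by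
          have h1 : k * κ x * k⁻¹ ∈ YL :=
            (Subgroup.mem_normalizer_iff.1 hk₀ _).1 ⟨x, hx, rfl⟩
          exact h1⟩
      refine (hχM.restrict le_sup_left).hom_mem fun x => ?_
      rw [ext_of_mem χ (Subgroup.mem_sup_left x.2)]
      exact congrArg Subtype.val (hκinj ((hkP x).trans (ht ⟨x, Subgroup.mem_sup_left x.2⟩).symm))
  have m₀ : MSetting M p D κ₀ := by
    refine ⟨m.setting, inferInstance, hreal, fun g x hx => ?_, fun g hg => ?_⟩
    · obtain ⟨y, hy, hye⟩ := hDconj g x hx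
      exact ⟨y, hy, Subtype.ext hye⟩
    · obtain ⟨z, hz, hze⟩ := m'.centralizer (g : L') fun y hy => by
        obtain ⟨d, hd, hde⟩ := (hf.restrict hDT).mem_img.1 (hfD.ge hy)
        have h1 := congrArg Subtype.val (hg ⟨d, hDT hd⟩ hd)
        rw [show y = fN ⟨d, hDT hd⟩ from Subtype.ext hde.symm]
        exact h1
      obtain ⟨d, hd, hde⟩ := (hf.restrict hDT).mem_img.1 (hfD.ge hz)
      exact ⟨⟨d, hDT hd⟩, hd, Subtype.ext
        ((congrArg ι' (Subtype.ext hde : fN ⟨d, hDT hd⟩ = z)).trans hze)⟩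
  obtain ⟨e, -⟩ := exists_iso m m₀
  exact ⟨L₀.subtype.comp e.toMonoidHom, L₀.subtype_injective.comp e.injective⟩

/-- If the model of the normalizer system at `Q` has core `Q`, then `Q` is radical. -/
theorem radical_of_core_eq [Finite S] [Fact p.Prime] (hS : IsPGroup p S) {Q : Subgroup Ω}
    (hQS : Q ≤ S) {N : FusionSystem (normalizerIn S Q)} (hN : F.IsNormalizerSystem Q N)
    {L : Type*} [Group L] {ι : normalizerIn S Q →* L} (hL : N.IsModel p L ι)
    (hcore : N.core = Q) : F.IsRadical p Q := by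
  have hfin : Finite (normalizerIn S Q) := finite_of_le normalizerIn_le
  have hS' : IsPGroup p (normalizerIn S Q) := hS.to_le normalizerIn_le
  have hpc := model_pCore hS' hL
  have m : MSetting N p Q ι := by
    have h := model_mSetting hS' hL
    rwa [hcore] at h
  rw [hcore] at hpc
  have := m.finite
  have hker : IsPGroup p (actHom m).ker := by
    rintro ⟨g, hg⟩
    obtain ⟨z, rfl⟩ := mem_ker_actHom m hg
    obtain ⟨k, hk⟩ := hS' (z : normalizerIn S Q)
    exact ⟨k, Subtype.ext (by simp [← map_pow, hk])⟩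
  have hU : (pCore p (N.autGroup Q)).comap (actHom m) ≤ pCore p L :=
    le_sSup ⟨(Cfsg.Agent.Cores.pCore_normal p).comap _,
      (pCore_isPGroup p _).comap_of_ker_isPGroup _ hker⟩
  have hA : N.autGroup Q = F.autGroup Q := NormalizerModel.autGroup_eq hN hQS
  refine ⟨hQS, ?_⟩
  rw [← hA]
  refine le_antisymm ?_ fun α hα => ?_
  · rintro _ ⟨a, ha, rfl⟩
    obtain ⟨g, rfl⟩ := actHom_surjective m a
    have h1 : g ∈ pCore p L := hU ha
    rw [hpc] at h1
    obtain ⟨q, hq, rfl⟩ := h1
    rw [actHom_iota]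
    exact mem_inn_iff.2 ⟨q, hq, fun x hx => cS_apply m.setting q hx⟩
  · have hmapn : ((pCore p L).map (actHom m)).Normal :=
      (Cfsg.Agent.Cores.pCore_normal p).map _ (actHom_surjective m)
    have hle : (pCore p L).map (actHom m) ≤ pCore p (N.autGroup Q) :=
      le_sSup ⟨hmapn, (pCore_isPGroup p _).map _⟩
    obtain ⟨q, hq, hqe⟩ := mem_inn_iff.1 hα
    let q' : normalizerIn S Q := ⟨q, le_normalizerIn hQS hq⟩
    refine ⟨actHom m (ι q'), hle ⟨ι q', hpc ▸ ⟨q', hq, rfl⟩, rfl⟩, ?_⟩
    rw [actHom_iota]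
    exact autFun_ext fun x hx => (cS_apply m.setting q' hx).trans (hqe x hx).symm

/-- Section freeness only has to be checked at centric radical subgroups. -/
theorem sectionFree_of_radical [Finite S] [Fact p.Prime] (hS : IsPGroup p S)
    (hF : F.IsSaturated p) {H : Type*} [Group H]
    (h : ∀ Q : Subgroup Ω, F.IsFullyNormalized Q → F.IsCentric Q → F.IsRadical p Q →
      ∀ N : FusionSystem (normalizerIn S Q), F.IsNormalizerSystem Q N →
        ∀ (L : Type u) [Group L] (ι : ↥(normalizerIn S Q) →* L), N.IsModel p L ι →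
          ¬ Involves H L) : F.IsSectionFree p H := by
  intro Q
  induction hn : Nat.card S - Nat.card Q using Nat.strong_induction_on generalizing Q with
  | _ n ih =>
  intro hQn hQc N hN L _ ι hL hinv
  have hfin : Finite (normalizerIn S Q) := finite_of_le normalizerIn_le
  have hS' : IsPGroup p (normalizerIn S Q) := hS.to_le normalizerIn_le
  have hQS := hQc.1
  have hQN : N.IsNormal Q := NormalizerModel.isNormal hN hQS
  have m := model_mSetting hS' hL
  have hQD : Q ≤ N.core := le_core hQN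
  rcases eq_or_lt_of_le hQD with heq | hlt
  · exact h Q hQn hQc (radical_of_core_eq hS hQS hN hL heq.symm) N hN L ι hL hinv
  · have hDS : N.core ≤ S := m.setting.le.trans normalizerIn_le
    have hDc : F.IsCentric N.core := Cfsg.Agent.Fusion.CentricExt.centric_mono hQc hQD hDS
    obtain ⟨D', hDD', hD'⟩ := exists_fullyNormalized (F := F) hDS
    obtain ⟨f, hf, hfD⟩ := exists_map_to_fullyNormalized hS hF hD' hDD'
    have hD'c : F.IsCentric D' := centric_conj hDc hDD'
    obtain ⟨N', hN', L', _, ι', hL'⟩ :=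
      NormalizerModel.exists_normalizer_model hS hF hD' hD'c
    have hTD : normalizerIn S Q ≤ normalizerIn S N.core :=
      le_inf normalizerIn_le m.setting.le_normalizer
    have hfT : ∀ x ∈ normalizerIn S Q, f x ∈ normalizerIn S D' := by
      intro x hx
      refine ⟨hf.mem (hTD hx), ?_⟩
      rw [← hfD]
      exact hf.mem_normalizer_img (le_normalizerIn hDS) (hTD hx) (hTD hx).2
    have hM : ∀ (P : Subgroup Ω) (g : Ω → Ω), N.core ≤ P → P ≤ normalizerIn S Q → (IsMap N P g ↔
        IsMap F P g ∧ (∀ x ∈ P, g x ∈ normalizerIn S Q) ∧ img g N.core = N.core ∧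
          img g Q = Q) := by
      intro P g hDP hPT
      constructor
      · intro hg
        exact ⟨NormalizerModel.isMap_le hN hg, fun x hx => hg.mem hx,
          normal_img_eq core_isNormal hg hDP, normal_img_eq hQN hg (hQD.trans hDP)⟩
      · rintro ⟨hgF, hgT, -, hgQ⟩
        exact (NormalizerModel.isMap_iff hN).2 ⟨hPT, hgT, g,
          by rwa [sup_eq_left.2 (hQD.trans hDP)], fun _ _ => rfl, hgQ⟩
    obtain ⟨e, he⟩ := exists_embedding hS hD'c hN' hL' m hQD (hf.restrict hTD) hfD hfT hM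
    refine ih _ ?_ D' rfl hD' hD'c N' hN' L' ι' hL' (involves_of_injective e he hinv)
    have hfinD : Finite N.core := finite_of_le hDS
    have h1 := card_lt_card hlt
    have h2 := card_le_card (A := N.core) (B := S) hDS
    have h3 := isConj_card hDD'
    omega

/-- Section freeness passes to normalizer systems. -/
theorem sectionFree_normalizer [Finite S] [Fact p.Prime] (hS : IsPGroup p S)
    (hF : F.IsSaturated p) {H : Type*} [Group H] (hfree : F.IsSectionFree p H) {Q : Subgroup Ω}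
    (hQ : F.IsFullyNormalized Q) {N : FusionSystem (normalizerIn S Q)}
    (hN : F.IsNormalizerSystem Q N) : N.IsSectionFree p H := by
  have hfin : Finite (normalizerIn S Q) := finite_of_le normalizerIn_le
  have hS' : IsPGroup p (normalizerIn S Q) := hS.to_le normalizerIn_le
  have hNs := KNormalizer.normalizerSystem_saturated hS hF hQ hN
  have hQN : N.IsNormal Q := NormalizerModel.isNormal hN hQ.1
  refine sectionFree_of_radical hS' hNs fun R hRn hRc hRr M hM L _ ι hL hinv => ?_
  have hQR : Q ≤ R := normal_le_centricRadical hS' hQN hRc hRr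
  have hRT : R ≤ normalizerIn S Q := hRc.1
  have hRS : R ≤ S := hRT.trans normalizerIn_le
  -- `R` is centric in `F`
  have hRcF : F.IsCentric R := by
    refine ⟨hRS, fun R₂ hR₂ => ?_⟩
    obtain ⟨φ, hφ, rfl⟩ := isConj_iff_map.1 hR₂
    have hQ₂ : F.IsConj (img φ Q) Q := isConj_symm (hφ.restrict hQR).isConj
    obtain ⟨ρ, hρ, hρQ⟩ := exists_map_to_fullyNormalized hS hF hQ hQ₂
    have hQ₂S : img φ Q ≤ S := (hφ.restrict hQR).img_le_S
    have hR₂N : img φ R ≤ normalizerIn S (img φ Q) := img_le fun x hx =>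
      ⟨hφ.mem hx, hφ.mem_normalizer_img hQR hx (hRT hx).2⟩
    have hρN : ∀ y ∈ normalizerIn S (img φ Q), ρ y ∈ normalizerIn S Q := fun y hy =>
      ⟨hρ.mem hy, by
        have h := hρ.mem_normalizer_img (le_normalizerIn hQ₂S) hy hy.2
        rwa [hρQ] at h⟩
    have hcomp : IsMap F R fun x => ρ (φ x) :=
      (hρ.restrict hR₂N).comp hφ fun x hx => mem_img_self φ hx
    have hcQ : img (fun x => ρ (φ x)) Q = Q := by
      rw [← (hφ.restrict hQR).img_img, hρQ]
    have hcN : IsMap N R fun x => ρ (φ x) := (NormalizerModel.isMap_iff hN).2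
      ⟨hRT, fun x hx => hρN _ (hR₂N (mem_img_self φ hx)), _, by rwa [sup_eq_left.2 hQR],
        fun _ _ => rfl, hcQ⟩
    have hC := hRc.2 _ hcN.isConj
    intro x hx
    have hxN : x ∈ normalizerIn S (img φ Q) := ⟨hx.1,
      Subgroup.centralizer_le_normalizer _ fun y hy => hx.2 y (img_mono φ hQR hy)⟩
    have h1 : ρ x ∈ centralizerIn (normalizerIn S Q) (img (fun x => ρ (φ x)) R) := by
      refine ⟨hρN x hxN, fun y hy => ?_⟩
      obtain ⟨r, hr, rfl⟩ := hcomp.mem_img.1 hy
      have hr₂ := hR₂N (mem_img_self φ hr)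
      show ρ (φ r) * ρ x = ρ x * ρ (φ r)
      rw [← hρ.map_mul hr₂ hxN, ← hρ.map_mul hxN hr₂, hx.2 _ (mem_img_self φ hr)]
    obtain ⟨r, hr, hre⟩ := hcomp.mem_img.1 (hC h1)
    rw [← hρ.inj (hR₂N (mem_img_self φ hr)) hxN hre]
    exact mem_img_self φ hr
  obtain ⟨R', hRR', hR'⟩ := exists_fullyNormalized (F := F) hRS
  obtain ⟨f, hf, hfR⟩ := exists_map_to_fullyNormalized hS hF hR' hRR'
  have hR'c : F.IsCentric R' := centric_conj hRcF hRR'
  obtain ⟨N', hN', L', _, ι', hL'⟩ := NormalizerModel.exists_normalizer_model hS hF hR' hR'c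
  have hfinT : Finite (normalizerIn (normalizerIn S Q) R) := finite_of_le normalizerIn_le
  have m : MSetting M p R ι := by
    have h := model_mSetting (hS'.to_le normalizerIn_le) hL
    rwa [NormalizerModel.core_eq hS' hRc hRr hM] at h
  have hTR : normalizerIn (normalizerIn S Q) R ≤ normalizerIn S R :=
    fun x hx => ⟨hx.1.1, hx.2⟩
  have hfT : ∀ x ∈ normalizerIn (normalizerIn S Q) R, f x ∈ normalizerIn S R' := by
    intro x hx
    refine ⟨hf.mem (hTR hx), ?_⟩
    rw [← hfR]
    exact hf.mem_normalizer_img (le_normalizerIn hRS) (hTR hx) (hTR hx).2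
  have hMc : ∀ (P : Subgroup Ω) (g : Ω → Ω), R ≤ P → P ≤ normalizerIn (normalizerIn S Q) R →
      (IsMap M P g ↔ IsMap F P g ∧ (∀ x ∈ P, g x ∈ normalizerIn (normalizerIn S Q) R) ∧
        img g R = R ∧ img g Q = Q) := by
    intro P g hRP hPT
    constructor
    · intro hg
      have hgN := NormalizerModel.isMap_le hM hg
      exact ⟨NormalizerModel.isMap_le hN hgN, fun x hx => hg.mem hx,
        normal_img_eq (NormalizerModel.isNormal hM hRT) hg hRP,
        normal_img_eq hQN hgN (hQR.trans hRP)⟩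
    · rintro ⟨hgF, hgT, hgR, hgQ⟩
      have hgN : IsMap N P g := (NormalizerModel.isMap_iff hN).2 ⟨hPT.trans normalizerIn_le,
        fun x hx => (hgT x hx).1, g, by rwa [sup_eq_left.2 (hQR.trans hRP)], fun _ _ => rfl, hgQ⟩
      exact (NormalizerModel.isMap_iff hM).2 ⟨hPT, hgT, g, by rwa [sup_eq_left.2 hRP],
        fun _ _ => rfl, hgR⟩
  obtain ⟨e, he⟩ := exists_embedding hS hR'c hN' hL' m hQR (hf.restrict hTR) hfR hfT hMc
  exact hfree R' hR' hR'c N' hN' L' ι' hL' (involves_of_injective e he hinv)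

end Cfsg.Agent.Fusion.LocalModels
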