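/-
Elements of order `p` (order dividing 4 for `p = 2`): detection of automorphisms of order prime
to `p`, and criteria for `S` to be normal in a fusion system.
-/
import Mathlib
import Cfsg.Agent.S0121
import Cfsg.Agent.Lib.Fusion.Normal
import Cfsg.Agent.Lib.Fusion.Focal
import Cfsg.Agent.Lib.Coprime.OmegaDetect
import Cfsg.Agent.Lib.PGroups.Alperin
import Cfsg.Agent.Lib.CharP.Coprime

set_option autoImplicit false

namespace Cfsg.Agent.Fusion.SmallElements

open Cfsg Cfsg.FusionSystem Cfsg.Agent.Fusion.Basic Cfsg.Agent.Fusion.Saturation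
  Cfsg.Agent.Fusion.Normal Cfsg.Agent.Fusion.Alperin Cfsg.Agent.Fusion.Focal

/-- Order dividing `p`, or dividing 4 when `p = 2`. -/
def IsSmall (p : ℕ) {G : Type*} [Group G] (x : G) : Prop := x ^ p = 1 ∨ (p = 2 ∧ x ^ 4 = 1)

/-- The exponent bounding small elements. -/
def smallExp (p : ℕ) : ℕ := if p = 2 then 4 else p

section Pure

variable {p : ℕ} {G H : Type*} [Group G] [Group H]

theorem isSmall_iff {x : G} : IsSmall p x ↔ x ^ smallExp p = 1 := by
  unfold IsSmall smallExp
  split
  next h =>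
    subst h
    refine ⟨fun h => ?_, fun h => Or.inr ⟨rfl, h⟩⟩
    rcases h with h | ⟨-, h⟩
    · rw [show 4 = 2 * 2 from rfl, pow_mul, h, one_pow]
    · exact h
  next h => exact ⟨fun h' => h'.resolve_right fun h'' => h h''.1, Or.inl⟩

theorem isSmall_map_iff (f : G →* H) (hf : Function.Injective f) {x : G} :
    IsSmall p (f x) ↔ IsSmall p x := by
  rw [isSmall_iff, isSmall_iff, ← map_pow, map_eq_one_iff f hf]

/-- An automorphism fixing every displacement `x⁻¹ α x` has `p`-power order. -/
theorem aut_eq_one_of_diff_fixed (hG : IsPGroup p G) (a : MulAut G)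
    (ha : (orderOf a).Coprime p) (h : ∀ x : G, a (x⁻¹ * a x) = x⁻¹ * a x) : a = 1 := by
  ext g
  have hpow : ∀ m : ℕ, (a ^ m) g = g * (g⁻¹ * a g) ^ m := by
    intro m
    induction m with
    | zero => simp
    | succ m ih =>
      rw [pow_succ', MulAut.mul_apply, ih, map_mul, map_pow, h, pow_succ', ← mul_assoc g,
        mul_inv_cancel_left]
  have h1 := hpow (orderOf a)
  rw [pow_orderOf_eq_one, MulAut.one_apply, left_eq_mul] at h1
  obtain ⟨k, hk⟩ := hG (g⁻¹ * a g)
  have h2 : g⁻¹ * a g = 1 := orderOf_eq_one_iff.1 <|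
    Nat.eq_one_of_dvd_coprimes (Nat.Coprime.pow_right k ha) (orderOf_dvd_of_pow_eq_one h1)
      (orderOf_dvd_of_pow_eq_one hk)
  rw [inv_mul_eq_one] at h2
  exact h2.symm

/-- An automorphism of order prime to `p` fixing the small elements is trivial. -/
theorem aut_eq_one_of_fix_small [Finite G] [Fact p.Prime] (hG : IsPGroup p G) (a : MulAut G)
    (ha : (orderOf a).Coprime p) (h : ∀ x : G, IsSmall p x → a x = x) : a = 1 := by
  let φ : ↥(Subgroup.zpowers a) →* MulAut G := (Subgroup.zpowers a).subtype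
  have hfin : Finite (G ⋊[φ] ↥(Subgroup.zpowers a)) :=
    Finite.of_equiv _ SemidirectProduct.equivProd.symm
  let ι : G →* G ⋊[φ] ↥(Subgroup.zpowers a) := SemidirectProduct.inl
  set b : ↥(Subgroup.zpowers a) := ⟨a, Subgroup.mem_zpowers a⟩ with hb
  have key := Cfsg.Agent.Coprime.OmegaDetect.mem_centralizer_of_fix (p := p)
    (g := SemidirectProduct.inr (φ := φ) b)
    (by rwa [orderOf_injective _ SemidirectProduct.inr_injective, hb, Subgroup.orderOf_mk])
    (hG.of_surjective ι.rangeRestrict ι.rangeRestrict_surjective)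
    (by
      have : ι.range.Normal := by
        rw [SemidirectProduct.range_inl_eq_ker_rightHom]; infer_instance
      rw [Subgroup.normalizer_eq_top]
      exact Subgroup.mem_top _)
    (by
      rintro _ ⟨x, rfl⟩ hx
      have e := SemidirectProduct.inl_aut (φ := φ) b x
      have hfx : φ b x = x := h x ((isSmall_map_iff ι SemidirectProduct.inl_injective).1 hx)
      rw [hfx, map_inv] at e
      exact (mul_inv_eq_iff_eq_mul.mp e.symm))
  ext x
  have e := SemidirectProduct.inl_aut (φ := φ) b x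
  rw [map_inv] at e
  exact SemidirectProduct.inl_injective
    (e.trans (mul_inv_eq_iff_eq_mul.mpr (key (ι x) ⟨x, rfl⟩).symm))

/-- A characteristic subgroup of small elements detecting automorphisms of order prime to `p`. -/
theorem exists_detect [Finite G] [hp : Fact p.Prime] (hG : IsPGroup p G) :
    ∃ E : Subgroup G, E.Characteristic ∧ (∀ x ∈ E, IsSmall p x) ∧
      ∀ a : MulAut G, (orderOf a).Coprime p → (∀ x ∈ E, a x = x) → a = 1 := by
  obtain ⟨H, hH, h1, h2, h3⟩ := Cfsg.Agent.PGroups.Alperin.exists_critical hG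
  have hpow : ∀ x ∈ H, x ^ p ∈ Subgroup.centralizer (H : Set G) := fun x hx =>
    h1 ⟨(⟨x, hx⟩ : H) ^ p, Cfsg.Agent.Solvable.Basics.pow_mem_frattini (hG.to_subgroup H) _, rfl⟩
  let E : Subgroup G :=
    { carrier := {x | x ∈ H ∧ IsSmall p x}
      one_mem' := ⟨H.one_mem, Or.inl (one_pow p)⟩
      inv_mem' := fun {x} hx => ⟨H.inv_mem hx.1,
        isSmall_iff.2 (by rw [inv_pow, isSmall_iff.1 hx.2, inv_one])⟩
      mul_mem' := by
        rintro x y ⟨hx, hxs⟩ ⟨hy, hys⟩
        refine ⟨H.mul_mem hx hy, isSmall_iff.2 ?_⟩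
        set c := y⁻¹ * x⁻¹ * y * x with hc
        have hcC : c ∈ Subgroup.centralizer (H : Set G) := by
          have h := (h2 (Subgroup.commutator_mem_commutator (H.inv_mem hy)
            (Subgroup.mem_top x⁻¹))).2
          rwa [commutatorElement_def, inv_inv, inv_inv] at h
        have hcx : Commute c x := (hcC x hx).symm
        have hcy : Commute c y := (hcC y hy).symm
        have hcp : c ^ p = 1 := by
          have e1 : x⁻¹ * y * x = y * c := by rw [hc]; group
          have e2 : (x⁻¹ * y * x) ^ p = y ^ p := by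
            have := conj_pow (a := x⁻¹) (b := y) (i := p)
            rw [inv_inv] at this
            rw [this, mul_assoc, ← hpow y hy x hx, inv_mul_cancel_left]
          rw [e1, hcy.symm.mul_pow] at e2
          exact mul_eq_left.1 e2
        have hmain := Cfsg.Agent.Coprime.OmegaDetect.mul_pow_central (x := y) (y := x) (c := c)
          (by rw [hc]; group) hcy hcx (smallExp p)
        rw [hmain, isSmall_iff.1 hxs, isSmall_iff.1 hys, one_mul, one_mul]
        obtain ⟨k, hk⟩ : p ∣ (smallExp p).choose 2 := by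
          unfold smallExp
          split
          next h => subst h; decide
          next h => exact hp.out.dvd_choose_self two_ne_zero (lt_of_le_of_ne hp.out.two_le (Ne.symm h))
        rw [hk, pow_mul, hcp, one_pow] }
  refine ⟨E, Subgroup.characteristic_iff_map_le.2 fun φ => ?_, fun x hx => hx.2, fun a ha h => ?_⟩
  · rintro _ ⟨x, hx, rfl⟩
    exact ⟨Subgroup.characteristic_iff_map_le.1 hH φ ⟨x, hx.1, rfl⟩,
      (isSmall_map_iff φ.toMonoidHom φ.injective).2 hx.2⟩
  · refine Cfsg.Agent.S0121.result hG H hH h1 h2 h3 a ha fun x hx => ?_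
    have hmap : H.map a.toMonoidHom = H := Subgroup.characteristic_iff_map_eq.1 hH a
    let a' : MulAut H := (a.subgroupMap H).trans (MulEquiv.subgroupCongr hmap)
    have ha' : ∀ (m : ℕ) (z : H), (((a' ^ m) z : H) : G) = (a ^ m) (z : G) := by
      intro m
      induction m with
      | zero => intro z; simp
      | succ m ih =>
        intro z
        rw [pow_succ', pow_succ', MulAut.mul_apply, MulAut.mul_apply, ← ih z]
        rfl
    have h4 : a' = 1 := by
      refine aut_eq_one_of_fix_small (hG.to_subgroup H) a' ?_ fun z hz => ?_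
      · refine ha.coprime_dvd_left (orderOf_dvd_of_pow_eq_one (MulEquiv.ext fun z => Subtype.ext ?_))
        rw [ha', pow_orderOf_eq_one]
        rfl
      · exact Subtype.ext (h z ⟨z.2, (isSmall_map_iff H.subtype H.subtype_injective).2 hz⟩)
    exact congrArg Subtype.val (DFunLike.congr_fun h4 ⟨x, hx⟩)

theorem card_zpowers_of_isSmall [hp : Fact p.Prime] {x : G} (hs : IsSmall p x) (hx : x ≠ 1) :
    Nat.card (Subgroup.zpowers x) = p ∨ Nat.card (Subgroup.zpowers x) = 4 := by
  rw [Nat.card_zpowers]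
  rcases hs with h | ⟨rfl, h⟩
  · exact Or.inl (orderOf_eq_prime h hx)
  · have hd := orderOf_dvd_of_pow_eq_one h
    have hle := Nat.le_of_dvd (by norm_num) hd
    interval_cases hn : orderOf x
    · simp at hd
    · exact absurd (orderOf_eq_one_iff.1 hn) hx
    · exact Or.inl rfl
    · simp at hd
    · exact Or.inr rfl

end Pure

variable {Ω : Type*} [Group Ω] {S : Subgroup Ω} {F : FusionSystem S} {p : ℕ}
  {P U : Subgroup Ω}

/-- Detection inside a subgroup containing all displacements. -/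
theorem exists_detect_sub [Fact p.Prime] {K : Subgroup Ω} [Finite K] (hK : IsPGroup p K) :
    ∃ E ≤ K, (E.subgroupOf K).Characteristic ∧ (∀ x ∈ E, IsSmall p x) ∧
      ∀ P : Subgroup Ω, K ≤ P → IsPGroup p P → ∀ α : MulAut P, (orderOf α).Coprime p →
        (∀ x ∈ K, autFun α x ∈ K) → (∀ x ∈ P, x⁻¹ * autFun α x ∈ K) →
        (∀ x ∈ E, autFun α x = x) → α = 1 := by
  obtain ⟨E, hE, hEs, hdet⟩ := exists_detect hK
  refine ⟨E.map K.subtype, Subgroup.map_subtype_le _, ?_, ?_, ?_⟩
  · rw [Subgroup.subgroupOf, Subgroup.comap_map_eq_self_of_injective K.subtype_injective]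
    exact hE
  · rintro _ ⟨x, hx, rfl⟩
    exact (isSmall_map_iff K.subtype K.subtype_injective).2 (hEs x hx)
  · intro P hKP hP α hα hKinv hd hfix
    refine aut_eq_one_of_diff_fixed hP α hα fun x => ?_
    let δ0 : K →* K := MonoidHom.mk' (fun z => ⟨autFun α z, hKinv z z.2⟩)
      fun z w => Subtype.ext ((autFun_isHom α) z (hKP z.2) w (hKP w.2))
    have hδ0 : Function.Injective δ0 := fun z w hzw => Subtype.ext (by
      have h : autFun α (z : Ω) = autFun α (w : Ω) := congrArg Subtype.val hzw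
      simpa [autFun_inv_apply] using congrArg (autFun α⁻¹) h)
    let δ : MulAut K := MulEquiv.ofBijective δ0 ((Finite.injective_iff_bijective).1 hδ0)
    have hδ : ∀ (m : ℕ) (z : K), (((δ ^ m) z : K) : Ω) = autFun (α ^ m) (z : Ω) := by
      intro m
      induction m with
      | zero => intro z; rw [pow_zero, pow_zero, autFun_one]; rfl
      | succ m ih =>
        intro z
        rw [pow_succ', pow_succ', MulAut.mul_apply, autFun_mul, ← ih z]
        rfl
    have h1 : δ = 1 := by
      refine hdet δ (hα.coprime_dvd_left (orderOf_dvd_of_pow_eq_one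
        (MulEquiv.ext fun z => Subtype.ext ?_))) fun z hz => Subtype.ext ?_
      · rw [hδ, pow_orderOf_eq_one, autFun_one]; rfl
      · have := hδ 1 z
        rw [pow_one, pow_one] at this
        rw [this]
        exact hfix _ ⟨z, hz, rfl⟩
    have hc : ((x⁻¹ * α x : P) : Ω) ∈ K := by
      rw [Subgroup.coe_mul, Subgroup.coe_inv, ← autFun_apply]
      exact hd x x.2
    refine Subtype.ext ?_
    rw [← autFun_apply]
    have h2 := hδ 1 ⟨_, hc⟩
    rw [h1, one_pow, pow_one] at h2
    exact h2.symm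

/-- The upper central series of `S` inside the ambient group. -/
def zSeries (S : Subgroup Ω) (i : ℕ) : Subgroup Ω :=
  (Subgroup.upperCentralSeries S i).map S.subtype

theorem autFun_zSeries (β : MulAut S) {i : ℕ} {x : Ω} (hx : x ∈ zSeries S i) :
    autFun β x ∈ zSeries S i := by
  obtain ⟨y, hy, rfl⟩ := hx
  rw [Subgroup.subtype_apply, autFun_apply]
  exact ⟨β y, (Subgroup.characteristic_iff_map_eq.1 inferInstance β).le ⟨y, hy, rfl⟩, rfl⟩

theorem zSeries_comm {g x : Ω} {i : ℕ} (hg : g ∈ S) (hx : x ∈ zSeries S (i + 1)) :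
    x⁻¹ * (g * x * g⁻¹) ∈ zSeries S i := by
  obtain ⟨y, hy, rfl⟩ := hx
  have h1 := Subgroup.mem_upperCentralSeries_succ_iff.1
    ((Subgroup.upperCentralSeries S (i + 1)).inv_mem hy) ⟨g, hg⟩
  exact ⟨_, h1, by simp [commutatorElement_def, mul_assoc]⟩

/-- The automorphisms of `P` stabilizing an invariant series form a normal subgroup. -/
def stab (F : FusionSystem S) (P : Subgroup Ω) (W : ℕ → Subgroup Ω)
    (hinv : ∀ a : F.autGroup P, ∀ i, ∀ x ∈ W i, autFun (a : MulAut P) x ∈ W i) :
    Subgroup (F.autGroup P) where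
  carrier := {a | ∀ i, ∀ x ∈ W (i + 1), x⁻¹ * autFun (a : MulAut P) x ∈ W i}
  one_mem' := fun i x _ => by rw [Subgroup.coe_one, autFun_one]; simp [(W i).one_mem]
  mul_mem' := fun {a b} ha hb i x hx => by
    rw [Subgroup.coe_mul, autFun_mul]
    simpa [mul_assoc] using (W i).mul_mem (hb i x hx) (ha i _ (hinv b (i + 1) x hx))
  inv_mem' := fun {a} ha i x hx => by
    have h1 := (W i).inv_mem (ha i _ (hinv a⁻¹ (i + 1) x hx))
    rw [Subgroup.coe_inv, autFun_apply_inv] at h1
    rw [Subgroup.coe_inv]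
    simpa using h1

variable [Finite S] [Fact p.Prime]

/-- A normal `p`-subgroup of `Aut_F(P)` containing the automorphisms that lower small elements
of `U ⊓ P` in the upper central series of `S`. -/
theorem exists_stab_normal (hS : IsPGroup p S) (hP : P ≤ S) (hU : F.StronglyClosed U)
    (hd : ∀ α : F.autGroup P, (orderOf α).Coprime p → ∀ x ∈ P,
      x⁻¹ * autFun (α : MulAut P) x ∈ U)
    (hpres : ∀ α : F.autGroup P, ∀ i, ∀ x ∈ P, x ∈ U → IsSmall p x → x ∈ zSeries S i →
      autFun (α : MulAut P) x ∈ zSeries S i) :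
    ∃ N : Subgroup (F.autGroup P), N.Normal ∧ IsPGroup p N ∧ ∀ a : F.autGroup P,
      (∀ i, ∀ x ∈ P, x ∈ U → IsSmall p x → x ∈ zSeries S (i + 1) →
        x⁻¹ * autFun (a : MulAut P) x ∈ zSeries S i) → a ∈ N := by
  have hfin : Finite P := finite_of_le hP
  have hKS : U ⊓ P ≤ S := inf_le_right.trans hP
  have hfinK : Finite (U ⊓ P : Subgroup Ω) := finite_of_le hKS
  obtain ⟨E, hEK, hEc, hEs, hdet⟩ := exists_detect_sub (hS.to_le hKS)
  have hKinv : ∀ a : F.autGroup P, ∀ x ∈ U ⊓ P, autFun (a : MulAut P) x ∈ U ⊓ P :=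
    fun a x hx => ⟨stronglyClosed_mem hU (isMap_of_mem_autGroup hP a.2) hx.2 hx.1,
      autFun_mem _ hx.2⟩
  have hEinv : ∀ a : F.autGroup P, ∀ x ∈ E, autFun (a : MulAut P) x ∈ E := fun a x hx => by
    have hm := (isMap_of_mem_autGroup hP a.2).restrict (inf_le_right : U ⊓ P ≤ P)
    have h1 : img (autFun (a : MulAut P)) (U ⊓ P) = U ⊓ P :=
      eq_of_le_card (img_le (hKinv a)) hm.card_img.ge
    exact (char_img_eq hEK hEc hm h1).le (mem_img_self _ hx)
  have hinv : ∀ a : F.autGroup P, ∀ i, ∀ x ∈ E ⊓ zSeries S i,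
      autFun (a : MulAut P) x ∈ E ⊓ zSeries S i := fun a i x hx =>
    ⟨hEinv a x hx.1, hpres a i x (hEK hx.1).2 (hEK hx.1).1 (hEs x hx.1) hx.2⟩
  refine ⟨stab F P (fun i => E ⊓ zSeries S i) hinv, ⟨fun a ha g i x hx => ?_⟩, ?_, ?_⟩
  · -- normality
    set y := autFun (g : MulAut P)⁻¹ x with hy
    have hy' : y ∈ E ⊓ zSeries S (i + 1) := hinv g⁻¹ _ x hx
    have hxe : autFun (g : MulAut P) y = x := autFun_apply_inv _ _
    have hyP : y ∈ P := (hEK hy'.1).2
    have hm := isMap_of_mem_autGroup hP g.2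
    have h1 := hinv g i _ (ha i y hy')
    rw [Subgroup.coe_mul, Subgroup.coe_mul, Subgroup.coe_inv, autFun_mul, autFun_mul, ← hy]
    rw [hm.map_mul (P.inv_mem hyP) (autFun_mem _ hyP), hm.map_inv hyP, hxe] at h1
    exact h1
  · refine Cfsg.Agent.CharP.isPGroup_of_forall_coprime fun a ha hcop =>
      Subtype.ext (hdet P inf_le_right (hS.to_le hP) a ?_ (hKinv a)
        (fun x hx => ⟨hd a hcop x hx, P.mul_mem (P.inv_mem hx) (autFun_mem _ hx)⟩) ?_)
    · rwa [Subgroup.orderOf_coe]
    -- a series stabilizer of order prime to `p` fixes `E`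
    have hm := isMap_of_mem_autGroup hP a.2
    have hfix : ∀ i, ∀ x ∈ E ⊓ zSeries S i, autFun (a : MulAut P) x = x := by
      intro i
      induction i with
      | zero =>
        intro x hx
        obtain ⟨y, hy, rfl⟩ := hx.2
        rw [SetLike.mem_coe, Subgroup.upperCentralSeries_zero, Subgroup.mem_bot] at hy
        subst hy
        rw [map_one]
        exact hm.map_one
      | succ i ih =>
        intro x hx
        have hc := ha i x hx
        have hxP : x ∈ P := (hEK hx.1).2
        have hcP : x⁻¹ * autFun (a : MulAut P) x ∈ P :=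
          P.mul_mem (P.inv_mem hxP) (autFun_mem _ hxP)
        set c := x⁻¹ * autFun (a : MulAut P) x with hcdef
        have hpow : ∀ m : ℕ, autFun ((a : MulAut P) ^ m) x = x * c ^ m := by
          intro m
          induction m with
          | zero => rw [pow_zero, autFun_one, pow_zero, mul_one]; rfl
          | succ m ihm =>
            rw [pow_succ', autFun_mul, ihm, hm.map_mul hxP (P.pow_mem hcP m),
              ih _ ((E ⊓ zSeries S i).pow_mem hc m), pow_succ', ← mul_assoc, hcdef,
              mul_inv_cancel_left]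
        have h1 := hpow (orderOf a)
        rw [← Subgroup.coe_pow, pow_orderOf_eq_one, Subgroup.coe_one, autFun_one] at h1
        have h2 : (⟨c, hcP⟩ : P) ^ orderOf a = 1 :=
          Subtype.ext (mul_left_cancel (a := x) (by simpa using h1.symm))
        obtain ⟨e, he⟩ := hS.to_le hP ⟨c, hcP⟩
        have h3 : c = 1 := congrArg Subtype.val (orderOf_eq_one_iff.1
          (Nat.eq_one_of_dvd_coprimes (hcop.pow_right e) (orderOf_dvd_of_pow_eq_one h2)
            (orderOf_dvd_of_pow_eq_one he)))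
        rw [hcdef, inv_mul_eq_one] at h3
        exact h3.symm
    intro x hx
    have : Group.IsNilpotent S := hS.isNilpotent
    obtain ⟨n, hn⟩ := Group.IsNilpotent.nilpotent S
    refine hfix n x ⟨hx, ?_⟩
    exact ⟨⟨x, hKS (hEK hx)⟩, hn.ge (Subgroup.mem_top _), rfl⟩
  · intro a h i x hx
    exact ⟨E.mul_mem (E.inv_mem hx.1) (hEinv a x hx.1),
      h i x (hEK hx.1).2 (hEK hx.1).1 (hEs x hx.1) hx.2⟩

/-- A map between small cyclic subgroups of the hyperfocal subgroup, from an automorphism. -/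
theorem exists_hom_cyclic (hS : IsPGroup p S) (hF : F.IsSaturated p) (hP : P ≤ S)
    (α : F.autGroup P) {x : Ω} (hx : x ∈ P) (hxU : x ∈ F.hyperfocalSubgroup p)
    (hs : IsSmall p x) (hne : x ≠ 1) :
    ∃ (A B : Subgroup Ω) (φ : A →* Ω), x ∈ A ∧ A ≤ P ∧ A ≤ F.hyperfocalSubgroup p ∧
      B ≤ F.hyperfocalSubgroup p ∧ IsCyclic A ∧ (Nat.card A = p ∨ Nat.card A = 4) ∧ IsCyclic B ∧
      (Nat.card B = p ∨ Nat.card B = 4) ∧ φ ∈ F.homSet A B ∧
      ∀ y : A, φ y = autFun (α : MulAut P) y := by
  have hU := hyp_stronglyClosed hS hF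
  have hm := isMap_of_mem_autGroup hP α.2
  have hle : Subgroup.zpowers x ≤ P := Subgroup.zpowers_le.2 hx
  have hr := hm.restrict hle
  have hne' : autFun (α : MulAut P) x ≠ 1 := fun h => hne (by
    have h2 : autFun ((α⁻¹ : F.autGroup P) : MulAut P) 1 = 1 :=
      (isMap_of_mem_autGroup hP (α⁻¹).2).map_one
    rw [← autFun_inv_apply (α : MulAut P) x, h, ← Subgroup.coe_inv, h2])
  have hpow : autFun (α : MulAut P) x ^ smallExp p = 1 := by
    rw [autFun_of_mem _ hx, ← Subgroup.coe_pow, ← map_pow,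
      show (⟨x, hx⟩ : P) ^ smallExp p = 1 from Subtype.ext (isSmall_iff.1 hs), map_one,
      Subgroup.coe_one]
  refine ⟨Subgroup.zpowers x, Subgroup.zpowers (autFun (α : MulAut P) x), hr.hom,
    Subgroup.mem_zpowers x, hle, Subgroup.zpowers_le.2 hxU,
    Subgroup.zpowers_le.2 (stronglyClosed_mem hU hm hx hxU), inferInstance,
    card_zpowers_of_isSmall hs hne, inferInstance,
    card_zpowers_of_isSmall (isSmall_iff.2 hpow) hne', ⟨hr.hom_mem_self, fun y => ?_⟩,
    fun y => rfl⟩
  obtain ⟨k, hk⟩ := Subgroup.mem_zpowers_iff.1 y.2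
  refine Subgroup.mem_zpowers_iff.2 ⟨k, ?_⟩
  show _ = autFun (α : MulAut P) (y : Ω)
  have h1 : (⟨(y : Ω), hle y.2⟩ : P) = (⟨x, hx⟩ : P) ^ k := Subtype.ext hk.symm
  rw [autFun_of_mem _ hx, autFun_of_mem _ (hle y.2), h1, map_zpow, Subgroup.coe_zpow]

/-- If `Aut_S(P)` lies in a normal `p`-subgroup for every essential `P`, then `S` is normal. -/
theorem isNormal_self_of (hS : IsPGroup p S) (hF : F.IsSaturated p)
    (h : ∀ P : Subgroup Ω, F.IsEssential p P → ∃ N : Subgroup (F.autGroup P),
      N.Normal ∧ IsPGroup p N ∧ (autInducedBy S P).subgroupOf (F.autGroup P) ≤ N) :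
    F.IsNormal S := by
  refine normal_of_invariant hS hF fun P hP => ?_
  rcases hP with rfl | hP
  · exact ⟨le_rfl, fun α _ => autFun_img α⟩
  exfalso
  have hlt : P < S := essential_lt hS hF hP
  have hfinP : Finite P := finite_of_le hlt.le
  obtain ⟨N, hN, hNp, hle⟩ := h P hP
  have hcore : N ≤ pCore p (F.autGroup P) :=
    le_sSup (show N ∈ {N : Subgroup (F.autGroup P) | N.Normal ∧ IsPGroup p N} from ⟨hN, hNp⟩)
  refine (lt_normalizerIn hS hlt).not_ge fun g hg =>
    le_of_le_pCore hP.1 (essential_radical hP hS) hg (hcore (hle ?_))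
  exact Subgroup.mem_subgroupOf.2 (mem_autInducedBy_iff'.2
    ⟨g, hg, fun x hx => conjAut_apply _ hx⟩)

end Cfsg.Agent.Fusion.SmallElements
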