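/-
A finite group realizing a system with a normal centric subgroup gives a model after dividing by a
normal subgroup of order prime to `p`.
-/
import Mathlib
import Cfsg.Agent.Lib.Fusion.SylIn
import Cfsg.Agent.Lib.Fusion.LocalModels

set_option autoImplicit false

namespace Cfsg.Agent.Fusion.QuotientModel

open Cfsg Cfsg.FusionSystem Cfsg.Agent.Fusion.Basic Cfsg.Agent.Fusion.Saturation
  Cfsg.Agent.Fusion.Normal Cfsg.Agent.Fusion.Model Cfsg.Agent.Fusion.ModelUnique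
  Cfsg.Agent.Fusion.SylIn

universe u

variable {Ω : Type u} [Group Ω] {T : Subgroup Ω} {N : FusionSystem T} {p : ℕ} {Q : Subgroup Ω}

theorem eq_one_of_pow_of_pow {G : Type*} [Group G] [Fact p.Prime] {x : G} {m k : ℕ}
    (hm : m.Coprime p) (h1 : x ^ m = 1) (h2 : x ^ p ^ k = 1) : x = 1 := by
  have h := pow_gcd_eq_one.2 ⟨h1, h2⟩
  rwa [(Nat.Coprime.pow_right k hm).gcd_eq_one, pow_one] at h

theorem eq_one_of_mem {G : Type*} [Group G] [Fact p.Prime] {A B : Subgroup G} [Finite B]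
    (hA : IsPGroup p A) (hB : (Nat.card B).Coprime p) {x : G} (hxA : x ∈ A) (hxB : x ∈ B) :
    x = 1 := by
  obtain ⟨k, hk⟩ := hA ⟨x, hxA⟩
  refine eq_one_of_pow_of_pow (p := p) (k := k) hB ?_ (by simpa using congrArg Subtype.val hk)
  exact congrArg Subtype.val (pow_card_eq_one' (x := (⟨x, hxB⟩ : B)))

/-- If `W` realizes `N` through `κ`, the image of the normal centric subgroup `Q` is normal and
that of `T` is a Sylow subgroup, then a quotient of `W` by a normal `p'`-subgroup has the data of a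
model. -/
theorem exists_quotient (st : Setting N p Q) {W : Type*} [Group W] [Finite W] (κ : T →* W)
    (hr : N.IsRealizedBy κ) (hidx : ¬ p ∣ κ.range.index)
    (hn : ∀ (g : W) (x : T), (x : Ω) ∈ Q → ∃ y : T, (y : Ω) ∈ Q ∧ κ y = g * κ x * g⁻¹) :
    ∃ (K : Subgroup W) (_ : K.Normal), (Nat.card K).Coprime p ∧
      (∀ k ∈ K, ∀ x : T, (x : Ω) ∈ Q → k * κ x * k⁻¹ = κ x) ∧
      MSetting N p Q ((QuotientGroup.mk' K).comp κ) := by
  have hfinT := st.finite
  have hp := st.prime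
  set A := κ.range with hA
  have hAp : IsPGroup p A :=
    st.pgroup.of_surjective κ.rangeRestrict κ.rangeRestrict_surjective
  have hSylA : SylIn p A ⊤ := ⟨le_top, hAp, by rwa [Subgroup.relIndex_top_right]⟩
  -- the centralizer of the image of `Q`
  set QW := (Q.subgroupOf T).map κ with hQW
  have hQWn : QW.Normal := ⟨fun y hy g => by
    obtain ⟨x, hx, rfl⟩ := hy
    exact hn g x hx⟩
  set C := Subgroup.centralizer (QW : Set W) with hC
  have hCn : C.Normal := Subgroup.normal_centralizer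
  have hAC : ∀ a ∈ A ⊓ C, ∀ c ∈ C, c * a = a * c ∧ a ∈ QW := by
    rintro a ⟨⟨t, rfl⟩, ht⟩ c hc
    have htQ : (t : Ω) ∈ Q := centric_centralizerIn_le st.centric ⟨t.2, fun q hq =>
      congrArg Subtype.val (hr.1 (by
        rw [map_mul, map_mul]
        exact ht (κ ⟨q, st.le hq⟩) ⟨⟨q, st.le hq⟩, hq, rfl⟩ :
        κ (⟨q, st.le hq⟩ * t) = κ (t * ⟨q, st.le hq⟩)))⟩
    exact ⟨(hc (κ t) ⟨t, htQ, rfl⟩).symm, t, htQ, rfl⟩
  have hSylC : SylIn p (A ⊓ C) C :=
    hSylA.inf_normal le_top (Subgroup.le_normalizer_of_normal (H := C))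
  set Z := (A ⊓ C).subgroupOf C with hZ
  have hZc : ∀ z ∈ Z, ∀ c : C, c * z = z * c := fun z hz c =>
    Subtype.ext (hAC z hz c c.2).1
  have hZn : Z.Normal := ⟨fun z hz c => by rwa [hZc z hz c, mul_inv_cancel_right]⟩
  have hZp : IsPGroup p Z := hSylC.2.1.comap_of_injective _ Subtype.val_injective
  have hcop : (Nat.card Z).Coprime Z.index := by
    obtain ⟨k, hk⟩ := IsPGroup.iff_card.1 hZp
    rw [hk]
    exact Nat.Coprime.pow_left _ (hp.out.coprime_iff_not_dvd.2 hSylC.2.2)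
  obtain ⟨H, hH⟩ := Subgroup.exists_right_complement'_of_coprime hcop
  have hHcard : (Nat.card H).Coprime p := by
    have h1 : Nat.card H = Z.index := hH.symm.index_eq_card.symm
    rw [h1]
    exact (hp.out.coprime_iff_not_dvd.2 hSylC.2.2).symm
  set K := H.map C.subtype with hK
  have hKcard : (Nat.card K).Coprime p := by
    rwa [Subgroup.card_map_of_injective C.subtype_injective]
  have hdec : ∀ c ∈ C, ∃ z ∈ A ⊓ C, ∃ k ∈ K, z * k = c := fun c hc => by
    obtain ⟨⟨z, h⟩, hzh⟩ := (hH.2) ⟨c, hc⟩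
    exact ⟨((z : C) : W), z.2, ((h : C) : W), ⟨h, h.2, rfl⟩, congrArg Subtype.val hzh⟩
  have hKC : K ≤ C := Subgroup.map_subtype_le _
  have hKn : K.Normal := ⟨fun k hk g => by
    obtain ⟨z, hz, k', hk', he⟩ := hdec _ (hCn.conj_mem _ (hKC hk) g)
    have hcomm : Commute z k' := ((hAC z hz k' (hKC hk')).1).symm
    have h1 : (g * k * g⁻¹) ^ Nat.card K = 1 := by
      rw [conj_pow, show k ^ Nat.card K = 1 by
        exact congrArg Subtype.val (pow_card_eq_one' (x := (⟨k, hk⟩ : K)))]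
      group
    have h2 : k' ^ Nat.card K = 1 := by
      exact congrArg Subtype.val (pow_card_eq_one' (x := (⟨k', hk'⟩ : K)))
    rw [← he, hcomm.mul_pow, h2, mul_one] at h1
    obtain ⟨j, hj⟩ := hSylC.2.1 ⟨z, hz⟩
    rw [← he, eq_one_of_pow_of_pow hKcard h1 (by simpa using congrArg Subtype.val hj), one_mul]
    exact hk'⟩
  have hKA : ∀ x ∈ A, x ∈ K → x = 1 := fun x hxA hxK => eq_one_of_mem hAp hKcard hxA hxK
  have hcent : ∀ k ∈ K, ∀ x : T, (x : Ω) ∈ Q → k * κ x * k⁻¹ = κ x := fun k hk x hx =>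
    mul_inv_eq_iff_eq_mul.2 ((hKC hk) (κ x) ⟨x, hx, rfl⟩).symm
  -- injectivity modulo `K`
  have hinjK : ∀ a b : T, (QuotientGroup.mk (κ a) : W ⧸ K) = QuotientGroup.mk (κ b) → a = b :=
    fun a b h => hr.1 (inv_mul_eq_one.1
      (hKA _ (A.mul_mem (A.inv_mem ⟨a, rfl⟩) ⟨b, rfl⟩) (QuotientGroup.eq.1 h)))
  refine ⟨K, hKn, hKcard, hcent, st, inferInstance,
    ⟨fun a b h => hinjK a b h, fun P hP φ hφ => ⟨fun h => ?_, ?_⟩⟩, fun g x hx => ?_, fun g hg => ?_⟩
  · obtain ⟨g, hg⟩ := (hr.2 P hP φ hφ).1 h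
    exact ⟨QuotientGroup.mk g, fun x => congrArg (QuotientGroup.mk' K) (hg x)⟩
  · rintro ⟨γ, hγ⟩
    obtain ⟨g, rfl⟩ := QuotientGroup.mk_surjective γ
    set M := img (cj g) ((P.subgroupOf T).map κ) with hM
    have hMle : M ≤ A ⊔ K := by
      refine img_le fun y hy => ?_
      obtain ⟨x, hx, rfl⟩ := hy
      have h1 : (κ ⟨φ ⟨(x : Ω), hx⟩, hφ _⟩)⁻¹ * (g * κ x * g⁻¹) ∈ K :=
        QuotientGroup.eq.1 (hγ ⟨(x : Ω), hx⟩)
      have hA' : κ ⟨φ ⟨(x : Ω), hx⟩, hφ _⟩ ∈ A := ⟨_, rfl⟩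
      have h2 := Subgroup.mul_mem _ (Subgroup.mem_sup_left (T := K) hA')
        (Subgroup.mem_sup_right h1)
      rwa [mul_inv_cancel_left] at h2
    have hMp : IsPGroup p M := isPGroup_img_cj ((st.pgroup.to_subgroup _).map κ)
    obtain ⟨m, hm, hmle⟩ := (hSylA.mono le_sup_left le_top).exists_conj hMle hMp
    obtain ⟨a, ha, k, hk, rfl⟩ := Subgroup.mem_sup_of_normal_right.1 hm
    refine (hr.2 P hP φ hφ).2 ⟨k * g, fun x => ?_⟩
    obtain ⟨t, ht⟩ : k * g * κ ⟨x, hP x.2⟩ * (k * g)⁻¹ ∈ A := by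
      have h1 := hmle (mem_img_self (cj (a * k)) (mem_img_self (cj g)
        (⟨⟨x, hP x.2⟩, x.2, rfl⟩ : κ ⟨x, hP x.2⟩ ∈ (P.subgroupOf T).map κ)))
      have h2 := A.mul_mem (A.mul_mem (A.inv_mem ha) h1) ha
      simpa [cj, mul_assoc] using h2
    rw [← ht]
    refine congrArg κ (hinjK _ _ ?_)
    refine (hγ x).trans ?_
    rw [ht]
    simp [(QuotientGroup.eq_one_iff k).2 hk]
  · obtain ⟨g, rfl⟩ := QuotientGroup.mk_surjective g
    obtain ⟨y, hy, hye⟩ := hn g x hx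
    exact ⟨y, hy, congrArg (QuotientGroup.mk' K) hye⟩
  · obtain ⟨g, rfl⟩ := QuotientGroup.mk_surjective g
    have hgC : g ∈ C := fun y hy => by
      obtain ⟨x, hx, rfl⟩ := hy
      obtain ⟨y, hy, hye⟩ := hn g x hx
      have h1 : y = x := hinjK _ _ ((congrArg (QuotientGroup.mk' K) hye).trans (hg x hx))
      rw [h1] at hye
      exact (mul_inv_eq_iff_eq_mul.1 hye.symm).symm
    obtain ⟨z, hz, k, hk, he⟩ := hdec g hgC
    obtain ⟨t, ht, rfl⟩ := (hAC z hz z hz.2).2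
    refine ⟨t, ht, ?_⟩
    rw [← he, QuotientGroup.mk_mul, (QuotientGroup.eq_one_iff k).2 hk, mul_one]
    rfl

end Cfsg.Agent.Fusion.QuotientModel
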