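/-
Section freeness passes to quotients by normal subgroups.
-/
import Mathlib
import Cfsg.Agent.Lib.Fusion.QuotientModel
import Cfsg.Agent.Lib.Fusion.Factor

set_option autoImplicit false

namespace Cfsg.Agent.Fusion.SectionFreeQuot

open Cfsg Cfsg.FusionSystem Cfsg.Agent.Fusion.Basic Cfsg.Agent.Fusion.Saturation
  Cfsg.Agent.Fusion.Normal Cfsg.Agent.Fusion.Factor Cfsg.Agent.Fusion.Model
  Cfsg.Agent.Fusion.ModelUnique Cfsg.Agent.Fusion.LocalModels

universe u v

variable {Ω : Type u} [Group Ω] {S : Subgroup Ω} {F : FusionSystem S} {p : ℕ} {Q : Subgroup Ω}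
  {Ω' : Type v} [Group Ω'] {S' : Subgroup Ω'} {E : FusionSystem S'} {θ : S →* Ω'}

theorem preimage_ne (hq : IsQuot F Q θ E) (R' : Subgroup Ω') {x : Ω}
    (hx : x ∈ normalizerIn S (preimageAlong θ R')) (hR' : R' ≤ S') (hfin : Finite R') :
    along θ x ∈ normalizerIn S' R' := by
  refine ⟨along_mem hq.range_eq hx.1, mem_normalizer_of_forall fun y hy => ?_⟩
  obtain ⟨r, hr, rfl⟩ := exists_along_eq hq.range_eq (hR' hy)
  have h1 := (Subgroup.mem_normalizer_iff.1 hx.2 r).1 (mem_preimageAlong.2 ⟨hr, hy⟩)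
  have h2 := (mem_preimageAlong.1 h1).2
  rwa [along_mul θ (S.mul_mem hx.1 hr) (S.inv_mem hx.1), along_mul θ hx.1 hr,
    along_inv θ hx.1] at h2

theorem mem_normalizer_preimage [Finite S] {R' : Subgroup Ω'} {x : Ω} (hx : x ∈ S)
    (h : along θ x ∈ Subgroup.normalizer (R' : Set Ω')) :
    x ∈ normalizerIn S (preimageAlong θ R') := by
  have : Finite (preimageAlong θ R') := finite_of_le (preimageAlong_le _)
  refine ⟨hx, mem_normalizer_of_forall fun r hr => ?_⟩
  obtain ⟨hrS, hr'⟩ := mem_preimageAlong.1 hr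
  refine mem_preimageAlong.2 ⟨S.mul_mem (S.mul_mem hx hrS) (S.inv_mem hx), ?_⟩
  rw [along_mul θ (S.mul_mem hx hrS) (S.inv_mem hx), along_mul θ hx hrS, along_inv θ hx]
  exact (Subgroup.mem_normalizer_iff.1 h _).1 hr'

theorem mem_img_of_along (hq : IsQuot F Q θ E) (hQn : F.IsNormal Q) {X : Subgroup Ω}
    {f : Ω → Ω} (hf : IsMap F X f) (hQX : Q ≤ X) {x y : Ω} (hy : y ∈ X) (hx : x ∈ S)
    (h : along θ (f y) = along θ x) : x ∈ img f X := by
  have h1 : (f y)⁻¹ * x ∈ img f X := by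
    have h2 := (along_eq_iff hq.ker_iff (hf.mem hy) hx).1 h
    rw [← normal_img_eq hQn hf hQX] at h2
    exact img_mono f hQX h2
  simpa using Subgroup.mul_mem _ (mem_img_self f hy) h1

variable [Finite S] [Fact p.Prime]

omit [Finite S] [Fact p.Prime] in
theorem centric_preimage (hq : IsQuot F Q θ E) (hQn : F.IsNormal Q) {R' : Subgroup Ω'}
    (hR' : E.IsCentric R') : F.IsCentric (preimageAlong θ R') := by
  refine ⟨preimageAlong_le _, fun R₂ hR₂ => ?_⟩
  obtain ⟨f, hf, rfl⟩ := isConj_iff_map.1 hR₂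
  obtain ⟨f', hf', hrel⟩ := hq.descend R' f hR'.1 hf
  have hC := hR'.2 _ hf'.isConj
  intro x hx
  have h1 : along θ x ∈ centralizerIn S' (img f' R') := by
    refine ⟨along_mem hq.range_eq hx.1, fun z hz => ?_⟩
    obtain ⟨w, hw, rfl⟩ := hf'.mem_img.1 hz
    obtain ⟨r, hr, rfl⟩ := exists_along_eq hq.range_eq (hR'.1 hw)
    have hrP : r ∈ preimageAlong θ R' := mem_preimageAlong.2 ⟨hr, hw⟩
    rw [hrel r hrP, ← along_mul θ (hf.mem hrP) hx.1, ← along_mul θ hx.1 (hf.mem hrP),
      hx.2 _ (mem_img_self f hrP)]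
  obtain ⟨w, hw, hwe⟩ := hf'.mem_img.1 (hC h1)
  obtain ⟨r, hr, rfl⟩ := exists_along_eq hq.range_eq (hR'.1 hw)
  have hrP : r ∈ preimageAlong θ R' := mem_preimageAlong.2 ⟨hr, hw⟩
  exact mem_img_of_along hq hQn hf (hq.le_preimage R') hrP hx.1
    ((hrel r hrP).symm.trans hwe)

theorem fullyNormalized_preimage (hS : IsPGroup p S) (hF : F.IsSaturated p)
    (hq : IsQuot F Q θ E) (hQn : F.IsNormal Q) {R' : Subgroup Ω'}
    (hR' : E.IsFullyNormalized R') : F.IsFullyNormalized (preimageAlong θ R') := by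
  have hfinS' := hq.finite
  set R := preimageAlong θ R' with hR
  have hRS : R ≤ S := preimageAlong_le _
  obtain ⟨R₂, hRR₂, hR₂⟩ := exists_fullyNormalized (F := F) hRS
  obtain ⟨g, hg, hgR⟩ := exists_map_to_fullyNormalized hS hF hR₂ hRR₂
  have hle : preimageAlong θ (normalizerIn S' R') ≤ normalizerIn S R := fun x hx =>
    mem_normalizer_preimage (preimageAlong_le _ hx) (mem_preimageAlong.1 hx).2.2
  obtain ⟨g', hg', hrel⟩ :=
    hq.descend (normalizerIn S' R') g normalizerIn_le (hg.restrict hle)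
  have hfin : Finite R' := finite_of_le hR'.1
  have hR'N : R' ≤ normalizerIn S' R' := le_normalizerIn hR'.1
  have hRN : ∀ r ∈ R, r ∈ preimageAlong θ (normalizerIn S' R') := fun r hr =>
    mem_preimageAlong.2 ⟨hRS hr, hR'N (mem_preimageAlong.1 hr).2⟩
  -- the image of `R'` corresponds to `R₂`
  have himg : ∀ r ∈ R, along θ (g r) ∈ img g' R' := fun r hr => by
    rw [← hrel r (hRN r hr)]
    exact mem_img_self g' (mem_preimageAlong.1 hr).2
  have himg' : ∀ z ∈ img g' R', ∃ r ∈ R, along θ (g r) = z := by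
    intro z hz
    obtain ⟨w, hw, rfl⟩ := (hg'.restrict hR'N).mem_img.1 hz
    obtain ⟨r, hr, rfl⟩ := exists_along_eq hq.range_eq (hR'.1 hw)
    have hrR : r ∈ R := mem_preimageAlong.2 ⟨hr, hw⟩
    exact ⟨r, hrR, (hrel r (hRN r hrR)).symm⟩
  have hfin₂ : Finite (img g' R') := finite_of_le ((hg'.restrict hR'N).img_le_S)
  have hN₂ : ∀ x ∈ normalizerIn S R₂, along θ x ∈ normalizerIn S' (img g' R') := by
    intro x hx
    refine ⟨along_mem hq.range_eq hx.1, mem_normalizer_of_forall fun z hz => ?_⟩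
    obtain ⟨r, hr, rfl⟩ := himg' z hz
    have hgr : g r ∈ S := (hg.restrict (le_normalizerIn hRS)).mem hr
    have h1 := (Subgroup.mem_normalizer_iff.1 hx.2 _).1 (hgR.le (mem_img_self g hr))
    obtain ⟨r₂, hr₂, hre⟩ := (hg.restrict (le_normalizerIn hRS)).mem_img.1 (hgR.ge h1)
    have h2 := himg r₂ hr₂
    rwa [hre, along_mul θ (S.mul_mem hx.1 hgr) (S.inv_mem hx.1), along_mul θ hx.1 hgr,
      along_inv θ hx.1] at h2
  have hsurj : img g' (normalizerIn S' R') = normalizerIn S' (img g' R') := by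
    have := finite_of_le (normalizerIn_le (S := S') (P := img g' R'))
    refine eq_of_le_card (hg'.img_normalizerIn_le hR'N le_rfl) ?_
    rw [hg'.card_img]
    exact hR'.2 _ (hg'.restrict hR'N).isConj
  have hsub : normalizerIn S R₂ ≤ img g (normalizerIn S R) := by
    intro x hx
    obtain ⟨w, hw, hwe⟩ := hg'.mem_img.1 (hsurj.ge (hN₂ x hx))
    obtain ⟨y, hy, rfl⟩ := exists_along_eq hq.range_eq (normalizerIn_le hw)
    have hyP : y ∈ preimageAlong θ (normalizerIn S' R') := mem_preimageAlong.2 ⟨hy, hw⟩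
    exact mem_img_of_along hq hQn hg ((hq.le_preimage R').trans (le_normalizerIn hRS)) (hle hyP)
      hx.1 ((hrel y hyP).symm.trans hwe)
  refine ⟨hRS, fun R₃ hR₃ => ?_⟩
  have h1 := hR₂.2 R₃ (isConj_trans (isConj_symm hRR₂) hR₃)
  have hfinimg : Finite (img g (normalizerIn S R)) := finite_of_le hg.img_le_S
  have h2 := card_le_card hsub
  rw [hg.card_img] at h2
  exact h1.trans h2

theorem sectionFree_quot (hS : IsPGroup p S) (hF : F.IsSaturated p) {H : Type*} [Group H]
    (hQn : F.IsNormal Q) (hq : IsQuot F Q θ E) (hfree : F.IsSectionFree p H) :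
    E.IsSectionFree p H := by
  intro R' hR'n hR'c M hM L' _ ι' hL' hinv
  have hfinS' := hq.finite
  have hS'p := hq.isPGroup hS
  have hEs := hq.saturated hS hF
  have hfin' : Finite R' := finite_of_le hR'c.1
  set R := preimageAlong θ R' with hR
  have hRS : R ≤ S := preimageAlong_le _
  have hQR : Q ≤ R := hq.le_preimage R'
  have hRn : F.IsFullyNormalized R := fullyNormalized_preimage hS hF hq hQn hR'n
  have hRc : F.IsCentric R := centric_preimage hq hQn hR'c
  obtain ⟨N, hN, L, _, ι, hL⟩ := NormalizerModel.exists_normalizer_model hS hF hRn hRc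
  have hfinT : Finite (normalizerIn S R) := finite_of_le normalizerIn_le
  have m : MSetting N p R ι := mSetting_of_normal (hS.to_le normalizerIn_le) hL
    (NormalizerModel.isNormal hN hRS) (NormalizerModel.isCentric hN hRc)
  have := m.finite
  -- the quotient group
  set QL : Subgroup L := (Q.subgroupOf (normalizerIn S R)).map ι with hQL
  have hQT : Q ≤ (normalizerIn S R) := hQR.trans (le_normalizerIn hRS)
  have hQLn : QL.Normal := ⟨fun y hy g => by
    obtain ⟨q, hq', rfl⟩ := hy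
    have hmap := NormalizerModel.isMap_le hN (isMap_of_mem_autGroup m.setting.le (actHom m g).2)
    refine ⟨⟨autFun (actHom m g : MulAut R) q, m.setting.le (autFun_mem _ (hQR hq'))⟩, ?_,
      actHom_spec m g (hQR hq')⟩
    exact (normal_img_eq hQn hmap hQR).le
      (mem_img_self (autFun (actHom m g : MulAut R)) (hq' : (q : Ω) ∈ Q))⟩
  have hmemQ : ∀ t : (normalizerIn S R), ι t ∈ QL ↔ (t : Ω) ∈ Q := fun t =>
    ⟨fun ⟨q, hq', he⟩ => by rwa [← m.realized.1 he], fun h => ⟨t, h, rfl⟩⟩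
  let θT : (normalizerIn S R) →* (normalizerIn S' R') := MonoidHom.mk' (fun t => ⟨along θ t, preimage_ne hq R' t.2 hR'c.1 hfin'⟩)
    fun a b => Subtype.ext (along_mul θ a.2.1 b.2.1)
  have hθT : Function.Surjective θT := by
    rintro ⟨y, hy⟩
    obtain ⟨x, hx, rfl⟩ := exists_along_eq hq.range_eq hy.1
    exact ⟨⟨x, mem_normalizer_preimage hx hy.2⟩, rfl⟩
  have hθker : ∀ t : (normalizerIn S R), θT t = 1 ↔ (t : Ω) ∈ Q := by
    intro t
    rw [← hq.ker_iff ⟨t, t.2.1⟩, Subtype.ext_iff]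
    show along θ t = 1 ↔ _
    rw [along_of_mem θ t.2.1]
  have hkerle : θT.ker ≤ ((QuotientGroup.mk' QL).comp ι).ker := fun t ht =>
    (QuotientGroup.eq_one_iff _).2 ((hmemQ t).2 ((hθker t).1 ht))
  let κ : (normalizerIn S' R') →* L ⧸ QL :=
    MonoidHom.liftOfSurjective θT hθT ⟨(QuotientGroup.mk' QL).comp ι, hkerle⟩
  have hκ : ∀ t : (normalizerIn S R), κ (θT t) = QuotientGroup.mk (ι t) := fun t =>
    MonoidHom.liftOfRightInverse_comp_apply θT _ (Function.rightInverse_surjInv hθT)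
      ⟨(QuotientGroup.mk' QL).comp ι, hkerle⟩ t
  have hκinj : Function.Injective κ := by
    rw [injective_iff_map_eq_one]
    intro y hy
    obtain ⟨t, rfl⟩ := hθT y
    rw [hκ, QuotientGroup.eq_one_iff, hmemQ] at hy
    exact (hθker t).2 hy
  have hR'T : R' ≤ (normalizerIn S' R') := le_normalizerIn hR'c.1
  have hRT : R ≤ (normalizerIn S R) := le_normalizerIn hRS
  have st : Setting M p R' := by
    refine ⟨finite_of_le normalizerIn_le, inferInstance, hS'p.to_le normalizerIn_le, ?_,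
      NormalizerModel.isNormal hM hR'c.1, NormalizerModel.isCentric hM hR'c⟩
    exact KNormalizer.normalizerSystem_saturated hS'p hEs hR'n hM
  have hfinT' := st.finite
  have hreal : M.IsRealizedBy κ := by
    refine ⟨hκinj, fun P' hP' φ hφ => ⟨fun h => ?_, ?_⟩⟩
    · obtain ⟨-, -, g', hg', he, hgR⟩ := (NormalizerModel.isMap_iff hM).1 (IsMap.of_hom h)
      obtain ⟨g, hg, hrel⟩ := hq.lift _ g' hg'
      set X := preimageAlong θ (P' ⊔ R') with hX
      have hRX : R ≤ X := fun r hr => mem_preimageAlong.2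
        ⟨hRS hr, Subgroup.mem_sup_right (mem_preimageAlong.1 hr).2⟩
      have hXT : X ≤ (normalizerIn S R) := fun x hx => mem_normalizer_preimage (preimageAlong_le _ hx)
        ((sup_le hP' hR'T) (mem_preimageAlong.1 hx).2).2
      have hg'T : ∀ y ∈ P' ⊔ R', g' y ∈ (normalizerIn S' R') := by
        have h1 : img g' (P' ⊔ R') ≤ (normalizerIn S' R') := by
          rw [hg'.img_sup, hgR]
          refine sup_le (img_le fun y hy => ?_) hR'T
          rw [he y hy, ext_of_mem φ hy]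
          exact hφ _
        exact fun y hy => h1 (mem_img_self g' hy)
      have hgT : ∀ x ∈ X, g x ∈ (normalizerIn S R) := fun x hx => mem_normalizer_preimage (hg.mem hx)
        (hrel x hx ▸ (hg'T _ (mem_preimageAlong.1 hx).2).2)
      have hgR' : img g R = R := by
        have : Finite R := finite_of_le hRS
        refine eq_of_le_card (img_le fun r hr => mem_preimageAlong.2 ⟨hg.mem (hRX hr), ?_⟩)
          (hg.restrict hRX).card_img.ge
        rw [← hrel r (hRX hr)]
        exact hgR.le (mem_img_self g' (mem_preimageAlong.1 hr).2)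
      have hgN : IsMap N X g := (NormalizerModel.isMap_iff hN).2
        ⟨hXT, hgT, g, by rwa [sup_eq_left.2 hRX], fun _ _ => rfl, hgR'⟩
      obtain ⟨k, hk⟩ := (m.realized.2 X hXT hgN.hom fun x => hgN.mem x.2).1 hgN.hom_mem_self
      refine ⟨QuotientGroup.mk k, fun y => ?_⟩
      obtain ⟨⟨x, hxT⟩, hx⟩ := hθT ⟨y, hP' y.2⟩
      have hxy : along θ x = y := congrArg Subtype.val hx
      have hxX : x ∈ X := mem_preimageAlong.2 ⟨hxT.1, by rw [hxy]; exact Subgroup.mem_sup_left y.2⟩
      have e1 : θT ⟨g x, hgT x hxX⟩ = ⟨φ y, hφ y⟩ := Subtype.ext (by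
        show along θ (g x) = φ y
        rw [← hrel x hxX, hxy, he y y.2, ext_apply])
      rw [← e1, ← hx, hκ, hκ]
      exact congrArg (QuotientGroup.mk' QL) (hk ⟨x, hxX⟩)
    · rintro ⟨γ, hγ⟩
      obtain ⟨k, rfl⟩ := QuotientGroup.mk_surjective γ
      set X := preimageAlong θ P' with hX
      have hXT : X ≤ (normalizerIn S R) := fun x hx => mem_normalizer_preimage (preimageAlong_le _ hx)
        (hP' (mem_preimageAlong.1 hx).2).2
      have hval : ∀ x : X, ∃ t : (normalizerIn S R), ι t = k * ι ⟨x, hXT x.2⟩ * k⁻¹ ∧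
          θT t = ⟨φ ⟨along θ x, (mem_preimageAlong.1 x.2).2⟩, hφ _⟩ := by
        intro x
        obtain ⟨t, ht⟩ := hθT ⟨φ ⟨along θ x, (mem_preimageAlong.1 x.2).2⟩, hφ _⟩
        have h1 : (QuotientGroup.mk (ι t) : L ⧸ QL) =
            QuotientGroup.mk (k * ι ⟨x, hXT x.2⟩ * k⁻¹) := by
          rw [← hκ, ht]
          refine (hγ ⟨along θ x, (mem_preimageAlong.1 x.2).2⟩).trans ?_
          rw [show (⟨along θ x, hP' (mem_preimageAlong.1 x.2).2⟩ : (normalizerIn S' R')) = θT ⟨x, hXT x.2⟩ from rfl,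
            hκ]
          rfl
        obtain ⟨q, hq', hqe⟩ := QuotientGroup.eq.1 h1
        refine ⟨t * q, by rw [map_mul, hqe, mul_inv_cancel_left], ?_⟩
        rw [map_mul, (hθker q).2 hq', mul_one, ht]
      choose t ht htθ using hval
      let χ : X →* Ω := (normalizerIn S R).subtype.comp (MonoidHom.mk' t fun a b => m.realized.1 (by
        rw [map_mul, ht, ht, ht,
          show (⟨((a * b : X) : Ω), hXT (a * b).2⟩ : (normalizerIn S R)) = ⟨a, hXT a.2⟩ * ⟨b, hXT b.2⟩ from rfl,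
          map_mul]
        group))
      have hχ : χ ∈ N.Hom X := (m.realized.2 X hXT χ fun x => (t x).2).2 ⟨k, fun x => ht x⟩
      obtain ⟨-, -, g, hg, hge, hgR⟩ := (NormalizerModel.isMap_iff hN).1 (IsMap.of_hom hχ)
      have hle : preimageAlong θ (P' ⊔ R') ≤ X ⊔ R := by
        intro x hx
        obtain ⟨hxS, hx'⟩ := mem_preimageAlong.1 hx
        have h1 : P' ⊔ R' ≤ imageAlong θ (X ⊔ R) := by
          refine sup_le (fun y hy => ?_) fun y hy => ?_
          · obtain ⟨z, hz, rfl⟩ := exists_along_eq hq.range_eq (hP' hy).1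
            exact mem_imageAlong.2
              ⟨z, Subgroup.mem_sup_left (mem_preimageAlong.2 ⟨hz, hy⟩), hz, rfl⟩
          · obtain ⟨z, hz, rfl⟩ := exists_along_eq hq.range_eq (hR'c.1 hy)
            exact mem_imageAlong.2
              ⟨z, Subgroup.mem_sup_right (mem_preimageAlong.2 ⟨hz, hy⟩), hz, rfl⟩
        obtain ⟨z, hz, hzS, hze⟩ := mem_imageAlong.1 (h1 hx')
        have h2 := (along_eq_iff hq.ker_iff hzS hxS).1 hze
        simpa using Subgroup.mul_mem _ hz (Subgroup.mem_sup_right (hQR h2))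
      have hS'sup : P' ⊔ R' ≤ S' := sup_le (hP'.trans normalizerIn_le) hR'c.1
      obtain ⟨g', hg', hrel⟩ := hq.descend (P' ⊔ R') g hS'sup (hg.restrict hle)
      have hR'img : img g' R' = R' := by
        refine eq_of_le_card (img_le fun y hy => ?_) (hg'.restrict le_sup_right).card_img.ge
        obtain ⟨z, hz, rfl⟩ := exists_along_eq hq.range_eq (hR'c.1 hy)
        rw [hrel z (mem_preimageAlong.2 ⟨hz, Subgroup.mem_sup_right hy⟩)]
        exact (mem_preimageAlong.1
          (hgR.le (mem_img_self g (mem_preimageAlong.2 ⟨hz, hy⟩)))).2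
      have hval' : ∀ (y : Ω') (hy : y ∈ P'), g' y = φ ⟨y, hy⟩ := by
        intro y hy
        obtain ⟨z, hz, rfl⟩ := exists_along_eq hq.range_eq (hP' hy).1
        have hzX : z ∈ X := mem_preimageAlong.2 ⟨hz, hy⟩
        rw [hrel z (mem_preimageAlong.2 ⟨hz, Subgroup.mem_sup_left hy⟩), hge z hzX,
          ext_of_mem χ hzX]
        exact congrArg Subtype.val (htθ ⟨z, hzX⟩)
      refine IsMap.hom_mem (f := g') ((NormalizerModel.isMap_iff hM).2
        ⟨hP', fun y hy => ?_, g', hg', fun _ _ => rfl, hR'img⟩) fun y => (hval' y y.2).symm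
      rw [hval' y hy]
      exact hφ _
  have hidx : ¬ p ∣ κ.range.index := by
    have h1 : κ.range = ι.range.map (QuotientGroup.mk' QL) := by
      ext y
      constructor
      · rintro ⟨t', rfl⟩
        obtain ⟨t, rfl⟩ := hθT t'
        exact ⟨ι t, ⟨t, rfl⟩, (hκ t).symm⟩
      · rintro ⟨_, ⟨t, rfl⟩, rfl⟩
        exact ⟨θT t, hκ t⟩
    rw [h1]
    exact fun h => not_dvd_index m
      (h.trans (Subgroup.index_map_dvd _ (QuotientGroup.mk'_surjective QL)))
  have hn : ∀ (g : L ⧸ QL) (x : (normalizerIn S' R')), (x : Ω') ∈ R' →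
      ∃ y : (normalizerIn S' R'), (y : Ω') ∈ R' ∧ κ y = g * κ x * g⁻¹ := by
    intro g x hx
    obtain ⟨g, rfl⟩ := QuotientGroup.mk_surjective g
    obtain ⟨⟨z, hzT⟩, rfl⟩ := hθT x
    obtain ⟨y, hy, hye⟩ := m.normal g ⟨z, hzT⟩ (mem_preimageAlong.2 ⟨hzT.1, hx⟩)
    refine ⟨θT y, (mem_preimageAlong.1 hy).2, ?_⟩
    rw [hκ, hκ]
    exact congrArg (QuotientGroup.mk' QL) hye
  obtain ⟨K, hKn, -, -, m'⟩ := QuotientModel.exists_quotient st κ hreal hidx hn
  obtain ⟨e, -⟩ := exists_iso (mSetting_of_normal (hS'p.to_le normalizerIn_le) hL'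
    (NormalizerModel.isNormal hM hR'c.1) (NormalizerModel.isCentric hM hR'c)) m'
  exact hfree R hRn hRc N hN L ι hL (involves_of_surjective (QuotientGroup.mk' QL)
    (QuotientGroup.mk'_surjective QL) (involves_of_surjective (QuotientGroup.mk' K)
      (QuotientGroup.mk'_surjective K) (involves_of_injective e.toMonoidHom e.injective hinv)))

end Cfsg.Agent.Fusion.SectionFreeQuot
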