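/-
p-stability of fusion systems: the group case and the reduction to normalizer systems.
-/
import Mathlib
import Cfsg.Agent.Lib.Fusion.Group
import Cfsg.Agent.Lib.Fusion.KNormalizer
import Cfsg.Agent.Lib.PLocal.StableFusion

set_option autoImplicit false
set_option linter.all false

namespace Cfsg.Agent.Fusion.Stable

open Cfsg Cfsg.FusionSystem Cfsg.Agent.Fusion.Basic Cfsg.Agent.Fusion.Saturation
  Cfsg.Agent.Fusion.KNormalizer Cfsg.Agent.Fusion.Group
open Cfsg.Agent.PLocal.StableFusion (PAct stable_iff)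
open scoped commutatorElement

variable {Ω : Type*} [Group Ω]

/-- The action is quadratic. -/
def Quad {Q : Subgroup Ω} (χ : MulAut ↥Q) : Prop :=
  ∀ a : ↥Q, χ a⁻¹ * a * χ a⁻¹ * χ (χ a) = 1

theorem quad_iff {Q : Subgroup Ω} {χ : MulAut ↥Q} :
    Quad χ ↔ ∀ a : ↥Q, χ (a⁻¹ * χ a) = a⁻¹ * χ a := by
  refine forall_congr' fun a => ?_
  rw [map_mul, map_inv]
  constructor
  · intro h
    calc (χ a)⁻¹ * χ (χ a) = a⁻¹ * χ a * ((χ a)⁻¹ * a * (χ a)⁻¹ * χ (χ a)) := by group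
      _ = a⁻¹ * χ a := by rw [h, mul_one]
  · intro h
    calc (χ a)⁻¹ * a * (χ a)⁻¹ * χ (χ a) = (χ a)⁻¹ * a * ((χ a)⁻¹ * χ (χ a)) := by group
      _ = 1 := by rw [h]; group

/-- The automorphism of `Q` induced by an element of its normalizer. -/
def conjAut (Q : Subgroup Ω) : ↥(Subgroup.normalizer (Q : Set Ω)) →* MulAut ↥Q where
  toFun n :=
    { toFun := fun x => ⟨(n : Ω) * x * (n : Ω)⁻¹, (Subgroup.mem_normalizer_iff.mp n.2 x).mp x.2⟩
      invFun := fun x => ⟨(n : Ω)⁻¹ * x * n, (Subgroup.mem_normalizer_iff''.mp n.2 x).mp x.2⟩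
      left_inv := fun x => Subtype.ext (by
        show (n : Ω)⁻¹ * ((n : Ω) * x * (n : Ω)⁻¹) * n = x; group)
      right_inv := fun x => Subtype.ext (by
        show (n : Ω) * ((n : Ω)⁻¹ * x * n) * (n : Ω)⁻¹ = x; group)
      map_mul' := fun x y => Subtype.ext (by
        show (n : Ω) * ((x : Ω) * y) * (n : Ω)⁻¹ =
          (n : Ω) * x * (n : Ω)⁻¹ * ((n : Ω) * y * (n : Ω)⁻¹)
        group) }
  map_one' := MulEquiv.ext fun x => Subtype.ext (by
    show (1 : Ω) * x * (1 : Ω)⁻¹ = x; group)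
  map_mul' m n := MulEquiv.ext fun x => Subtype.ext (by
    show (m : Ω) * n * x * ((m : Ω) * n)⁻¹ = (m : Ω) * ((n : Ω) * x * (n : Ω)⁻¹) * (m : Ω)⁻¹
    group)

theorem conjAut_apply {Q : Subgroup Ω} (n : ↥(Subgroup.normalizer (Q : Set Ω))) (x : ↥Q) :
    ((conjAut Q n x : ↥Q) : Ω) = (n : Ω) * x * (n : Ω)⁻¹ := rfl

theorem conjAut_eq_one {Q : Subgroup Ω} {n : ↥(Subgroup.normalizer (Q : Set Ω))} :
    conjAut Q n = 1 ↔ (n : Ω) ∈ Subgroup.centralizer (Q : Set Ω) := by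
  constructor
  · intro h x hx
    have := congrArg (fun e : MulAut ↥Q => ((e ⟨x, hx⟩ : ↥Q) : Ω)) h
    exact (mul_inv_eq_iff_eq_mul.mp this).symm
  · intro h
    refine MulEquiv.ext fun x => Subtype.ext ?_
    show (n : Ω) * x * (n : Ω)⁻¹ = x
    rw [← h x x.2, mul_inv_cancel_right]

theorem quad_conjAut [Finite Ω] {Q : Subgroup Ω} (n : ↥(Subgroup.normalizer (Q : Set Ω))) :
    Quad (conjAut Q n) ↔
      ⁅⁅Q, Subgroup.zpowers (n : Ω)⁆, Subgroup.zpowers (n : Ω)⁆ = ⊥ := by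
  set g : Ω := (n : Ω) with hg
  have key : ∀ a : ↥Q, conjAut Q n (a⁻¹ * conjAut Q n a) = a⁻¹ * conjAut Q n a ↔
      g * ⁅(a : Ω)⁻¹, g⁆ = ⁅(a : Ω)⁻¹, g⁆ * g := by
    intro a
    rw [Subtype.ext_iff, conjAut_apply, Subgroup.coe_mul, Subgroup.coe_inv, conjAut_apply,
      mul_inv_eq_iff_eq_mul, commutatorElement_def, inv_inv,
      show (a : Ω)⁻¹ * g * a * g⁻¹ = (a : Ω)⁻¹ * (g * a * g⁻¹) by group]
  rw [quad_iff, forall_congr' key, Subgroup.commutator_eq_bot_iff_le_centralizer]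
  constructor
  · intro h
    have hall : ∀ (m : ℕ) (a : Ω), a ∈ Q → ⁅a, g ^ m⁆ ∈ Subgroup.centralizer ({g} : Set Ω) := by
      intro m
      induction m with
      | zero => intro a _; rw [pow_zero, commutatorElement_one_right]; exact one_mem _
      | succ m ih =>
        intro a ha
        have e : ⁅a, g ^ (m + 1)⁆ = ⁅a, g⁆ * (g * ⁅a, g ^ m⁆ * g⁻¹) := by
          rw [pow_succ']; simp only [commutatorElement_def]; group
        have h1 := h ⟨a⁻¹, inv_mem ha⟩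
        rw [inv_inv] at h1
        have h2 : g * ⁅a, g ^ m⁆ * g⁻¹ = ⁅a, g ^ m⁆ :=
          mul_inv_eq_iff_eq_mul.mpr (Subgroup.mem_centralizer_singleton_iff.mp (ih a ha)).symm
        rw [e, h2]
        exact mul_mem (Subgroup.mem_centralizer_singleton_iff.mpr h1.symm) (ih a ha)
    refine Subgroup.commutator_le.mpr fun a ha z hz => ?_
    obtain ⟨m, rfl⟩ := Submonoid.mem_powers_iff _ _ |>.mp (mem_powers_iff_mem_zpowers.mpr hz)
    intro y hy
    obtain ⟨i, rfl⟩ := Subgroup.mem_zpowers_iff.mp hy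
    exact ((show Commute g ⁅a, g ^ m⁆ from
      (Subgroup.mem_centralizer_singleton_iff.mp (hall m a ha)).symm).zpow_left i).eq
  · intro h a
    exact h (Subgroup.commutator_mem_commutator (inv_mem a.2) (Subgroup.mem_zpowers g)) g
      (Subgroup.mem_zpowers g)

/-- `O_p` of the automizer, seen as automorphisms. -/
def autCore (p : ℕ) {S : Subgroup Ω} (F : FusionSystem S) (Q : Subgroup Ω) : Subgroup (MulAut ↥Q) :=
  (pCore p ↥(F.autGroup Q)).map (F.autGroup Q).subtype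

section group

variable [Finite Ω] {p : ℕ} [Fact p.Prime]

theorem pact_iff {S Q : Subgroup Ω} (hQ : Q ≤ S) {g : Ω}
    (hg : g ∈ Subgroup.normalizer (Q : Set Ω)) :
    PAct p Q g ↔ conjAut Q ⟨g, hg⟩ ∈ autCore p (groupFusionSystem S) Q := by
  set A := (groupFusionSystem S).autGroup Q with hA
  have hmem : ∀ n, conjAut Q n ∈ A := fun n => by
    rw [hA, autGroup_group hQ, mem_autInducedBy_iff']
    exact ⟨n, ⟨Subgroup.mem_top _, n.2⟩, fun x hx => by rw [autFun_of_mem _ hx]; rfl⟩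
  let ψ : ↥(Subgroup.normalizer (Q : Set Ω)) →* ↥A := (conjAut Q).codRestrict A hmem
  have hψ : Function.Surjective ψ := by
    rintro ⟨α, hα⟩
    rw [hA, autGroup_group hQ, mem_autInducedBy_iff'] at hα
    obtain ⟨n, ⟨-, hn⟩, h⟩ := hα
    refine ⟨⟨n, hn⟩, Subtype.ext (MulEquiv.ext fun x => Subtype.ext ?_)⟩
    show n * (x : Ω) * n⁻¹ = _
    rw [← cj_apply, ← h x x.2, autFun_apply]
  constructor
  · rintro ⟨M, hMN, hMn, hgM, hMp⟩
    haveI : (M.subgroupOf (Subgroup.normalizer (Q : Set Ω))).Normal :=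
      ⟨fun x hx n => hMn n n.2 x hx⟩
    haveI : ((M.subgroupOf (Subgroup.normalizer (Q : Set Ω))).map ψ).Normal :=
      Subgroup.Normal.map inferInstance ψ hψ
    have hp : IsPGroup p ((M.subgroupOf (Subgroup.normalizer (Q : Set Ω))).map ψ) := by
      rintro ⟨_, x, hx, rfl⟩
      obtain ⟨k, hk⟩ := hMp x hx
      refine ⟨k, Subtype.ext ?_⟩
      rw [SubmonoidClass.coe_pow, OneMemClass.coe_one, ← map_pow]
      exact Subtype.ext (conjAut_eq_one.mpr hk)
    exact ⟨ψ ⟨g, hg⟩, PLocal.Cores.le_pCore hp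
      (Subgroup.mem_map_of_mem ψ (show (⟨g, hg⟩ : ↥(Subgroup.normalizer (Q : Set Ω))) ∈
        M.subgroupOf _ from hgM)), rfl⟩
  · rintro ⟨α, hα, e⟩
    refine ⟨((pCore p ↥A).comap ψ).map (Subgroup.normalizer (Q : Set Ω)).subtype,
      Subgroup.map_subtype_le _, ?_, ⟨⟨g, hg⟩, ?_, rfl⟩, ?_⟩
    · rintro n hn _ ⟨x, hx, rfl⟩
      exact ⟨_, ((inferInstance : ((pCore p ↥A).comap ψ).Normal)).conj_mem x hx ⟨n, hn⟩, rfl⟩
    · rw [SetLike.mem_coe, Subgroup.mem_comap,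
        show ψ ⟨g, hg⟩ = α from Subtype.ext e.symm]
      exact hα
    · rintro _ ⟨x, hx, rfl⟩
      obtain ⟨k, hk⟩ := PLocal.Cores.isPGroup_pCore (p := p) (G := ↥A) ⟨ψ x, hx⟩
      refine ⟨k, ?_⟩
      have h1 : ψ x ^ p ^ k = 1 := by simpa using congrArg Subtype.val hk
      rw [← map_pow] at h1
      change ((x ^ p ^ k : ↥(Subgroup.normalizer (Q : Set Ω))) : Ω) ∈ _
      exact conjAut_eq_one.mp (congrArg Subtype.val h1)

theorem pact_conj {P : Subgroup Ω} {g : Ω} (k : Ω) (h : PAct p P g) :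
    PAct p (P.map (MulAut.conj k).toMonoidHom) (k * g * k⁻¹) := by
  obtain ⟨M, hMN, hMn, hgM, hMp⟩ := h
  set f := (MulAut.conj k).toMonoidHom
  have hN : Subgroup.normalizer ((P.map f : Subgroup Ω) : Set Ω) =
      (Subgroup.normalizer (P : Set Ω)).map f :=
    (Subgroup.map_equiv_normalizer_eq P (MulAut.conj k)).symm
  refine ⟨M.map f, hN ▸ Subgroup.map_mono hMN, ?_, ⟨g, hgM, rfl⟩, ?_⟩
  · intro n hn x hx
    rw [hN] at hn
    obtain ⟨n, hn, rfl⟩ := hn
    obtain ⟨x, hx, rfl⟩ := hx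
    exact ⟨n * x * n⁻¹, hMn n hn x hx, by rw [map_mul, map_mul, map_inv]⟩
  · rintro _ ⟨x, hx, rfl⟩
    obtain ⟨i, hi⟩ := hMp x hx
    refine ⟨i, ?_⟩
    rintro _ ⟨z, hz, rfl⟩
    rw [← map_pow, ← map_mul, ← map_mul, hi z hz]

/-- The group is `p`-stable iff its fusion system is. -/
theorem group_stable_iff (P : Sylow p Ω) :
    IsNormalizerPStable p Ω ↔
      ∀ Q : Subgroup Ω, (groupFusionSystem (P : Subgroup Ω)).IsFullyNormalized Q →
        ∀ χ : MulAut ↥Q, χ ∈ (groupFusionSystem (P : Subgroup Ω)).autGroup Q → Quad χ →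
          χ ∈ autCore p (groupFusionSystem (P : Subgroup Ω)) Q := by
  rw [stable_iff]
  constructor
  · intro h Q hQ χ hχ hq
    rw [autGroup_group hQ.1, mem_autInducedBy_iff'] at hχ
    obtain ⟨g, ⟨-, hg⟩, hge⟩ := hχ
    have e : χ = conjAut Q ⟨g, hg⟩ := MulEquiv.ext fun x => Subtype.ext (by
      rw [conjAut_apply, ← autFun_apply χ x]; exact hge x x.2)
    subst e
    have hQp : IsPGroup p ↥Q := P.2.to_le hQ.1
    have hq2 : ⁅⁅Q, Subgroup.zpowers g⁆, Subgroup.zpowers g⁆ = ⊥ :=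
      (quad_conjAut (Q := Q) ⟨g, hg⟩).mp hq
    have hp : PAct p Q g := h Q hQp g hg hq2
    have h3 := (pact_iff (p := p) (S := (P : Subgroup Ω)) hQ.1 hg).mp hp
    exact h3
  · intro h R hR g hg hq
    obtain ⟨c, hc⟩ := exists_conj_le_sylow P hR
    have hle : img (cj c) R ≤ (P : Subgroup Ω) := (img_cj_le_iff c).mpr hc
    obtain ⟨Q, hconj, hQ⟩ := exists_fullyNormalized (F := groupFusionSystem (P : Subgroup Ω)) hle
    obtain ⟨-, -, d, hd⟩ := isConj_group_iff.mp hconj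
    rw [img_cj_img_cj, img_cj] at hd
    set k := d * c
    set f := (MulAut.conj k).toMonoidHom with hf
    have hfg : f g ∈ Subgroup.normalizer (Q : Set Ω) := by
      rw [← hd]; exact Subgroup.le_normalizer_map f ⟨g, hg, rfl⟩
    have hq' : ⁅⁅Q, Subgroup.zpowers (f g)⁆, Subgroup.zpowers (f g)⁆ = ⊥ := by
      rw [← hd, ← MonoidHom.map_zpowers, ← Subgroup.map_commutator, ← Subgroup.map_commutator, hq,
        Subgroup.map_bot]
    have hmem : conjAut Q ⟨f g, hfg⟩ ∈ (groupFusionSystem (P : Subgroup Ω)).autGroup Q := by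
      rw [autGroup_group hQ.1, mem_autInducedBy_iff']
      exact ⟨f g, ⟨Subgroup.mem_top _, hfg⟩, fun x hx => by rw [autFun_of_mem _ hx]; rfl⟩
    have h1 := pact_conj (p := p) k⁻¹
      ((pact_iff hQ.1 hfg).mpr (h Q hQ _ hmem ((quad_conjAut ⟨f g, hfg⟩).mpr hq')))
    have e1 : Q.map (MulAut.conj k⁻¹).toMonoidHom = R := by
      rw [← hd, ← img_cj, ← img_cj]; exact img_cj_inv_img_cj k R
    rwa [e1, show k⁻¹ * f g * k⁻¹⁻¹ = g by simp [hf, mul_assoc]] at h1

end group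

section system

variable {S : Subgroup Ω} [Finite S] {p : ℕ} [Fact p.Prime] {F : FusionSystem S}

/-- Stability reaches every subgroup. -/
theorem stable_everywhere
    (h : ∀ Q : Subgroup Ω, F.IsFullyNormalized Q → ∀ χ : MulAut ↥Q, χ ∈ F.autGroup Q → Quad χ →
      χ ∈ autCore p F Q) {Q : Subgroup Ω} (hQ : Q ≤ S) {χ : MulAut ↥Q} (hχ : χ ∈ F.autGroup Q)
    (hq : Quad χ) : χ ∈ autCore p F Q := by
  obtain ⟨R, hconj, hR⟩ := exists_fullyNormalized (F := F) hQ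
  obtain ⟨f, hf, himg⟩ := isConj_iff_map.mp hconj
  obtain ⟨e, he⟩ := hf.exists_autEquiv
  subst himg
  set χ' : MulAut ↥(img f Q) := (e ⟨χ, hχ⟩ : MulAut ↥(img f Q)) with hχ'
  have hval : ∀ x : ↥Q, ((χ' ⟨f x, mem_img_self f x.2⟩ : ↥(img f Q)) : Ω) = f (χ x : ↥Q) := by
    intro x
    have := he ⟨χ, hχ⟩ x x.2
    rwa [autFun_of_mem _ (mem_img_self f x.2), autFun_apply] at this
  have hval2 : ∀ x : ↥Q, χ' ⟨f x, mem_img_self f x.2⟩ = ⟨f (χ x : ↥Q), mem_img_self f (χ x).2⟩ :=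
    fun x => Subtype.ext (hval x)
  have hq' : Quad χ' := by
    rw [quad_iff]
    intro a
    obtain ⟨x, hx, e1⟩ := hf.mem_img.mp a.2
    have ha : a = ⟨f x, mem_img_self f hx⟩ := Subtype.ext e1.symm
    set x' : ↥Q := ⟨x, hx⟩
    have e2 : a⁻¹ * χ' a = ⟨f (x'⁻¹ * χ x' : ↥Q), mem_img_self f (SetLike.coe_mem _)⟩ := by
      refine Subtype.ext ?_
      rw [ha, Subgroup.coe_mul, Subgroup.coe_inv, hval x']
      show (f x)⁻¹ * f (χ x' : ↥Q) = f ((x : Ω)⁻¹ * (χ x' : ↥Q))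
      rw [hf.map_mul (inv_mem hx) (χ x').2, hf.map_inv hx]
    rw [e2, hval2, (quad_iff.mp hq) x']
  obtain ⟨α, hα, e2⟩ := h _ hR χ' (e ⟨χ, hχ⟩).2 hq'
  refine ⟨⟨χ, hχ⟩, ?_, rfl⟩
  have h1 : α = e ⟨χ, hχ⟩ := Subtype.ext e2
  subst h1
  rw [← PLocal.Cores.map_pCore_equiv (p := p) e] at hα
  obtain ⟨β, hβ, e3⟩ := hα
  rwa [← e.injective e3]

/-- A quadratic automorphism of a `p`-group has `p`-power order. -/
theorem pow_card_eq_one {Q : Subgroup Ω} [Finite Q] {χ : MulAut ↥Q} (hq : Quad χ) :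
    χ ^ Nat.card Q = 1 := by
  refine MulEquiv.ext fun a => ?_
  have hb := (quad_iff.mp hq) a
  have key : ∀ n : ℕ, (χ ^ n) a = a * (a⁻¹ * χ a) ^ n := by
    intro n
    induction n with
    | zero => simp
    | succ n ih =>
      rw [pow_succ', MulAut.mul_apply, ih, map_mul, map_pow, hb, pow_succ' (a⁻¹ * χ a),
        ← mul_assoc a, mul_inv_cancel_left]
  rw [key, pow_card_eq_one', mul_one, MulAut.one_apply]

/-- Stability is tested on normalizer systems. -/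
theorem stable_iff_normalizers (hS : IsPGroup p S) :
    (∀ Q : Subgroup Ω, F.IsFullyNormalized Q → ∀ χ : MulAut ↥Q, χ ∈ F.autGroup Q → Quad χ →
      χ ∈ autCore p F Q) ↔
    ∀ R : Subgroup Ω, F.IsFullyNormalized R → ¬ IsCyclic ↥R →
      ∀ N : FusionSystem (normalizerIn S R), F.IsNormalizerSystem R N →
        ∀ Q : Subgroup Ω, N.IsFullyNormalized Q → ∀ χ : MulAut ↥Q, χ ∈ N.autGroup Q → Quad χ →
          χ ∈ autCore p N Q := by
  constructor
  · intro h R hR _ N hN Q hQ χ hχ hq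
    have hQS : Q ≤ S := hQ.1.trans inf_le_left
    have hle : N.autGroup Q ≤ F.autGroup Q := by
      intro α hα
      refine (mem_autGroup_iff hQS).mpr ?_
      obtain ⟨φ, hφ, he⟩ := (mem_autGroup_iff hQ.1).mp hα
      rw [hN Q] at hφ
      exact ⟨φ, hφ.1, he⟩
    haveI : Finite ↥Q := finite_of_le hQS
    obtain ⟨α, hα, e⟩ := stable_everywhere h hQS (hle hχ) hq
    set i := Subgroup.inclusion hle
    haveI : ((pCore p ↥(F.autGroup Q)).comap i).Normal := inferInstance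
    refine ⟨⟨χ, hχ⟩, PLocal.Cores.le_pCore (PLocal.Cores.isPGroup_pCore.comap_of_injective i
      (Subgroup.inclusion_injective hle)) (show i ⟨χ, hχ⟩ ∈ pCore p ↥(F.autGroup Q) from ?_), rfl⟩
    rwa [show i ⟨χ, hχ⟩ = α from Subtype.ext e.symm]
  · intro h Q hQ χ hχ hq
    haveI : Finite ↥Q := finite_of_le hQ.1
    by_cases hc : IsCyclic ↥Q
    · -- a cyclic group has abelian automorphism group
      haveI : (Subgroup.zpowers (⟨χ, hχ⟩ : ↥(F.autGroup Q))).Normal := ⟨fun x hx g => by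
        have hcomm : g * x = x * g := Subtype.ext (mulAut_comm _ _)
        rwa [hcomm, mul_inv_cancel_right]⟩
      have hp : IsPGroup p (Subgroup.zpowers (⟨χ, hχ⟩ : ↥(F.autGroup Q))) := by
        obtain ⟨m, hm⟩ := (hS.to_le hQ.1).exists_card_eq
        rintro ⟨z, hz⟩
        obtain ⟨i, rfl⟩ := Subgroup.mem_zpowers_iff.mp hz
        refine ⟨m, Subtype.ext ?_⟩
        rw [SubmonoidClass.coe_pow, OneMemClass.coe_one, ← zpow_natCast, ← zpow_mul, mul_comm,
          zpow_mul, zpow_natCast]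
        have h1 : (⟨χ, hχ⟩ : ↥(F.autGroup Q)) ^ p ^ m = 1 := Subtype.ext (by
          rw [SubmonoidClass.coe_pow, ← hm, pow_card_eq_one hq, OneMemClass.coe_one])
        rw [h1, one_zpow]
      exact ⟨⟨χ, hχ⟩, PLocal.Cores.le_pCore hp (Subgroup.mem_zpowers _), rfl⟩
    obtain ⟨N, hN⟩ := exists_normalizerSystem (F := F) hQ.1
    have hQN : Q ≤ normalizerIn S Q := le_inf hQ.1 Subgroup.le_normalizer
    have hfix : N.IsFullyNormalized Q := by
      refine ⟨hQN, fun R hR => ?_⟩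
      obtain ⟨φ, hφ, hr⟩ := hR
      rw [hN Q] at hφ
      obtain ⟨-, -, g, hg, hge, hK⟩ := mem_normalizerHom_iff.mp hφ
      rw [← hr, range_eq_img, ← img_congr hge, hK.img_eq]
    have hAN : N.autGroup Q = F.autGroup Q := by
      refine le_antisymm (fun α hα => ?_) (fun α hα => ?_)
      · obtain ⟨φ, hφ, he⟩ := (mem_autGroup_iff hQN).mp hα
        rw [hN Q] at hφ
        exact (mem_autGroup_iff hQ.1).mpr ⟨φ, hφ.1, he⟩
      · have hm := (mem_autGroup_iff hQ.1).mp hα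
        refine (mem_autGroup_iff hQN).mpr ⟨hm.hom, ?_, fun x => rfl⟩
        rw [hN Q, mem_normalizerHom_iff]
        have hext : ∀ x ∈ Q, ext hm.hom x = autFun α x := fun x hx => ext_of_mem _ hx
        refine ⟨kNorm_top.ge.trans' hQN, fun x hx => ?_, autFun α, ?_,
          fun x hx => (hext x hx).symm, α, Subgroup.mem_top _, fun x _ => rfl⟩
        · rw [kNorm_top, hext x hx]; exact hQN (autFun_mem α hx)
        · rw [sup_idem]; exact hm
    have h1 := h Q hQ hc N hN Q hfix χ (hAN.symm ▸ hχ) hq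
    unfold autCore at h1 ⊢
    rwa [hAN] at h1
where
  mulAut_comm {Q : Subgroup Ω} [IsCyclic ↥Q] (a b : MulAut ↥Q) : a * b = b * a := by
    refine MulEquiv.ext fun x => ?_
    obtain ⟨g, hg⟩ := IsCyclic.exists_generator (α := ↥Q)
    obtain ⟨m, hm⟩ := Subgroup.mem_zpowers_iff.mp (hg (a g))
    obtain ⟨n, hn⟩ := Subgroup.mem_zpowers_iff.mp (hg (b g))
    obtain ⟨i, rfl⟩ := Subgroup.mem_zpowers_iff.mp (hg x)
    rw [map_zpow, map_zpow, MulAut.mul_apply, MulAut.mul_apply, ← hn, map_zpow, ← hm, map_zpow, ← hn]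
    simp only [← zpow_mul]
    congr 1
    ring

end system

end Cfsg.Agent.Fusion.Stable
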