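/-
Marks of finite group actions: counting, congruences, and determination of a finite action by its
marks.
-/
import Mathlib

set_option autoImplicit false

namespace Cfsg.Agent.Fusion.Marks

open MulAction

/-- The number of points fixed by the subgroup `K`. -/
noncomputable def mark {G : Type*} [Group G] (K : Subgroup G) (X : Type*) [MulAction G X] : ℕ :=
  Nat.card {x : X // K ≤ stabilizer G x}

variable {G : Type*} [Group G] {X Y : Type*} [MulAction G X] [MulAction G Y]

theorem mark_equiv (e : X ≃ Y) (he : ∀ (g : G) (x : X), e (g • x) = g • e x) (K : Subgroup G) :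
    mark K X = mark K Y :=
  Nat.card_congr (Equiv.subtypeEquiv e fun x => forall₂_congr fun g _ => by
    rw [mem_stabilizer_iff, mem_stabilizer_iff, ← he]
    exact e.injective.eq_iff.symm)

theorem mark_bot : mark (⊥ : Subgroup G) X = Nat.card X :=
  Nat.card_congr (Equiv.subtypeUnivEquiv fun _ => bot_le)

theorem mark_sum [Finite X] [Finite Y] (K : Subgroup G) :
    mark K (X ⊕ Y) = mark K X + mark K Y := by
  have hl : ∀ a : X, stabilizer G (Sum.inl a : X ⊕ Y) = stabilizer G a := fun a =>
    Subgroup.ext fun g => by simp [mem_stabilizer_iff]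
  have hr : ∀ b : Y, stabilizer G (Sum.inr b : X ⊕ Y) = stabilizer G b := fun b =>
    Subgroup.ext fun g => by simp [mem_stabilizer_iff]
  rw [mark, mark, mark, ← Nat.card_sum, Nat.card_congr (Equiv.subtypeSum)]
  refine Nat.card_congr (Equiv.sumCongr (Equiv.subtypeEquivRight fun a => ?_)
    (Equiv.subtypeEquivRight fun b => ?_))
  · rw [hl]
  · rw [hr]

theorem mark_sigma {ι : Type*} [Fintype ι] {Z : ι → Type*} [∀ i, MulAction G (Z i)]
    [∀ i, Finite (Z i)] (K : Subgroup G) : mark K (Σ i, Z i) = ∑ i, mark K (Z i) := by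
  have h : ∀ (i : ι) (z : Z i), stabilizer G (⟨i, z⟩ : Σ i, Z i) = stabilizer G z := fun i z =>
    Subgroup.ext fun g => by simp [mem_stabilizer_iff]
  unfold mark
  rw [← Nat.card_sigma]
  exact Nat.card_congr
    { toFun := fun x => ⟨x.1.1, x.1.2, by have := x.2; rwa [← h x.1.1 x.1.2]⟩
      invFun := fun x => ⟨⟨x.1, x.2.1⟩, by rw [h]; exact x.2.2⟩
      left_inv := fun x => rfl
      right_inv := fun x => rfl }

theorem mark_map_conj (g : G) (K : Subgroup G) :
    mark (K.map (MulAut.conj g).toMonoidHom) X = mark K X := by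
  refine Nat.card_congr (Equiv.subtypeEquiv (MulAction.toPerm g⁻¹) fun x => ?_)
  simp only [MulAction.toPerm_apply, SetLike.le_def, Subgroup.mem_map, mem_stabilizer_iff,
    MulEquiv.coe_toMonoidHom, MulAut.conj_apply, forall_exists_index, and_imp,
    forall_apply_eq_imp_iff₂]
  refine forall₂_congr fun k _ => ⟨fun h => ?_, fun h => ?_⟩
  · conv_rhs => rw [← h]
    simp [mul_smul]
  · rw [mul_smul, mul_smul, h, smul_inv_smul]

theorem le_stabilizer_quotient_iff {H K : Subgroup G} (g : G) :
    K ≤ stabilizer G (g : G ⧸ H) ↔ ∀ k ∈ K, g⁻¹ * k * g ∈ H := by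
  refine forall₂_congr fun k _ => ?_
  rw [mem_stabilizer_iff, MulAction.Quotient.smul_coe, smul_eq_mul, eq_comm, QuotientGroup.eq,
    mul_assoc]

theorem card_le_of_mark_quotient [Finite G] {H K : Subgroup G} (h : mark K (G ⧸ H) ≠ 0) :
    Nat.card K ≤ Nat.card H ∧ (Nat.card K = Nat.card H → ∃ g : G,
      H.map (MulAut.conj g).toMonoidHom = K) := by
  obtain ⟨⟨x, hx⟩⟩ := (Nat.card_ne_zero.1 h).1
  obtain ⟨g, rfl⟩ := QuotientGroup.mk_surjective x
  rw [le_stabilizer_quotient_iff] at hx
  have hle : K ≤ H.map (MulAut.conj g).toMonoidHom := fun k hk =>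
    ⟨g⁻¹ * k * g, hx k hk, by simp [mul_assoc]⟩
  have hcard : Nat.card (H.map (MulAut.conj g).toMonoidHom) = Nat.card H :=
    Subgroup.card_map_of_injective (MulAut.conj g).injective
  exact ⟨hcard ▸ Subgroup.card_le_of_le hle, fun e =>
    ⟨g, (Subgroup.eq_of_le_of_card_ge hle (by rw [hcard, e])).symm⟩⟩

theorem mark_quotient_self [Finite G] (H : Subgroup G) :
    mark H (G ⧸ H) = H.relIndex (Subgroup.normalizer (H : Set G)) := by
  have key : ∀ g : G, H ≤ stabilizer G (g : G ⧸ H) ↔ g ∈ Subgroup.normalizer (H : Set G) := by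
    intro g
    rw [le_stabilizer_quotient_iff]
    constructor
    · intro h
      have hle : H ≤ H.map (MulAut.conj g).toMonoidHom := fun k hk =>
        ⟨g⁻¹ * k * g, h k hk, by simp [mul_assoc]⟩
      have he := Subgroup.eq_of_le_of_card_ge hle
        (Subgroup.card_map_of_injective (MulAut.conj g).injective).le
      exact Subgroup.mem_normalizer_iff_map_conj_eq.2 he.symm
    · intro h k hk
      exact (Subgroup.mem_normalizer_iff''.1 h k).1 hk
  rw [Subgroup.relIndex, Subgroup.index, mark]
  symm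
  refine Nat.card_congr (Equiv.ofBijective (fun n => Quotient.liftOn' n
    (fun n => (⟨((n : G) : G ⧸ H), (key _).2 n.2⟩ : {x : G ⧸ H // H ≤ stabilizer G x}))
    fun a b hab => Subtype.ext ?_) ⟨?_, ?_⟩)
  · rw [QuotientGroup.leftRel_apply] at hab
    exact QuotientGroup.eq.2 hab
  · rintro ⟨a⟩ ⟨b⟩ hab
    have h1 : ((a : G) : G ⧸ H) = ((b : G) : G ⧸ H) := congrArg Subtype.val hab
    refine Quotient.sound' (QuotientGroup.leftRel_apply.2 ?_)
    rw [Subgroup.mem_subgroupOf, Subgroup.coe_mul, Subgroup.coe_inv]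
    exact QuotientGroup.eq.1 h1
  · rintro ⟨x, hx⟩
    obtain ⟨g, rfl⟩ := QuotientGroup.mk_surjective x
    exact ⟨Quotient.mk'' ⟨g, (key g).1 hx⟩, rfl⟩

/-- The orbit counting congruence inside the normalizer of `D`. -/
theorem card_dvd_sum [Finite G] [Finite X] (D N : Subgroup G) [Fintype N]
    (hN : N ≤ Subgroup.normalizer (D : Set G)) :
    Nat.card N ∣ ∑ n : N, mark (D ⊔ Subgroup.zpowers (n : G)) X := by
  classical
  let A : SubMulAction N X :=
    { carrier := {x | D ≤ stabilizer G x}
      smul_mem' := fun n x hx d hd => by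
        have h1 : ((n : G)⁻¹ * d * n) • x = x :=
          hx ((Subgroup.mem_normalizer_iff''.1 (hN n.2) d).1 hd)
        show d • ((n : G) • x) = (n : G) • x
        conv_rhs => rw [← h1]
        simp [mul_smul] }
  have : Fintype A := Fintype.ofFinite _
  have : ∀ n : N, Fintype (fixedBy A n) := fun n => Fintype.ofFinite _
  have : Fintype (Quotient (orbitRel N A)) := Fintype.ofFinite _
  have h1 := sum_card_fixedBy_eq_card_orbits_mul_card_group N A
  refine ⟨Fintype.card (Quotient (orbitRel N A)), ?_⟩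
  rw [Nat.card_eq_fintype_card, mul_comm, ← h1]
  refine Finset.sum_congr rfl fun n _ => ?_
  rw [← Nat.card_eq_fintype_card]
  refine Nat.card_congr
    { toFun := fun x => ⟨⟨x.1, le_sup_left.trans x.2⟩, Subtype.ext
        (x.2 (Subgroup.mem_sup_right (Subgroup.mem_zpowers _)))⟩
      invFun := fun a => ⟨a.1.1, sup_le a.1.2 (Subgroup.zpowers_le.2 (congrArg Subtype.val a.2))⟩
      left_inv := fun x => rfl
      right_inv := fun a => rfl }

/-- Marks at `D` and at its image agree modulo `|N : D|` when they agree above. -/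
theorem mark_congr [Finite G] {G' : Type*} [Group G'] [Finite G'] {X' : Type*} [MulAction G' X']
    [Finite X] [Finite X'] {D N : Subgroup G} (hDN : D ≤ N)
    (hN : N ≤ Subgroup.normalizer (D : Set G)) (ψ : N →* G') (hψ : Function.Injective ψ)
    (hup : ∀ K : Subgroup G, D < K → K ≤ N →
      mark K X = mark ((K.subgroupOf N).map ψ) X') :
    ((D.relIndex N : ℕ) : ℤ) ∣ (mark D X : ℤ) - mark ((D.subgroupOf N).map ψ) X' := by
  classical
  have : Fintype N := Fintype.ofFinite _
  set D' := (D.subgroupOf N).map ψ with hD'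
  set N' := ψ.range with hN'
  have : Fintype N' := Fintype.ofFinite _
  have hDn : (D.subgroupOf N).Normal := ⟨fun d hd n =>
    Subgroup.mem_subgroupOf.2 ((Subgroup.mem_normalizer_iff.1 (hN n.2) _).1 hd)⟩
  have hN'n : N' ≤ Subgroup.normalizer (D' : Set G') := by
    rintro _ ⟨n, rfl⟩
    rw [Subgroup.mem_normalizer_iff_map_conj_eq]
    refine Subgroup.eq_of_le_of_card_ge ?_
      (Subgroup.card_map_of_injective (MulAut.conj (ψ n)).injective).ge
    rintro _ ⟨_, ⟨d, hd, rfl⟩, rfl⟩
    exact ⟨n * d * n⁻¹, hDn.conj_mem d hd n, by simp⟩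
  have h1 := card_dvd_sum (X := X) D N hN
  have h2 := card_dvd_sum (X := X') D' N' hN'n
  let e : N ≃ N' := (MonoidHom.ofInjective hψ).toEquiv
  rw [← Equiv.sum_comp e, show Nat.card N' = Nat.card N from (Nat.card_congr e).symm] at h2
  have hpt : ∀ n : N, ((mark (D ⊔ Subgroup.zpowers (n : G)) X : ℤ) -
      mark (D' ⊔ Subgroup.zpowers ((e n : N') : G')) X') =
      if (n : G) ∈ D then (mark D X : ℤ) - mark D' X' else 0 := by
    intro n
    have he : ((e n : N') : G') = ψ n := rfl
    rw [he]
    have hmap : ((D ⊔ Subgroup.zpowers (n : G)).subgroupOf N).map ψ =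
        D' ⊔ Subgroup.zpowers (ψ n) := by
      rw [hD', Subgroup.subgroupOf_sup hDN (Subgroup.zpowers_le.2 n.2), Subgroup.map_sup]
      congr 1
      rw [← MonoidHom.map_zpowers]
      congr 1
      refine Subgroup.map_injective N.subtype_injective ?_
      rw [Subgroup.map_subgroupOf_eq_of_le (Subgroup.zpowers_le.2 n.2), MonoidHom.map_zpowers]
      rfl
    split
    next h =>
      rw [sup_eq_left.2 (Subgroup.zpowers_le.2 h),
        sup_eq_left.2 (Subgroup.zpowers_le.2 (show ψ n ∈ D' from ⟨n, h, rfl⟩))]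
    next h =>
      rw [hup _ (left_lt_sup.2 fun hle => h (hle (Subgroup.mem_zpowers _)))
        (sup_le hDN (Subgroup.zpowers_le.2 n.2)), hmap, sub_self]
  have h3 : (Nat.card N : ℤ) ∣ ∑ n : N, if (n : G) ∈ D then (mark D X : ℤ) - mark D' X' else 0 := by
    rw [← Finset.sum_congr rfl (fun n _ => hpt n), Finset.sum_sub_distrib]
    exact dvd_sub (by exact_mod_cast h1) (by exact_mod_cast h2)
  rw [← Finset.sum_filter, Finset.sum_const, nsmul_eq_mul] at h3
  have hcard : (Finset.univ.filter fun n : N => (n : G) ∈ D).card = Nat.card (D.subgroupOf N) := by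
    rw [Nat.card_eq_fintype_card]
    exact (Fintype.card_subtype _).symm
  rw [hcard, ← Subgroup.card_mul_index (D.subgroupOf N)] at h3
  push_cast at h3
  exact Int.dvd_of_mul_dvd_mul_left (by exact_mod_cast Nat.card_pos.ne') h3

theorem mark_split [Finite X] (C C' : SubMulAction G X) (w : X) (hw : w ∈ C)
    (hC' : ∀ z, z ∈ C' ↔ z ∈ C ∧ z ∉ orbit G w) (K : Subgroup G) :
    mark K C = mark K C' + mark K (orbit G w) := by
  classical
  rw [← mark_sum]
  refine Nat.card_congr (Equiv.subtypeEquiv
    { toFun := fun c => if hc : (c : X) ∈ orbit G w then Sum.inr ⟨c, hc⟩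
        else Sum.inl ⟨c, (hC' _).2 ⟨c.2, hc⟩⟩
      invFun := Sum.elim (fun c => ⟨c, ((hC' _).1 c.2).1⟩) (fun c => ⟨c, by
        obtain ⟨g, hg⟩ := c.2
        rw [← hg]
        exact C.smul_mem g hw⟩)
      left_inv := fun c => by dsimp only; split <;> rfl
      right_inv := by
        rintro (c | c)
        · simp [((hC' _).1 c.2).2]
        · simp }
    fun c => forall₂_congr fun g _ => ?_)
  simp only [mem_stabilizer_iff, Equiv.coe_fn_mk]
  split <;> simp [Subtype.ext_iff]

/-- A finite action of a finite group is determined by its marks. -/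
theorem exists_equiv [Finite G] [Finite X] [Finite Y]
    (h : ∀ K : Subgroup G, mark K X = mark K Y) :
    ∃ e : X ≃ Y, ∀ (g : G) (x : X), e (g • x) = g • e x := by
  suffices ∀ n : ℕ, ∀ (A : SubMulAction G X) (B : SubMulAction G Y), Nat.card A = n →
      (∀ K : Subgroup G, mark K A = mark K B) →
      ∃ e : A ≃ B, ∀ (g : G) (x : A), e (g • x) = g • e x by
    let A : SubMulAction G X := ⟨Set.univ, fun _ _ _ => trivial⟩
    let B : SubMulAction G Y := ⟨Set.univ, fun _ _ _ => trivial⟩
    let eA : A ≃ X := Equiv.Set.univ X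
    let eB : B ≃ Y := Equiv.Set.univ Y
    have hA : ∀ K, mark K A = mark K X := mark_equiv eA fun g a => SubMulAction.val_smul g a
    have hB : ∀ K, mark K B = mark K Y := mark_equiv eB fun g b => SubMulAction.val_smul g b
    obtain ⟨e, he⟩ := this _ A B rfl (fun K => by rw [hA, hB, h])
    exact ⟨(eA.symm.trans e).trans eB, fun g x => congrArg Subtype.val (he g ⟨x, trivial⟩)⟩
  intro n
  induction n using Nat.strongRecOn with
  | _ n ih =>
    intro A B hn hAB
    have hcard : Nat.card A = Nat.card B := by rw [← mark_bot (G := G), hAB, mark_bot]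
    rcases isEmpty_or_nonempty A with hE | hne
    · have hEB : IsEmpty B := Finite.card_eq_zero_iff.1 (hcard ▸ Nat.card_of_isEmpty)
      exact ⟨Equiv.equivOfIsEmpty _ _, fun g x => isEmptyElim x⟩
    obtain ⟨x, hx⟩ := Finite.exists_max fun a : A => Nat.card (stabilizer G a)
    have hpos : mark (stabilizer G x) A ≠ 0 := by
      have : Nonempty {a : A // stabilizer G x ≤ stabilizer G a} := ⟨⟨x, le_rfl⟩⟩
      exact Nat.card_pos.ne'
    rw [hAB] at hpos
    obtain ⟨⟨y, hy⟩⟩ := (Nat.card_ne_zero.1 hpos).1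
    have hst : stabilizer G x = stabilizer G y := by
      have : mark (stabilizer G y) A ≠ 0 := by
        rw [hAB]
        have : Nonempty {b : B // stabilizer G y ≤ stabilizer G b} := ⟨⟨y, le_rfl⟩⟩
        exact Nat.card_pos.ne'
      obtain ⟨⟨a, ha⟩⟩ := (Nat.card_ne_zero.1 this).1
      exact Subgroup.eq_of_le_of_card_ge hy ((Subgroup.card_le_of_le ha).trans (hx a))
    -- split off the two orbits
    let A' : SubMulAction G X :=
      { carrier := {z | z ∈ A ∧ z ∉ orbit G (x : X)}
        smul_mem' := fun g z hz => ⟨A.smul_mem g hz.1, fun ho => hz.2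
          ((orbit_eq_iff.2 ho) ▸ (MulAction.mem_orbit_symm.1 (mem_orbit z g)))⟩ }
    let B' : SubMulAction G Y :=
      { carrier := {z | z ∈ B ∧ z ∉ orbit G (y : Y)}
        smul_mem' := fun g z hz => ⟨B.smul_mem g hz.1, fun ho => hz.2
          ((orbit_eq_iff.2 ho) ▸ (MulAction.mem_orbit_symm.1 (mem_orbit z g)))⟩ }
    have hstab : ∀ g k : G, g • (x : X) = k • (x : X) ↔ g • (y : Y) = k • (y : Y) := by
      intro g k
      have h1 : k⁻¹ * g ∈ stabilizer G x ↔ k⁻¹ * g ∈ stabilizer G y := by rw [hst]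
      simpa [mem_stabilizer_iff, Subtype.ext_iff, mul_smul, inv_smul_eq_iff] using h1
    let o : orbit G (x : X) ≃ orbit G (y : Y) := Equiv.ofBijective
      (fun z => ⟨z.2.choose • (y : Y), mem_orbit _ _⟩)
      ⟨fun z w hzw => Subtype.ext (by
        have h1 := (hstab _ _).2 (congrArg Subtype.val hzw)
        rwa [show z.2.choose • (x : X) = z from z.2.choose_spec,
          show w.2.choose • (x : X) = w from w.2.choose_spec] at h1),
      fun w => by
        obtain ⟨g, hg⟩ := w.2
        refine ⟨⟨g • (x : X), mem_orbit _ _⟩, Subtype.ext ?_⟩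
        rw [show (w : Y) = g • (y : Y) from hg.symm]
        exact (hstab _ _).1 (mem_orbit (x : X) g).choose_spec⟩
    have ho : ∀ (g : G) (z : orbit G (x : X)), o (g • z) = g • o z := fun g z => Subtype.ext (by
      show (g • z).2.choose • (y : Y) = g • z.2.choose • (y : Y)
      rw [← mul_smul]
      refine (hstab _ _).1 ?_
      rw [mul_smul, show z.2.choose • (x : X) = z from z.2.choose_spec]
      exact (g • z).2.choose_spec)
    have hx' : ∀ z, z ∈ A' ↔ z ∈ A ∧ z ∉ orbit G (x : X) := fun z => Iff.rfl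
    have hy' : ∀ z, z ∈ B' ↔ z ∈ B ∧ z ∉ orbit G (y : Y) := fun z => Iff.rfl
    have horb : ∀ K : Subgroup G, mark K (orbit G (x : X)) = mark K (orbit G (y : Y)) :=
      mark_equiv o ho
    have hlt : Nat.card A' < n := by
      rw [← hn]
      have h1 := Set.ncard_lt_ncard (s := (A' : Set X)) (t := (A : Set X))
        ⟨fun z hz => hz.1, fun hs => (hs x.2).2 (mem_orbit_self _)⟩
      exact h1
    obtain ⟨e, he⟩ := ih _ hlt A' B' rfl fun K => by
      have := hAB K
      rw [mark_split A A' x x.2 hx', mark_split B B' y y.2 hy', horb] at this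
      omega
    classical
    let f : A → B := fun a => if ha : (a : X) ∈ orbit G (x : X) then
        ⟨(o ⟨a, ha⟩ : Y), by
          obtain ⟨g, hg⟩ := (o ⟨a, ha⟩).2
          rw [← hg]
          exact B.smul_mem g y.2⟩
      else ⟨(e ⟨a, a.2, ha⟩ : Y), (e ⟨a, a.2, ha⟩).2.1⟩
    have hf : Function.Injective f := by
      intro a b hab
      have hv := congrArg Subtype.val hab
      by_cases ha : (a : X) ∈ orbit G (x : X) <;> by_cases hb : (b : X) ∈ orbit G (x : X) <;>
        simp only [f, ha, hb, dif_pos, dif_neg, not_false_iff] at hv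
      · exact Subtype.ext (congrArg Subtype.val (o.injective (Subtype.ext hv)) : _)
      · exact absurd (hv ▸ (o ⟨a, ha⟩).2) (e ⟨b, b.2, hb⟩).2.2
      · exact absurd (hv.symm ▸ (o ⟨b, hb⟩).2) (e ⟨a, a.2, ha⟩).2.2
      · have := congrArg Subtype.val (e.injective (Subtype.ext hv))
        exact Subtype.ext this
    refine ⟨Equiv.ofBijective f ((Nat.bijective_iff_injective_and_card f).2 ⟨hf, hcard⟩),
      fun g a => Subtype.ext ?_⟩
    simp only [Equiv.ofBijective_apply, f]
    by_cases ha : (a : X) ∈ orbit G (x : X)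
    · have hga : ((g • a : A) : X) ∈ orbit G (x : X) := by
        obtain ⟨k, hk⟩ := ha
        exact ⟨g * k, by show (g * k) • (x : X) = g • (a : X); rw [mul_smul]; exact congrArg _ hk⟩
      rw [dif_pos ha, dif_pos hga]
      exact (congrArg Subtype.val (ho g ⟨a, ha⟩) :)
    · have hga : ((g • a : A) : X) ∉ orbit G (x : X) :=
        (A'.smul_mem g ⟨a.2, ha⟩).2
      rw [dif_neg ha, dif_neg hga]
      exact (congrArg Subtype.val (he g ⟨a, a.2, ha⟩) :)

end Cfsg.Agent.Fusion.Marks
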