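/-
Characteristic bisets of saturated fusion systems (Broto, Levi, Oliver).
-/
import Mathlib
import Cfsg.Agent.Lib.Fusion.Alperin
import Cfsg.Agent.Lib.Fusion.Marks

set_option autoImplicit false

namespace Cfsg.Agent.Fusion.Biset

open Cfsg Cfsg.FusionSystem Cfsg.Agent.Fusion.Basic Cfsg.Agent.Fusion.Saturation
  Cfsg.Agent.Fusion.Marks Cfsg.Agent.Fusion.Alperin MulAction

universe u

variable {Ω : Type u} [Group Ω] {S : Subgroup Ω} {F : FusionSystem S} {p : ℕ}
  {Q P : Subgroup Ω} {f g : Ω → Ω}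

/-- The graph of a map, inside `S × S`. -/
def graph (hf : IsMap F Q f) : Subgroup (↥S × ↥S) where
  carrier := {w | (w.1 : Ω) ∈ Q ∧ (w.2 : Ω) = f w.1}
  one_mem' := ⟨Q.one_mem, hf.map_one.symm⟩
  mul_mem' := fun {a b} ha hb => ⟨Q.mul_mem ha.1 hb.1, by
    show (a.2 : Ω) * b.2 = f ((a.1 : Ω) * b.1)
    rw [hf.map_mul ha.1 hb.1, ha.2, hb.2]⟩
  inv_mem' := fun {a} ha => ⟨Q.inv_mem ha.1, by
    show (a.2 : Ω)⁻¹ = f ((a.1 : Ω)⁻¹)
    rw [hf.map_inv ha.1, ha.2]⟩

theorem mem_graph {hf : IsMap F Q f} {w : ↥S × ↥S} :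
    w ∈ graph hf ↔ (w.1 : Ω) ∈ Q ∧ (w.2 : Ω) = f w.1 := Iff.rfl

theorem mk_mem_graph (hf : IsMap F Q f) {x : Ω} (hx : x ∈ Q) :
    ((⟨x, hf.le hx⟩, ⟨f x, hf.mem hx⟩) : ↥S × ↥S) ∈ graph hf := ⟨hx, rfl⟩

/-- The first projection of a subgroup of `S × S`. -/
def proj (K : Subgroup (↥S × ↥S)) : Subgroup Ω :=
  K.map (S.subtype.comp (MonoidHom.fst ↥S ↥S))

theorem mem_proj {K : Subgroup (↥S × ↥S)} {x : Ω} :
    x ∈ proj K ↔ ∃ w ∈ K, (w.1 : Ω) = x := Iff.rfl

theorem proj_graph (hf : IsMap F Q f) : proj (graph hf) = Q := by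
  refine le_antisymm ?_ fun x hx => ⟨_, mk_mem_graph hf hx, rfl⟩
  rintro _ ⟨w, hw, rfl⟩
  exact hw.1

theorem graph_congr (hf : IsMap F Q f) (hg : IsMap F Q g) (h : ∀ x ∈ Q, f x = g x) :
    graph hf = graph hg := by
  ext w
  exact and_congr_right fun hw => by rw [h _ hw]

theorem card_graph (hf : IsMap F Q f) : Nat.card (graph hf) = Nat.card Q :=
  Nat.card_congr
    { toFun := fun w => ⟨((w : ↥S × ↥S).1 : Ω), w.2.1⟩
      invFun := fun x => ⟨_, mk_mem_graph hf x.2⟩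
      left_inv := fun w => Subtype.ext (Prod.ext rfl (Subtype.ext w.2.2.symm))
      right_inv := fun _ => rfl }

/-- The graph of some map of the system. -/
def IsTwist (F : FusionSystem S) (K : Subgroup (↥S × ↥S)) : Prop :=
  ∃ (Q : Subgroup Ω) (f : Ω → Ω) (hf : IsMap F Q f), K = graph hf

theorem le_graph_eq {hf : IsMap F Q f} {K : Subgroup (↥S × ↥S)} (h : K ≤ graph hf) :
    ∃ hf' : IsMap F (proj K) f, K = graph hf' := by
  have hle : proj K ≤ Q := by
    rintro _ ⟨w, hw, rfl⟩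
    exact (h hw).1
  refine ⟨hf.restrict hle, le_antisymm (fun w hw => ⟨⟨w, hw, rfl⟩, (h hw).2⟩) ?_⟩
  rintro w ⟨⟨v, hv, hv1⟩, hw2⟩
  have h1 : v = w := Prod.ext (Subtype.ext hv1) (Subtype.ext (by
    rw [(h hv).2, hw2]
    exact congrArg f hv1))
  exact h1 ▸ hv

theorem isTwist_of_le {K L : Subgroup (↥S × ↥S)} (hL : IsTwist F L) (h : K ≤ L) : IsTwist F K := by
  obtain ⟨Q, f, hf, rfl⟩ := hL
  obtain ⟨hf', he⟩ := le_graph_eq h
  exact ⟨_, _, hf', he⟩

theorem isTwist_conj {K : Subgroup (↥S × ↥S)} (hK : IsTwist F K) (c : ↥S × ↥S) :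
    IsTwist F (K.map (MulAut.conj c).toMonoidHom) := by
  obtain ⟨Q, f, hf, rfl⟩ := hK
  obtain ⟨k, hk, -, hke, -⟩ := (isMap_cj (F := F) hf.le c.1.2).exists_inv
  have hk' : ∀ y ∈ img (cj (c.1 : Ω)) Q, k y ∈ Q := fun y hy => by
    obtain ⟨x, hx, rfl⟩ := (isMap_cj (F := F) hf.le c.1.2).mem_img.1 hy
    rw [hke x hx]; exact hx
  have hg : IsMap F (img (cj (c.1 : Ω)) Q) (fun y => cj (c.2 : Ω) (f (k y))) :=
    (isMap_cj hf.img_le_S c.2.2).comp (hf.comp hk hk') fun y hy => mem_img_self f (hk' y hy)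
  refine isTwist_of_le ⟨_, _, hg, rfl⟩ ?_
  rintro _ ⟨w, hw, rfl⟩
  refine ⟨mem_img_self (cj (c.1 : Ω)) hw.1, ?_⟩
  show (c.2 : Ω) * w.2 * (c.2 : Ω)⁻¹ = cj (c.2 : Ω) (f (k (cj (c.1 : Ω) w.1)))
  rw [hke _ hw.1, ← hw.2, cj_apply]

/-- Every point is stabilized by a twisted diagonal. -/
def HasTwists (F : FusionSystem S) (X : Type u) [MulAction (↥S × ↥S) X] : Prop :=
  ∀ x : X, IsTwist F (stabilizer (↥S × ↥S) x)

theorem isTwist_of_mark {X : Type u} [MulAction (↥S × ↥S) X] (hX : HasTwists F X)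
    {K : Subgroup (↥S × ↥S)} (h : mark K X ≠ 0) : IsTwist F K := by
  obtain ⟨⟨x, hx⟩⟩ := (Nat.card_ne_zero.1 h).1
  exact isTwist_of_le (hX x) hx

/-- Invariance of a function on subgroups under the maps of the system. -/
def IsInv (F : FusionSystem S) (T : Subgroup Ω → ℕ) : Prop :=
  ∀ (Q : Subgroup Ω) (f : Ω → Ω), IsMap F Q f → T (img f Q) = T Q

/-- Stability of `X` at the subgroups of order more than `n`. -/
def StableAbove (F : FusionSystem S) (n : ℕ) (X : Type u) [MulAction (↥S × ↥S) X]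
    (T : Subgroup Ω → ℕ) : Prop :=
  ∀ (Q : Subgroup Ω) (f : Ω → Ω) (hf : IsMap F Q f), n < Nat.card Q → mark (graph hf) X = T Q

variable [Finite S] [Fact p.Prime]

theorem mark_congr_fullyNormalized (hS : IsPGroup p S) (hF : F.IsSaturated p) {X : Type u}
    [MulAction (↥S × ↥S) X] [Finite X] (hX : HasTwists F X) {T : Subgroup Ω → ℕ}
    (hT : IsInv F T) {n : ℕ} (hst : StableAbove F n X T) (hf : IsMap F Q f)
    (hn : Nat.card Q = n) {Qs : Subgroup Ω} (hQs : F.IsFullyNormalized Qs)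
    (hconj : F.IsConj Q Qs) :
    (((graph hf).relIndex (Subgroup.normalizer (graph hf : Set (↥S × ↥S))) : ℕ) : ℤ) ∣
      (mark (graph hf) X : ℤ) - mark (graph (isMap_id (F := F) hQs.1)) X := by
  obtain ⟨α, hα, hαQ⟩ := exists_map_to_fullyNormalized hS hF hQs hconj
  obtain ⟨β, hβ, hβQ⟩ := exists_map_to_fullyNormalized hS hF hQs
    (isConj_trans (isConj_symm (isConj_iff_map.2 ⟨f, hf, rfl⟩)) hconj)
  have hQN : Q ≤ normalizerIn S Q := le_normalizerIn hf.le
  have hfQN : img f Q ≤ normalizerIn S (img f Q) := le_normalizerIn hf.img_le_S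
  obtain ⟨α', hα', -, hα'e, -⟩ := (hα.restrict hQN).exists_inv
  rw [hαQ] at hα'
  have hα'Q : ∀ y ∈ Qs, α' y ∈ Q := fun y hy => by
    obtain ⟨x, hx, rfl⟩ := (hα.restrict hQN).mem_img.1 (hαQ.symm ▸ hy)
    rw [hα'e x hx]; exact hx
  -- the automorphism of the target
  set γ : Ω → Ω := fun y => β (f (α' y)) with hγdef
  have hγ : IsMap F Qs γ :=
    hβ.comp (hf.comp hα' hα'Q) fun y hy => hfQN (mem_img_self f (hα'Q y hy))
  have hγe : ∀ x ∈ Q, γ (α x) = β (f x) := fun x hx => by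
    show β (f (α' (α x))) = _
    rw [hα'e x hx]
  have hγQ : img γ Qs = Qs := by
    have : Finite Qs := finite_of_le hQs.1
    refine eq_of_le_card (img_le fun y hy => ?_) hγ.card_img.ge
    exact hβQ.le (mem_img_self β (mem_img_self f (hα'Q y hy)))
  obtain ⟨γ', hγ', hγ'e⟩ := exists_extension hS hF hγ
    (by rw [hγQ]; exact fullyNormalized_fullyCentralized hS hF hQs)
  set Δ := graph hf
  set N := Subgroup.normalizer (Δ : Set (↥S × ↥S)) with hNdef
  have hN1 : ∀ w ∈ N, ((w.1 : Ω) ∈ normalizerIn S Q) ∧ ((w.2 : Ω) ∈ normalizerIn S (img f Q)) ∧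
      ∀ x ∈ Q, f (w.1 * x * (w.1 : Ω)⁻¹) = w.2 * f x * (w.2 : Ω)⁻¹ := by
    intro w hw
    have h1 : ∀ x ∈ Q, (w.1 : Ω) * x * (w.1 : Ω)⁻¹ ∈ Q ∧
        (w.2 : Ω) * f x * (w.2 : Ω)⁻¹ = f (w.1 * x * (w.1 : Ω)⁻¹) := fun x hx =>
      (Subgroup.mem_normalizer_iff.1 hw _).1 (mk_mem_graph hf hx)
    have : Finite Q := finite_of_le hf.le
    have : Finite (img f Q) := finite_of_le hf.img_le_S
    refine ⟨⟨w.1.2, mem_normalizer_of_forall fun x hx => (h1 x hx).1⟩,
      ⟨w.2.2, mem_normalizer_of_forall fun y hy => ?_⟩, fun x hx => (h1 x hx).2.symm⟩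
    obtain ⟨x, hx, rfl⟩ := hf.mem_img.1 hy
    rw [(h1 x hx).2]
    exact mem_img_self f (h1 x hx).1
  have hpN : proj N ≤ normalizerIn S Q := by
    rintro _ ⟨w, hw, rfl⟩; exact (hN1 w hw).1
  have hαN : ∀ x ∈ proj N, α x ∈ nSub S Qs γ := by
    rintro _ ⟨w, hw, rfl⟩
    obtain ⟨ha, hb, hab⟩ := hN1 w hw
    refine ⟨hα.mem ha, hαQ ▸ hα.mem_normalizer_img hQN ha ha.2, β w.2, hβ.mem hb, fun y hy => ?_⟩
    obtain ⟨x, hx, rfl⟩ := (hα.restrict hQN).mem_img.1 (hαQ.symm ▸ hy)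
    have hax : (w.1 : Ω) * x * (w.1 : Ω)⁻¹ ∈ Q := (Subgroup.mem_normalizer_iff.1 ha.2 x).1 hx
    show γ (α w.1 * α x * (α w.1)⁻¹) = β w.2 * γ (α x) * (β w.2)⁻¹
    rw [← hα.map_conj ha (hQN hx), hγe _ hax, hγe x hx, hab x hx,
      hβ.map_conj hb (hfQN (mem_img_self f hx))]
  set δ : Ω → Ω := fun x => γ' (α x) with hδdef
  have hδ : IsMap F (proj N) δ := hγ'.comp (hα.restrict hpN) hαN
  have hδQ : ∀ x ∈ Q, δ x = β (f x) := fun x hx => by
    rw [hδdef]
    show γ' (α x) = _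
    rw [hγ'e _ (hαQ ▸ mem_img_self α hx), hγe x hx]
  let ψ : N →* ↥S × ↥S := MonoidHom.mk'
    (fun w => (⟨δ (w : ↥S × ↥S).1, hδ.mem ⟨_, w.2, rfl⟩⟩,
      ⟨β (w : ↥S × ↥S).2, hβ.mem (hN1 _ w.2).2.1⟩))
    fun v w => Prod.ext (Subtype.ext (hδ.map_mul (x := ((v : ↥S × ↥S).1 : Ω))
        (y := ((w : ↥S × ↥S).1 : Ω)) ⟨_, v.2, rfl⟩ ⟨_, w.2, rfl⟩))
      (Subtype.ext (hβ.map_mul (hN1 _ v.2).2.1 (hN1 _ w.2).2.1))
  have hψ : Function.Injective ψ := fun v w h => Subtype.ext (Prod.ext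
    (Subtype.ext (hδ.inj ⟨_, v.2, rfl⟩ ⟨_, w.2, rfl⟩ (congrArg (fun z => (z.1 : Ω)) h)))
    (Subtype.ext (hβ.inj (hN1 _ v.2).2.1 (hN1 _ w.2).2.1 (congrArg (fun z => (z.2 : Ω)) h))))
  have hΔN : Δ ≤ N := Subgroup.le_normalizer
  have hψΔ : (Δ.subgroupOf N).map ψ = graph (isMap_id (F := F) hQs.1) := by
    refine le_antisymm ?_ fun z hz => ?_
    · rintro _ ⟨w, hw, rfl⟩
      obtain ⟨hw1, hw2⟩ := Subgroup.mem_subgroupOf.1 hw
      show δ _ ∈ Qs ∧ β _ = δ _
      rw [hδQ _ hw1, hw2]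
      exact ⟨hβQ ▸ mem_img_self β (mem_img_self f hw1), rfl⟩
    · obtain ⟨v, hv, hve⟩ := (hβ.restrict hfQN).mem_img.1 (hβQ.symm ▸ hz.1)
      obtain ⟨x, hx, rfl⟩ := hf.mem_img.1 hv
      refine ⟨⟨_, hΔN (mk_mem_graph hf hx)⟩, Subgroup.mem_subgroupOf.2 (mk_mem_graph hf hx), ?_⟩
      refine Prod.ext (Subtype.ext ?_) (Subtype.ext ?_)
      · show δ x = _
        rw [hδQ x hx, hve]
      · show β (f x) = _
        rw [hve]; exact hz.2.symm
  rw [← hψΔ]
  refine Marks.mark_congr hΔN le_rfl ψ hψ fun K hΔK hKN => ?_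
  by_cases hK : IsTwist F K
  · obtain ⟨Q', k, hk, rfl⟩ := hK
    have hQ'N : Q' ≤ proj N := fun x hx => ⟨_, hKN (mk_mem_graph hk hx), rfl⟩
    have hcard : n < Nat.card Q' := by
      rw [← hn, ← card_graph hf, ← card_graph hk]
      exact (Subgroup.card_le_of_le hΔK.le).lt_of_ne fun e =>
        hΔK.ne (Subgroup.eq_of_le_of_card_ge hΔK.le e.ge)
    obtain ⟨δ', hδ', -, hδ'e, -⟩ := (hδ.restrict hQ'N).exists_inv
    have hδ'Q : ∀ y ∈ img δ Q', δ' y ∈ Q' := fun y hy => by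
      obtain ⟨x, hx, rfl⟩ := (hδ.restrict hQ'N).mem_img.1 hy
      rw [hδ'e x hx]; exact hx
    have hh : IsMap F (img δ Q') (fun y => β (k (δ' y))) :=
      hβ.comp (hk.comp hδ' hδ'Q) fun y hy =>
        (hN1 _ (hKN (mk_mem_graph hk (hδ'Q y hy)))).2.1
    have himg : ((graph hk).subgroupOf N).map ψ = graph hh := by
      refine le_antisymm ?_ fun z hz => ?_
      · rintro _ ⟨w, hw, rfl⟩
        obtain ⟨hw1, hw2⟩ := Subgroup.mem_subgroupOf.1 hw
        refine ⟨mem_img_self δ hw1, ?_⟩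
        show β _ = β (k (δ' (δ _)))
        rw [hδ'e _ hw1, hw2]
      · obtain ⟨x, hx, hxz⟩ := (hδ.restrict hQ'N).mem_img.1 hz.1
        refine ⟨⟨_, hKN (mk_mem_graph hk hx)⟩, Subgroup.mem_subgroupOf.2 (mk_mem_graph hk hx), ?_⟩
        refine Prod.ext (Subtype.ext hxz) (Subtype.ext ?_)
        rw [hz.2, ← hxz]
        show β (k x) = β (k (δ' (δ x)))
        rw [hδ'e x hx]
    rw [himg, hst Q' k hk hcard, hst _ _ hh (by rwa [(hδ.restrict hQ'N).card_img]),
      hT Q' δ (hδ.restrict hQ'N)]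
  · have h0 : mark K X = 0 := by
      by_contra h
      exact hK (isTwist_of_mark hX h)
    rw [h0]
    by_contra hne
    obtain ⟨R, h, hh, he⟩ := isTwist_of_mark hX (Ne.symm hne)
    obtain ⟨β', hβ', -, hβ'e, -⟩ := hβ.exists_inv
    have hKp : proj K ≤ proj N := Subgroup.map_mono hKN
    have hmem : ∀ w ∈ K, δ (w.1 : Ω) ∈ R ∧ β (w.2 : Ω) = h (δ (w.1 : Ω)) := fun w hw =>
      he.le ⟨⟨w, hKN hw⟩, Subgroup.mem_subgroupOf.2 hw, rfl⟩
    have h1 : ∀ x ∈ proj K, δ x ∈ R ∧ h (δ x) ∈ img β (normalizerIn S (img f Q)) := by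
      rintro _ ⟨w, hw, rfl⟩
      exact ⟨(hmem w hw).1, (hmem w hw).2 ▸ mem_img_self β (hN1 w (hKN hw)).2.1⟩
    have hg : IsMap F (proj K) (fun x => β' (h (δ x))) :=
      hβ'.comp (hh.comp (hδ.restrict hKp) fun x hx => (h1 x hx).1) fun x hx => (h1 x hx).2
    refine hK (isTwist_of_le ⟨_, _, hg, rfl⟩ fun w hw => ⟨⟨w, hw, rfl⟩, ?_⟩)
    show (w.2 : Ω) = β' (h (δ w.1))
    rw [← (hmem w hw).2, hβ'e _ (hN1 w (hKN hw)).2.1]

theorem exists_fullyNormalized_fun :
    ∃ sel : Subgroup Ω → Subgroup Ω, (∀ Q, Q ≤ S → F.IsConj Q (sel Q) ∧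
      F.IsFullyNormalized (sel Q)) ∧ ∀ Q R, F.IsConj Q R → sel Q = sel R := by
  let r : Setoid {Q : Subgroup Ω // Q ≤ S} :=
    ⟨fun A B => F.IsConj A.1 B.1, fun A => isConj_refl A.2, fun h => isConj_symm h,
      fun h h' => isConj_trans h h'⟩
  have hex : ∀ c : Quotient r, ∃ R, F.IsConj c.out.1 R ∧ F.IsFullyNormalized R := fun c =>
    exists_fullyNormalized c.out.2
  choose R hR1 hR2 using hex
  classical
  refine ⟨fun Q => if h : Q ≤ S then R (Quotient.mk r ⟨Q, h⟩) else ⊥, fun Q hQ => ?_,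
    fun Q R' h => ?_⟩
  · simp only [dif_pos hQ]
    refine ⟨isConj_trans (isConj_symm ?_) (hR1 _), hR2 _⟩
    exact Quotient.exact (Quotient.out_eq (Quotient.mk r ⟨Q, hQ⟩))
  · obtain ⟨f, hf, he⟩ := isConj_iff_map.1 h
    have hR' : R' ≤ S := he ▸ hf.img_le_S
    simp only [dif_pos hf.le, dif_pos hR']
    exact congrArg R (Quotient.sound h)

theorem mark_orbit_eq_zero_or {Δ K : Subgroup (↥S × ↥S)}
    (h : mark K ((↥S × ↥S) ⧸ Δ) ≠ 0) (hc : Nat.card Δ ≤ Nat.card K) :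
    ∃ c, Δ.map (MulAut.conj c).toMonoidHom = K :=
  (card_le_of_mark_quotient h).2 (le_antisymm (card_le_of_mark_quotient h).1 hc)

/-- One downward step of the construction. -/
theorem exists_step (hS : IsPGroup p S) (hF : F.IsSaturated p) {n : ℕ}
    (hn : n < Nat.card S) {X : Type u} [MulAction (↥S × ↥S) X] [Finite X] (hX : HasTwists F X)
    {T : Subgroup Ω → ℕ} (hT : IsInv F T) (hst : StableAbove F n X T) {m : ℕ}
    (hm : m.Coprime p) (hcard : Nat.card X = Nat.card S * m) :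
    ∃ (Y : Type u) (_ : MulAction (↥S × ↥S) Y) (_ : Finite Y) (T' : Subgroup Ω → ℕ) (m' : ℕ),
      HasTwists F Y ∧ IsInv F T' ∧ (∀ Q f (hf : IsMap F Q f), n ≤ Nat.card Q →
        mark (graph hf) Y = T' Q) ∧ m'.Coprime p ∧ Nat.card Y = Nat.card S * m' := by
  classical
  obtain ⟨sel, hsel, hselc⟩ := exists_fullyNormalized_fun (F := F)
  set L := (Nat.card X + 1) * Nat.card (↥S × ↥S) with hL
  let T' : Subgroup Ω → ℕ := fun Q =>
    if Nat.card Q = n then
      (if h : sel Q ≤ S then mark (graph (isMap_id (F := F) h)) X else 0) + L else T Q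
  have hT' : IsInv F T' := fun Q f hf => by
    simp only [T', hf.card_img, hT Q f hf,
      hselc Q (img f Q) (isConj_iff_map.2 ⟨f, hf, rfl⟩)]
  -- classes of twisted diagonals of order `n`
  let Tw := {K : Subgroup (↥S × ↥S) // IsTwist F K ∧ Nat.card K = n}
  let r : Setoid Tw := ⟨fun K K' => ∃ c, K.1.map (MulAut.conj c).toMonoidHom = K'.1,
    fun K => ⟨1, by ext z; simp⟩,
    fun {K K'} ⟨c, hc⟩ => ⟨c⁻¹, by
      rw [← hc, Subgroup.map_map]
      convert Subgroup.map_id K.1 using 2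
      ext z <;> simp [mul_assoc]⟩,
    fun {K K' K''} ⟨c, hc⟩ ⟨d, hd⟩ => ⟨d * c, by
      rw [← hd, ← hc, Subgroup.map_map]
      congr 1
      ext z <;> simp [mul_assoc]⟩⟩
  have : Finite Tw := Subtype.finite
  have : Fintype (Quotient r) := Fintype.ofFinite _
  have hdata : ∀ c : Quotient r, ∃ k : ℕ,
      mark c.out.1 X + k * mark c.out.1 ((↥S × ↥S) ⧸ c.out.1) = T' (proj c.out.1) := by
    intro c
    obtain ⟨⟨Q, f, hf, he⟩, hKn⟩ := c.out.2
    rw [he, card_graph hf] at hKn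
    rw [he, proj_graph, mark_quotient_self]
    obtain ⟨hs1, hs2⟩ := hsel Q hf.le
    have hT'Q : T' Q = mark (graph (isMap_id (F := F) hs2.1)) X + L := by
      simp only [T', if_pos hKn, dif_pos hs2.1]
    rw [hT'Q]
    have hdvd := mark_congr_fullyNormalized hS hF hX hT hst hf hKn hs2 hs1
    set w := (graph hf).relIndex (Subgroup.normalizer (graph hf : Set (↥S × ↥S))) with hw
    have hwL : w ∣ L := (dvd_trans (dvd_trans (Subgroup.index_dvd_card _)
      (Subgroup.card_subgroup_dvd_card _)) (dvd_mul_left _ _))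
    have hle : mark (graph hf) X ≤ L := by
      refine le_trans (Nat.card_le_card_of_injective (fun x => x.1) fun a b h => Subtype.ext h) ?_
      rw [hL]
      exact le_trans (Nat.le_succ _) (Nat.le_mul_of_pos_right _ Nat.card_pos)
    have hw0 : (w : ℕ) ∣ mark (graph (isMap_id (F := F) hs2.1)) X + L - mark (graph hf) X := by
      rw [← Int.natCast_dvd_natCast, Nat.cast_sub (by omega), Nat.cast_add, add_comm, add_sub_assoc]
      exact dvd_add (Int.natCast_dvd_natCast.2 hwL) (dvd_sub_comm.1 hdvd)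
    obtain ⟨k, hk⟩ := hw0
    exact ⟨k, by rw [mul_comm]; omega⟩
  choose k hk using hdata
  let ι := Σ c : Quotient r, Fin (k c)
  refine ⟨X ⊕ (Σ i, (↥S × ↥S) ⧸ (i : ι).1.out.1), inferInstance, inferInstance, T',
    m + ∑ i : ι, Nat.card S / n, ?_, hT', ?_, ?_, ?_⟩
  · rintro (x | ⟨i, y⟩)
    · have : stabilizer (↥S × ↥S) (Sum.inl x : X ⊕ (Σ i, (↥S × ↥S) ⧸ (i : ι).1.out.1)) =
          stabilizer (↥S × ↥S) x := Subgroup.ext fun g => by simp [mem_stabilizer_iff]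
      rw [this]
      exact hX x
    · have : stabilizer (↥S × ↥S) (Sum.inr ⟨i, y⟩ : X ⊕ (Σ i, (↥S × ↥S) ⧸ (i : ι).1.out.1)) =
          stabilizer (↥S × ↥S) y := Subgroup.ext fun g => by simp [mem_stabilizer_iff]
      rw [this]
      obtain ⟨g, rfl⟩ := QuotientGroup.mk_surjective y
      refine isTwist_of_le (isTwist_conj i.1.out.2.1 g) fun z hz => ⟨g⁻¹ * z * g, ?_, by simp [mul_assoc]⟩
      exact (le_stabilizer_quotient_iff g).1 le_rfl z hz
  · intro Q f hf hnQ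
    have hcl : ∀ i : ι, Nat.card i.1.out.1 = n := fun i => i.1.out.2.2
    rw [mark_sum, mark_sigma]
    rcases lt_or_eq_of_le hnQ with hlt | heq
    · rw [show T' Q = T Q from if_neg hlt.ne', hst Q f hf hlt, add_eq_left]
      refine Finset.sum_eq_zero fun i _ => ?_
      by_contra hne
      have := (card_le_of_mark_quotient hne).1
      rw [card_graph, hcl] at this
      exact absurd this (not_le.2 hlt)
    · let K : Tw := ⟨graph hf, ⟨Q, f, hf, rfl⟩, (card_graph hf).trans heq.symm⟩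
      set c0 := Quotient.mk r K with hc0
      obtain ⟨d, hd⟩ : r.r c0.out K := Quotient.exact (Quotient.out_eq c0)
      have hQ' : T' (proj c0.out.1) = T' Q := by
        have hm : IsMap F Q (cj ((d.1 : Ω))⁻¹) := isMap_cj hf.le (S.inv_mem d.1.2)
        rw [← hT' Q _ hm]
        congr 1
        refine le_antisymm ?_ (img_le fun x hx => ?_)
        · rintro _ ⟨w, hw, rfl⟩
          have h1 : (MulAut.conj d) w ∈ graph hf := hd.le ⟨w, hw, rfl⟩
          have h2 := mem_img_self (cj ((d.1 : Ω))⁻¹) h1.1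
          simpa [cj, mul_assoc] using h2
        · obtain ⟨w, hw, hwe⟩ := hd.ge (mk_mem_graph hf hx)
          refine ⟨w, hw, ?_⟩
          have h3 : (d.1 : Ω) * w.1 * (d.1 : Ω)⁻¹ = x :=
            congrArg (fun z : ↥S × ↥S => (z.1 : Ω)) hwe
          show (w.1 : Ω) = _
          rw [← h3]
          simp [cj, mul_assoc]
      have hsame : ∀ (Z : Type u) [MulAction (↥S × ↥S) Z],
          mark (graph hf) Z = mark c0.out.1 Z := fun Z _ => by
        rw [show graph hf = K.1 from rfl, ← hd, mark_map_conj]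
      rw [← hQ', ← hk c0, hsame X]
      congr 1
      rw [Fintype.sum_sigma, Finset.sum_eq_single c0]
      · show ∑ _x : Fin (k c0), mark (graph hf) ((↥S × ↥S) ⧸ c0.out.1) = _
        rw [hsame, Finset.sum_const, Finset.card_univ, Fintype.card_fin, smul_eq_mul]
      · intro c _ hc
        refine Finset.sum_eq_zero fun j _ => ?_
        by_contra hne
        obtain ⟨e, he⟩ := mark_orbit_eq_zero_or hne (by rw [c.out.2.2, card_graph]; omega)
        exact hc (by rw [← Quotient.out_eq c]; exact Quotient.sound ⟨e, he⟩)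
      · intro h; exact absurd (Finset.mem_univ c0) h
  · rcases isEmpty_or_nonempty ι with h | ⟨⟨i⟩⟩
    · simpa using hm
    · have hnS : n ∣ Nat.card S := by
        obtain ⟨⟨Q, f, hf, he⟩, hKn⟩ := i.1.out.2
        rw [← hKn, he, card_graph]
        exact Subgroup.card_dvd_of_le hf.le
      obtain ⟨a, ha⟩ := IsPGroup.iff_card.1 hS
      obtain ⟨j, hj, rfl⟩ := (Nat.dvd_prime_pow Fact.out).1 (ha ▸ hnS)
      have hlt : j < a := by
        rw [ha] at hn
        exact (Nat.pow_lt_pow_iff_right (Fact.out : p.Prime).one_lt).1 hn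
      have hp : p ∣ ∑ _i : ι, Nat.card S / p ^ j := Finset.dvd_sum fun _ _ => by
        rw [ha, Nat.pow_div hlt.le (Fact.out : p.Prime).pos]
        exact dvd_pow_self p (by omega)
      obtain ⟨e, he⟩ := hp
      rw [he]
      exact (Nat.coprime_add_mul_left_left m p e).2 hm
  · rw [Nat.card_sum, Nat.card_sigma, hcard, mul_add, Finset.mul_sum]
    congr 1
    refine Finset.sum_congr rfl fun i _ => ?_
    obtain ⟨⟨Q, f, hf, he⟩, hKn⟩ := i.1.out.2
    have hnS : n ∣ Nat.card S := by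
      rw [← hKn, he, card_graph]
      exact Subgroup.card_dvd_of_le hf.le
    have hn0 : 0 < n := hKn ▸ Nat.card_pos
    have h := Subgroup.card_mul_index i.1.out.1
    rw [hKn, Nat.card_prod] at h
    rw [← Subgroup.index]
    obtain ⟨q, hq⟩ := hnS
    rw [hq, Nat.mul_div_cancel_left _ hn0]
    rw [hq] at h
    exact Nat.eq_of_mul_eq_mul_left hn0 (h.trans (by ring))

/-- The twisted regular biset at the top. -/
theorem exists_base (hS : IsPGroup p S) (hF : F.IsSaturated p) :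
    ∃ (X : Type u) (_ : MulAction (↥S × ↥S) X) (_ : Finite X) (T : Subgroup Ω → ℕ) (m : ℕ),
      HasTwists F X ∧ IsInv F T ∧ (∀ Q f (hf : IsMap F Q f), Nat.card S ≤ Nat.card Q →
        mark (graph hf) X = T Q) ∧ m.Coprime p ∧ Nat.card X = Nat.card S * m := by
  classical
  let A := F.autGroup S
  let I : Subgroup A := (Inn S).subgroupOf A
  let C := A ⧸ I
  let Base := ↥S × C
  let act : MulAction (↥S × ↥S) Base :=
    { smul := fun w x => (w.1 * x.1 * ((x.2.out : A) : MulAut S) w.2⁻¹, x.2)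
      one_smul := fun x => Prod.ext (show 1 * x.1 * ((x.2.out : A) : MulAut S) 1⁻¹ = x.1 by simp) rfl
      mul_smul := fun v w x => Prod.ext
        (show v.1 * w.1 * x.1 * ((x.2.out : A) : MulAut S) (v.2 * w.2)⁻¹ =
          v.1 * (w.1 * x.1 * ((x.2.out : A) : MulAut S) w.2⁻¹) * ((x.2.out : A) : MulAut S) v.2⁻¹
          by simp [mul_assoc]) rfl }
  have hsmul : ∀ (w : ↥S × ↥S) (x : Base), @HSMul.hSMul _ _ _
      (@instHSMul _ _ act.toSMul) w x =
      (w.1 * x.1 * ((x.2.out : A) : MulAut S) w.2⁻¹, x.2) := fun _ _ => rfl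
  let _ : MulAction (↥S × ↥S) Base := act
  have hst : ∀ (x : Base) (w : ↥S × ↥S), w ∈ stabilizer (↥S × ↥S) x ↔
      w.1 * x.1 * ((x.2.out : A) : MulAut S) w.2⁻¹ = x.1 := fun x w => by
    rw [mem_stabilizer_iff, hsmul]
    exact ⟨fun h => congrArg Prod.fst h, fun h => Prod.ext h rfl⟩
  have htw : HasTwists F Base := by
    intro x
    set α : A := x.2.out
    have hm : IsMap F S (fun y => autFun ((α : MulAut S)⁻¹) (cj (x.1 : Ω)⁻¹ y)) :=
      (isMap_of_mem_autGroup le_rfl (A.inv_mem α.2)).comp (isMap_cj le_rfl (S.inv_mem x.1.2))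
        fun y hy => by
          show (x.1 : Ω)⁻¹ * y * ((x.1 : Ω)⁻¹)⁻¹ ∈ S
          exact S.mul_mem (S.mul_mem (S.inv_mem x.1.2) hy) (S.inv_mem (S.inv_mem x.1.2))
    refine isTwist_of_le ⟨_, _, hm, rfl⟩ fun w hw => ⟨w.1.2, ?_⟩
    have h := (hst x w).1 hw
    rw [map_inv, mul_inv_eq_iff_eq_mul] at h
    have h2 : ((α : MulAut S)⁻¹) (x.1⁻¹ * w.1 * x.1) = w.2 := by
      rw [mul_assoc, h, inv_mul_cancel_left, MulAut.inv_apply_self]
    rw [← h2, ← autFun_apply]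
    simp [cj, mul_assoc]
  have hZ : ∀ (f : Ω → Ω) (hf : IsMap F S f),
      mark (graph hf) Base = Nat.card (Subgroup.center S) := by
    intro f hf
    have himg : img f S = S := eq_of_le_card hf.img_le_S hf.card_img.ge
    obtain ⟨φ, hφ, hφe⟩ := hf.exists_aut himg
    set φA : A := ⟨φ, hφ⟩
    set q₀ : C := ((φA⁻¹ : A) : C)
    have hIn : I.Normal := by
      have := inn_normal F S
      exact this
    obtain ⟨t, ht⟩ : ∃ t : S, ((q₀.out : A) : MulAut S) * φ = MulAut.conj t := by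
      have h1 : (φA⁻¹)⁻¹ * q₀.out ∈ I := QuotientGroup.eq.1 (Quotient.out_eq q₀).symm
      have h2 := hIn.conj_mem _ h1 (φA⁻¹)
      rw [inv_inv, show φA⁻¹ * (φA * q₀.out) * φA = q₀.out * φA by group] at h2
      obtain ⟨t, ht⟩ := Subgroup.mem_subgroupOf.1 h2
      exact ⟨t, ht.symm⟩
    have hfix : ∀ x : Base, graph hf ≤ stabilizer (↥S × ↥S) x ↔
        ((x.2.out : A) : MulAut S) * φ = MulAut.conj x.1⁻¹ := by
      intro x
      have hfa : ∀ a : S, (⟨f a, hf.mem a.2⟩ : S) = φ a := fun a =>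
        Subtype.ext (by rw [← autFun_apply, hφe _ a.2])
      constructor
      · intro h
        refine MulEquiv.ext fun a => ?_
        have h1 := (hst x _).1 (h (mk_mem_graph hf a.2))
        rw [hfa, map_inv, mul_inv_eq_iff_eq_mul] at h1
        rw [MulAut.mul_apply, MulAut.conj_apply, inv_inv, mul_assoc, h1, inv_mul_cancel_left]
      · intro h w hw
        rw [hst]
        have h1 : w.2 = φ w.1 := by
          rw [← hfa]
          exact Subtype.ext hw.2
        rw [map_inv, h1, ← MulAut.mul_apply, h, MulAut.conj_apply]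
        group
    have hq : ∀ x : Base, graph hf ≤ stabilizer (↥S × ↥S) x → x.2 = q₀ := fun x hx => by
      have h := (hfix x).1 hx
      rw [← Quotient.out_eq x.2, ← Quotient.out_eq q₀]
      refine (QuotientGroup.eq (s := I)).2 ?_
      have hc : ((x.2.out : A) : MulAut S) = MulAut.conj (x.1⁻¹ * t⁻¹) * ((q₀.out : A) : MulAut S) := by
        rw [map_mul, map_inv _ t, ← ht, ← h]
        group
      have h1 : q₀.out * (x.2.out : A)⁻¹ ∈ I := by
        refine Subgroup.mem_subgroupOf.2 ⟨(x.1⁻¹ * t⁻¹)⁻¹, ?_⟩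
        rw [map_inv, Subgroup.coe_mul, Subgroup.coe_inv, hc]
        group
      exact hIn.mem_comm h1
    refine Nat.card_congr
      { toFun := fun x => ⟨x.1.1 * t, Subgroup.mem_center_iff.2 fun g => ?_⟩
        invFun := fun z => ⟨((z : S) * t⁻¹, q₀), (hfix _).2 ?_⟩
        left_inv := fun x => Subtype.ext (Prod.ext
          (show (x.1.1 * t) * t⁻¹ = x.1.1 by simp) (hq x.1 x.2).symm)
        right_inv := fun z => Subtype.ext (by simp) }
    · have h1 := (hfix x.1).1 x.2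
      rw [hq x.1 x.2, ht] at h1
      have h2 := DFunLike.congr_fun h1 g
      rw [MulAut.conj_apply, MulAut.conj_apply, inv_inv] at h2
      calc g * (x.1.1 * t) = x.1.1 * (x.1.1⁻¹ * g * x.1.1) * t := by group
        _ = x.1.1 * (t * g * t⁻¹) * t := by rw [h2]
        _ = x.1.1 * t * g := by group
    · rw [ht]
      refine MulEquiv.ext fun g => ?_
      have hz := Subgroup.mem_center_iff.1 z.2 (t * g * t⁻¹)
      simp only [MulAut.conj_apply, mul_inv_rev, inv_inv]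
      calc t * g * t⁻¹ = (z : S)⁻¹ * ((z : S) * (t * g * t⁻¹)) := by group
        _ = t * (z : S)⁻¹ * g * ((z : S) * t⁻¹) := by
          rw [← hz]
          have hz' := Subgroup.mem_center_iff.1 (Subgroup.inv_mem _ z.2) t
          rw [hz']
          have hz'' := Subgroup.mem_center_iff.1 z.2 t⁻¹
          rw [← hz'']
          group
  have : Finite A := Subtype.finite
  refine ⟨Base, act, Finite.instProd, fun Q => Nat.card (Subgroup.center S), Nat.card C, htw,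
    fun _ _ _ => rfl, fun Q f hf hQ => ?_, ?_, Nat.card_prod _ _⟩
  · obtain rfl : Q = S := eq_of_le_card hf.le hQ
    exact hZ f hf
  · have hfn : F.IsFullyNormalized S :=
      ⟨le_rfl, fun R hR => le_of_eq (by rw [eq_top_of_card le_rfl hR rfl])⟩
    obtain ⟨R, hR⟩ := (fullyNormalized_fullyAutomized hS hF hfn).2
    have hle : (R : Subgroup A) ≤ I := by
      rw [hR]
      intro a ha
      obtain ⟨g, hg, he⟩ := mem_autInducedBy_iff'.1 (Subgroup.mem_subgroupOf.1 ha)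
      exact Subgroup.mem_subgroupOf.2 (mem_inn_iff.2 ⟨g, hg.1, he⟩)
    have h1 : Nat.card C ∣ (R : Subgroup A).index := Subgroup.index_dvd_of_le hle
    exact Nat.Coprime.coprime_dvd_left h1 (Nat.coprime_comm.1
      ((Fact.out : p.Prime).coprime_iff_not_dvd.2 R.not_dvd_index))

/-- A characteristic biset: twisted diagonal stabilizers, stable marks, size prime to `p`
over `|S|`. -/
theorem exists_biset (hS : IsPGroup p S) (hF : F.IsSaturated p) :
    ∃ (X : Type u) (_ : MulAction (↥S × ↥S) X) (_ : Finite X) (T : Subgroup Ω → ℕ) (m : ℕ),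
      HasTwists F X ∧ IsInv F T ∧ (∀ Q f (hf : IsMap F Q f), mark (graph hf) X = T Q) ∧
      m.Coprime p ∧ Nat.card X = Nat.card S * m := by
  suffices ∀ k : ℕ, k ≤ Nat.card S → ∃ (X : Type u) (_ : MulAction (↥S × ↥S) X) (_ : Finite X)
      (T : Subgroup Ω → ℕ) (m : ℕ), HasTwists F X ∧ IsInv F T ∧
      (∀ Q f (hf : IsMap F Q f), Nat.card S - k ≤ Nat.card Q → mark (graph hf) X = T Q) ∧
      m.Coprime p ∧ Nat.card X = Nat.card S * m by
    obtain ⟨X, i, j, T, m, h1, h2, h3, h4, h5⟩ := this _ le_rfl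
    exact ⟨X, i, j, T, m, h1, h2, fun Q f hf => h3 Q f hf (by simp), h4, h5⟩
  intro k
  induction k with
  | zero => intro _; simpa using exists_base hS hF
  | succ k ih =>
    intro hk
    obtain ⟨X, i, j, T, m, h1, h2, h3, h4, h5⟩ := ih (by omega)
    exact exists_step hS hF (n := Nat.card S - (k + 1)) (by omega) h1 h2
      (fun Q f hf hlt => h3 Q f hf (by omega)) h4 h5

end Cfsg.Agent.Fusion.Biset
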