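/-
Transfer in a saturated fusion system, through a characteristic biset.
-/
import Mathlib
import Cfsg.Agent.Lib.Fusion.Biset

set_option autoImplicit false

namespace Cfsg.Agent.Fusion.BisetTransfer

open Cfsg Cfsg.FusionSystem Cfsg.Agent.Fusion.Basic Cfsg.Agent.Fusion.Saturation
  Cfsg.Agent.Fusion.Marks Cfsg.Agent.Fusion.Biset MulAction

universe u

section Equivariant

variable {L : Type*} [Group L] {X : Type*} [MulAction L X] {A : Type*} [CommGroup A]

theorem exists_equivariant (lam : L →* A) (h : ∀ x : X, stabilizer L x ≤ lam.ker) :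
    ∃ c : X → A, ∀ (l : L) (x : X), c (l • x) = lam l * c x := by
  let r := orbitRel L X
  have hex : ∀ x : X, ∃ l : L, l • (Quotient.mk r x).out = x := fun x => by
    have h1 : (Quotient.mk r x).out ∈ orbit L x :=
      orbitRel_apply.1 (Quotient.exact (Quotient.out_eq (Quotient.mk r x)))
    exact mem_orbit_symm.1 h1
  choose w hw using hex
  refine ⟨fun x => lam (w x), fun l x => ?_⟩
  have he : Quotient.mk r (l • x) = Quotient.mk r x :=
    Quotient.sound (orbitRel_apply.2 (mem_orbit x l))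
  have h2 : (l * w x) • (Quotient.mk r x).out = l • x := by rw [mul_smul, hw]
  have h3 := hw (l • x)
  rw [he] at h3
  have h4 : (w (l • x))⁻¹ * (l * w x) ∈ stabilizer L (Quotient.mk r x).out := by
    rw [mem_stabilizer_iff, mul_smul, h2, inv_smul_eq_iff, h3]
  have h5 := MonoidHom.mem_ker.1 (h _ h4)
  rw [map_mul, map_inv, inv_mul_eq_one] at h5
  show lam (w (l • x)) = lam l * lam (w x)
  rw [h5, map_mul]

end Equivariant

/-- The same set with the action restricted along a homomorphism. -/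
@[nolint unusedArguments]
def Restr {G H : Type*} [Group G] [Group H] (_φ : G →* H) (X : Type*) : Type _ := X

instance restrAction {G H : Type*} [Group G] [Group H] (φ : G →* H) (X : Type*) [MulAction H X] :
    MulAction G (Restr φ X) :=
  (MulAction.compHom X φ : MulAction G X)

theorem mark_restr {G H : Type*} [Group G] [Group H] (φ : G →* H) (X : Type*) [MulAction H X]
    (K : Subgroup G) : mark K (Restr φ X) = mark (K.map φ) X := by
  refine Nat.card_congr (Equiv.subtypeEquivRight fun (x : X) => ?_)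
  rw [Subgroup.map_le_iff_le_comap]
  exact Iff.rfl

variable {Ω : Type u} [Group Ω] {S : Subgroup Ω} {F : FusionSystem S} {p : ℕ}
  [Finite S] [Fact p.Prime]

/-- The biset looks the same from either end of a map. -/
theorem exists_stable_equiv {X : Type u} [MulAction (↥S × ↥S) X] [fX : Finite X]
    (hX : HasTwists F X) {T : Subgroup Ω → ℕ} (hT : IsInv F T)
    (hmark : ∀ (Q : Subgroup Ω) (f : Ω → Ω) (hf : IsMap F Q f), mark (graph hf) X = T Q)
    {P : Subgroup Ω} {f : Ω → Ω} (hf : IsMap F P f) :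
    ∃ E : X ≃ X, ∀ (y : ↥P) (b : ↥S) (z : X),
      E (((⟨y, hf.le y.2⟩, b) : ↥S × ↥S) • z) = ((⟨f y, hf.mem y.2⟩, b) : ↥S × ↥S) • E z := by
  let φ₁ : ↥P × ↥S →* ↥S × ↥S := (Subgroup.inclusion hf.le).prodMap (MonoidHom.id _)
  let φ₂ : ↥P × ↥S →* ↥S × ↥S :=
    (hf.hom.codRestrict S fun y => hf.mem y.2).prodMap (MonoidHom.id _)
  have hfinP : Finite P := finite_of_le hf.le
  have : Finite (Restr φ₁ X) := fX
  have : Finite (Restr φ₂ X) := fX
  have hmk : ∀ K : Subgroup (↥P × ↥S), mark K (Restr φ₁ X) = mark K (Restr φ₂ X) := by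
    intro K
    rw [mark_restr, mark_restr]
    by_cases h1 : IsTwist F (K.map φ₁)
    · obtain ⟨Q, g, hg, he⟩ := h1
      have hQP : Q ≤ P := fun y hy => by
        obtain ⟨w, -, hw⟩ := he.ge (mk_mem_graph hg hy)
        have h3 : (w.1 : Ω) = y := congrArg (fun z : ↥S × ↥S => (z.1 : Ω)) hw
        exact h3 ▸ w.1.2
      obtain ⟨f', hf', -, hf'e, -⟩ := (hf.restrict hQP).exists_inv
      have hf'Q : ∀ y ∈ img f Q, f' y ∈ Q := fun y hy => by
        obtain ⟨z, hz, rfl⟩ := (hf.restrict hQP).mem_img.1 hy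
        rw [hf'e z hz]; exact hz
      have hgf : IsMap F (img f Q) (fun y => g (f' y)) := hg.comp hf' hf'Q
      have h2 : K.map φ₂ = graph hgf := by
        refine le_antisymm ?_ fun z hz => ?_
        · rintro _ ⟨w, hw, rfl⟩
          obtain ⟨hw1, hw2⟩ := he.le ⟨w, hw, rfl⟩
          refine ⟨mem_img_self f hw1, ?_⟩
          show (w.2 : Ω) = g (f' (f w.1))
          rw [hf'e (w.1 : Ω) hw1]
          exact hw2
        · obtain ⟨y, hy, hyz⟩ := (hf.restrict hQP).mem_img.1 hz.1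
          obtain ⟨w, hw, hwe⟩ := he.ge (mk_mem_graph hg hy)
          have h3 : (w.1 : Ω) = y := congrArg (fun z : ↥S × ↥S => (z.1 : Ω)) hwe
          have h4 : (w.2 : Ω) = g y := congrArg (fun z : ↥S × ↥S => (z.2 : Ω)) hwe
          refine ⟨w, hw, Prod.ext (Subtype.ext ?_) (Subtype.ext ?_)⟩
          · show f w.1 = _
            rw [h3, hyz]
          · show (w.2 : Ω) = _
            rw [h4, hz.2, ← hyz]
            show g y = g (f' (f y))
            rw [hf'e y hy]
      rw [he, h2, hmark, hmark, hT Q f (hf.restrict hQP)]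
    · have h2 : ¬ IsTwist F (K.map φ₂) := by
        rintro ⟨R, h, hh, he⟩
        have hle : proj (K.map φ₁) ≤ P := by
          rintro _ ⟨_, ⟨w, -, rfl⟩, rfl⟩
          exact w.1.2
        have hR : ∀ y ∈ proj (K.map φ₁), f y ∈ R := by
          rintro _ ⟨_, ⟨w, hw, rfl⟩, rfl⟩
          exact (he.le ⟨w, hw, rfl⟩).1
        refine h1 (isTwist_of_le ⟨_, _, hh.comp (hf.restrict hle) hR, rfl⟩ ?_)
        rintro _ ⟨w, hw, rfl⟩
        exact ⟨⟨_, ⟨w, hw, rfl⟩, rfl⟩, (he.le ⟨w, hw, rfl⟩).2⟩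
      have e1 : mark (K.map φ₁) X = 0 := by
        by_contra h; exact h1 (isTwist_of_mark hX h)
      have e2 : mark (K.map φ₂) X = 0 := by
        by_contra h; exact h2 (isTwist_of_mark hX h)
      rw [e1, e2]
  obtain ⟨e, he⟩ := exists_equiv hmk
  exact ⟨e, fun y b z => by exact he (y, b) z⟩

/-- Transfer through a characteristic biset. -/
theorem exists_transfer (hS : IsPGroup p S) (hF : F.IsSaturated p) {A : Type*} [CommGroup A]
    (χ : ↥S →* A) :
    ∃ (t : ↥S →* A) (m : ℕ), m.Coprime p ∧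
      (∀ (P : Subgroup Ω) (f : Ω → Ω) (hf : IsMap F P f) (x : Ω) (hx : x ∈ P),
        t ⟨f x, hf.mem hx⟩ = t ⟨x, hf.le hx⟩) ∧
      ∀ u : ↥S, (∀ (Q : Subgroup Ω) (f : Ω → Ω) (hf : IsMap F Q f) (k : ℤ) (hk : (u : Ω) ^ k ∈ Q),
          χ ⟨f ((u : Ω) ^ k), hf.mem hk⟩ = χ u ^ k) → t u = χ u ^ m := by
  classical
  obtain ⟨X, iX, fX, T, m, hX, hT, hmark, hm, hcard⟩ := exists_biset hS hF
  -- the right action is free
  have hfree : ∀ (x : X) (s : ↥S), ((1, s) : ↥S × ↥S) • x = x → s = 1 := fun x s hs => by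
    obtain ⟨Q, f, hf, he⟩ := hX x
    have h1 : ((1, s) : ↥S × ↥S) ∈ graph hf := he.le hs
    exact Subtype.ext (h1.2.trans hf.map_one)
  let r : Setoid X :=
    ⟨fun x y => ∃ s : ↥S, ((1, s) : ↥S × ↥S) • x = y, fun x => ⟨1, one_smul _ x⟩,
      fun {x y} ⟨s, hs⟩ => ⟨s⁻¹, by rw [← hs, ← mul_smul]; simp [Prod.mk_one_one]⟩,
      fun {x y z} ⟨s, hs⟩ ⟨s', hs'⟩ => ⟨s' * s, by rw [← hs', ← hs, ← mul_smul]; simp⟩⟩
  let O := Quotient r
  have : Fintype O := Fintype.ofFinite _
  have hO : Fintype.card O = m := by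
    let e : O × ↥S ≃ X := Equiv.ofBijective (fun w => ((1, w.2) : ↥S × ↥S) • w.1.out)
      ⟨fun a b hab => by
        dsimp only at hab
        have h1 : a.1 = b.1 := by
          rw [← Quotient.out_eq a.1, ← Quotient.out_eq b.1]
          refine Quotient.sound (show r.r _ _ from ⟨b.2⁻¹ * a.2, ?_⟩)
          rw [show ((1, b.2⁻¹ * a.2) : ↥S × ↥S) = ((1, b.2) : ↥S × ↥S)⁻¹ * (1, a.2) by simp,
            mul_smul, hab, inv_smul_smul]
        refine Prod.ext h1 ?_
        have h2 : ((1, b.2⁻¹ * a.2) : ↥S × ↥S) • a.1.out = a.1.out := by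
          rw [show ((1, b.2⁻¹ * a.2) : ↥S × ↥S) = ((1, b.2) : ↥S × ↥S)⁻¹ * (1, a.2) by simp,
            mul_smul, hab, inv_smul_smul, h1]
        exact (inv_mul_eq_one.1 (hfree _ _ h2)).symm,
      fun x => by
        obtain ⟨s, hs⟩ : r.r (Quotient.mk r x).out x := Quotient.exact (Quotient.out_eq _)
        exact ⟨(Quotient.mk r x, s), hs⟩⟩
    have h1 := Nat.card_congr e
    rw [Nat.card_prod, hcard, mul_comm, Nat.card_eq_fintype_card (α := O)] at h1
    exact Nat.eq_of_mul_eq_mul_left Nat.card_pos h1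
  -- permutations of the orbits and their multipliers
  let σ : ↥S → O → O := fun u o => Quotient.mk r (((u, 1) : ↥S × ↥S) • o.out)
  have hex : ∀ (u : ↥S) (o : O), ∃ s : ↥S, ((u, s) : ↥S × ↥S) • o.out = (σ u o).out := by
    intro u o
    obtain ⟨s, hs⟩ : r.r (((u, 1) : ↥S × ↥S) • o.out) (σ u o).out :=
      r.symm (Quotient.exact (Quotient.out_eq _))
    exact ⟨s, by rw [← hs, ← mul_smul]; simp⟩
  choose s hs using hex
  have huniq : ∀ (u : ↥S) (o o' : O) (b : ↥S), ((u, b) : ↥S × ↥S) • o.out = o'.out →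
      o' = σ u o ∧ b = s u o := by
    intro u o o' b hb
    have h1 : o' = σ u o := by
      rw [← Quotient.out_eq o']
      exact Quotient.sound (r.symm ⟨b, by rw [← hb, ← mul_smul]; simp⟩)
    refine ⟨h1, ?_⟩
    subst h1
    have h2 : ((1, (s u o)⁻¹ * b) : ↥S × ↥S) • o.out = o.out := by
      rw [show ((1, (s u o)⁻¹ * b) : ↥S × ↥S) = ((u, s u o) : ↥S × ↥S)⁻¹ * (u, b) by simp,
        mul_smul, hb, ← hs u o, inv_smul_smul]
    exact (inv_mul_eq_one.1 (hfree _ _ h2)).symm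
  have hσmul : ∀ u v o, σ (u * v) o = σ u (σ v o) ∧ s (u * v) o = s u (σ v o) * s v o := by
    intro u v o
    obtain ⟨h1, h2⟩ := huniq (u * v) o (σ u (σ v o)) (s u (σ v o) * s v o) (by
      rw [← hs u (σ v o), ← hs v o, ← mul_smul]
      rfl)
    exact ⟨h1.symm, h2.symm⟩
  have hσone : ∀ o, σ 1 o = o := fun o => (huniq 1 o o 1 (one_smul _ _)).1.symm
  let perm : ↥S → (O ≃ O) := fun v =>
    { toFun := σ v
      invFun := σ v⁻¹
      left_inv := fun o => by rw [← (hσmul _ _ _).1, inv_mul_cancel, hσone]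
      right_inv := fun o => by rw [← (hσmul _ _ _).1, mul_inv_cancel, hσone] }
  let t : ↥S →* A := MonoidHom.mk' (fun u => ∏ o, χ (s u o)) fun u v => by
    simp only [(hσmul u v _).2, map_mul, Finset.prod_mul_distrib]
    congr 1
    exact Equiv.prod_comp (perm v) fun o => χ (s u o)
  -- independence of the representatives
  have hreps : ∀ (v : ↥S) (R : O → X) (π : O ≃ O) (b : O → ↥S),
      Function.Bijective (fun o => Quotient.mk r (R o)) →
      (∀ o, ((v, b o) : ↥S × ↥S) • R o = R (π o)) → ∏ o, χ (b o) = t v := by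
    intro v R π b hR hb
    let τ : O ≃ O := Equiv.ofBijective _ hR
    have hexa : ∀ o, ∃ a : ↥S, ((1, a) : ↥S × ↥S) • (τ o).out = R o := fun o =>
      Quotient.exact (Quotient.out_eq (τ o))
    choose a ha using hexa
    have hkey : ∀ o, b o = a (π o) * s v (τ o) * (a o)⁻¹ := by
      intro o
      have h1 : ((v, (a (π o))⁻¹ * b o * a o) : ↥S × ↥S) • (τ o).out = (τ (π o)).out := by
        rw [show ((v, (a (π o))⁻¹ * b o * a o) : ↥S × ↥S) =
          ((1, a (π o)) : ↥S × ↥S)⁻¹ * ((v, b o) * (1, a o)) by simp [mul_assoc],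
          mul_smul, mul_smul, ha, hb, ← ha (π o), inv_smul_smul]
      rw [← (huniq v _ _ _ h1).2]
      group
    show _ = ∏ o, χ (s v o)
    rw [← Equiv.prod_comp τ fun o => χ (s v o)]
    simp only [hkey, map_mul, map_inv, Finset.prod_mul_distrib, Finset.prod_inv_distrib]
    rw [Equiv.prod_comp π fun o => χ (a o), mul_inv_cancel_comm]
  refine ⟨t, m, hm, fun P f hf x hx => ?_, fun u hu => ?_⟩
  · -- stability
    obtain ⟨E, hE⟩ := exists_stable_equiv hX hT hmark hf
    have hEr : ∀ z z', r.r z z' ↔ r.r (E z) (E z') := by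
      have h1 : ∀ (b : ↥S) (z : X), E (((1, b) : ↥S × ↥S) • z) = ((1, b) : ↥S × ↥S) • E z := by
        intro b z
        have h := hE 1 b z
        have e1 : (⟨f (1 : ↥P), hf.mem (1 : ↥P).2⟩ : ↥S) = 1 := Subtype.ext hf.map_one
        have e2 : (⟨((1 : ↥P) : Ω), hf.le (1 : ↥P).2⟩ : ↥S) = 1 := Subtype.ext rfl
        rwa [e1, e2] at h
      exact fun z z' => exists_congr fun b => by rw [← h1]; exact E.injective.eq_iff.symm
    refine (hreps _ (fun o => E o.out) (perm ⟨x, hf.le hx⟩) (s ⟨x, hf.le hx⟩) ?_ fun o => ?_).symm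
    · refine (Fintype.bijective_iff_injective_and_card _).2 ⟨fun o o' h => ?_, rfl⟩
      rw [← Quotient.out_eq o, ← Quotient.out_eq o']
      exact Quotient.sound ((hEr _ _).2 (Quotient.exact h))
    · rw [← hE ⟨x, hx⟩, hs]
      rfl
  · -- evaluation
    let L : Subgroup (↥S × ↥S) := (Subgroup.zpowers u).prod ⊤
    let lam : L →* A := MonoidHom.mk'
      (fun w => χ (w : ↥S × ↥S).1 * (χ (w : ↥S × ↥S).2)⁻¹) fun v w => by
        simp only [Subgroup.coe_mul, Prod.fst_mul, Prod.snd_mul, map_mul, mul_inv]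
        exact mul_mul_mul_comm _ _ _ _
    have hker : ∀ z : X, stabilizer L z ≤ lam.ker := by
      intro z w hw
      obtain ⟨Q, f, hf, he⟩ := hX z
      obtain ⟨hw1, hw2⟩ := he.le (show (w : ↥S × ↥S) ∈ stabilizer (↥S × ↥S) z from hw)
      obtain ⟨k, hk⟩ := Subgroup.mem_zpowers_iff.1 (Subgroup.mem_prod.1 w.2).1
      have hk' : (u : Ω) ^ k = ((w : ↥S × ↥S).1 : Ω) := by rw [← hk]; rfl
      have h := hu Q f hf k (hk' ▸ hw1)
      have h2 : (⟨f ((u : Ω) ^ k), hf.mem (hk' ▸ hw1)⟩ : ↥S) = (w : ↥S × ↥S).2 :=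
        Subtype.ext ((congrArg f hk').trans hw2.symm)
      rw [h2, ← map_zpow, hk] at h
      rw [MonoidHom.mem_ker]
      show χ (w : ↥S × ↥S).1 * (χ (w : ↥S × ↥S).2)⁻¹ = 1
      rw [h, mul_inv_cancel]
    obtain ⟨c, hc⟩ := exists_equivariant lam hker
    have hkey : ∀ o : O, χ (s u o) = χ u * (c o.out * (c (σ u o).out)⁻¹) := by
      intro o
      have h := hc ⟨(u, s u o), Subgroup.mem_prod.2 ⟨Subgroup.mem_zpowers u, Subgroup.mem_top _⟩⟩ o.out
      rw [show ((⟨(u, s u o), _⟩ : L) • o.out) = (σ u o).out from hs u o] at h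
      change c (σ u o).out = χ u * (χ (s u o))⁻¹ * c o.out at h
      rw [h]
      simp [mul_comm]
    show ∏ o, χ (s u o) = _
    simp only [hkey, Finset.prod_mul_distrib, Finset.prod_inv_distrib, Finset.prod_const,
      Finset.card_univ, hO]
    rw [show ∏ o : O, c (σ u o).out = ∏ o : O, c o.out from Equiv.prod_comp (perm u) fun o => c o.out,
      mul_inv_cancel, mul_one]

/-- Transfer is trivial on the focal subgroup. -/
theorem exists_transfer_focal (hS : IsPGroup p S) (hF : F.IsSaturated p) {A : Type*} [CommGroup A]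
    (χ : ↥S →* A) :
    ∃ (t : ↥S →* A) (m : ℕ), m.Coprime p ∧ F.focalSubgroup ≤ t.ker.map S.subtype ∧
      ∀ u : ↥S, (∀ (Q : Subgroup Ω) (f : Ω → Ω) (hf : IsMap F Q f) (k : ℤ) (hk : (u : Ω) ^ k ∈ Q),
          χ ⟨f ((u : Ω) ^ k), hf.mem hk⟩ = χ u ^ k) → t u = χ u ^ m := by
  obtain ⟨t, m, hm, hinv, hev⟩ := exists_transfer hS hF χ
  refine ⟨t, m, hm, ?_, hev⟩
  rw [focalSubgroup, Subgroup.closure_le]
  rintro _ ⟨P, φ, x, hφ, rfl⟩
  have hxS : (x : Ω) ∈ S := (F.le_of_mem hφ).1 x.2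
  have hφS : φ x ∈ S := (F.le_of_mem hφ).2 x
  refine ⟨⟨x, hxS⟩⁻¹ * ⟨φ x, hφS⟩, ?_, rfl⟩
  have h := hinv P (ext φ) (IsMap.of_hom hφ) x x.2
  rw [SetLike.mem_coe, MonoidHom.mem_ker, map_mul, map_inv, inv_mul_eq_one]
  calc t ⟨x, hxS⟩ = t ⟨ext φ x, _⟩ := h.symm
    _ = t ⟨φ x, hφS⟩ := congrArg t (Subtype.ext (ext_apply φ x))

end Cfsg.Agent.Fusion.BisetTransfer
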