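/-
The right orbits of a characteristic biset: a left action with a cocycle, twisted at the
stabilizers and stable under the maps of the system.
-/
import Mathlib
import Cfsg.Agent.Lib.Fusion.BisetTransfer

set_option autoImplicit false

namespace Cfsg.Agent.Fusion.OrbitData

open Cfsg Cfsg.FusionSystem Cfsg.Agent.Fusion.Basic Cfsg.Agent.Fusion.Saturation
  Cfsg.Agent.Fusion.Marks Cfsg.Agent.Fusion.Biset Cfsg.Agent.Fusion.BisetTransfer MulAction

universe u

variable {Ω : Type u} [Group Ω] {S : Subgroup Ω} {F : FusionSystem S} {p : ℕ}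

/-- An action on a finite set with a cocycle, whose stabilizers carry maps of the system and which
is stable under all maps. -/
structure Data (F : FusionSystem S) (p : ℕ) where
  O : Type u
  fin : Fintype O
  act : MulAction ↥S O
  s : ↥S → O → ↥S
  cocycle : ∀ u v o, s (u * v) o = s u (v • o) * s v o
  coprime : (Fintype.card O).Coprime p
  stab : ∀ o, ∃ (Q : Subgroup Ω) (f : Ω → Ω) (hf : IsMap F Q f), ∀ u : ↥S,
    (u • o = o ↔ (u : Ω) ∈ Q) ∧ ∀ hu : (u : Ω) ∈ Q, s u o = ⟨f u, hf.mem hu⟩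
  stable : ∀ (P : Subgroup Ω) (f : Ω → Ω) (hf : IsMap F P f), ∃ (π : O ≃ O) (a : O → ↥S),
    ∀ (x : Ω) (hx : x ∈ P) (o : O),
      π ((⟨x, hf.le hx⟩ : ↥S) • o) = (⟨f x, hf.mem hx⟩ : ↥S) • π o ∧
      s ⟨f x, hf.mem hx⟩ (π o) =
        a ((⟨x, hf.le hx⟩ : ↥S) • o) * s ⟨x, hf.le hx⟩ o * (a o)⁻¹

attribute [instance] Data.fin Data.act

/-- A transfer homomorphism. -/
noncomputable def Data.transfer (D : Data F p) {A : Type*} [CommGroup A] (χ : ↥S →* A) : ↥S →* A :=
  MonoidHom.mk' (fun u => ∏ o, χ (D.s u o)) fun u v => by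
    simp only [D.cocycle, map_mul, Finset.prod_mul_distrib]
    congr 1
    exact Equiv.prod_comp (MulAction.toPerm v) fun o => χ (D.s u o)

theorem Data.transfer_apply (D : Data F p) {A : Type*} [CommGroup A] (χ : ↥S →* A) (u : ↥S) :
    D.transfer χ u = ∏ o, χ (D.s u o) := rfl

theorem Data.transfer_map (D : Data F p) {A : Type*} [CommGroup A] (χ : ↥S →* A) {P : Subgroup Ω}
    {f : Ω → Ω} (hf : IsMap F P f) {x : Ω} (hx : x ∈ P) :
    D.transfer χ ⟨f x, hf.mem hx⟩ = D.transfer χ ⟨x, hf.le hx⟩ := by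
  obtain ⟨π, a, h⟩ := D.stable P f hf
  rw [D.transfer_apply, D.transfer_apply, ← Equiv.prod_comp π]
  simp only [(h x hx _).2, map_mul, map_inv, Finset.prod_mul_distrib, Finset.prod_inv_distrib]
  rw [show (∏ o, χ (a ((⟨x, hf.le hx⟩ : ↥S) • o))) = ∏ o, χ (a o) from
    Equiv.prod_comp (MulAction.toPerm (⟨x, hf.le hx⟩ : ↥S)) fun o => χ (a o), mul_inv_cancel_comm]

theorem Data.focal_le (D : Data F p) {A : Type*} [CommGroup A] (χ : ↥S →* A) :
    F.focalSubgroup ≤ (D.transfer χ).ker.map S.subtype := by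
  rw [focalSubgroup, Subgroup.closure_le]
  rintro _ ⟨P, φ, x, hφ, rfl⟩
  have hm := IsMap.of_hom hφ
  refine ⟨⟨x, hm.le x.2⟩⁻¹ * ⟨ext φ x, hm.mem x.2⟩, ?_, ?_⟩
  · rw [SetLike.mem_coe, MonoidHom.mem_ker, map_mul, map_inv, D.transfer_map χ hm x.2, inv_mul_cancel]
  · simp [ext_apply]

theorem Data.transfer_comp (D : Data F p) {A B : Type*} [CommGroup A] [CommGroup B] (χ : ↥S →* A)
    (g : A →* B) (u : ↥S) : g (D.transfer χ u) = D.transfer (g.comp χ) u :=
  map_prod g (fun o => χ (D.s u o)) _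

/-- The transfer of a homomorphism fixed by the twists is a power of it. -/
theorem Data.transfer_eq_pow (D : Data F p) {A : Type*} [CommGroup A] (χ : ↥S →* A)
    (hχ : ∀ (u : ↥S) (o : D.O), u • o = o → χ (D.s u o) = χ u) (u : ↥S) :
    D.transfer χ u = χ u ^ Fintype.card D.O := by
  classical
  let r := orbitRel ↥S D.O
  have hex : ∀ o : D.O, ∃ w : ↥S, w • (Quotient.mk r o).out = o := fun o => by
    have h1 : (Quotient.mk r o).out ∈ orbit ↥S o :=
      orbitRel_apply.1 (Quotient.exact (Quotient.out_eq (Quotient.mk r o)))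
    exact mem_orbit_symm.1 h1
  choose w hw using hex
  let c : D.O → A := fun o => χ (D.s (w o) (Quotient.mk r o).out) * (χ (w o))⁻¹
  have hkey : ∀ o, χ (D.s u o) = χ u * (c (u • o) * (c o)⁻¹) := by
    intro o
    have he : Quotient.mk r (u • o) = Quotient.mk r o :=
      Quotient.sound (orbitRel_apply.2 (mem_orbit o u))
    set b := (Quotient.mk r o).out with hb
    have hwo : w o • b = o := hw o
    set g := (w (u • o))⁻¹ * (u * w o) with hg
    have h3 : w (u • o) • b = u • o := by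
      have := hw (u • o); rwa [he] at this
    have hfix : g • b = b := by
      rw [hg, mul_smul, mul_smul, hw, inv_smul_eq_iff, h3]
    have h4 : u * w o = w (u • o) * g := by rw [hg]; group
    have h5 := congrArg (fun v => χ (D.s v b)) h4
    have h6 := congrArg χ h4
    simp only [D.cocycle, hfix, map_mul, hwo, hχ g b hfix] at h5
    rw [map_mul, map_mul] at h6
    show _ = χ u * ((χ (D.s (w (u • o)) (Quotient.mk r (u • o)).out) * (χ (w (u • o)))⁻¹) *
      (χ (D.s (w o) b) * (χ (w o))⁻¹)⁻¹)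
    rw [he, show χ (D.s u o) = χ (D.s (w (u • o)) b) * χ g * (χ (D.s (w o) b))⁻¹ by
      rw [← h5, mul_inv_cancel_right],
      show χ g = (χ (w (u • o)))⁻¹ * (χ u * χ (w o)) by rw [h6, inv_mul_cancel_left]]
    simp only [mul_inv_rev, inv_inv, ← hb]
    simp only [mul_comm, mul_assoc, mul_left_comm]
  rw [D.transfer_apply]
  simp only [hkey, Finset.prod_mul_distrib, Finset.prod_inv_distrib, Finset.prod_const,
    Finset.card_univ]
  rw [show (∏ o, c (u • o)) = ∏ o, c o from Equiv.prod_comp (MulAction.toPerm u) c, mul_inv_cancel,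
    mul_one]

variable [Finite S] [Fact p.Prime]

theorem exists_data (hS : IsPGroup p S) (hF : F.IsSaturated p) : Nonempty (Data F p) := by
  classical
  obtain ⟨X, iX, fX, T, m, hX, hT, hmark, hm, hcard⟩ := exists_biset hS hF
  have hfree : ∀ (x : X) (s : ↥S), ((1, s) : ↥S × ↥S) • x = x → s = 1 := fun x s hs => by
    obtain ⟨Q, f, hf, he⟩ := hX x
    have h1 : ((1, s) : ↥S × ↥S) ∈ graph hf := he.le hs
    exact Subtype.ext (h1.2.trans hf.map_one)
  let r : Setoid X :=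
    ⟨fun x y => ∃ s : ↥S, ((1, s) : ↥S × ↥S) • x = y, fun x => ⟨1, one_smul _ x⟩,
      fun {x y} ⟨s, hs⟩ => ⟨s⁻¹, by rw [← hs, ← mul_smul]; simp [Prod.mk_one_one]⟩,
      fun {x y z} ⟨s, hs⟩ ⟨s', hs'⟩ => ⟨s' * s, by rw [← hs', ← hs, ← mul_smul]; simp⟩⟩
  let O := Quotient r
  have : Fintype O := Fintype.ofFinite _
  have hO : Fintype.card O = m := by
    let e : O × ↥S ≃ X := Equiv.ofBijective (fun w => ((1, w.2) : ↥S × ↥S) • w.1.out)
      ⟨fun a b hab => by
        dsimp only at hab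
        have h1 : a.1 = b.1 := by
          rw [← Quotient.out_eq a.1, ← Quotient.out_eq b.1]
          refine Quotient.sound (show r.r _ _ from ⟨b.2⁻¹ * a.2, ?_⟩)
          rw [show ((1, b.2⁻¹ * a.2) : ↥S × ↥S) = ((1, b.2) : ↥S × ↥S)⁻¹ * (1, a.2) by simp,
            mul_smul, hab, inv_smul_smul]
        refine Prod.ext h1 ?_
        have h2 : ((1, b.2⁻¹ * a.2) : ↥S × ↥S) • a.1.out = a.1.out := by
          rw [show ((1, b.2⁻¹ * a.2) : ↥S × ↥S) = ((1, b.2) : ↥S × ↥S)⁻¹ * (1, a.2) by simp,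
            mul_smul, hab, inv_smul_smul, h1]
        exact (inv_mul_eq_one.1 (hfree _ _ h2)).symm,
      fun x => by
        obtain ⟨s, hs⟩ : r.r (Quotient.mk r x).out x := Quotient.exact (Quotient.out_eq _)
        exact ⟨(Quotient.mk r x, s), hs⟩⟩
    have h1 := Nat.card_congr e
    rw [Nat.card_prod, hcard, mul_comm, Nat.card_eq_fintype_card (α := O)] at h1
    exact Nat.eq_of_mul_eq_mul_left Nat.card_pos h1
  let σ : ↥S → O → O := fun u o => Quotient.mk r (((u, 1) : ↥S × ↥S) • o.out)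
  have hex : ∀ (u : ↥S) (o : O), ∃ s : ↥S, ((u, s) : ↥S × ↥S) • o.out = (σ u o).out := by
    intro u o
    obtain ⟨s, hs⟩ : r.r (((u, 1) : ↥S × ↥S) • o.out) (σ u o).out :=
      r.symm (Quotient.exact (Quotient.out_eq _))
    exact ⟨s, by rw [← hs, ← mul_smul]; simp⟩
  choose s hs using hex
  have huniq : ∀ (u : ↥S) (o o' : O) (b : ↥S), ((u, b) : ↥S × ↥S) • o.out = o'.out →
      o' = σ u o ∧ b = s u o := by
    intro u o o' b hb
    have h1 : o' = σ u o := by
      rw [← Quotient.out_eq o']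
      exact Quotient.sound (r.symm ⟨b, by rw [← hb, ← mul_smul]; simp⟩)
    refine ⟨h1, ?_⟩
    subst h1
    have h2 : ((1, (s u o)⁻¹ * b) : ↥S × ↥S) • o.out = o.out := by
      rw [show ((1, (s u o)⁻¹ * b) : ↥S × ↥S) = ((u, s u o) : ↥S × ↥S)⁻¹ * (u, b) by simp,
        mul_smul, hb, ← hs u o, inv_smul_smul]
    exact (inv_mul_eq_one.1 (hfree _ _ h2)).symm
  have hσmul : ∀ u v o, σ (u * v) o = σ u (σ v o) ∧ s (u * v) o = s u (σ v o) * s v o := by
    intro u v o
    obtain ⟨h1, h2⟩ := huniq (u * v) o (σ u (σ v o)) (s u (σ v o) * s v o) (by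
      rw [← hs u (σ v o), ← hs v o, ← mul_smul]
      rfl)
    exact ⟨h1.symm, h2.symm⟩
  have hσone : ∀ o, σ 1 o = o := fun o => (huniq 1 o o 1 (one_smul _ _)).1.symm
  let actO : MulAction ↥S O :=
    { smul := σ
      one_smul := hσone
      mul_smul := fun u v o => (hσmul u v o).1 }
  refine ⟨⟨O, inferInstance, actO, s, fun u v o => (hσmul u v o).2, hO ▸ hm, fun o => ?_,
    fun P f hf => ?_⟩⟩
  · obtain ⟨Q, f, hf, he⟩ := hX o.out
    refine ⟨Q, f, hf, fun u => ⟨⟨fun hu => ?_, fun hu => ?_⟩, fun hu => ?_⟩⟩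
    · have h1 := hs u o
      change σ u o = o at hu
      rw [hu] at h1
      exact (he.le h1).1
    · exact (huniq u o o ⟨f u, hf.mem hu⟩ (he.ge ⟨hu, rfl⟩)).1.symm
    · exact (huniq u o o ⟨f u, hf.mem hu⟩ (he.ge ⟨hu, rfl⟩)).2.symm
  · obtain ⟨E, hE⟩ := exists_stable_equiv hX hT hmark hf
    have h1 : ∀ (b : ↥S) (z : X), E (((1, b) : ↥S × ↥S) • z) = ((1, b) : ↥S × ↥S) • E z := by
      intro b z
      have h := hE 1 b z
      have e1 : (⟨f (1 : ↥P), hf.mem (1 : ↥P).2⟩ : ↥S) = 1 := Subtype.ext hf.map_one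
      have e2 : (⟨((1 : ↥P) : Ω), hf.le (1 : ↥P).2⟩ : ↥S) = 1 := Subtype.ext rfl
      rwa [e1, e2] at h
    have hEr : ∀ z z', r.r z z' ↔ r.r (E z) (E z') := fun z z' =>
      exists_congr fun b => by rw [← h1]; exact E.injective.eq_iff.symm
    let π : O ≃ O := Equiv.ofBijective (fun o => Quotient.mk r (E o.out))
      ((Fintype.bijective_iff_injective_and_card _).2 ⟨fun o o' h => by
        rw [← Quotient.out_eq o, ← Quotient.out_eq o']
        exact Quotient.sound ((hEr _ _).2 (Quotient.exact h)), rfl⟩)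
    have hexa : ∀ o : O, ∃ a : ↥S, ((1, a) : ↥S × ↥S) • E o.out = (π o).out := fun o =>
      r.symm (Quotient.exact (Quotient.out_eq (π o)))
    choose a ha using hexa
    refine ⟨π, a, fun x hx o => ?_⟩
    set v : ↥S := ⟨x, hf.le hx⟩
    have h2 : ((⟨f x, hf.mem hx⟩, a (σ v o) * s v o * (a o)⁻¹) : ↥S × ↥S) • (π o).out =
        (π (σ v o)).out := by
      rw [← ha o, ← mul_smul, ← ha (σ v o), ← hs v o, hE ⟨x, hx⟩, ← mul_smul]
      simp
    obtain ⟨h3, h4⟩ := huniq _ _ _ _ h2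
    exact ⟨h3, h4.symm⟩

end Cfsg.Agent.Fusion.OrbitData
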