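/-
The focal half of Tate's theorem for fusion systems.
-/
import Mathlib
import Cfsg.Agent.Lib.Fusion.OrbitData
import Cfsg.Agent.Lib.Fusion.Focal

set_option autoImplicit false

namespace Cfsg.Agent.Fusion.TateFocal

open Cfsg Cfsg.FusionSystem Cfsg.Agent.Fusion.Basic Cfsg.Agent.Fusion.Saturation
  Cfsg.Agent.Fusion.Focal Cfsg.Agent.Fusion.OrbitData

universe u

variable {Ω : Type u} [Group Ω] {S : Subgroup Ω} {F H : FusionSystem S} {p : ℕ}
  [Finite S] [Fact p.Prime]

omit [Finite S] [Fact p.Prime] in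
theorem focal_le : F.focalSubgroup ≤ S := by
  rw [focalSubgroup, Subgroup.closure_le]
  rintro _ ⟨P, φ, x, hφ, rfl⟩
  exact S.mul_mem (S.inv_mem ((F.le_of_mem hφ).1 x.2)) ((F.le_of_mem hφ).2 x)

omit [Finite S] [Fact p.Prime] in
theorem focal_mono (h : H.IsSubsystemOf F) : H.focalSubgroup ≤ F.focalSubgroup := by
  refine Subgroup.closure_mono ?_
  rintro _ ⟨P, φ, x, hφ, rfl⟩
  exact ⟨P, φ, x, h P hφ, rfl⟩

omit [Finite S] [Fact p.Prime] in
theorem mem_focal_of_isMap {P : Subgroup Ω} {f : Ω → Ω} (hf : IsMap F P f) {x : Ω} (hx : x ∈ P) :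
    x⁻¹ * f x ∈ F.focalSubgroup :=
  Subgroup.subset_closure ⟨P, hf.hom, ⟨x, hx⟩, hf.hom_mem_self, rfl⟩

omit [Finite S] [Fact p.Prime] in
/-- A character killing the focal subgroup takes equal values on a point and on its twist. -/
theorem twist_eq (D : Data F p) {A : Type*} [CommGroup A] (χ : ↥S →* A)
    (hχ : ∀ x : ↥S, (x : Ω) ∈ F.focalSubgroup → χ x = 1) (u : ↥S) (o : D.O) (hu : u • o = o) :
    χ (D.s u o) = χ u := by
  obtain ⟨Q, f, hf, h⟩ := D.stab o
  have hQ := (h u).1.1 hu
  rw [(h u).2 hQ]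
  refine (inv_mul_eq_one.1 ?_).symm
  rw [← map_inv, ← map_mul]
  exact hχ _ (mem_focal_of_isMap hf hQ)

omit [Finite S] [Fact p.Prime] in
theorem eq_of_le_of_index {G : Type*} [Group G] [Finite G] {A B : Subgroup G} (h : A ≤ B)
    (hi : A.index ≤ B.index) : A = B := by
  refine Subgroup.eq_of_le_of_card_ge h (Nat.le_of_mul_le_mul_right ?_
    (Nat.pos_of_ne_zero (Subgroup.index_ne_zero_of_finite (H := A))))
  calc Nat.card B * A.index ≤ Nat.card B * B.index := Nat.mul_le_mul_left _ hi
    _ = Nat.card A * A.index := by rw [Subgroup.card_mul_index, Subgroup.card_mul_index]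

/-- Equal focal subgroups modulo the Frattini subgroup are equal. -/
theorem eq_focal_of_frattini (hS : IsPGroup p S) (hF : F.IsSaturated p) {K : Subgroup Ω}
    (hK₁ : ⁅S, S⁆ ≤ K) (hK₂ : K ≤ F.focalSubgroup)
    (h : F.focalSubgroup ≤ (frattini ↥S).map S.subtype ⊔ K) :
    F.focalSubgroup = K := by
  obtain ⟨D⟩ := exists_data hS hF
  set N := K.subgroupOf S with hN
  set M := F.focalSubgroup.subgroupOf S with hM
  have hcomm : ∀ a b : ↥S, a * b * a⁻¹ * b⁻¹ ∈ N := fun a b => by
    refine hK₁ ?_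
    have := Subgroup.commutator_mem_commutator a.2 b.2
    rwa [commutatorElement_def] at this
  have hNn : N.Normal := ⟨fun n hn g => by simpa using N.mul_mem (hcomm g n) hn⟩
  let : CommGroup (↥S ⧸ N) :=
    { (inferInstance : Group (↥S ⧸ N)) with
      mul_comm := fun a b => by
        induction a using QuotientGroup.induction_on with
        | _ a =>
          induction b using QuotientGroup.induction_on with
          | _ b =>
            rw [← QuotientGroup.mk_mul, ← QuotientGroup.mk_mul, QuotientGroup.eq]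
            simpa [mul_assoc] using hcomm b⁻¹ a⁻¹ }
  set χ : ↥S →* ↥S ⧸ N := QuotientGroup.mk' N
  set B : Subgroup (↥S ⧸ N) := M.map χ
  have hBt : ∀ u, D.transfer χ u / χ u ^ Fintype.card D.O ∈ B := by
    intro u
    rw [← QuotientGroup.eq_one_iff, QuotientGroup.mk_div, div_eq_one, QuotientGroup.mk_pow]
    refine (D.transfer_comp χ (QuotientGroup.mk' B) u).trans
      (D.transfer_eq_pow _ (twist_eq D _ fun x hx => ?_) u)
    exact (QuotientGroup.eq_one_iff (N := B) _).2 ⟨x, hx, rfl⟩
  have hsurj : Function.Surjective (D.transfer χ) := by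
    let K' := (D.transfer χ).range.comap χ
    suffices hK : K' ⊔ frattini ↥S = ⊤ by
      intro a
      obtain ⟨x, rfl⟩ := QuotientGroup.mk'_surjective N a
      have hx : x ∈ K' := by rw [frattini_nongenerating hK]; exact Subgroup.mem_top x
      exact hx
    have hMK : M ≤ K' ⊔ frattini ↥S := by
      intro x hx
      have hsup := Subgroup.subgroupOf_sup (Subgroup.map_subtype_le (frattini ↥S))
        (hK₂.trans focal_le)
      have hx' : x ∈ ((frattini ↥S).map S.subtype ⊔ K).subgroupOf S := h hx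
      rw [hsup, Subgroup.subgroupOf, Subgroup.comap_map_eq_self_of_injective S.subtype_injective]
        at hx'
      refine (show frattini ↥S ⊔ K.subgroupOf S ≤ K' ⊔ frattini ↥S from
        sup_le le_sup_right fun y hy => Subgroup.mem_sup_left ?_) hx'
      show χ y ∈ (D.transfer χ).range
      rw [show χ y = 1 from (QuotientGroup.eq_one_iff y).2 hy]
      exact Subgroup.one_mem _
    refine eq_top_iff.2 fun x _ => ?_
    have hcop : (orderOf (χ x)).Coprime (Fintype.card D.O) := by
      obtain ⟨k, hk⟩ := IsPGroup.iff_orderOf.1 hS x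
      exact Nat.Coprime.coprime_dvd_left ((orderOf_map_dvd χ x).trans (dvd_of_eq hk))
        (Nat.Coprime.pow_left k D.coprime.symm)
    obtain ⟨j, hj⟩ := exists_pow_eq_self_of_coprime hcop.symm
    obtain ⟨b, hb, hbe⟩ := hBt x
    have h1 : χ x * (χ b) ^ j = (D.transfer χ x) ^ j := by
      rw [hbe, div_pow, hj, mul_div_cancel]
    have h2 : x * b ^ j ∈ K' := by
      show χ (x * b ^ j) ∈ (D.transfer χ).range
      rw [map_mul, map_pow, h1]
      exact Subgroup.pow_mem _ (MonoidHom.mem_range.2 ⟨x, rfl⟩) j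
    simpa using Subgroup.mul_mem _ (Subgroup.mem_sup_left h2)
      (Subgroup.inv_mem _ (Subgroup.pow_mem _ (hMK hb) j))
  have hker : M ≤ (D.transfer χ).ker := fun x hx => by
    obtain ⟨y, hy, hyx⟩ := D.focal_le χ hx
    exact Subtype.ext hyx ▸ hy
  have hle : N ≤ M := fun x hx => hK₂ hx
  have h1 : (D.transfer χ).ker.index = N.index := by
    rw [Subgroup.index_ker, MonoidHom.range_eq_top.2 hsurj, Subgroup.card_top]
    rfl
  have hMN : N = M := by
    refine eq_of_le_of_index hle ?_
    exact Nat.le_of_dvd (Nat.pos_of_ne_zero Subgroup.index_ne_zero_of_finite)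
      (h1 ▸ Subgroup.index_dvd_of_le hker)
  have h2 := congrArg (Subgroup.map S.subtype) hMN
  rw [hN, hM, Subgroup.map_subgroupOf_eq_of_le (hK₂.trans focal_le : K ≤ S),
    Subgroup.map_subgroupOf_eq_of_le (focal_le : F.focalSubgroup ≤ S)] at h2
  exact h2.symm

theorem focal_eq_of_frattini (hS : IsPGroup p S) (hF : F.IsSaturated p) (hHF : H.IsSubsystemOf F)
    (h : F.focalSubgroup ≤ (frattini ↥S).map S.subtype ⊔ H.focalSubgroup) :
    F.focalSubgroup = H.focalSubgroup :=
  eq_focal_of_frattini hS hF commutator_le_focal (focal_mono hHF) h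

end Cfsg.Agent.Fusion.TateFocal
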