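/-
The hyperfocal subgroup and quotient systems; Grün's lemma.
-/
import Mathlib
import Cfsg.Agent.Lib.Fusion.Factor
import Cfsg.Agent.Lib.Fusion.Focal

set_option autoImplicit false

namespace Cfsg.Agent.Fusion.Hyperfocal

open Cfsg Cfsg.FusionSystem Cfsg.Agent.Fusion.Basic Cfsg.Agent.Fusion.Saturation
  Cfsg.Agent.Fusion.Normal Cfsg.Agent.Fusion.Alperin Cfsg.Agent.Fusion.Factor
  Cfsg.Agent.Fusion.Focal

variable {Ω : Type*} [Group Ω] {S : Subgroup Ω} {F : FusionSystem S} {p : ℕ} {P T : Subgroup Ω}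

/-- It is enough to control automorphisms of order prime to `p`. -/
theorem hyp_le_of {N : Subgroup Ω}
    (h : ∀ P : Subgroup Ω, P ≤ S → ∀ α : F.autGroup P, (orderOf α).Coprime p → ∀ x ∈ P,
      x⁻¹ * autFun (α : MulAut P) x ∈ N) :
    F.hyperfocalSubgroup p ≤ N := by
  rw [hyperfocalSubgroup, Subgroup.closure_le]
  rintro _ ⟨P, α, x, hP, hα, rfl⟩
  suffices ∀ y ∈ P, y⁻¹ * autFun (α : MulAut P) y ∈ N by
    rw [← autFun_apply]
    exact this x x.2
  clear x
  induction hα using Subgroup.closure_induction with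
  | mem β hβ => exact h P hP β hβ
  | one => intro y _; rw [Subgroup.coe_one, autFun_one]; simp [N.one_mem]
  | mul a b _ _ ha hb =>
    intro y hy
    rw [Subgroup.coe_mul, autFun_mul]
    simpa [mul_assoc] using N.mul_mem (hb y hy) (ha _ (autFun_mem (b : MulAut P) hy))
  | inv a _ ha =>
    intro y hy
    have h1 := ha _ (autFun_mem (a : MulAut P)⁻¹ hy)
    rw [autFun_apply_inv] at h1
    rw [Subgroup.coe_inv]
    simpa using N.inv_mem h1

/-- A multiple `k` of the `p`-part of `n` that is `1` modulo `a` (`a` prime to `p`). -/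
theorem exists_exp [hp : Fact p.Prime] {n a : ℕ} (hn : n ≠ 0) (ha : a.Coprime p) :
    ∃ k m : ℕ, n ∣ k * m ∧ m.Coprime p ∧ k % a = 1 % a := by
  obtain ⟨e, m, hm, rfl⟩ := Nat.exists_eq_pow_mul_and_not_dvd hn p hp.out.ne_one
  refine ⟨(p ^ e) ^ Nat.totient a, m, ?_, (hp.out.coprime_iff_not_dvd.2 hm).symm,
    Nat.ModEq.pow_totient (Nat.Coprime.pow_left e ha.symm)⟩
  refine mul_dvd_mul_right ?_ m
  refine dvd_pow_self _ (Nat.totient_pos.2 ?_).ne'
  rcases Nat.eq_zero_or_pos a with h | h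
  · subst h
    simp only [Nat.coprime_zero_left] at ha
    exact absurd ha hp.out.ne_one
  · exact h

variable [Finite S] [Fact p.Prime]

/-- An automorphism of order prime to `p` extends modulo `T` to one of order prime to `p`. -/
theorem exists_pPrime_lift {R : Subgroup Ω} (hR : R ≤ S) (hPR : P ≤ R) (hTR : T ≤ R)
    (hT : F.StronglyClosed T) {α : F.autGroup P} (hα : (orderOf α).Coprime p)
    (β : F.autGroup R)
    (hβ : ∀ x ∈ P, (autFun (α : MulAut P) x)⁻¹ * autFun (β : MulAut R) x ∈ T) :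
    ∃ γ : F.autGroup R, (orderOf γ).Coprime p ∧ (∃ k, γ = β ^ k) ∧
      ∀ x ∈ P, (autFun (α : MulAut P) x)⁻¹ * autFun (γ : MulAut R) x ∈ T := by
  have hfin : Finite R := finite_of_le hR
  obtain ⟨k, m, hdvd, hm, hk⟩ :=
    exists_exp (p := p) (n := orderOf β) (orderOf_pos β).ne' hα
  have hpow : ∀ n : ℕ, ∀ x ∈ P,
      (autFun ((α : MulAut P) ^ n) x)⁻¹ * autFun ((β : MulAut R) ^ n) x ∈ T := by
    intro n
    induction n with
    | zero => intro x _; rw [pow_zero, pow_zero, autFun_one, autFun_one]; simp [T.one_mem]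
    | succ n ih =>
      intro x hx
      rw [pow_succ', pow_succ', autFun_mul, autFun_mul]
      set u := autFun ((α : MulAut P) ^ n) x
      set v := autFun ((β : MulAut R) ^ n) x
      have hu : u ∈ P := autFun_mem _ hx
      have hv : v ∈ R := autFun_mem _ (hPR hx)
      have hm' := isMap_of_mem_autGroup hR β.2
      have h1 : autFun (β : MulAut R) v = autFun (β : MulAut R) u * autFun (β : MulAut R) (u⁻¹ * v) := by
        rw [← hm'.map_mul (hPR hu) (R.mul_mem (R.inv_mem (hPR hu)) hv), mul_inv_cancel_left]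
      rw [h1, ← mul_assoc]
      exact T.mul_mem (hβ u hu)
        (stronglyClosed_mem hT hm' (R.mul_mem (R.inv_mem (hPR hu)) hv) (ih x hx))
  refine ⟨β ^ k, ?_, ⟨k, rfl⟩, fun x hx => ?_⟩
  · refine Nat.Coprime.coprime_dvd_left (orderOf_dvd_of_pow_eq_one ?_) hm
    rw [← pow_mul]
    exact orderOf_dvd_iff_pow_eq_one.1 hdvd
  · have h1 := hpow k x hx
    have h2 : (α : MulAut P) ^ k = α := by
      have : α ^ k = α := by
        rw [← pow_mod_orderOf, hk, pow_mod_orderOf, pow_one]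
      exact congrArg Subtype.val this
    rw [h2] at h1
    rw [Subgroup.coe_pow]
    exact h1

theorem exists_lift_aut (hS : IsPGroup p S) (hF : F.IsSaturated p) (hT : F.StronglyClosed T)
    (hP : P ≤ S) {α : F.autGroup P} (hα : (orderOf α).Coprime p) :
    ∃ γ : F.autGroup (P ⊔ T : Subgroup Ω), (orderOf γ).Coprime p ∧
      ∀ x ∈ P, (autFun (α : MulAut P) x)⁻¹ * autFun (γ : MulAut (P ⊔ T : Subgroup Ω)) x ∈ T := by
  have hR : P ⊔ T ≤ S := sup_le hP hT.1
  have hfin : Finite (P ⊔ T : Subgroup Ω) := finite_of_le hR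
  obtain ⟨g, hg, he⟩ := exists_lift hS hF hT (isMap_of_mem_autGroup hP α.2)
  have himg : img g (P ⊔ T) = P ⊔ T := by
    refine eq_of_le_card ?_ hg.card_img.ge
    rw [hg.img_sup, stronglyClosed_img hT hg le_sup_right]
    refine sup_le (img_le fun x hx => ?_) le_sup_right
    rw [show g x = autFun (α : MulAut P) x * ((autFun (α : MulAut P) x)⁻¹ * g x) by group]
    exact Subgroup.mul_mem _ (Subgroup.mem_sup_left (autFun_mem _ hx))
      (Subgroup.mem_sup_right (he x hx))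
  obtain ⟨β, hβ, hβe⟩ := hg.exists_aut himg
  obtain ⟨γ, hγ, -, hγe⟩ := exists_pPrime_lift hR le_sup_left le_sup_right hT hα ⟨β, hβ⟩
    fun x hx => by rw [hβe x (Subgroup.mem_sup_left hx)]; exact he x hx
  exact ⟨γ, hγ, hγe⟩

variable {Ω' : Type*} [Group Ω'] {S' : Subgroup Ω'} {θ : S →* Ω'} {E : FusionSystem S'}

/-- The map `Aut_F(θ⁻¹ P') → Aut_E(P')`. -/
theorem exists_proj (hq : IsQuot F T θ E) {P' : Subgroup Ω'} (hP' : P' ≤ S') :
    ∃ π : F.autGroup (preimageAlong θ P') →* E.autGroup P', Function.Surjective π ∧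
      ∀ a, ∀ x ∈ preimageAlong θ P',
        autFun (π a : MulAut P') (along θ x) =
          along θ (autFun (a : MulAut (preimageAlong θ P')) x) := by
  have hfin' := hq.finite
  set Q := preimageAlong θ P' with hQdef
  have hQS : Q ≤ S := preimageAlong_le _
  have hfinQ : Finite Q := finite_of_le hQS
  have hfinP : Finite P' := finite_of_le hP'
  have hmemQ : ∀ x ∈ Q, along θ x ∈ P' := fun x hx => (mem_preimageAlong.1 hx).2
  have hsurjQ : ∀ y ∈ P', ∃ x ∈ Q, along θ x = y := by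
    intro y hy
    obtain ⟨x, hx, rfl⟩ := exists_along_eq hq.range_eq (hP' hy)
    exact ⟨x, mem_preimageAlong.2 ⟨hx, hy⟩, rfl⟩
  have hpi : ∀ a : F.autGroup Q, ∃ a' ∈ E.autGroup P', ∀ x ∈ Q,
      autFun a' (along θ x) = along θ (autFun (a : MulAut Q) x) := by
    intro a
    obtain ⟨g', hg', hge⟩ := hq.descend P' _ hP' (isMap_of_mem_autGroup hQS a.2)
    have himg : img g' P' = P' := by
      refine eq_of_le_card (img_le fun y hy => ?_) hg'.card_img.ge
      obtain ⟨x, hx, rfl⟩ := hsurjQ y hy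
      rw [hge x hx]
      exact hmemQ _ (autFun_mem _ hx)
    obtain ⟨a', ha', hae⟩ := hg'.exists_aut himg
    exact ⟨a', ha', fun x hx => (hae _ (hmemQ x hx)).trans (hge x hx)⟩
  choose π hπ hπe using hpi
  have hπext : ∀ (a : F.autGroup Q) (b : MulAut P'),
      (∀ x ∈ Q, autFun b (along θ x) = along θ (autFun (a : MulAut Q) x)) → π a = b := by
    intro a b hb
    refine autFun_ext fun y hy => ?_
    obtain ⟨x, hx, rfl⟩ := hsurjQ y hy
    rw [hπe a x hx, hb x hx]
  let pim : F.autGroup Q →* E.autGroup P' :=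
    MonoidHom.mk' (fun a => ⟨π a, hπ a⟩) fun a b => Subtype.ext (hπext (a * b) _ fun x hx => by
      simp only [Subgroup.coe_mul, autFun_mul]
      rw [hπe b x hx, hπe a _ (autFun_mem _ hx)])
  refine ⟨pim, ?_, fun a x hx => hπe a x hx⟩
  rintro ⟨b, hb⟩
  obtain ⟨g, hg, hge⟩ := hq.lift P' _ (isMap_of_mem_autGroup hP' hb)
  have himg : img g Q = Q := by
    refine eq_of_le_card (img_le fun x hx => mem_preimageAlong.2 ⟨hg.mem hx, ?_⟩) hg.card_img.ge
    rw [← hge x hx]
    exact autFun_mem _ (hmemQ x hx)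
  obtain ⟨a, ha, hae⟩ := hg.exists_aut himg
  exact ⟨⟨a, ha⟩, Subtype.ext (hπext ⟨a, ha⟩ b fun x hx => by rw [hge x hx, hae x hx])⟩

theorem hyp_quot (hS : IsPGroup p S) (hF : F.IsSaturated p) (hq : IsQuot F T θ E) :
    E.hyperfocalSubgroup p = imageAlong θ (F.hyperfocalSubgroup p) := by
  refine le_antisymm (hyp_le_of fun P' hP' α' hα' y hy => ?_) ?_
  · obtain ⟨π, hπ, hπe⟩ := exists_proj hq hP'
    have hfin : Finite (preimageAlong θ P') := finite_of_le (preimageAlong_le _)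
    have hmem : α' ∈ pResidual p (E.autGroup P') := Subgroup.subset_closure hα'
    rw [← Cfsg.Agent.Cores.map_pResidual_of_surjective hπ p] at hmem
    obtain ⟨a, ha, rfl⟩ := hmem
    obtain ⟨x, hx, rfl⟩ := exists_along_eq hq.range_eq (hP' hy)
    have hxQ : x ∈ preimageAlong θ P' := mem_preimageAlong.2 ⟨hx, hy⟩
    have hax : autFun (a : MulAut (preimageAlong θ P')) x ∈ S :=
      preimageAlong_le _ (autFun_mem _ hxQ)
    rw [hπe a x hxQ, ← along_inv θ hx, ← along_mul θ (S.inv_mem hx) hax]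
    exact mem_imageAlong.2 ⟨_, mem_hyp (preimageAlong_le _) ⟨a, ha, rfl⟩ hxQ,
      S.mul_mem (S.inv_mem hx) hax, rfl⟩
  · have hgoal : F.hyperfocalSubgroup p ≤ preimageAlong θ (E.hyperfocalSubgroup p) := by
      refine hyp_le_of fun P hP α hα x hx => ?_
      set R : Subgroup Ω := P ⊔ T with hRdef
      obtain ⟨γ, hγ, hγe⟩ : ∃ γ : F.autGroup R, (orderOf γ).Coprime p ∧
          ∀ y ∈ P, (autFun (α : MulAut P) y)⁻¹ * autFun (γ : MulAut R) y ∈ T :=
        exists_lift_aut hS hF hq.closed hP hα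
      have hRS : R ≤ S := sup_le hP hq.closed.1
      have hpre : preimageAlong θ (imageAlong θ R) = R := by
        refine le_antisymm (fun z hz => ?_) fun z hz =>
          mem_preimageAlong.2 ⟨hRS hz, mem_imageAlong.2 ⟨z, hz, hRS hz, rfl⟩⟩
        obtain ⟨hzS, hz'⟩ := mem_preimageAlong.1 hz
        obtain ⟨r, hr, hrS, he⟩ := mem_imageAlong.1 hz'
        rw [show z = r * (r⁻¹ * z) by group]
        exact R.mul_mem hr (Subgroup.mem_sup_right ((along_eq_iff hq.ker_iff hrS hzS).1 he))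
      have hle : imageAlong θ R ≤ S' := fun z hz => by
        obtain ⟨r, -, hrS, rfl⟩ := mem_imageAlong.1 hz
        exact along_mem hq.range_eq hrS
      have hproj := exists_proj hq hle
      rw [hpre] at hproj
      obtain ⟨π, -, hπe⟩ := hproj
      have hxR : x ∈ R := Subgroup.mem_sup_left hx
      have hax : autFun (α : MulAut P) x ∈ S := hP (autFun_mem _ hx)
      have hgx : autFun (γ : MulAut R) x ∈ S := hRS (autFun_mem _ hxR)
      refine mem_preimageAlong.2 ⟨S.mul_mem (S.inv_mem (hP hx)) hax, ?_⟩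
      rw [along_mul θ (S.inv_mem (hP hx)) hax, along_inv θ (hP hx),
        (along_eq_iff hq.ker_iff hax hgx).2 (hγe x hx), ← hπe γ x hxR]
      refine mem_hyp hle ⟨π γ, Subgroup.subset_closure ?_, rfl⟩
        (mem_imageAlong.2 ⟨x, hxR, hP hx, rfl⟩)
      exact Nat.Coprime.coprime_dvd_left (orderOf_map_dvd π γ) hγ
    intro y hy
    obtain ⟨x, hx, hxS, rfl⟩ := mem_imageAlong.1 hy
    exact (mem_preimageAlong.1 (hgoal hx)).2

/-- The maps fixing the elements of `V`. -/
def fixSystem (F : FusionSystem S) (V : Subgroup Ω)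
    (hV : ∀ a ∈ S, ∀ x ∈ V, a * x * a⁻¹ = x) : FusionSystem S where
  Hom P := {φ | φ ∈ F.Hom P ∧ ∀ x : P, ((x : Ω) ∈ V ∨ φ x ∈ V) → φ x = x}
  le_of_mem h := F.le_of_mem h.1
  injective_of_mem h := F.injective_of_mem h.1
  conj_mem := by
    intro P a hP ha
    refine ⟨F.conj_mem hP ha, fun x h => ?_⟩
    show a * (x : Ω) * a⁻¹ = x
    rcases h with h | h
    · exact hV a ha _ h
    · have h1 := hV _ (S.inv_mem ha) _ h
      change a⁻¹ * (a * (x : Ω) * a⁻¹) * a⁻¹⁻¹ = a * (x : Ω) * a⁻¹ at h1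
      exact h1.symm.trans (by simp [mul_assoc])
  comp_mem := by
    rintro P R φ ψ ⟨hφ, hφ'⟩ ⟨hψ, hψ'⟩ h
    refine ⟨F.comp_mem hφ hψ h, fun x hx => ?_⟩
    show ψ ⟨φ x, h x⟩ = x
    rcases hx with hx | hx
    · have h1 := hφ' x (Or.inl hx)
      exact (hψ' ⟨φ x, h x⟩ (Or.inl (show φ x ∈ V by rw [h1]; exact hx))).trans h1
    · have h1 : ψ ⟨φ x, h x⟩ = φ x := hψ' ⟨φ x, h x⟩ (Or.inr hx)
      have hx' : ψ ⟨φ x, h x⟩ ∈ V := hx
      exact h1.trans (hφ' x (Or.inr (show φ x ∈ V by rw [← h1]; exact hx')))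
  inv_mem := by
    rintro P φ ⟨hφ, hφ'⟩
    obtain ⟨ψ, hψ, hψe⟩ := F.inv_mem hφ
    refine ⟨ψ, ⟨hψ, fun y hy => ?_⟩, hψe⟩
    obtain ⟨x, hx⟩ := y.2
    obtain rfl : y = ⟨φ x, ⟨x, rfl⟩⟩ := Subtype.ext hx.symm
    rw [hψe] at hy ⊢
    exact (hφ' x hy.symm).symm

theorem center_fix {R : Subgroup Ω} {g : Ω → Ω} (hg : IsMap F R g) {z : Ω} (hz : z ∈ F.center)
    (hzR : z ∈ R) : g z = z := by
  obtain ⟨k, -, he, hfix⟩ := (isCentral_iff.1 (center_isCentral (F := F))).2 R g hg
  rw [← he z hzR]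
  exact hfix z hz

/-- Grün's lemma: a perfect system has `Z(F/Z(F)) = 1`. -/
theorem grun (hS : IsPGroup p S) (hF : F.IsSaturated p) (hperf : F.hyperfocalSubgroup p = S)
    (hq : IsQuot F F.center θ E) : E.center = ⊥ := by
  have hfin' := hq.finite
  set Z := F.center with hZdef
  have hZsc := hq.closed
  have hC : E.IsCentral E.center := center_isCentral
  set V := preimageAlong θ E.center with hV
  have hVS : V ≤ S := preimageAlong_le _
  have hZV : Z ≤ V := hq.le_preimage _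
  -- a `p'`-automorphism moving `z ∈ V` inside its coset fixes it
  have hfix : ∀ (R : Subgroup Ω) (γ : F.autGroup R), R ≤ S → (orderOf γ).Coprime p →
      ∀ z ∈ R, z ∈ S → z⁻¹ * autFun (γ : MulAut R) z ∈ Z → autFun (γ : MulAut R) z = z := by
    intro R γ hR hγ z hzR hzS hc
    set c := z⁻¹ * autFun (γ : MulAut R) z
    have hcR : c ∈ R := R.mul_mem (R.inv_mem hzR) (autFun_mem _ hzR)
    have hcfix : autFun (γ : MulAut R) c = c := center_fix (isMap_of_mem_autGroup hR γ.2) hc hcR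
    have hpow : ∀ n : ℕ, autFun ((γ : MulAut R) ^ n) z = z * c ^ n := by
      intro n
      induction n with
      | zero => rw [pow_zero, autFun_one, pow_zero, mul_one]; rfl
      | succ n ih =>
        rw [pow_succ', autFun_mul, ih, (autFun_isHom _) z hzR _ (R.pow_mem hcR n)]
        have : autFun (γ : MulAut R) (c ^ n) = c ^ n := by
          clear ih
          induction n with
          | zero => rw [pow_zero, (autFun_isHom _).map_one]
          | succ n ih => rw [pow_succ, (autFun_isHom _) _ (R.pow_mem hcR n) _ hcR, ih, hcfix]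
        rw [this, pow_succ', ← mul_assoc]
        show autFun (γ : MulAut R) z * c ^ n = z * c * c ^ n
        rw [show z * c = autFun (γ : MulAut R) z by simp [c]]
    have h1 := hpow (orderOf γ)
    rw [show (γ : MulAut R) ^ orderOf γ = 1 from
      congrArg Subtype.val (pow_orderOf_eq_one γ), autFun_one, id, eq_comm, mul_eq_left] at h1
    obtain ⟨k, hk⟩ := hS ⟨c, hR hcR⟩
    have h2 : (⟨c, hR hcR⟩ : S) = 1 := by
      refine orderOf_eq_one_iff.1 (Nat.eq_one_of_dvd_coprimes (Nat.Coprime.pow_right k hγ)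
        (orderOf_dvd_of_pow_eq_one (Subtype.ext h1)) (orderOf_dvd_of_pow_eq_one hk))
    have h3 : c = 1 := congrArg Subtype.val h2
    rw [inv_mul_eq_one] at h3
    exact h3.symm
  -- maps move `V` inside cosets of `Z`
  have hmove : ∀ (R : Subgroup Ω) (g : Ω → Ω), IsMap F R g → ∀ z ∈ V, z ∈ R → z⁻¹ * g z ∈ Z := by
    intro R g hg z hz hzR
    obtain ⟨φ', hφ', hind⟩ := (hq.isSurjectiveMorphism hS hF).1.2 R hg.hom hg.hom_mem_self
    obtain ⟨-, hval, hmem, he⟩ := (inducedAlong_iff (f := g) (f' := ext φ')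
      (fun _ => rfl) fun y => (ext_apply φ' y).symm).1 hind
    have h1 := center_fix (IsMap.of_hom hφ') (mem_preimageAlong.1 hz).2 (hmem z hzR)
    rw [he z hzR] at h1
    exact (along_eq_iff hq.ker_iff (hVS hz) (hval z hzR)).1 h1.symm
  -- `p'`-automorphisms lift fixing `V`
  have hlift : ∀ (P : Subgroup Ω), P ≤ S → ∀ α : F.autGroup P, (orderOf α).Coprime p →
      ∀ x ∈ P, ∀ z ∈ V, ∃ y : Ω, (autFun (α : MulAut P) x)⁻¹ * y ∈ Z ∧
        y * z * y⁻¹ * z⁻¹ = x * z * x⁻¹ * z⁻¹ := by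
    intro P hP α hα x hx z hz
    set R₀ : Subgroup Ω := P ⊔ Z with hR₀def
    obtain ⟨γ₀, hγ₀, hγ₀e⟩ : ∃ γ : F.autGroup R₀, (orderOf γ).Coprime p ∧
        ∀ y ∈ P, (autFun (α : MulAut P) y)⁻¹ * autFun (γ : MulAut R₀) y ∈ Z :=
      exists_lift_aut hS hF hZsc hP hα
    have hR₀ : R₀ ≤ S := sup_le hP hZsc.1
    obtain ⟨φ', hφ', hind⟩ := (hq.isSurjectiveMorphism hS hF).1.2 R₀
      (isMap_of_mem_autGroup hR₀ γ₀.2).hom (IsMap.hom_mem_self _)
    obtain ⟨-, -, hmem, he⟩ := (inducedAlong_iff (f := autFun (γ₀ : MulAut R₀)) (f' := ext φ')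
      (fun _ => rfl) fun y => (ext_apply φ' y).symm).1 hind
    obtain ⟨k, hk, hke, hkfix⟩ := (isCentral_iff.1 hC).2 _ _ (IsMap.of_hom hφ')
    obtain ⟨f, hf, hfe⟩ := hq.lift _ k hk
    set R := preimageAlong θ (imageAlong θ R₀ ⊔ E.center)
    have hRS : R ≤ S := preimageAlong_le _
    have hR₀R : R₀ ≤ R := fun y hy => mem_preimageAlong.2
      ⟨hR₀ hy, Subgroup.mem_sup_left (mem_imageAlong.2 ⟨y, hy, hR₀ hy, rfl⟩)⟩
    have hVR : V ≤ R := fun y hy => mem_preimageAlong.2
      ⟨hVS hy, Subgroup.mem_sup_right (mem_preimageAlong.1 hy).2⟩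
    have hfinR : Finite R := finite_of_le hRS
    have himg : img f R = R := by
      refine eq_of_le_card (img_le fun y hy => mem_preimageAlong.2 ⟨hf.mem hy, ?_⟩) hf.card_img.ge
      rw [← hfe y hy]
      have h1 : img k (imageAlong θ R₀ ⊔ E.center) ≤ imageAlong θ R₀ ⊔ E.center := by
        rw [hk.img_sup]
        refine sup_le_sup (img_le fun w hw => ?_) (img_le fun w hw => (hkfix w hw).symm ▸ hw)
        rw [hke w hw]
        obtain ⟨w, hw', -, rfl⟩ := mem_imageAlong.1 hw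
        rw [he w hw']
        exact mem_imageAlong.2 ⟨_, autFun_mem _ hw', hR₀ (autFun_mem _ hw'), rfl⟩
      exact h1 (mem_img_self k (mem_preimageAlong.1 hy).2)
    obtain ⟨β, hβ, hβe⟩ := hf.exists_aut himg
    have hxR₀ : ∀ w ∈ P, w ∈ R₀ := fun w hw => Subgroup.mem_sup_left hw
    obtain ⟨γ, hγ, -, hγe⟩ := exists_pPrime_lift hRS (le_sup_left.trans hR₀R)
      ((hq.le_preimage _).trans le_rfl) hZsc hα ⟨β, hβ⟩ fun w hw => by
        have hw₀ := hxR₀ w hw
        have h1 : along θ (f w) = along θ (autFun (γ₀ : MulAut R₀) w) := by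
          rw [← hfe w (hR₀R hw₀), hke _ (mem_imageAlong.2 ⟨w, hw₀, hR₀ hw₀, rfl⟩), he w hw₀]
        rw [hβe w (hR₀R hw₀)]
        have h2 := (along_eq_iff hq.ker_iff (hR₀ (autFun_mem _ hw₀)) (hf.mem (hR₀R hw₀))).1 h1.symm
        simpa [mul_assoc] using Z.mul_mem (hγ₀e w hw) h2
    have hxR := hR₀R (hxR₀ x hx)
    have hγm := isMap_of_mem_autGroup hRS γ.2
    refine ⟨autFun (γ : MulAut R) x, hγe x hx, ?_⟩
    have hzfix : autFun (γ : MulAut R) z = z :=
      hfix R γ hRS hγ z (hVR hz) (hVS hz) (hmove R _ hγm z hz (hVR hz))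
    have hcZ : x * z * x⁻¹ * z⁻¹ ∈ Z := by
      have := hmove S (cj x) (isMap_cj le_rfl (hP hx)) z hz (hVS hz)
      have h2 : z⁻¹ * (x * z * x⁻¹) ∈ Z := this
      have h3 : z * (z⁻¹ * (x * z * x⁻¹)) * z⁻¹ ∈ Z :=
        (Subgroup.mem_normalizer_iff.1 (le_normalizer_of_stronglyClosed hZsc (hVS hz)) _).1 h2
      simpa [mul_assoc] using h3
    have h4 := center_fix hγm hcZ (R.mul_mem (R.mul_mem (R.mul_mem hxR (hVR hz)) (R.inv_mem hxR))
      (R.inv_mem (hVR hz)))
    rw [hγm.map_mul (R.mul_mem (R.mul_mem hxR (hVR hz)) (R.inv_mem hxR)) (R.inv_mem (hVR hz)),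
      hγm.map_conj hxR (hVR hz), hγm.map_inv (hVR hz), hzfix] at h4
    exact h4
  -- `V` is centralized by `S`
  have hVc : ∀ a ∈ S, ∀ z ∈ V, a * z * a⁻¹ = z := by
    intro a ha z hz
    have hmul : ∀ u ∈ S, ∀ w ∈ S, u * w * z * (u * w)⁻¹ * z⁻¹ =
        (u * z * u⁻¹ * z⁻¹) * (w * z * w⁻¹ * z⁻¹) := by
      intro u hu w hw
      have hd : w * z * w⁻¹ * z⁻¹ ∈ Z := by
        have h2 : z⁻¹ * (w * z * w⁻¹) ∈ Z := hmove S (cj w) (isMap_cj le_rfl hw) z hz (hVS hz)
        have h3 := (Subgroup.mem_normalizer_iff.1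
          (le_normalizer_of_stronglyClosed hZsc (hVS hz)) _).1 h2
        simpa [mul_assoc] using h3
      have hs : u * z * u⁻¹ * z⁻¹ ∈ S :=
        S.mul_mem (S.mul_mem (S.mul_mem hu (hVS hz)) (S.inv_mem hu)) (S.inv_mem (hVS hz))
      have hcu := center_le_centralizer F hd u hu
      have hcs := center_le_centralizer F hd _ hs
      calc u * w * z * (u * w)⁻¹ * z⁻¹
          = u * (w * z * w⁻¹ * z⁻¹) * z * u⁻¹ * z⁻¹ := by group
        _ = (w * z * w⁻¹ * z⁻¹) * (u * z * u⁻¹ * z⁻¹) := by rw [hcu]; group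
        _ = _ := hcs.symm
    let K : Subgroup Ω :=
      { carrier := {w | w ∈ S ∧ w * z * w⁻¹ * z⁻¹ = 1}
        one_mem' := ⟨S.one_mem, by group⟩
        mul_mem' := fun {u w} hu hw => ⟨S.mul_mem hu.1 hw.1, by
          rw [hmul u hu.1 w hw.1, hu.2, hw.2, mul_one]⟩
        inv_mem' := fun {u} hu => ⟨S.inv_mem hu.1, by
          have h1 := hu.2
          rw [mul_inv_eq_one, mul_inv_eq_iff_eq_mul] at h1 ⊢
          calc u⁻¹ * z = u⁻¹ * (z * u) * u⁻¹ := by group
            _ = z * u⁻¹ := by rw [← h1]; group⟩ }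
    have hle : F.hyperfocalSubgroup p ≤ K := by
      refine hyp_le_of fun P hP α hα x hx => ?_
      obtain ⟨y, hy, hye⟩ := hlift P hP α hα x hx z hz
      have hxS := hP hx
      have hαS : autFun (α : MulAut P) x ∈ S := hP (autFun_mem _ hx)
      have hyS : y ∈ S := by
        simpa using S.mul_mem hαS (hZsc.1 hy)
      have hc0 : ∀ c ∈ Z, c * z * c⁻¹ * z⁻¹ = 1 := fun c hc => by
        have := center_le_centralizer F hc z (hVS hz)
        rw [← this]
        group
      have hα1 : autFun (α : MulAut P) x * z * (autFun (α : MulAut P) x)⁻¹ * z⁻¹ =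
          x * z * x⁻¹ * z⁻¹ := by
        rw [← hye]
        have h1 := hmul _ hαS _ (hZsc.1 hy)
        rw [hc0 _ hy, mul_one, mul_inv_cancel_left] at h1
        exact h1.symm
      refine ⟨S.mul_mem (S.inv_mem hxS) hαS, ?_⟩
      rw [hmul _ (S.inv_mem hxS) _ hαS, hα1, ← hmul _ (S.inv_mem hxS) _ hxS, inv_mul_cancel]
      group
    have h1 := (hle (hperf.symm ▸ ha)).2
    rw [mul_inv_eq_one] at h1
    exact h1
  -- `V` is fixed by all maps
  have hle : F ≤ fixSystem F V hVc := by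
    refine le_of_autGroup hS hF fun P hP hor α hα => ?_
    have hc : V ≤ P := by
      rcases eq_or_lt_of_le hP.1 with rfl | hlt
      · exact hVS
      · have hess := (essential_iff hS hF hlt hP).2 (hor.resolve_left hlt.ne)
        refine fun z hz => centric_centralizerIn_le hess.1 ⟨hVS hz, fun w hw => ?_⟩
        exact mul_inv_eq_iff_eq_mul.1 (hVc w (hP.1 hw) z hz)
    have hfix' : ∀ z ∈ V, autFun α z = z := by
      intro z hz
      obtain ⟨r, hr, a, ha, rfl⟩ := aut_decomp hS hF hP hα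
      obtain ⟨g, hg, hge⟩ := mem_autInducedBy_iff'.1 ha
      have hres : ∀ u ∈ pResidual p (F.autGroup P), autFun (u : MulAut P) z = z := by
        intro u hu
        induction hu using Subgroup.closure_induction with
        | mem β hβ =>
          exact hfix P β hP.1 hβ z (hc hz) (hVS hz)
            (hmove P _ (isMap_of_mem_autGroup hP.1 β.2) z hz (hc hz))
        | one => rw [Subgroup.coe_one, autFun_one]; rfl
        | mul u w _ _ hu hw => rw [Subgroup.coe_mul, autFun_mul, hw, hu]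
        | inv u _ hu =>
          have h1 := autFun_inv_apply (u : MulAut P) z
          rw [hu] at h1
          rw [Subgroup.coe_inv, h1]
      have hrz : autFun r z = z := by
        obtain ⟨u, hu, rfl⟩ := hr
        exact hres u hu
      rw [autFun_mul, hrz, hge z (hc hz)]
      exact hVc g hg.1 z hz
    have hm := isMap_of_mem_autGroup hP.1 hα
    refine (mem_autGroup_iff hP.1).2 ⟨hm.hom, ⟨hm.hom_mem_self, fun x hx => ?_⟩, fun _ => rfl⟩
    rw [IsMap.hom_apply] at hx ⊢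
    rcases hx with hx | hx
    · exact hfix' _ hx
    · exact hm.inj (autFun_mem α x.2) x.2 (hfix' _ hx)
  have hVn : F.IsNormal V := by
    refine normal_of_invariant hS hF fun P hP => ?_
    have hPS : P ≤ S := by
      rcases hP with rfl | hP
      exacts [le_rfl, hP.1.1]
    have hVP : V ≤ P := by
      rcases hP with rfl | hP
      · exact hVS
      · exact fun z hz => centric_centralizerIn_le hP.1 ⟨hVS hz, fun w hw =>
          mul_inv_eq_iff_eq_mul.1 (hVc w (hPS hw) z hz)⟩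
    refine ⟨hVP, fun α hα => ?_⟩
    have hm := isMap_of_mem_autGroup hPS hα
    rw [img_congr (g := id) fun z hz => ?_, img_id]
    have := (hle P hm.hom_mem_self).2 ⟨z, hVP hz⟩ (Or.inl hz)
    exact this
  have hVcen : V ≤ Z := le_center (isCentral_iff.2 ⟨hVS, fun P f hf => by
    obtain ⟨g, hg, he, -⟩ := (isNormal_iff.1 hVn).2 P f hf
    exact ⟨g, hg, he, fun z hz => (hle _ hg.hom_mem_self).2 ⟨z, Subgroup.mem_sup_right hz⟩
      (Or.inl hz)⟩⟩)
  refine (Subgroup.eq_bot_iff_forall _).2 fun y hy => ?_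
  obtain ⟨x, hx, rfl⟩ := exists_along_eq hq.range_eq (hC.1 hy)
  rw [along_of_mem θ hx]
  exact (hq.ker_iff _).2 (hVcen (mem_preimageAlong.2 ⟨hx, hy⟩))

end Cfsg.Agent.Fusion.Hyperfocal
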