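/-
The quotient of a fusion system by a central subgroup: subgroups containing it, their maps and
normalizers, and the automorphisms trivial modulo it.
-/
import Mathlib
import Cfsg.Agent.Lib.Fusion.Factor
import Cfsg.Agent.Lib.Fusion.Normal
import Cfsg.Agent.Lib.Fusion.Hyperfocal

set_option autoImplicit false
set_option linter.all false

namespace Cfsg.Agent.Fusion.CentralQuot

open Cfsg Cfsg.FusionSystem Cfsg.Agent.Fusion.Basic Cfsg.Agent.Fusion.Saturation
  Cfsg.Agent.Fusion.Normal Cfsg.Agent.Fusion.Factor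

variable {Ω Ω' : Type*} [Group Ω] [Group Ω'] {S Z P Q R : Subgroup Ω} [Finite S]
  {S' U' : Subgroup Ω'} {F : FusionSystem S} {F' : FusionSystem S'} {θ : S →* Ω'}
  {f : Ω → Ω} {f' : Ω' → Ω'}

theorem mem_image (hQS : Q ≤ S) {x : Ω} (hx : x ∈ Q) : along θ x ∈ imageAlong θ Q :=
  mem_imageAlong.2 ⟨x, hx, hQS hx, rfl⟩

theorem image_le (hq : IsQuot F Z θ F') (Q : Subgroup Ω) : imageAlong θ Q ≤ S' := fun y hy => by
  obtain ⟨x, -, hxS, rfl⟩ := mem_imageAlong.1 hy
  exact along_mem hq.range_eq hxS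

theorem pre_image (hq : IsQuot F Z θ F') (hZQ : Z ≤ Q) (hQS : Q ≤ S) :
    preimageAlong θ (imageAlong θ Q) = Q := by
  refine le_antisymm (fun x hx => ?_) fun x hx =>
    mem_preimageAlong.2 ⟨hQS hx, mem_image hQS hx⟩
  obtain ⟨hxS, hx'⟩ := mem_preimageAlong.1 hx
  obtain ⟨y, hy, hyS, he⟩ := mem_imageAlong.1 hx'
  rw [show x = y * (y⁻¹ * x) by group]
  exact Q.mul_mem hy (hZQ ((along_eq_iff hq.ker_iff hyS hxS).1 he))

theorem eq_of_image_eq (hq : IsQuot F Z θ F') (hZP : Z ≤ P) (hPS : P ≤ S) (hZQ : Z ≤ Q)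
    (hQS : Q ≤ S) (h : imageAlong θ P = imageAlong θ Q) : P = Q := by
  rw [← pre_image hq hZP hPS, h, pre_image hq hZQ hQS]

theorem image_mono (h : P ≤ Q) : imageAlong θ P ≤ imageAlong θ Q := fun _ hy => by
  obtain ⟨x, hx, hxS, rfl⟩ := mem_imageAlong.1 hy
  exact mem_imageAlong.2 ⟨x, h hx, hxS, rfl⟩

theorem image_img (hf : IsMap F Q f) (hf' : IsMap F' (imageAlong θ Q) f')
    (hrel : ∀ x ∈ Q, f' (along θ x) = along θ (f x)) :
    img f' (imageAlong θ Q) = imageAlong θ (img f Q) := by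
  refine le_antisymm (img_le fun y hy => ?_) fun y hy => ?_
  · obtain ⟨x, hx, -, rfl⟩ := mem_imageAlong.1 hy
    rw [hrel x hx]
    exact mem_image hf.img_le_S (mem_img_self f hx)
  · obtain ⟨z, hz, -, rfl⟩ := mem_imageAlong.1 hy
    obtain ⟨x, hx, rfl⟩ := hf.mem_img.1 hz
    rw [← hrel x hx]
    exact mem_img_self f' (mem_image hf.le hx)

theorem exists_down (hq : IsQuot F Z θ F') (hZQ : Z ≤ Q) (hf : IsMap F Q f) :
    ∃ f', IsMap F' (imageAlong θ Q) f' ∧ ∀ x ∈ Q, f' (along θ x) = along θ (f x) := by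
  have e := pre_image hq hZQ hf.le
  obtain ⟨f', hf', he⟩ := hq.descend (imageAlong θ Q) f (image_le hq Q) (isMap_of_eq e.symm hf)
  exact ⟨f', hf', fun x hx => he x (e.ge hx)⟩

theorem exists_up (hq : IsQuot F Z θ F') (hZQ : Z ≤ Q) (hQS : Q ≤ S)
    (hf' : IsMap F' (imageAlong θ Q) f') :
    ∃ f, IsMap F Q f ∧ ∀ x ∈ Q, f' (along θ x) = along θ (f x) := by
  have e := pre_image hq hZQ hQS
  obtain ⟨f, hf, he⟩ := hq.lift _ f' hf'
  exact ⟨f, isMap_of_eq e hf, fun x hx => he x (e.ge hx)⟩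

theorem pre_top (hq : IsQuot F Z θ F') : preimageAlong θ S' = S := by
  refine le_antisymm (preimageAlong_le _) fun x hx =>
    mem_preimageAlong.2 ⟨hx, along_mem hq.range_eq hx⟩

theorem normalizer_pre (hq : IsQuot F Z θ F') (hZR : Z ≤ R) (hRS : R ≤ S) :
    preimageAlong θ (normalizerIn U' (imageAlong θ R)) =
      normalizerIn (preimageAlong θ U') R := by
  have : Finite R := finite_of_le hRS
  have := hq.finite
  have : Finite (imageAlong θ R) := finite_of_le (image_le hq R)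
  ext x
  constructor
  · intro hx
    obtain ⟨hxS, hxU, hxN⟩ := mem_preimageAlong.1 hx
    refine ⟨mem_preimageAlong.2 ⟨hxS, hxU⟩, mem_normalizer_of_forall fun y hy => ?_⟩
    rw [← pre_image hq hZR hRS]
    refine mem_preimageAlong.2 ⟨S.mul_mem (S.mul_mem hxS (hRS hy)) (S.inv_mem hxS), ?_⟩
    rw [along_mul θ (S.mul_mem hxS (hRS hy)) (S.inv_mem hxS), along_mul θ hxS (hRS hy),
      along_inv θ hxS]
    exact (Subgroup.mem_normalizer_iff.1 hxN _).1 (mem_image hRS hy)
  · rintro ⟨hx, hxN⟩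
    obtain ⟨hxS, hxU⟩ := mem_preimageAlong.1 hx
    refine mem_preimageAlong.2 ⟨hxS, hxU, mem_normalizer_of_forall fun z hz => ?_⟩
    obtain ⟨y, hy, hyS, rfl⟩ := mem_imageAlong.1 hz
    rw [← along_inv θ hxS, ← along_mul θ hxS hyS,
      ← along_mul θ (S.mul_mem hxS hyS) (S.inv_mem hxS)]
    exact mem_image hRS ((Subgroup.mem_normalizer_iff.1 hxN y).1 hy)

/-! ### A central kernel -/

theorem fix_of_central (hc : F.IsCentral Z) (hf : IsMap F P f) {x : Ω} (hx : x ∈ P) (hxZ : x ∈ Z) :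
    f x = x := by
  obtain ⟨g, -, hge, hgZ⟩ := (isCentral_iff.1 hc).2 P f hf
  rw [← hge x hx, hgZ x hxZ]

theorem le_img_of_central (hc : F.IsCentral Z) (hf : IsMap F P f) (hZP : Z ≤ P) : Z ≤ img f P :=
  fun z hz => by
    have h := mem_img_self f (hZP hz)
    rwa [fix_of_central hc hf (hZP hz) hz] at h

theorem commute_of_central (hc : F.IsCentral Z) {z s : Ω} (hz : z ∈ Z) (hs : s ∈ S) :
    z * s = s * z :=
  (F.center_le_centralizer (le_center hc hz) s hs).symm

theorem fullyNormalized_pre {p : ℕ} [Fact p.Prime] (hS : IsPGroup p S) (hF : F.IsSaturated p)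
    (hq : IsQuot F Z θ F') (hc : F.IsCentral Z) (hZQ : Z ≤ Q) (hQS : Q ≤ S)
    (hQn : F'.IsFullyNormalized (imageAlong θ Q)) : F.IsFullyNormalized Q := by
  have := hq.finite
  refine ⟨hQS, fun R hR => ?_⟩
  obtain ⟨f, hf, rfl⟩ := isConj_iff_map.1 hR
  have hZR := le_img_of_central hc hf hZQ
  have hRS := hf.img_le_S
  obtain ⟨f', hf', hfe⟩ := exists_down hq hZQ hf
  have hconj : F'.IsConj (imageAlong θ Q) (imageAlong θ (img f Q)) :=
    image_img hf hf' hfe ▸ hf'.isConj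
  obtain ⟨g', hg', hg'R⟩ := exists_map_to_fullyNormalized (hq.isPGroup hS) (hq.saturated hS hF) hQn
    (isConj_symm hconj)
  obtain ⟨g, hg, hge⟩ := hq.lift _ g' hg'
  have hN : preimageAlong θ (normalizerIn S' (imageAlong θ (img f Q))) =
      normalizerIn S (img f Q) := by
    rw [normalizer_pre hq hZR hRS, pre_top hq]
  rw [hN] at hg hge
  have hRN := le_normalizerIn hRS
  have himg : img g (img f Q) = Q := by
    refine eq_of_image_eq hq (le_img_of_central hc (hg.restrict hRN) hZR)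
      (hg.restrict hRN).img_le_S hZQ hQS ?_
    rw [← image_img (hg.restrict hRN)
      (hg'.restrict (le_normalizerIn (image_le hq _))) fun x hx => hge x (hRN hx), hg'R]
  have : Finite (normalizerIn S Q) := finite_of_le normalizerIn_le
  rw [← hg.card_img]
  refine card_le_card ?_
  have h := hg.img_normalizerIn_le hRN le_rfl
  rwa [himg] at h

/-- The homomorphism to the automorphisms of the image. -/
theorem exists_hom (hq : IsQuot F Z θ F') (hZQ : Z ≤ Q) (hQS : Q ≤ S) :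
    ∃ π : F.autGroup Q →* F'.autGroup (imageAlong θ Q), Function.Surjective π ∧
      ∀ a, ∀ x ∈ Q, autFun (π a : MulAut (imageAlong θ Q)) (along θ x) =
        along θ (autFun (a : MulAut Q) x) := by
  have key : ∀ Q₁, preimageAlong θ (imageAlong θ Q) = Q₁ →
      ∃ π : F.autGroup Q₁ →* F'.autGroup (imageAlong θ Q), Function.Surjective π ∧
        ∀ a, ∀ x ∈ Q₁, autFun (π a : MulAut (imageAlong θ Q)) (along θ x) =
          along θ (autFun (a : MulAut Q₁) x) := by
    rintro Q₁ rfl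
    exact Hyperfocal.exists_proj hq (image_le hq Q)
  exact key Q (pre_image hq hZQ hQS)

/-- The automorphisms in `Aut_F(Q)` trivial modulo the central subgroup `Z`. -/
def kerMod (F : FusionSystem S) {Z : Subgroup Ω} (hc : F.IsCentral Z) {Q : Subgroup Ω}
    (hQS : Q ≤ S) : Subgroup (F.autGroup Q) :=
  haveI : Finite Q := finite_of_le hQS
  let M : Submonoid (F.autGroup Q) :=
  { carrier := {a | ∀ x ∈ Q, x⁻¹ * autFun (a : MulAut Q) x ∈ Z}
    one_mem' := fun x _ => by rw [Subgroup.coe_one, autFun_one]; simp [Z.one_mem]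
    mul_mem' := fun {a b} ha hb x hx => by
      rw [Subgroup.coe_mul, autFun_mul]
      have hz := hb x hx
      have hzQ : x⁻¹ * autFun (b : MulAut Q) x ∈ Q := Q.mul_mem (Q.inv_mem hx) (autFun_mem _ hx)
      rw [show autFun (b : MulAut Q) x = x * (x⁻¹ * autFun (b : MulAut Q) x) from
        (mul_inv_cancel_left _ _).symm, autFun_isHom _ _ hx _ hzQ,
        fix_of_central hc (isMap_of_mem_autGroup hQS a.2) hzQ hz, ← mul_assoc]
      exact Z.mul_mem (ha x hx) hz }
  { M with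
    inv_mem' := fun {a} ha => by
      have h1 : a⁻¹ = a ^ (orderOf a - 1) := by
        refine inv_eq_of_mul_eq_one_right ?_
        rw [← pow_succ', Nat.sub_add_cancel (orderOf_pos a), pow_orderOf_eq_one]
      rw [h1]
      exact M.pow_mem ha _ }

theorem mem_kerMod {hc : F.IsCentral Z} {hQS : Q ≤ S} {a : F.autGroup Q} :
    a ∈ kerMod F hc hQS ↔ ∀ x ∈ Q, x⁻¹ * autFun (a : MulAut Q) x ∈ Z := Iff.rfl

theorem mem_kerMod_of_along {hc : F.IsCentral Z} {hQS : Q ≤ S} (hq : IsQuot F Z θ F')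
    {a : F.autGroup Q} (h : ∀ x ∈ Q, along θ (autFun (a : MulAut Q) x) = along θ x) :
    a ∈ kerMod F hc hQS := fun x hx =>
  (along_eq_iff hq.ker_iff (hQS hx) (hQS (autFun_mem _ hx))).1 (h x hx).symm

theorem along_of_mem_kerMod {hc : F.IsCentral Z} {hQS : Q ≤ S} (hq : IsQuot F Z θ F')
    {a : F.autGroup Q} (h : a ∈ kerMod F hc hQS) {x : Ω} (hx : x ∈ Q) :
    along θ (autFun (a : MulAut Q) x) = along θ x :=
  ((along_eq_iff hq.ker_iff (hQS hx) (hQS (autFun_mem _ hx))).2 (h x hx)).symm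

theorem kerMod_normal (hc : F.IsCentral Z) (hQS : Q ≤ S) : (kerMod F hc hQS).Normal := by
  refine ⟨fun a ha g x hx => ?_⟩
  set y := autFun (g : MulAut Q)⁻¹ x with hy
  have hyQ : y ∈ Q := autFun_mem _ hx
  have hz := ha y hyQ
  have hzQ : y⁻¹ * autFun (a : MulAut Q) y ∈ Q := Q.mul_mem (Q.inv_mem hyQ) (autFun_mem _ hyQ)
  have h1 : autFun ((g * a * g⁻¹ : F.autGroup Q) : MulAut Q) x =
      x * (y⁻¹ * autFun (a : MulAut Q) y) := by
    rw [Subgroup.coe_mul, Subgroup.coe_mul, Subgroup.coe_inv, autFun_mul, autFun_mul, ← hy]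
    conv_lhs => rw [show autFun (a : MulAut Q) y = y * (y⁻¹ * autFun (a : MulAut Q) y) from
      (mul_inv_cancel_left _ _).symm]
    rw [autFun_isHom _ _ hyQ _ hzQ, fix_of_central hc (isMap_of_mem_autGroup hQS g.2) hzQ hz, hy,
      autFun_apply_inv]
  rw [h1, inv_mul_cancel_left]
  exact hz

theorem kerMod_comm (hc : F.IsCentral Z) (hQS : Q ≤ S) {a b : F.autGroup Q}
    (ha : a ∈ kerMod F hc hQS) (hb : b ∈ kerMod F hc hQS) : a * b = b * a := by
  have key : ∀ a b : F.autGroup Q, b ∈ kerMod F hc hQS → ∀ x ∈ Q,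
      autFun (((a * b : F.autGroup Q)) : MulAut Q) x =
        autFun (a : MulAut Q) x * (x⁻¹ * autFun (b : MulAut Q) x) := by
    intro a b hb x hx
    have hzQ : x⁻¹ * autFun (b : MulAut Q) x ∈ Q := Q.mul_mem (Q.inv_mem hx) (autFun_mem _ hx)
    rw [Subgroup.coe_mul, autFun_mul]
    conv_lhs => rw [show autFun (b : MulAut Q) x = x * (x⁻¹ * autFun (b : MulAut Q) x) from
      (mul_inv_cancel_left _ _).symm]
    rw [autFun_isHom _ _ hx _ hzQ,
      fix_of_central hc (isMap_of_mem_autGroup hQS a.2) hzQ (hb x hx)]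
  refine Subtype.ext (autFun_ext fun x hx => ?_)
  rw [key a b hb x hx, key b a ha x hx]
  have hcm := commute_of_central hc (ha x hx) (hc.1 (hb x hx))
  calc autFun (a : MulAut Q) x * (x⁻¹ * autFun (b : MulAut Q) x)
      = x * ((x⁻¹ * autFun (a : MulAut Q) x) * (x⁻¹ * autFun (b : MulAut Q) x)) := by group
    _ = x * ((x⁻¹ * autFun (b : MulAut Q) x) * (x⁻¹ * autFun (a : MulAut Q) x)) := by rw [hcm]
    _ = autFun (b : MulAut Q) x * (x⁻¹ * autFun (a : MulAut Q) x) := by group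

variable {p : ℕ} [Fact p.Prime]

theorem kerMod_pGroup (hS : IsPGroup p S) (hc : F.IsCentral Z) (hQS : Q ≤ S) :
    IsPGroup p (kerMod F hc hQS) := by
  obtain ⟨e, he⟩ := IsPGroup.iff_card.1 hS
  intro a
  refine ⟨e, Subtype.ext (Subtype.ext (autFun_ext fun x hx => ?_))⟩
  have ha := (mem_kerMod (a := (a : F.autGroup Q))).1 a.2 x hx
  set z := x⁻¹ * autFun ((a : F.autGroup Q) : MulAut Q) x with hz
  have hzQ : z ∈ Q := Q.mul_mem (Q.inv_mem hx) (autFun_mem _ hx)
  have hpow : ∀ n : ℕ, autFun (((a : F.autGroup Q) : MulAut Q) ^ n) x = x * z ^ n := by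
    intro n
    induction n with
    | zero => rw [pow_zero, autFun_one, pow_zero, mul_one]; rfl
    | succ n ih =>
      rw [pow_succ', autFun_mul, ih, autFun_isHom _ _ hx _ (Q.pow_mem hzQ n),
        fix_of_central hc (isMap_of_mem_autGroup hQS (a : F.autGroup Q).2) (Q.pow_mem hzQ n)
          (Z.pow_mem ha n), pow_succ', ← mul_assoc x, hz, mul_inv_cancel_left]
  have h2 : z ^ Nat.card S = 1 := by
    have h1 : (⟨z, hQS hzQ⟩ : S) ^ Nat.card S = 1 := pow_card_eq_one'
    exact congrArg Subtype.val h1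
  rw [Subgroup.coe_pow, Subgroup.coe_pow, Subgroup.coe_one, Subgroup.coe_one, hpow, ← he, h2,
    mul_one, autFun_one]
  rfl

theorem kerMod_le_autInducedBy (hS : IsPGroup p S) (hF : F.IsSaturated p) (hc : F.IsCentral Z)
    (hQ : F.IsFullyNormalized Q) {a : F.autGroup Q} (ha : a ∈ kerMod F hc hQ.1) :
    (a : MulAut Q) ∈ autInducedBy S Q := by
  have : Finite Q := finite_of_le hQ.1
  obtain ⟨R, hR⟩ := (fullyNormalized_fullyAutomized hS hF hQ).2
  have hN := kerMod_normal hc hQ.1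
  obtain ⟨c, hcc⟩ := exists_conj_le_sylow R (kerMod_pGroup hS hc hQ.1)
  have h1 := hcc _ (hN.conj_mem a ha c⁻¹)
  simp only [inv_inv, mul_assoc, mul_inv_cancel_left, mul_inv_cancel, mul_one] at h1
  rw [hR] at h1
  exact Subgroup.mem_subgroupOf.1 h1

end Cfsg.Agent.Fusion.CentralQuot
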