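/-
Maps of a normal subsystem `E` on `T` fix the focal subgroup of the centralizer of `T`: the generators
of the automorphism groups of `E` extend to maps moving `C_S(T)` inside cosets of centres, and such an
extension can be averaged over an automorphism of order prime to `p` centralizing `T`.
-/
import Mathlib
import Cfsg.Agent.Lib.Fusion.Subsystems
import Cfsg.Agent.Lib.Fusion.Alperin
import Cfsg.Agent.Lib.Fusion.Normal
import Cfsg.Agent.Lib.Fusion.KNormalizer

set_option autoImplicit false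
set_option linter.all false

namespace Cfsg.Agent.Fusion.CentralizeNormal

open Cfsg Cfsg.FusionSystem Cfsg.Agent.Fusion.Basic Cfsg.Agent.Fusion.Saturation
  Cfsg.Agent.Fusion.Normal Cfsg.Agent.Fusion.Subsystems

/-- Averaging: an element commuting with `ψ` in a coset of an abelian `p`-group. -/
theorem exists_commute {G : Type*} [Group G] {p : ℕ} [Fact p.Prime] {K : Subgroup G}
    (hKc : ∀ a ∈ K, ∀ b ∈ K, a * b = b * a) (hKp : IsPGroup p K) {η ψ : G} {n : ℕ}
    (hn : n.Coprime p) (hψ : ψ ^ n = 1)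
    (hk : ∀ i : ℕ, η⁻¹ * (ψ ^ i * η * (ψ ^ i)⁻¹) ∈ K) :
    ∃ k ∈ K, ψ * (η * k) = η * k * ψ := by
  classical
  letI : CommGroup K := { (inferInstance : Group K) with
    mul_comm := fun a b => Subtype.ext (hKc a a.2 b b.2) }
  let k : ℕ → K := fun i => ⟨_, hk i⟩
  have hc : ∀ i, MulAut.conj ψ (k i : G) = (((k 1)⁻¹ * k (i + 1) : K) : G) := by
    intro i
    simp only [k, MulAut.conj_apply, Subgroup.coe_mul, Subgroup.coe_inv, pow_one, pow_succ']
    group
  have hQ : ∀ j, MulAut.conj ψ ((∏ i ∈ Finset.range j, k i : K) : G)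
      = ((((k 1)⁻¹) ^ j * ∏ i ∈ Finset.range j, k (i + 1) : K) : G) := by
    intro j
    induction j with
    | zero => simp
    | succ j ih =>
      rw [Finset.prod_range_succ, Subgroup.coe_mul, map_mul, ih, hc, ← Subgroup.coe_mul,
        Finset.prod_range_succ, pow_succ]
      congr 1
      ac_rfl
  have hk0 : k 0 = 1 := Subtype.ext (by simp [k])
  have hkn : k n = 1 := Subtype.ext (by simp [k, hψ])
  have hshift : ∏ i ∈ Finset.range n, k (i + 1) = ∏ i ∈ Finset.range n, k i := by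
    have h1 := Finset.prod_range_succ' k n
    rw [Finset.prod_range_succ, hk0, hkn] at h1
    simpa using h1.symm
  obtain ⟨e, he⟩ := hKp (k 1)
  obtain ⟨m, hm⟩ := exists_pow_eq_self_of_coprime (x := k 1) (n := n)
    (Nat.Coprime.coprime_dvd_right (orderOf_dvd_of_pow_eq_one he) (hn.pow_right e))
  set Q : K := ∏ i ∈ Finset.range n, k i with hQdef
  refine ⟨((Q ^ m : K) : G), (Q ^ m).2, ?_⟩
  have h1 : MulAut.conj ψ ((Q ^ m : K) : G) = (((k 1)⁻¹ * Q ^ m : K) : G) := by
    rw [Subgroup.coe_pow, map_pow, hQ n, hshift, ← Subgroup.coe_pow, mul_pow, inv_pow, inv_pow, hm]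
  have h2 : MulAut.conj ψ (η * ((Q ^ m : K) : G)) = η * ((Q ^ m : K) : G) := by
    rw [map_mul, h1, Subgroup.coe_mul, Subgroup.coe_inv, MulAut.conj_apply]
    simp only [k, pow_one]
    group
  rw [MulAut.conj_apply] at h2
  exact mul_inv_eq_iff_eq_mul.1 h2

variable {Ω : Type*} [Group Ω] {S T C P R : Subgroup Ω} {F : FusionSystem S} {E : FusionSystem T}
  {p : ℕ} {y : Ω} {f g : Ω → Ω}

/-- Two automorphisms of a join agreeing on both parts are equal. -/
theorem aut_ext_sup {A B : Subgroup Ω} {α β : MulAut (A ⊔ B : Subgroup Ω)}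
    (hA : ∀ x ∈ A, autFun α x = autFun β x) (hB : ∀ x ∈ B, autFun α x = autFun β x) : α = β := by
  refine autFun_ext fun x hx => ?_
  have : A ⊔ B ≤ (α.toMonoidHom.eqLocus β.toMonoidHom).map (A ⊔ B).subtype := by
    refine sup_le (fun a ha => ?_) (fun b hb => ?_)
    · refine ⟨⟨a, Subgroup.mem_sup_left ha⟩, Subtype.ext ?_, rfl⟩
      simpa [autFun_of_mem _ (Subgroup.mem_sup_left ha)] using hA a ha
    · refine ⟨⟨b, Subgroup.mem_sup_right hb⟩, Subtype.ext ?_, rfl⟩
      simpa [autFun_of_mem _ (Subgroup.mem_sup_right hb)] using hB b hb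
  obtain ⟨z, hz, rfl⟩ := this hx
  rw [Subgroup.subtype_apply, autFun_apply, autFun_apply]
  exact congrArg Subtype.val hz

/-- The centre of a subgroup, inside the ambient group. -/
abbrev ctr (R : Subgroup Ω) : Subgroup Ω := R ⊓ Subgroup.centralizer (R : Set Ω)

theorem autFun_ctr {γ : MulAut R} {z : Ω} (hz : z ∈ ctr R) : autFun γ z ∈ ctr R := by
  refine ⟨autFun_mem γ hz.1, fun r hr => ?_⟩
  have h1 : autFun γ⁻¹ r * z = z * autFun γ⁻¹ r := hz.2 _ (autFun_mem _ hr)
  have h2 := congrArg (autFun γ) h1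
  rwa [autFun_isHom γ _ (autFun_mem _ hr) _ hz.1, autFun_isHom γ _ hz.1 _ (autFun_mem _ hr),
    autFun_apply_inv] at h2

/-- The map `γ` extends to `R ⊔ C` moving the elements of `C` by elements of `Z(R)`. -/
def Extends (F : FusionSystem S) (C R : Subgroup Ω) (γ : MulAut R) : Prop :=
  ∃ h, IsMap F (R ⊔ C) h ∧ (∀ x ∈ R, h x = autFun γ x) ∧ ∀ x ∈ C, x⁻¹ * h x ∈ ctr R

theorem extends_mem {h : Ω → Ω} {γ : MulAut R} (hh : IsMap F (R ⊔ C) h)
    (hhR : ∀ x ∈ R, h x = autFun γ x) (hhC : ∀ x ∈ C, x⁻¹ * h x ∈ ctr R) :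
    img h (R ⊔ C) ≤ R ⊔ C := by
  rw [hh.img_sup]
  refine sup_le (img_le fun x hx => ?_) (img_le fun x hx => ?_)
  · rw [hhR x hx]
    exact Subgroup.mem_sup_left (autFun_mem γ hx)
  · simpa using Subgroup.mul_mem _ (Subgroup.mem_sup_right hx : x ∈ R ⊔ C)
      (Subgroup.mem_sup_left (hhC x hx).1)

/-- The automorphisms with such extensions. -/
def extAut (F : FusionSystem S) [Finite R] (hle : R ⊔ C ≤ S) : Subgroup (MulAut R) :=
  let M : Submonoid (MulAut R) :=
  { carrier := {γ | Extends F C R γ}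
    one_mem' := ⟨id, isMap_id hle, fun x _ => by rw [autFun_one],
      fun x _ => by simp [ctr]⟩
    mul_mem' := by
      rintro γ δ ⟨h, hh, hhR, hhC⟩ ⟨k, hk, hkR, hkC⟩
      refine ⟨fun x => h (k x), hh.comp hk fun x hx =>
        extends_mem hk hkR hkC (mem_img_self k hx), fun x hx => ?_, fun x hx => ?_⟩
      · show h (k x) = _
        rw [hkR x hx, hhR _ (autFun_mem δ hx), autFun_mul]
      · have hz := hkC x hx
        have e : k x = x * (x⁻¹ * k x) := (mul_inv_cancel_left _ _).symm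
        show x⁻¹ * h (k x) ∈ ctr R
        rw [e, hh.map_mul (Subgroup.mem_sup_right hx) (Subgroup.mem_sup_left hz.1), hhR _ hz.1,
          ← mul_assoc]
        exact mul_mem (hhC x hx) (autFun_ctr hz) }
  { M with
    inv_mem' := fun {γ} hγ => by
      have h1 : γ⁻¹ = γ ^ (orderOf γ - 1) := by
        refine inv_eq_of_mul_eq_one_right ?_
        rw [← pow_succ', Nat.sub_add_cancel (orderOf_pos γ), pow_orderOf_eq_one]
      rw [h1]
      exact M.pow_mem hγ _ }

theorem mem_extAut [Finite R] {hle : R ⊔ C ≤ S} {γ : MulAut R} :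
    γ ∈ extAut F hle ↔ Extends F C R γ := Iff.rfl

/-- The map `f` on `P` extends to a map fixing `y`. -/
def Fixes (F : FusionSystem S) (y : Ω) (P : Subgroup Ω) (f : Ω → Ω) : Prop :=
  ∃ g, IsMap F (P ⊔ Subgroup.zpowers y) g ∧ (∀ x ∈ P, g x = f x) ∧ g y = y

/-- An extension fixes every commutator of elements of `C`. -/
theorem fixes_commutator {γ : MulAut R} (hRC : C ≤ Subgroup.centralizer (R : Set Ω))
    (hγ : Extends F C R γ) {a b : Ω} (ha : a ∈ C) (hb : b ∈ C) :
    Fixes F (a * b * a⁻¹ * b⁻¹) R (autFun γ) := by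
  obtain ⟨h, hh, hhR, hhC⟩ := hγ
  have hy : a * b * a⁻¹ * b⁻¹ ∈ C :=
    mul_mem (mul_mem (mul_mem ha hb) (Subgroup.inv_mem _ ha)) (Subgroup.inv_mem _ hb)
  refine ⟨h, hh.restrict (sup_le_sup_left (Subgroup.zpowers_le.2 hy) R), hhR, ?_⟩
  have haW : a ∈ R ⊔ C := Subgroup.mem_sup_right ha
  have hbW : b ∈ R ⊔ C := Subgroup.mem_sup_right hb
  rw [hh.map_mul (mul_mem (mul_mem haW hbW) (Subgroup.inv_mem _ haW)) (Subgroup.inv_mem _ hbW),
    hh.map_mul (mul_mem haW hbW) (Subgroup.inv_mem _ haW), hh.map_mul haW hbW, hh.map_inv haW,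
    hh.map_inv hbW]
  set z := a⁻¹ * h a with hz
  set w := b⁻¹ * h b with hw
  have ea : h a = a * z := (mul_inv_cancel_left _ _).symm
  have eb : h b = b * w := (mul_inv_cancel_left _ _).symm
  have hza : ∀ c ∈ C, Commute z c := fun c hc => hRC hc z (hhC a ha).1
  have hwa : ∀ c ∈ C, Commute w c := fun c hc => hRC hc w (hhC b hb).1
  have hzw : Commute z w := ((hhC b hb).2 z (hhC a ha).1)
  clear_value z w
  rw [ea, eb, mul_inv_rev, mul_inv_rev]
  calc a * z * (b * w) * (z⁻¹ * a⁻¹) * (w⁻¹ * b⁻¹)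
      = a * (z * b) * (w * z⁻¹) * a⁻¹ * w⁻¹ * b⁻¹ := by group
    _ = a * (b * z) * (z⁻¹ * w) * a⁻¹ * w⁻¹ * b⁻¹ := by
        rw [(hza b hb).eq, (hzw.inv_left).eq]
    _ = a * b * (w * a⁻¹) * w⁻¹ * b⁻¹ := by group
    _ = a * b * a⁻¹ * b⁻¹ := by rw [(hwa a⁻¹ (Subgroup.inv_mem _ ha)).eq]; group

/-- An extension can be averaged to fix `x⁻¹φ(x)`, for `φ` of order prime to `p` extending to a map
that fixes `R` pointwise. -/
theorem fixes_twist [Finite S] [Fact p.Prime] (hS : IsPGroup p S) {γ : MulAut R}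
    (hRC : C ≤ Subgroup.centralizer (R : Set Ω)) (hγ : Extends F C R γ) (hPC : P ≤ C)
    {φ : MulAut P} (hφp : (orderOf φ).Coprime p) {u : Ω → Ω} (hu : IsMap F (R ⊔ P) u)
    (huP : ∀ x ∈ P, u x = autFun φ x) (huR : ∀ x ∈ R, u x = x) {x : Ω} (hx : x ∈ P) :
    Fixes F (x⁻¹ * autFun φ x) R (autFun γ) := by
  obtain ⟨h, hh, hhR, hhC⟩ := hγ
  have hh' := hh.restrict (sup_le_sup_left hPC R)
  have hWS : R ⊔ P ≤ S := hu.le
  have hfin : Finite (R ⊔ P : Subgroup Ω) := finite_of_le hWS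
  have hψimg : img u (R ⊔ P) = R ⊔ P := by
    refine eq_of_le_card ?_ hu.card_img.ge
    rw [hu.img_sup]
    refine sup_le (img_le fun a ha => ?_) (img_le fun a ha => ?_)
    · rw [huR a ha]; exact Subgroup.mem_sup_left ha
    · rw [huP a ha]; exact Subgroup.mem_sup_right (autFun_mem φ ha)
  have hηimg : img h (R ⊔ P) = R ⊔ P := by
    refine eq_of_le_card ?_ hh'.card_img.ge
    exact extends_mem hh' hhR fun a ha => hhC a (hPC ha)
  obtain ⟨ψ, hψA, hψ⟩ := hu.exists_aut hψimg
  obtain ⟨η, hηA, hη⟩ := hh'.exists_aut hηimg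
  have hψP : ∀ (i : ℕ), ∀ a ∈ P, autFun (ψ ^ i) a = autFun (φ ^ i) a := by
    intro i
    induction i with
    | zero => intro a _; simp only [pow_zero, autFun_one]
    | succ i ih =>
      intro a ha
      rw [pow_succ', pow_succ', autFun_mul, autFun_mul, ih a ha,
        hψ _ (Subgroup.mem_sup_right (autFun_mem _ ha)), huP _ (autFun_mem _ ha)]
  have hψR : ∀ (i : ℕ), ∀ a ∈ R, autFun (ψ ^ i) a = a := by
    intro i
    induction i with
    | zero => intro a _; simp only [pow_zero, autFun_one, id]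
    | succ i ih =>
      intro a ha
      rw [pow_succ', autFun_mul, ih a ha, hψ _ (Subgroup.mem_sup_left ha), huR a ha]
  have hψn : ψ ^ orderOf φ = 1 := aut_ext_sup
    (fun a ha => by rw [hψR _ a ha, autFun_one]; rfl)
    (fun a ha => by rw [hψP _ a ha, pow_orderOf_eq_one, autFun_one, autFun_one])
  -- the kernel
  let K : Subgroup (MulAut (R ⊔ P : Subgroup Ω)) :=
  { carrier := {k | k ∈ F.autGroup (R ⊔ P) ∧ (∀ a ∈ R, autFun k a = a) ∧
      ∀ a ∈ P, a⁻¹ * autFun k a ∈ ctr R}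
    one_mem' := ⟨one_mem _, fun a _ => by rw [autFun_one]; rfl, fun a _ => by
      rw [autFun_one, id, inv_mul_cancel]; exact one_mem _⟩
    mul_mem' := by
      rintro k l ⟨hkA, hkR, hkP⟩ ⟨hlA, hlR, hlP⟩
      refine ⟨mul_mem hkA hlA, fun a ha => by rw [autFun_mul, hlR a ha, hkR a ha], fun a ha => ?_⟩
      have e : autFun l a = a * (a⁻¹ * autFun l a) := (mul_inv_cancel_left _ _).symm
      rw [autFun_mul, e, autFun_isHom k _ (Subgroup.mem_sup_right ha) _
        (Subgroup.mem_sup_left (hlP a ha).1), hkR _ (hlP a ha).1, ← mul_assoc]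
      exact mul_mem (hkP a ha) (hlP a ha)
    inv_mem' := by
      rintro k ⟨hkA, hkR, hkP⟩
      have hR' : ∀ a ∈ R, autFun k⁻¹ a = a := fun a ha => by
        conv_lhs => rw [← hkR a ha]
        rw [autFun_inv_apply]
      refine ⟨Subgroup.inv_mem _ hkA, hR', fun a ha => ?_⟩
      have hz := hkP a ha
      have e : autFun k a * (a⁻¹ * autFun k a)⁻¹ = a := by group
      have h2 : autFun k⁻¹ a = a * (a⁻¹ * autFun k a)⁻¹ := by
        conv_lhs => rw [← e]
        rw [autFun_isHom k⁻¹ _ (autFun_mem k (Subgroup.mem_sup_right ha)) _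
          (Subgroup.mem_sup_left (Subgroup.inv_mem _ hz).1), autFun_inv_apply, hR' _ (Subgroup.inv_mem _ hz).1]
      rw [h2, inv_mul_cancel_left]
      exact Subgroup.inv_mem _ hz }
  have hKc : ∀ k ∈ K, ∀ l ∈ K, k * l = l * k := by
    rintro k ⟨-, hkR, hkP⟩ l ⟨-, hlR, hlP⟩
    refine aut_ext_sup (fun a ha => by rw [autFun_mul, autFun_mul, hlR a ha, hkR a ha, hlR a ha])
      fun a ha => ?_
    obtain ⟨z, hz, ek⟩ : ∃ z ∈ ctr R, autFun k a = a * z :=
      ⟨_, hkP a ha, (mul_inv_cancel_left _ _).symm⟩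
    obtain ⟨w, hw, el⟩ : ∃ w ∈ ctr R, autFun l a = a * w :=
      ⟨_, hlP a ha, (mul_inv_cancel_left _ _).symm⟩
    rw [autFun_mul, autFun_mul, el, autFun_isHom k _ (Subgroup.mem_sup_right ha) _
      (Subgroup.mem_sup_left hw.1), hkR _ hw.1, ek, autFun_isHom l _ (Subgroup.mem_sup_right ha) _
      (Subgroup.mem_sup_left hz.1), hlR _ hz.1, el, mul_assoc, mul_assoc, hw.2 _ hz.1]
  have hKp : IsPGroup p K := by
    rintro ⟨k, hkA, hkR, hkP⟩
    obtain ⟨e, he⟩ := (hS.to_le hWS).exists_card_eq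
    refine ⟨e, Subtype.ext ?_⟩
    simp only [Subgroup.coe_pow, Subgroup.coe_one]
    have hpow : ∀ j : ℕ, ∀ a ∈ P, autFun (k ^ j) a = a * (a⁻¹ * autFun k a) ^ j := by
      intro j
      induction j with
      | zero => intro a _; simp only [pow_zero, autFun_one, id, mul_one]
      | succ j ih =>
        intro a ha
        rw [pow_succ', autFun_mul, ih a ha,
          autFun_isHom k _ (Subgroup.mem_sup_right ha) _
            (Subgroup.mem_sup_left (pow_mem (hkP a ha) j).1), hkR _ (pow_mem (hkP a ha) j).1,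
          pow_succ' (a⁻¹ * autFun k a) j, ← mul_assoc a, mul_inv_cancel_left]
    refine aut_ext_sup (fun a ha => ?_) fun a ha => ?_
    · rw [autFun_one, id]
      clear he
      induction p ^ e with
      | zero => simp only [pow_zero, autFun_one, id]
      | succ j ih => rw [pow_succ', autFun_mul, ih, hkR a ha]
    · rw [hpow _ a ha, autFun_one, id]
      have hmem : a⁻¹ * autFun k a ∈ R ⊔ P := Subgroup.mem_sup_left (hkP a ha).1
      have h1 : (⟨_, hmem⟩ : (R ⊔ P : Subgroup Ω)) ^ p ^ e = 1 := by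
        rw [← he]; exact pow_card_eq_one'
      have h2 := congrArg Subtype.val h1
      simp only [Subgroup.coe_pow, Subgroup.coe_one] at h2
      rw [h2, mul_one]
  have hηR : ∀ a ∈ R, autFun η a = autFun γ a := fun a ha => by
    rw [hη a (Subgroup.mem_sup_left ha), hhR a ha]
  have hηiR : ∀ a ∈ R, autFun η⁻¹ a = autFun γ⁻¹ a := fun a ha => by
    conv_lhs => rw [← autFun_apply_inv γ a, ← hηR _ (autFun_mem _ ha)]
    rw [autFun_inv_apply]
  have hηz : ∀ a ∈ P, a⁻¹ * autFun η a ∈ ctr R := fun a ha => by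
    rw [hη a (Subgroup.mem_sup_right ha)]; exact hhC a (hPC ha)
  have hk : ∀ i : ℕ, η⁻¹ * (ψ ^ i * η * (ψ ^ i)⁻¹) ∈ K := by
    intro i
    have hψiR : ∀ a ∈ R, autFun (ψ ^ i)⁻¹ a = a := fun a ha => by
      conv_lhs => rw [← hψR i a ha]
      rw [autFun_inv_apply]
    have hψiP : ∀ a ∈ P, autFun (ψ ^ i)⁻¹ a = autFun (φ ^ i)⁻¹ a := fun a ha => by
      conv_lhs => rw [← autFun_apply_inv (φ ^ i) a, ← hψP i _ (autFun_mem _ ha)]
      rw [autFun_inv_apply]
    refine ⟨mul_mem (Subgroup.inv_mem _ hηA) (mul_mem (mul_mem (pow_mem hψA i) hηA) (Subgroup.inv_mem _ (pow_mem hψA i))),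
      fun a ha => ?_, fun a ha => ?_⟩
    · rw [autFun_mul, autFun_mul, autFun_mul, hψiR a ha, hηR a ha, hψR i _ (autFun_mem γ ha),
        hηiR _ (autFun_mem γ ha), autFun_inv_apply]
    · set v := autFun (ψ ^ i)⁻¹ a with hv
      have hvP : v ∈ P := by rw [hv, hψiP a ha]; exact autFun_mem _ ha
      set z := v⁻¹ * autFun η v with hzd
      have hz : z ∈ ctr R := hηz v hvP
      set z0 := a⁻¹ * autFun η a with hz0d
      have hz0 : z0 ∈ ctr R := hηz a ha
      have haW : a ∈ R ⊔ P := Subgroup.mem_sup_right ha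
      have e1 : autFun (ψ ^ i) (autFun η v) = a * z := by
        rw [show autFun η v = v * z from (mul_inv_cancel_left _ _).symm,
          autFun_isHom _ _ (Subgroup.mem_sup_right hvP) _ (Subgroup.mem_sup_left hz.1),
          hψR i _ hz.1, hv, autFun_apply_inv]
      have e2 : autFun η⁻¹ a * autFun γ⁻¹ z0 = a := by
        rw [← hηiR _ hz0.1, ← autFun_isHom η⁻¹ _ haW _ (Subgroup.mem_sup_left hz0.1), hz0d]
        conv_rhs => rw [← autFun_inv_apply η a]
        have : autFun η a = a * (a⁻¹ * autFun η a) := (mul_inv_cancel_left _ _).symm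
        conv_rhs => rw [this]
      rw [autFun_mul, autFun_mul, autFun_mul, ← hv, e1,
        autFun_isHom η⁻¹ _ haW _ (Subgroup.mem_sup_left hz.1), hηiR _ hz.1]
      have e3 : a⁻¹ * (autFun η⁻¹ a * autFun γ⁻¹ z) = (autFun γ⁻¹ z0)⁻¹ * autFun γ⁻¹ z := by
        have e4 : autFun η⁻¹ a = a * (autFun γ⁻¹ z0)⁻¹ := eq_mul_inv_of_mul_eq e2
        rw [e4]; group
      rw [e3]
      exact mul_mem (Subgroup.inv_mem _ (autFun_ctr hz0)) (autFun_ctr hz)
  obtain ⟨k, ⟨hkA, hkR, hkP⟩, hcomm⟩ := exists_commute hKc hKp hφp hψn hk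
  set e := η * k with he
  have heA : e ∈ F.autGroup (R ⊔ P) := mul_mem hηA hkA
  have hxW : x ∈ R ⊔ P := Subgroup.mem_sup_right hx
  have hyP : x⁻¹ * autFun φ x ∈ P := mul_mem (Subgroup.inv_mem _ hx) (autFun_mem φ hx)
  refine ⟨autFun e, (isMap_of_mem_autGroup hWS heA).restrict
    (sup_le_sup_left (Subgroup.zpowers_le.2 hyP) R), fun a ha => by
      rw [autFun_mul, hkR a ha, hηR a ha], ?_⟩
  set w := x⁻¹ * autFun k x with hw
  have hwz : w ∈ ctr R := hkP x hx
  have hex : x⁻¹ * autFun e x ∈ ctr R := by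
    rw [autFun_mul, show autFun k x = x * w from (mul_inv_cancel_left _ _).symm,
      autFun_isHom η _ hxW _ (Subgroup.mem_sup_left hwz.1), hηR _ hwz.1, ← mul_assoc]
    exact mul_mem (hηz x hx) (autFun_ctr hwz)
  set z := x⁻¹ * autFun e x with hzd
  have ex : autFun e x = x * z := (mul_inv_cancel_left _ _).symm
  have eφ : autFun φ x = autFun ψ x := by rw [hψ x hxW, huP x hx]
  have e2 : autFun e (autFun φ x) = autFun φ x * z := by
    rw [eφ, ← autFun_mul, ← hcomm, autFun_mul, ex,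
      autFun_isHom ψ _ hxW _ (Subgroup.mem_sup_left hex.1),
      hψ z (Subgroup.mem_sup_left hex.1), huR z hex.1]
  have hhom := autFun_isHom e
  rw [hhom _ (Subgroup.inv_mem _ hxW) _ (Subgroup.mem_sup_right (autFun_mem φ hx)), hhom.map_inv hxW, ex, e2,
    mul_inv_rev]
  have hc1 : Commute z (autFun φ x) := hRC (hPC (autFun_mem φ hx)) z hex.1
  have hc2 : Commute z x := hRC (hPC hx) z hex.1
  calc z⁻¹ * x⁻¹ * (autFun φ x * z) = z⁻¹ * x⁻¹ * (z * autFun φ x) := by rw [hc1.eq]
    _ = z⁻¹ * (x⁻¹ * z) * autFun φ x := by group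
    _ = z⁻¹ * (z * x⁻¹) * autFun φ x := by rw [(hc2.inv_right).eq]
    _ = x⁻¹ * autFun φ x := by group

/-- The maps of `E` that extend fixing `y`. -/
def fixSys (F : FusionSystem S) (E : FusionSystem T) (hE : E.IsSubsystemOf F)
    (hy : y ∈ centralizerIn S T) : FusionSystem T where
  Hom P := {φ | φ ∈ E.Hom P ∧ Fixes F y P (ext φ)}
  le_of_mem h := E.le_of_mem h.1
  injective_of_mem h := E.injective_of_mem h.1
  conj_mem := by
    intro P a hP ha
    have hTS : T ≤ S := by
      obtain h1 := hE T (E.conj_mem le_rfl T.one_mem)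
      exact (F.le_of_mem h1).1
    refine ⟨E.conj_mem hP ha, cj a, isMap_cj (sup_le (hP.trans hTS)
      (Subgroup.zpowers_le.2 hy.1)) (hTS ha), fun x hx => ?_, ?_⟩
    · rw [ext_of_mem _ hx]; rfl
    · rw [cj_apply, show a * y = y * a from hy.2 a ha, mul_inv_cancel_right]
  comp_mem := by
    rintro P Q φ ψ ⟨hφ, g₁, hg₁, hg₁P, hg₁y⟩ ⟨hψ, g₂, hg₂, hg₂P, hg₂y⟩ h
    refine ⟨E.comp_mem hφ hψ h, fun x => g₂ (g₁ x), hg₂.comp hg₁ fun x hx => ?_,
      fun x hx => ?_, show g₂ (g₁ y) = y by rw [hg₁y, hg₂y]⟩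
    · have h1 : img g₁ (P ⊔ Subgroup.zpowers y) ≤ Q ⊔ Subgroup.zpowers y := by
        rw [hg₁.img_sup]
        refine sup_le (img_le fun a ha => ?_) (img_le fun a ha => ?_)
        · rw [hg₁P a ha, ext_of_mem φ ha]; exact Subgroup.mem_sup_left (h _)
        · obtain ⟨n, rfl⟩ := Subgroup.mem_zpowers_iff.1 ha
          have h2 := hg₁.restrict (le_sup_right : Subgroup.zpowers y ≤ P ⊔ Subgroup.zpowers y)
          have h3 : g₁ (y ^ n) = g₁ y ^ n := by
            have := map_zpow h2.hom ⟨y, Subgroup.mem_zpowers y⟩ n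
            exact this
          rw [h3, hg₁y]
          exact Subgroup.mem_sup_right (Subgroup.zpow_mem _ (Subgroup.mem_zpowers y) n)
      exact h1 (mem_img_self g₁ hx)
    · show g₂ (g₁ x) = _
      rw [hg₁P x hx, ext_of_mem φ hx, hg₂P _ (h ⟨x, hx⟩), ext_of_mem ψ (h ⟨x, hx⟩), ext_of_mem _ hx]
      rfl
  inv_mem := by
    rintro P φ ⟨hφ, g, hg, hgP, hgy⟩
    obtain ⟨ψ, hψ, hψe⟩ := E.inv_mem hφ
    obtain ⟨i, hi, -, hig, -⟩ := hg.exists_inv
    refine ⟨ψ, ⟨hψ, i, ?_, fun b hb => ?_, ?_⟩, hψe⟩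
    · have himg : img g (P ⊔ Subgroup.zpowers y) = φ.range ⊔ Subgroup.zpowers y := by
        rw [hg.img_sup, img_congr (f := g) (g := ext φ) (P := P) fun x hx => hgP x hx,
          ← range_eq_img]
        congr 1
        refine le_antisymm (img_le fun a ha => ?_) (Subgroup.zpowers_le.2 ?_)
        · obtain ⟨n, rfl⟩ := Subgroup.mem_zpowers_iff.1 ha
          have h2 := hg.restrict (le_sup_right : Subgroup.zpowers y ≤ P ⊔ Subgroup.zpowers y)
          have h3 : g (y ^ n) = g y ^ n := map_zpow h2.hom ⟨y, Subgroup.mem_zpowers y⟩ n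
          rw [h3, hgy]
          exact Subgroup.zpow_mem _ (Subgroup.mem_zpowers y) n
        · have h4 := mem_img_self g (Subgroup.mem_zpowers y)
          rwa [hgy] at h4
      exact himg ▸ hi
    · obtain ⟨x, rfl⟩ := hb
      rw [ext_of_mem ψ ⟨x, rfl⟩, hψe, ← ext_apply φ x, ← hgP _ x.2,
        hig _ (Subgroup.mem_sup_left x.2)]
    · have := hig y (Subgroup.mem_sup_right (Subgroup.mem_zpowers y))
      rwa [hgy] at this

section Normal

variable [Finite S] [Fact p.Prime]

/-- A conjugate of an inner automorphism from `N_T(R)` has a good extension to any subgroup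
centralizing `R`. -/
theorem extends_conj_of_le (hS : IsPGroup p S) (hF : F.IsSaturated p) (hT : F.StronglyClosed T)
    (hRT : R ≤ T) (hcen : ∀ R', F.IsConj R R' → centralizerIn T R' ≤ R')
    (hC : C ≤ centralizerIn S R) {δ a : MulAut R} (hδ : δ ∈ F.autGroup R)
    (ha : a ∈ autInducedBy T R) : Extends F C R (δ * a * δ⁻¹) := by
  obtain ⟨t, ht, hta⟩ := mem_autInducedBy_iff'.1 ha
  have hRS : R ≤ S := hRT.trans hT.1
  have hCR : C ≤ centralizerIn S R := hC
  have hCN : C ≤ normalizerIn S R := hC.trans centralizerIn_le_normalizerIn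
  have hRN : R ≤ normalizerIn S R := le_normalizerIn hRS
  obtain ⟨R₁, hRR₁, hn⟩ := exists_fullyNormalized (F := F) hRS
  obtain ⟨g, hg, hgR⟩ := exists_map_to_fullyNormalized hS hF hn hRR₁
  subst hgR
  have hgR' := hg.restrict hRN
  obtain ⟨i₀, hi₀, hi₀img, hi₀g, -⟩ := hgR'.exists_inv
  have hi₀mem : ∀ b ∈ img g R, i₀ b ∈ R := fun b hb => hi₀img.le (mem_img_self i₀ hb)
  have hf' : IsMap F (img g R) fun b => g (autFun δ (i₀ b)) :=
    hgR'.comp ((isMap_of_mem_autGroup hRS hδ).comp hi₀ hi₀mem) fun b hb =>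
      autFun_mem δ (hi₀mem b hb)
  have hf'img : img (fun b => g (autFun δ (i₀ b))) (img g R) = img g R := by
    have hR'fin : Finite (img g R) := finite_of_le hgR'.img_le_S
    exact eq_of_le_card (img_le fun b hb => mem_img_self g (autFun_mem δ (hi₀mem b hb)))
      hf'.card_img.ge
  obtain ⟨d, hd, hde⟩ := exists_extension hS hF hf'
    (by rw [hf'img]; exact fullyNormalized_fullyCentralized hS hF hn)
  set M := img g R ⊔ centralizerIn S (img g R) with hM
  have hdM : IsMap F M d := hd.restrict (sup_le (le_nSub hf') centralizerIn_le_nSub)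
  have hMS : M ≤ S := hdM.le
  have hMfin : Finite M := finite_of_le hMS
  have hdimg : img d M = M := by
    refine eq_of_le_card ?_ hdM.card_img.ge
    rw [hM, hdM.img_sup]
    refine sup_le_sup (le_of_eq (by rw [img_congr hde, hf'img])) ?_
    have := hd.img_centralizerIn_le (le_nSub hf') (centralizerIn_le_nSub (f := fun b => g (autFun δ (i₀ b))))
    rwa [img_congr hde, hf'img] at this
  obtain ⟨D, hDA, hD⟩ := hdM.exists_aut hdimg
  have hDR : ∀ r ∈ R, autFun D (g r) = g (autFun δ r) := fun r hr => by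
    rw [hD _ (Subgroup.mem_sup_left (mem_img_self g hr)), hde _ (mem_img_self g hr)]
    show g (autFun δ (i₀ (g r))) = _
    rw [hi₀g r hr]
  have hDiR : ∀ r ∈ R, autFun D⁻¹ (g r) = g (autFun δ⁻¹ r) := fun r hr => by
    conv_lhs => rw [← autFun_apply_inv δ r, ← hDR _ (autFun_mem _ hr)]
    rw [autFun_inv_apply]
  have hgC : ∀ c ∈ C, g c ∈ centralizerIn S (img g R) := fun c hc =>
    hg.img_centralizerIn_le hRN centralizerIn_le_normalizerIn (mem_img_self g (hCR hc))
  have htN : t ∈ normalizerIn S R := ⟨hT.1 ht.1, ht.2⟩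
  have htT : g t ∈ T := stronglyClosed_mem hT (hg.restrict (inf_le_inf_right _ hT.1)) ht ht.1
  have htn : g t ∈ Subgroup.normalizer (img g R : Set Ω) := hg.mem_normalizer_img hRN htN htN.2
  have hcjM : ∀ w ∈ M, cj (g t) w ∈ M := by
    intro w hw
    have hle : M ≤ M.comap (MulAut.conj (g t)).toMonoidHom := by
      refine sup_le (fun r hr => Subgroup.mem_sup_left ((Subgroup.mem_normalizer_iff.1 htn r).1 hr))
        fun c hc => Subgroup.mem_sup_right ⟨?_, fun r hr => ?_⟩
      · exact mul_mem (mul_mem (hg.mem htN) hc.1) (Subgroup.inv_mem _ (hg.mem htN))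
      · have h1 : (g t)⁻¹ * r * g t ∈ img g R :=
          (Subgroup.mem_normalizer_iff'.1 htn _).2 (by simpa [mul_assoc] using hr)
        have h2 : (g t)⁻¹ * r * g t * c = c * ((g t)⁻¹ * r * g t) := hc.2 _ h1
        show r * (g t * c * (g t)⁻¹) = g t * c * (g t)⁻¹ * r
        calc r * (g t * c * (g t)⁻¹) = g t * ((g t)⁻¹ * r * g t * c) * (g t)⁻¹ := by group
          _ = g t * (c * ((g t)⁻¹ * r * g t)) * (g t)⁻¹ := by rw [h2]
          _ = g t * c * (g t)⁻¹ * r := by group
    exact hle hw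
  set m := fun w => autFun D (cj (g t) (autFun D⁻¹ (g w))) with hmdef
  have hgW := hg.restrict (sup_le hRN hCN)
  have hgM : ∀ w ∈ R ⊔ C, g w ∈ M := by
    intro w hw
    have : img g (R ⊔ C) ≤ M := by
      rw [hgW.img_sup]
      exact sup_le le_sup_left (le_trans (img_le hgC) le_sup_right)
    exact this (mem_img_self g hw)
  have hm : IsMap F (R ⊔ C) m :=
    (isMap_of_mem_autGroup hMS hDA).comp ((isMap_cj hMS (hg.mem htN)).comp
      ((isMap_of_mem_autGroup hMS (Subgroup.inv_mem _ hDA)).comp hgW hgM)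
      fun w hw => autFun_mem _ (hgM w hw)) fun w hw => hcjM _ (autFun_mem _ (hgM w hw))
  have hmR : ∀ r ∈ R, m r = g (autFun (δ * a * δ⁻¹) r) := by
    intro r hr
    have h1 : cj (g t) (g (autFun δ⁻¹ r)) = g (autFun a (autFun δ⁻¹ r)) := by
      rw [hta _ (autFun_mem _ hr), cj_apply, cj_apply, hg.map_conj htN (hRN (autFun_mem _ hr))]
    show autFun D (cj (g t) (autFun D⁻¹ (g r))) = _
    rw [hDiR r hr, h1, hDR _ (autFun_mem _ (autFun_mem _ hr)), autFun_mul, autFun_mul]
  have hmC : ∀ x ∈ C, ∃ v ∈ ctr R, m x = g (x * v) := by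
    intro x hx
    set c := g x with hc
    have hcC := hgC x hx
    have hcM : c ∈ M := hgM x (Subgroup.mem_sup_right hx)
    set c' := autFun D⁻¹ c with hc'
    have hc'M : c' ∈ M := autFun_mem _ hcM
    have hDc' : autFun D c' = c := autFun_apply_inv D c
    have hc'C : c' ∈ centralizerIn S (img g R) := by
      refine ⟨hMS hc'M, fun r hr => ?_⟩
      have hrM : r ∈ M := Subgroup.mem_sup_left hr
      obtain ⟨r₀, hr₀, rfl⟩ := hgR'.mem_img.1 hr
      have h2 : autFun D (g r₀) * c = c * autFun D (g r₀) := by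
        rw [hDR r₀ hr₀]; exact hcC.2 _ (mem_img_self g (autFun_mem _ hr₀))
      have h3 := congrArg (autFun D⁻¹) h2
      rwa [autFun_isHom D⁻¹ _ (autFun_mem D hrM) _ hcM, autFun_isHom D⁻¹ _ hcM _ (autFun_mem D hrM),
        autFun_inv_apply] at h3
    set u := c'⁻¹ * cj (g t) c' with hu
    have hcjC : cj (g t) c' ∈ Subgroup.centralizer (img g R : Set Ω) := by
      intro r hr
      have h1 : (g t)⁻¹ * r * g t ∈ img g R :=
        (Subgroup.mem_normalizer_iff'.1 htn _).2 (by simpa [mul_assoc] using hr)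
      have h2 : (g t)⁻¹ * r * g t * c' = c' * ((g t)⁻¹ * r * g t) := hc'C.2 _ h1
      rw [cj_apply]
      calc r * (g t * c' * (g t)⁻¹) = g t * ((g t)⁻¹ * r * g t * c') * (g t)⁻¹ := by group
        _ = g t * (c' * ((g t)⁻¹ * r * g t)) * (g t)⁻¹ := by rw [h2]
        _ = g t * c' * (g t)⁻¹ * r := by group
    have huT : u ∈ T := by
      have h1 : c'⁻¹ * g t * c'⁻¹⁻¹ ∈ T := (Subgroup.mem_normalizer_iff.1
        (le_normalizer_of_stronglyClosed hT (Subgroup.inv_mem _ hc'C.1)) _).1 htT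
      have : u = c'⁻¹ * g t * c'⁻¹⁻¹ * (g t)⁻¹ := by rw [hu, cj_apply]; group
      rw [this]
      exact mul_mem h1 (Subgroup.inv_mem _ htT)
    have huC : u ∈ Subgroup.centralizer (img g R : Set Ω) := mul_mem (Subgroup.inv_mem _ hc'C.2) hcjC
    have huR : u ∈ img g R := hcen _ hgR'.isConj ⟨huT, huC⟩
    obtain ⟨u₀, hu₀, hu₀e⟩ := hgR'.mem_img.1 huR
    have hu₀C : u₀ ∈ ctr R := by
      refine ⟨hu₀, fun r hr => hgR'.inj (mul_mem hr hu₀) (mul_mem hu₀ hr) ?_⟩
      rw [hgR'.map_mul hr hu₀, hgR'.map_mul hu₀ hr, hu₀e]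
      exact huC _ (mem_img_self g hr)
    refine ⟨autFun δ u₀, autFun_ctr hu₀C, ?_⟩
    show autFun D (cj (g t) c') = _
    rw [show cj (g t) c' = c' * u from (mul_inv_cancel_left _ _).symm,
      autFun_isHom D _ hc'M _ (Subgroup.mem_sup_left huR), hDc', ← hu₀e, hDR u₀ hu₀,
      hg.map_mul (hCN hx) (hRN (autFun_mem δ hu₀))]
  have hmimg : img m (R ⊔ C) ≤ img g (R ⊔ C) := by
    rw [hm.img_sup]
    refine sup_le (img_le fun r hr => ?_) (img_le fun x hx => ?_)
    · rw [hmR r hr]; exact mem_img_self g (Subgroup.mem_sup_left (autFun_mem _ hr))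
    · obtain ⟨v, hv, hve⟩ := hmC x hx
      rw [hve]
      exact mem_img_self g (mul_mem (Subgroup.mem_sup_right hx) (Subgroup.mem_sup_left hv.1))
  obtain ⟨i, hi, -, hig, -⟩ := hgW.exists_inv
  refine ⟨fun w => i (m w), hi.comp hm fun w hw => hmimg (mem_img_self m hw), fun r hr => ?_,
    fun x hx => ?_⟩
  · show i (m r) = _
    rw [hmR r hr, hig _ (Subgroup.mem_sup_left (autFun_mem _ hr))]
  · obtain ⟨v, hv, hve⟩ := hmC x hx
    show x⁻¹ * i (m x) ∈ _
    rw [hve, hig _ (mul_mem (Subgroup.mem_sup_right hx) (Subgroup.mem_sup_left hv.1)),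
      inv_mul_cancel_left]
    exact hv

/-- A conjugate of an inner automorphism from `N_T(R)` has a good extension. -/
theorem extends_conj (hS : IsPGroup p S) (hF : F.IsSaturated p) (hT : F.StronglyClosed T)
    (hRT : R ≤ T) (hcen : ∀ R', F.IsConj R R' → centralizerIn T R' ≤ R')
    (hC : C ≤ centralizerIn S T) {δ a : MulAut R} (hδ : δ ∈ F.autGroup R)
    (ha : a ∈ autInducedBy T R) : Extends F C R (δ * a * δ⁻¹) :=
  extends_conj_of_le hS hF hT hRT hcen
    (fun _ hc => ⟨(hC hc).1, Subgroup.centralizer_le hRT (hC hc).2⟩) hδ ha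

/-- If all good extensions can be made to fix `y`, then all maps of `E` extend fixing `y`. -/
theorem fixes_of_normal (hS : IsPGroup p S) (hF : F.IsSaturated p) (hE : E.IsNormalIn F p)
    (hy : y ∈ centralizerIn S T)
    (hfix : ∀ R, R ≤ T → ∀ γ : MulAut R, Extends F (centralizerIn S T) R γ →
      Fixes F y R (autFun γ)) :
    ∀ (P : Subgroup Ω) (f : Ω → Ω), IsMap E P f → Fixes F y P f := by
  have hinv : E.IsInvariantIn F := hE.1.2.2
  have hEsat := hE.1.1
  have hT : F.StronglyClosed T := hinv.2.1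
  have hTfin : Finite T := finite_of_le hT.1
  have hTp := hS.to_le hT.1
  have hle : E ≤ fixSys F E hinv.1 hy := by
    refine Alperin.le_of_extGroup hTp hEsat fun R hRn hext => ?_
    have hRT : R ≤ T := hRn.1
    have hRfin : Finite R := finite_of_le hRT
    have hsup : R ⊔ centralizerIn S T ≤ S := sup_le (hRT.trans hT.1) inf_le_left
    have key : ∀ γ ∈ E.autGroup R, Extends F (centralizerIn S T) R γ →
        γ ∈ (fixSys F E hinv.1 hy).autGroup R := by
      intro γ hγ hx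
      have hm := isMap_of_mem_autGroup hRT hγ
      refine (mem_autGroup_iff hRT).2 ⟨hm.hom, ⟨hm.hom_mem_self, ?_⟩, fun _ => rfl⟩
      obtain ⟨g, hg, hgR, hgy⟩ := hfix R hRT γ hx
      exact ⟨g, hg, fun x hx => by rw [hgR x hx, ext_of_mem _ hx]; rfl, hgy⟩
    rcases eq_or_lt_of_le hRT with rfl | hlt
    · intro γ hγ
      obtain ⟨β, hβ, hβT, hβC⟩ := hE.2 γ hγ
      refine key γ hγ ⟨autFun β, isMap_of_mem_autGroup hsup hβ, fun x hx => ?_, fun c hc => ?_⟩
      · rw [autFun_of_mem β (Subgroup.mem_sup_left hx), autFun_of_mem γ hx]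
        exact hβT ⟨x, hx⟩
      · rw [autFun_of_mem β (Subgroup.mem_sup_right hc)]
        exact hβC ⟨c, Subgroup.mem_sup_right hc⟩ hc
    · by_cases he : Alperin.extGroup E R = E.autGroup R
      · exact he ▸ hext
      have hess := (Alperin.essential_iff hTp hEsat hlt hRn).2 he
      have hcen : ∀ R', F.IsConj R R' → centralizerIn T R' ≤ R' := by
        intro R' hR'
        obtain ⟨f, hf, rfl⟩ := isConj_iff_map.1 hR'
        obtain ⟨α, hα, f₀, hf₀, he'⟩ := invariant_frattini hinv hRT hf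
        rintro u ⟨huT, huC⟩
        have hu' : autFun α⁻¹ u ∈ img f₀ R := by
          refine hess.1.2 _ hf₀.isConj ⟨autFun_mem _ huT, fun r hr => ?_⟩
          obtain ⟨r₀, hr₀, rfl⟩ := hf₀.mem_img.1 hr
          have h1 : f r₀ * u = u * f r₀ := huC _ (mem_img_self f hr₀)
          have hfT : f r₀ ∈ T := by
            rw [he' r₀ hr₀]; exact autFun_mem α (hf₀.mem hr₀)
          have h2 := congrArg (autFun α⁻¹) h1
          rwa [autFun_isHom α⁻¹ _ hfT _ huT, autFun_isHom α⁻¹ _ huT _ hfT, he' r₀ hr₀,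
            autFun_inv_apply] at h2
        obtain ⟨r₀, hr₀, hr₀e⟩ := hf₀.mem_img.1 hu'
        have : u = f r₀ := by rw [he' r₀ hr₀, hr₀e, autFun_apply_inv]
        rw [this]
        exact mem_img_self f hr₀
      intro γ hγ
      set A := E.autGroup R
      obtain ⟨P₀, hP₀⟩ := (fullyNormalized_fullyAutomized hTp hEsat hRn).2
      set N := Subgroup.normalClosure ((P₀ : Subgroup A) : Set A) with hN
      have hNext : N ≤ (extAut F hsup).subgroupOf A := by
        rw [hN, Subgroup.normalClosure, Subgroup.closure_le]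
        intro x hx
        obtain ⟨b, hb, hbx⟩ := Group.mem_conjugatesOfSet_iff.1 hx
        obtain ⟨c, rfl⟩ := isConj_iff.1 hbx
        rw [hP₀] at hb
        refine Subgroup.mem_subgroupOf.2 (mem_extAut.2 ?_)
        rw [Subgroup.coe_mul, Subgroup.coe_mul, Subgroup.coe_inv]
        exact extends_conj hS hF hT hRT hcen le_rfl
          ((mem_autGroup_iff (hRT.trans hT.1)).2 (isMap_of_subset hinv.1 (isMap_of_mem_autGroup hRT c.2))) (Subgroup.mem_subgroupOf.1 hb)
      have hfr := Sylow.normalizer_sup_eq_top' P₀ (N := N) Subgroup.le_normalClosure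
      have hmem : (⟨γ, hγ⟩ : A) ∈
          ((fixSys F E hinv.1 hy).autGroup R).subgroupOf A := by
        refine (?_ : (⊤ : Subgroup A) ≤ _) (Subgroup.mem_top _)
        rw [← hfr]
        refine sup_le (fun b hb => ?_) (fun b hb => key _ b.2 (hNext hb))
        refine Subgroup.mem_subgroupOf.2 (hext (Subgroup.subset_closure ?_))
        have hm := isMap_of_mem_autGroup hRT b.2
        have hsub : normalizerIn T R ≤ nSub T R (autFun (b : MulAut R)) := by
          intro s hs
          have hsA : conjAut T R ⟨s, hs⟩ ∈ autInducedBy T R := conjAut_range T R ▸ ⟨_, rfl⟩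
          have h1 : (b * ⟨_, autInducedBy_le hRT hsA⟩ * b⁻¹ : A) ∈ (P₀ : Subgroup A) :=
            (Subgroup.mem_normalizer_iff.1 hb _).1 (by rw [hP₀]; exact hsA)
          rw [hP₀] at h1
          obtain ⟨u, hu, hue⟩ := mem_autInducedBy_iff'.1 (Subgroup.mem_subgroupOf.1 h1)
          refine ⟨hs.1, hs.2, u, hu.1, fun x hx => ?_⟩
          have h2 := hue _ (autFun_mem (b : MulAut R) hx)
          rw [Subgroup.coe_mul, Subgroup.coe_mul, Subgroup.coe_inv, autFun_mul, autFun_mul,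
            autFun_inv_apply, conjAut_apply ⟨s, hs⟩ hx, cj_apply, cj_apply] at h2
          exact h2
        obtain ⟨g, hg, hge⟩ := exists_extension hTp hEsat hm
          (by rw [autFun_img]; exact fullyNormalized_fullyCentralized hTp hEsat hRn)
        exact ⟨normalizerIn T R, g, lt_normalizerIn hTp hlt, hg.restrict hsub, hge⟩
      exact hmem
  intro P f hf
  obtain ⟨g, hg, hgP, hgy⟩ := (hle P hf.hom_mem_self).2
  exact ⟨g, hg, fun x hx => by rw [hgP x hx, ext_of_mem _ hx]; rfl, hgy⟩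

end Normal

end Cfsg.Agent.Fusion.CentralizeNormal
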