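/-
Maps generated by automorphisms of `p`-power order of centric subgroups, and the Frattini
factorization of a saturated fusion system over them.
-/
import Mathlib
import Cfsg.Agent.Lib.Fusion.Alperin

set_option autoImplicit false
set_option linter.unusedSectionVars false

namespace Cfsg.Agent.Fusion.PPrimeGen

open Cfsg Cfsg.FusionSystem Cfsg.Agent.Fusion.Basic Cfsg.Agent.Fusion.Saturation
  Cfsg.Agent.Fusion.Alperin

variable {Ω : Type*} [Group Ω] {S : Subgroup Ω} {F : FusionSystem S} {p : ℕ}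
  {P Q R U : Subgroup Ω} {f g : Ω → Ω}

/-- Composites of restrictions of automorphisms of `p`-power order of centric subgroups. -/
inductive Gen (F : FusionSystem S) (p : ℕ) : Subgroup Ω → (Ω → Ω) → Prop
  | base {P U : Subgroup Ω} (α : F.autGroup U) (k : ℕ) (hU : F.IsCentric U) (hα : α ^ p ^ k = 1)
      (hP : P ≤ U) : Gen F p P (autFun (α : MulAut U))
  | ident {P : Subgroup Ω} (hP : P ≤ S) : Gen F p P id
  | comp {P Q : Subgroup Ω} {f g : Ω → Ω} : Gen F p P f → Gen F p Q g →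
      (∀ x ∈ P, f x ∈ Q) → Gen F p P (fun x => g (f x))
  | congr {P : Subgroup Ω} {f g : Ω → Ω} : Gen F p P f → (∀ x ∈ P, f x = g x) → Gen F p P g

theorem Gen.isMap (h : Gen F p P f) : IsMap F P f := by
  induction h with
  | base α k hU hα hP => exact (isMap_of_mem_autGroup hU.1 α.2).restrict hP
  | ident hP => exact isMap_id hP
  | comp _ _ hPQ ihf ihg => exact ihg.comp ihf hPQ
  | congr _ he ih => exact ih.congr he

theorem Gen.restrict (h : Gen F p P f) (hR : R ≤ P) : Gen F p R f := by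
  induction h generalizing R with
  | base α k hU hα hP => exact Gen.base α k hU hα (hR.trans hP)
  | ident hP => exact Gen.ident (hR.trans hP)
  | comp _ hg hPQ ihf _ => exact (ihf hR).comp hg fun x hx => hPQ x (hR hx)
  | congr _ he ih => exact (ih hR).congr fun x hx => he x (hR hx)

theorem Gen.exists_inv (h : Gen F p P f) :
    ∃ g, Gen F p (img f P) g ∧ ∀ x ∈ P, g (f x) = x := by
  induction h with
  | @base P U α k hU hα hP =>
    refine ⟨autFun ((α⁻¹ : F.autGroup U) : MulAut U),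
      Gen.base α⁻¹ k hU (by rw [inv_pow, hα, inv_one])
        (img_le fun x hx => autFun_mem _ (hP hx)), fun x _ => ?_⟩
    rw [Subgroup.coe_inv]
    exact autFun_inv_apply _ x
  | ident hP => exact ⟨id, by rw [img_id]; exact Gen.ident hP, fun x _ => rfl⟩
  | @comp P Q f g hf hg hPQ ihf ihg =>
    obtain ⟨fi, hfi, hfie⟩ := ihf
    obtain ⟨gi, hgi, hgie⟩ := ihg
    have hle : img (fun x => g (f x)) P ≤ img g Q := img_le fun x hx => mem_img_self g (hPQ x hx)
    refine ⟨fun y => fi (gi y), (hgi.restrict hle).comp hfi fun y hy => ?_, fun x hx => ?_⟩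
    · obtain ⟨x, hx, rfl⟩ := (hg.isMap.comp hf.isMap hPQ).mem_img.1 hy
      rw [hgie _ (hPQ x hx)]
      exact mem_img_self f hx
    · show fi (gi (g (f x))) = x
      rw [hgie _ (hPQ x hx), hfie x hx]
  | congr _ he ih =>
    obtain ⟨g, hg, hge⟩ := ih
    exact ⟨g, img_congr he ▸ hg, fun x hx => by rw [← he x hx, hge x hx]⟩

variable [Finite S]

theorem centric_top : F.IsCentric S := by
  refine ⟨le_rfl, fun Q hQ => ?_⟩
  rw [eq_top_of_card le_rfl hQ rfl]
  exact centralizerIn_le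

theorem exists_pow_conjAut (hS : IsPGroup p S) (hQ : Q ≤ S) {a : Ω} (ha : a ∈ normalizerIn S Q) :
    ∃ (α : F.autGroup Q) (k : ℕ), α ^ p ^ k = 1 ∧
      ∀ x ∈ Q, autFun (α : MulAut Q) x = cj a x := by
  obtain ⟨k, hk⟩ := hS ⟨a, ha.1⟩
  refine ⟨⟨conjAut S Q ⟨a, ha⟩, autInducedBy_le hQ (conjAut_range S Q ▸ ⟨_, rfl⟩)⟩, k,
    Subtype.ext ?_, fun x hx => conjAut_apply ⟨a, ha⟩ hx⟩
  rw [SubmonoidClass.coe_pow, OneMemClass.coe_one, ← map_pow]
  refine (congrArg (conjAut S Q) (Subtype.ext ?_)).trans (map_one _)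
  have h := congrArg Subtype.val hk
  rw [SubmonoidClass.coe_pow] at h
  rw [SubmonoidClass.coe_pow]
  exact h

/-- Conjugation by an element of `S`. -/
theorem gen_cj (hS : IsPGroup p S) (hP : P ≤ S) {a : Ω} (ha : a ∈ S) : Gen F p P (cj a) := by
  obtain ⟨α, k, hα, he⟩ := exists_pow_conjAut (F := F) hS (le_refl S)
    (show a ∈ normalizerIn S S from ⟨ha, Subgroup.le_normalizer ha⟩)
  exact (Gen.base α k centric_top hα hP).congr fun x hx => he x (hP hx)

/-- Transport along an automorphism of `S`. -/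
noncomputable def tw (a : F.autGroup S) (f : Ω → Ω) : Ω → Ω := fun x =>
  autFun (a : MulAut S) (f (autFun ((a⁻¹ : F.autGroup S) : MulAut S) x))

theorem inv_apply (a : F.autGroup S) (x : Ω) :
    autFun ((a⁻¹ : F.autGroup S) : MulAut S) (autFun (a : MulAut S) x) = x := by
  rw [Subgroup.coe_inv]; exact autFun_inv_apply _ x

theorem apply_inv (a : F.autGroup S) (x : Ω) :
    autFun (a : MulAut S) (autFun ((a⁻¹ : F.autGroup S) : MulAut S) x) = x := by
  rw [Subgroup.coe_inv]; exact autFun_apply_inv _ x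

theorem tw_apply (a : F.autGroup S) (f : Ω → Ω) (x : Ω) :
    tw a f (autFun (a : MulAut S) x) = autFun (a : MulAut S) (f x) := by
  rw [tw, inv_apply]

theorem isMap_aut (a : F.autGroup S) : IsMap F S (autFun (a : MulAut S)) :=
  isMap_of_mem_autGroup le_rfl a.2

theorem Gen.tw (h : Gen F p P f) (a : F.autGroup S) :
    Gen F p (img (autFun (a : MulAut S)) P) (tw a f) := by
  induction h with
  | @base P U α k hU hα hP =>
    have haU : IsMap F U (autFun (a : MulAut S)) := (isMap_aut a).restrict hU.1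
    obtain ⟨e, he⟩ := haU.exists_autEquiv
    refine (Gen.base (e α) k (centric_conj hU haU.isConj) (by rw [← map_pow, hα, map_one])
      (img_mono _ hP)).congr fun y hy => ?_
    obtain ⟨x, hx, rfl⟩ := (haU.restrict hP).mem_img.1 hy
    rw [tw_apply]
    exact he α x (hP hx)
  | @ident P hP =>
    refine (Gen.ident ((isMap_aut a).restrict hP).img_le_S).congr fun y hy => ?_
    exact (apply_inv a y).symm
  | @comp P Q f g hf hg hPQ ihf ihg =>
    refine (ihf.comp ihg fun y hy => ?_).congr fun y hy => ?_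
    · obtain ⟨x, hx, rfl⟩ := ((isMap_aut a).restrict hf.isMap.le).mem_img.1 hy
      rw [tw_apply]
      exact mem_img_self _ (hPQ x hx)
    · show autFun _ (g (autFun _ (autFun _ _))) = _
      rw [inv_apply]
      rfl
  | @congr P f g hf he ih =>
    refine ih.congr fun y hy => ?_
    obtain ⟨x, hx, rfl⟩ := ((isMap_aut a).restrict hf.isMap.le).mem_img.1 hy
    rw [tw_apply, tw_apply, he x hx]

/-- Maps that are an automorphism of `S` after a generated map. -/
def Fac (F : FusionSystem S) (p : ℕ) (P : Subgroup Ω) (f : Ω → Ω) : Prop :=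
  ∃ a : F.autGroup S, ∃ e, Gen F p P e ∧ ∀ x ∈ P, f x = autFun (a : MulAut S) (e x)

theorem Fac.isMap (h : Fac F p P f) : IsMap F P f := by
  obtain ⟨a, e, he, hfe⟩ := h
  exact ((isMap_aut a).comp he.isMap fun x hx => he.isMap.mem hx).congr fun x hx => (hfe x hx).symm

theorem fac_comp {a b : F.autGroup S} {e d : Ω → Ω} (he : Gen F p P e) (hd : Gen F p Q d)
    (hPQ : ∀ x ∈ P, autFun (a : MulAut S) (e x) ∈ Q) :
    ∃ c, Gen F p P c ∧ ∀ x ∈ P, autFun (b : MulAut S) (d (autFun (a : MulAut S) (e x))) =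
      autFun ((b * a : F.autGroup S) : MulAut S) (c x) := by
  refine ⟨fun x => PPrimeGen.tw a⁻¹ d (e x), he.comp (hd.tw a⁻¹) fun x hx => ?_, fun x _ => ?_⟩
  · rw [← inv_apply a (e x)]
    exact mem_img_self _ (hPQ x hx)
  · show _ = autFun ((b * a : F.autGroup S) : MulAut S) (PPrimeGen.tw a⁻¹ d (e x))
    rw [PPrimeGen.tw, inv_inv, Subgroup.coe_mul, autFun_mul, apply_inv]

theorem fac_inv {a : F.autGroup S} {e : Ω → Ω} (he : Gen F p P e)
    (hf : ∀ x ∈ P, f x = autFun (a : MulAut S) (e x)) :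
    ∃ c, Gen F p (img f P) c ∧
      ∀ x ∈ P, autFun ((a⁻¹ : F.autGroup S) : MulAut S) (c (f x)) = x := by
  obtain ⟨ei, hei, hee⟩ := he.exists_inv
  have himg : img f P = img (autFun (a : MulAut S)) (img e P) := by
    rw [he.isMap.img_img, img_congr hf]
  refine ⟨PPrimeGen.tw a ei, himg ▸ hei.tw a, fun x hx => ?_⟩
  rw [hf x hx, tw_apply, inv_apply, hee x hx]

theorem exists_facSys (F : FusionSystem S) (hS : IsPGroup p S) :
    ∃ E : FusionSystem S, ∀ (P : Subgroup Ω) (f : Ω → Ω), IsMap E P f ↔ Fac F p P f := by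
  have hgen : ∀ {P : Subgroup Ω} {φ : P →* Ω}, Fac F p P (ext φ) → φ ∈ F.Hom P :=
    fun h => hom_mem_iff.2 h.isMap
  let E : FusionSystem S :=
    { Hom := fun P => {φ | Fac F p P (ext φ)}
      le_of_mem := fun h => F.le_of_mem (hgen h)
      injective_of_mem := fun h => F.injective_of_mem (hgen h)
      conj_mem := fun {P g} hP hg => by
        refine ⟨1, cj g, gen_cj hS hP hg, fun x hx => ?_⟩
        rw [OneMemClass.coe_one, autFun_one, ext_of_mem _ hx]
        rfl
      comp_mem := by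
        rintro P Q φ ψ ⟨a, e, he, hae⟩ ⟨b, d, hd, hbd⟩ h
        have hφQ : ∀ x ∈ P, ext φ x ∈ Q := fun x hx => ext_of_mem φ hx ▸ h ⟨x, hx⟩
        obtain ⟨c, hc, hce⟩ := fac_comp (b := b) he hd fun x hx => hae x hx ▸ hφQ x hx
        refine ⟨b * a, c, hc, fun x hx => ?_⟩
        rw [← hce x hx, ← hae x hx, ← hbd _ (hφQ x hx), ext_of_mem _ hx, ext_of_mem φ hx,
          ext_of_mem ψ (h ⟨x, hx⟩)]
        rfl
      inv_mem := by
        rintro P φ ⟨a, e, he, hae⟩
        obtain ⟨ψ, hψ, hψe⟩ := F.inv_mem (hgen ⟨a, e, he, hae⟩)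
        refine ⟨ψ, ?_, hψe⟩
        obtain ⟨c, hc, hce⟩ := fac_inv he hae
        rw [← range_eq_img] at hc
        refine ⟨a⁻¹, c, hc, ?_⟩
        rintro _ ⟨x, rfl⟩
        rw [ext_of_mem ψ ⟨x, rfl⟩, hψe, ← ext_apply φ x, hce x x.2] }
  refine ⟨E, fun P f => ⟨?_, fun h => ?_⟩⟩
  · rintro ⟨φ, ⟨a, e, he, hae⟩, hφf⟩
    exact ⟨a, e, he, fun x hx => by rw [← hφf ⟨x, hx⟩, ← hae x hx, ext_of_mem φ hx]⟩
  · obtain ⟨a, e, he, hfe⟩ := h
    have hm : IsMap F P f := Fac.isMap ⟨a, e, he, hfe⟩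
    refine ⟨hm.hom, ⟨a, e, he, fun x hx => ?_⟩, fun x => rfl⟩
    rw [ext_of_mem _ hx, IsMap.hom_apply, hfe x hx]

variable [Fact p.Prime]

theorem pPower_normal (A : Type*) [Group A] :
    (Subgroup.closure {α : A | ∃ k : ℕ, α ^ p ^ k = 1}).Normal := by
  refine ⟨fun x hx c => ?_⟩
  induction hx using Subgroup.closure_induction with
  | mem y hy =>
    obtain ⟨k, hk⟩ := hy
    exact Subgroup.subset_closure ⟨k, by rw [conj_pow, hk, mul_one, mul_inv_cancel]⟩
  | one => simp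
  | mul a b _ _ iha ihb => simpa [mul_assoc] using mul_mem iha ihb
  | inv a _ iha => simpa [mul_assoc] using inv_mem iha

/-- The Frattini factorization. -/
theorem frattini (hS : IsPGroup p S) (hF : F.IsSaturated p) (hf : IsMap F P f) : Fac F p P f := by
  obtain ⟨E, hE⟩ := exists_facSys F hS (p := p)
  refine (hE P f).1 (isMap_mono (le_of_extGroup hS hF fun Q hQ hext => ?_) hf)
  intro α hα
  rw [mem_autGroup_iff hQ.1, hE]
  rcases eq_or_lt_of_le hQ.1 with rfl | hlt
  · exact ⟨⟨α, hα⟩, id, Gen.ident le_rfl, fun _ _ => rfl⟩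
  rcases eq_or_ne (extGroup F Q) (F.autGroup Q) with heq | hne
  · exact (hE _ _).1 ((mem_autGroup_iff hQ.1).1 (hext (heq.symm ▸ hα)))
  have hc := (map_extGroup_stronglyPEmbedded hS hF hlt hQ hne).1
  have : Finite Q := finite_of_le hQ.1
  set N : Subgroup (F.autGroup Q) := Subgroup.closure {α | ∃ k : ℕ, α ^ p ^ k = 1} with hN
  have := pPower_normal (p := p) (F.autGroup Q)
  obtain ⟨T, hT⟩ := (fullyNormalized_fullyAutomized hS hF hQ).2
  have hTN : (T : Subgroup (F.autGroup Q)) ≤ N := fun b hb => by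
    obtain ⟨k, hk⟩ := T.2 ⟨b, hb⟩
    exact Subgroup.subset_closure ⟨k, congrArg Subtype.val hk⟩
  have htop := T.normalizer_sup_eq_top' hTN
  suffices h : ∀ b : F.autGroup Q, Fac F p Q (autFun (b : MulAut Q)) from h ⟨α, hα⟩
  let K : Subgroup (F.autGroup Q) := (E.autGroup Q).subgroupOf (F.autGroup Q)
  suffices h : (⊤ : Subgroup (F.autGroup Q)) ≤ K from fun b =>
    (hE _ _).1 ((mem_autGroup_iff hQ.1).1 (h (Subgroup.mem_top b)))
  rw [← htop]
  refine sup_le (fun b hb => Subgroup.mem_subgroupOf.2 (hext ?_)) ?_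
  · have hbm : IsMap F Q (autFun (b : MulAut Q)) := isMap_of_mem_autGroup hQ.1 b.2
    obtain ⟨θ, hθ, hθe⟩ := exists_extension hS hF hbm
      (by rw [autFun_img]; exact fullyNormalized_fullyCentralized hS hF hQ)
    obtain ⟨x, hx, hxQ⟩ := exists_mem_normalizer_not_mem hS hlt
    refine Subgroup.subset_closure ⟨_, θ,
      SetLike.lt_iff_le_and_exists.2 ⟨le_nSub hbm, x, mem_nSub.2 ⟨hx.1, hx.2, ?_⟩, hxQ⟩, hθ, hθe⟩
    let c : F.autGroup Q := ⟨conjAut S Q ⟨x, hx⟩,
      autInducedBy_le hQ.1 (conjAut_range S Q ▸ ⟨_, rfl⟩)⟩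
    have hcT : c ∈ (T : Subgroup (F.autGroup Q)) := by
      rw [hT]
      exact conjAut_range S Q ▸ ⟨_, rfl⟩
    have h1 := (Subgroup.mem_normalizer_iff.1 hb c).1 hcT
    rw [hT] at h1
    obtain ⟨h, hh, hhe⟩ := mem_autInducedBy_iff'.1 (Subgroup.mem_subgroupOf.1 h1)
    refine ⟨h, hh.1, fun y hy => ?_⟩
    have h2 := hhe _ (autFun_mem (b : MulAut Q) hy)
    rw [Subgroup.coe_mul, Subgroup.coe_mul, Subgroup.coe_inv, autFun_mul, autFun_mul,
      autFun_inv_apply, conjAut_apply ⟨x, hx⟩ hy] at h2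
    exact h2
  · rw [Subgroup.closure_le]
    rintro b ⟨k, hk⟩
    refine Subgroup.mem_subgroupOf.2 ((mem_autGroup_iff hQ.1).2 ((hE _ _).2 ?_))
    refine ⟨1, _, Gen.base b k hc hk le_rfl, fun x _ => ?_⟩
    rw [OneMemClass.coe_one, autFun_one]
    rfl

/-- Every automorphism of `p`-power order is generated. -/
theorem gen_of_pPower (hS : IsPGroup p S) (hF : F.IsSaturated p) (hP : P ≤ S) (β : F.autGroup P)
    {k : ℕ} (hk : β ^ p ^ k = 1) : Gen F p P (autFun (β : MulAut P)) := by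
  obtain ⟨Q, hPQ, hQ⟩ := exists_fullyNormalized (F := F) hP
  obtain ⟨η, hη, rfl⟩ := isConj_iff_map.1 hPQ
  have : Finite P := finite_of_le hP
  have : Finite (img η P) := finite_of_le hQ.1
  obtain ⟨e, he⟩ := hη.exists_autEquiv
  obtain ⟨T, hT⟩ := (fullyNormalized_fullyAutomized hS hF hQ).2
  have hp : IsPGroup p (Subgroup.zpowers (e β)) := fun x => by
    obtain ⟨x, i, rfl⟩ := x
    refine ⟨k, Subtype.ext ?_⟩
    change (e β ^ i) ^ (p ^ k : ℕ) = 1
    rw [← zpow_natCast, ← zpow_mul, mul_comm, zpow_mul, zpow_natCast, ← map_pow, hk, map_one,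
      one_zpow]
  obtain ⟨c, hc⟩ := exists_conj_le_sylow T hp
  have h1 := hc _ (Subgroup.mem_zpowers _)
  rw [hT] at h1
  obtain ⟨g, hg, hge⟩ := mem_autInducedBy_iff'.1 (Subgroup.mem_subgroupOf.1 h1)
  set η' := fun x => autFun (c : MulAut (img η P)) (η x) with hη'def
  have hη' : IsMap F P η' :=
    (isMap_of_mem_autGroup hQ.1 c.2).comp hη fun x hx => mem_img_self η hx
  have hkey : ∀ x ∈ P, η' (autFun (β : MulAut P) x) = g * η' x * g⁻¹ := fun x hx => by
    have h2 := hge _ (autFun_mem (c : MulAut (img η P)) (mem_img_self η hx))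
    rw [Subgroup.coe_mul, Subgroup.coe_mul, Subgroup.coe_inv, autFun_mul, autFun_mul,
      autFun_inv_apply, he β x hx] at h2
    exact h2
  obtain ⟨a, d, hd, hde⟩ := frattini hS hF hη'
  obtain ⟨di, hdi, hdie⟩ := hd.exists_inv
  set g' := autFun ((a⁻¹ : F.autGroup S) : MulAut S) g with hg'
  have hg'S : g' ∈ S := autFun_mem _ hg.1
  have hconj : ∀ x ∈ P, g' * d x * g'⁻¹ = d (autFun (β : MulAut P) x) := fun x hx => by
    have hm := isMap_aut (a⁻¹ : F.autGroup S)
    rw [hg', ← inv_apply a (d x), ← hm.map_conj hg.1 ((isMap_aut a).mem (hd.isMap.mem hx)),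
      ← hde x hx, ← hkey x hx, hde _ (autFun_mem _ hx), inv_apply]
  have hmem : ∀ x ∈ P, cj g' (d x) ∈ img d P := fun x hx => by
    rw [cj_apply, hconj x hx]
    exact mem_img_self d (autFun_mem _ hx)
  refine ((hd.comp (gen_cj hS hd.isMap.img_le_S hg'S) fun x hx => mem_img_self d hx).comp hdi
    hmem).congr fun x hx => ?_
  rw [cj_apply, hconj x hx, hdie _ (autFun_mem _ hx)]

section

variable {E : FusionSystem S}

theorem orderOf_iff (A : Type*) [Group A] (x : A) :
    (∃ k : ℕ, orderOf x = p ^ k) ↔ ∃ k : ℕ, x ^ p ^ k = 1 := by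
  refine ⟨fun ⟨k, hk⟩ => ⟨k, hk ▸ pow_orderOf_eq_one x⟩, fun ⟨k, hk⟩ => ?_⟩
  obtain ⟨i, -, hi⟩ := (Nat.dvd_prime_pow (Fact.out : p.Prime)).1 (orderOf_dvd_of_pow_eq_one hk)
  exact ⟨i, hi⟩

/-- A system containing the automorphisms of `p`-power order of centric subgroups contains the
generated maps. -/
theorem Gen.isMap_of
    (hE : ∀ P : Subgroup Ω, F.IsCentric P →
      (Subgroup.closure {α : F.autGroup P | ∃ k : ℕ, orderOf α = p ^ k}).map
        (F.autGroup P).subtype ≤ E.autGroup P) (h : Gen F p P f) : IsMap E P f := by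
  induction h with
  | @base P U α k hU hα hP =>
    refine (isMap_of_mem_autGroup hU.1 (hE U hU ?_)).restrict hP
    exact Subgroup.mem_map_of_mem _
      (Subgroup.subset_closure ((orderOf_iff _ α).2 ⟨k, hα⟩))
  | ident hP => exact isMap_id hP
  | comp _ _ hPQ ihf ihg => exact ihg.comp ihf hPQ
  | congr _ he ih => exact ih.congr he

theorem primeIndex_of_gen (hS : IsPGroup p S) (hF : F.IsSaturated p)
    (hgen : ∀ (P : Subgroup Ω) (f : Ω → Ω), Gen F p P f → IsMap E P f) (hP : P ≤ S) :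
    (Subgroup.closure {α : F.autGroup P | ∃ k : ℕ, orderOf α = p ^ k}).map
      (F.autGroup P).subtype ≤ E.autGroup P := by
  rw [Subgroup.map_le_iff_le_comap, Subgroup.closure_le]
  intro α hα
  obtain ⟨k, hk⟩ := (orderOf_iff _ α).1 hα
  exact (mem_autGroup_iff hP).2 (hgen _ _ (gen_of_pPower hS hF hP α hk))

theorem centric_iff (hS : IsPGroup p S) (hF : F.IsSaturated p) (hEF : E.IsSubsystemOf F)
    (hgen : ∀ (P : Subgroup Ω) (f : Ω → Ω), Gen F p P f → IsMap E P f) (P : Subgroup Ω) :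
    E.IsCentric P ↔ F.IsCentric P := by
  refine ⟨fun h => ⟨h.1, fun Q hQ => ?_⟩, fun h => ⟨h.1, fun Q hQ => ?_⟩⟩
  · obtain ⟨f, hf, rfl⟩ := isConj_iff_map.1 hQ
    obtain ⟨a, e, he, hfe⟩ := frattini hS hF hf
    have heE := h.2 _ (hgen _ _ he).isConj
    have himg : img f P = img (autFun (a : MulAut S)) (img e P) := by
      rw [he.isMap.img_img, img_congr hfe]
    rw [himg]
    intro y hy
    have hm := isMap_aut (a⁻¹ : F.autGroup S)
    have h1 : autFun ((a⁻¹ : F.autGroup S) : MulAut S) y ∈ img e P := by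
      refine heE ⟨hm.mem hy.1, fun x hx => ?_⟩
      have hxS : x ∈ S := he.isMap.img_le_S hx
      have h2 := hy.2 _ (mem_img_self (autFun (a : MulAut S)) hx)
      have h3 := congrArg (autFun ((a⁻¹ : F.autGroup S) : MulAut S)) h2
      rwa [hm.map_mul ((isMap_aut a).mem hxS) hy.1, hm.map_mul hy.1 ((isMap_aut a).mem hxS),
        inv_apply] at h3
    rw [← apply_inv a y]
    exact mem_img_self _ h1
  · obtain ⟨f, hf, rfl⟩ := isConj_iff_map.1 hQ
    exact h.2 _ (isMap_of_subset hEF hf).isConj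

end

end Cfsg.Agent.Fusion.PPrimeGen
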