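/-
The largest normal subgroup of an invariant subsystem, and constraint passing up from invariant
subsystems and from centralizers of normal subgroups.
-/
import Mathlib
import Cfsg.Agent.Lib.Fusion.Subsystems
import Cfsg.Agent.Lib.Fusion.KNormalizer
import Cfsg.Agent.Lib.Fusion.CentricExt
import Cfsg.Agent.Lib.Fusion.Elementwise
import Cfsg.Agent.Lib.Fusion.PPrimeGen

set_option autoImplicit false
set_option linter.all false

namespace Cfsg.Agent.Fusion.NormalCentralizer

open Cfsg Cfsg.FusionSystem Cfsg.Agent.Fusion.Basic Cfsg.Agent.Fusion.Saturation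
  Cfsg.Agent.Fusion.Normal Cfsg.Agent.Fusion.Subsystems

variable {Ω : Type*} [Group Ω] {S T : Subgroup Ω} [Finite S] {F : FusionSystem S}
  {E : FusionSystem T} {p : ℕ} [Fact p.Prime] {P Q W : Subgroup Ω}

/-! ### Invariant subsystems -/

omit [Fact p.Prime] in
theorem transport_normal (hE : E.IsInvariantIn F) {α : MulAut T} (hα : α ∈ F.autGroup T)
    (hW : E.IsNormal W) : E.IsNormal (img (autFun α) W) := by
  refine isNormal_iff.2 ⟨img_le fun x hx => autFun_mem _ (hW.1 hx), fun P f hf => ?_⟩
  have hPT := hf.le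
  have hTS : T ≤ S := subsystem_le hE.1
  obtain ⟨f', hf', hf'e⟩ := invariant_transport hE hPT hf (Subgroup.inv_mem _ hα)
  obtain ⟨g, hg, hge, hgW⟩ := (isNormal_iff.1 hW).2 _ f' hf'
  obtain ⟨g', hg', hg'e⟩ := invariant_transport hE hg.le hg hα
  have hm : IsMap F (img (autFun α⁻¹) P ⊔ W) (autFun α) :=
    (isMap_of_mem_autGroup hTS hα).restrict hg.le
  have hback : img (autFun α) (img (autFun α⁻¹) P) = P := by
    rw [((isMap_of_mem_autGroup hTS (Subgroup.inv_mem _ hα)).restrict hPT).img_img,
      img_congr (g := id) fun x _ => autFun_apply_inv α x, img_id]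
  rw [hm.img_sup, hback] at hg'
  refine ⟨g', hg', fun x hx => ?_, ?_⟩
  · have h1 := hg'e _ (Subgroup.mem_sup_left (mem_img_self (autFun α⁻¹) hx))
    rw [autFun_apply_inv, hge _ (mem_img_self _ hx), hf'e x hx, autFun_apply_inv] at h1
    exact h1
  · rw [(hm.restrict le_sup_right).img_img,
      img_congr fun x hx => hg'e x (Subgroup.mem_sup_right hx),
      ← (hg.restrict le_sup_right).img_img, hgW]

omit [Fact p.Prime] in
theorem core_stable (hE : E.IsInvariantIn F) {α : MulAut T} (hα : α ∈ F.autGroup T) :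
    img (autFun α) E.core = E.core := by
  have hTS : T ≤ S := subsystem_le hE.1
  have : Finite T := finite_of_le hTS
  have hD := core_isNormal (F := E)
  have : Finite E.core := finite_of_le hD.1
  exact eq_of_le_card (le_core (transport_normal hE hα hD))
    ((isMap_of_mem_autGroup hTS hα).restrict hD.1).card_img.ge

/-- The largest normal subgroup of an invariant subsystem is normal in the system. -/
theorem core_normal (hS : IsPGroup p S) (hF : F.IsSaturated p) (hE : E.IsInvariantIn F) :
    F.IsNormal E.core := by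
  have hTS : T ≤ S := subsystem_le hE.1
  have : Finite T := finite_of_le hTS
  have hQ := core_isNormal (F := E)
  set Q := E.core with hQdef
  have : Finite Q := finite_of_le hQ.1
  have : Group.IsNilpotent Q := (hS.to_le (hQ.1.trans hTS)).isNilpotent
  obtain ⟨n, hn⟩ := Group.IsNilpotent.nilpotent Q
  let C : ℕ → Subgroup Ω := fun i => (Subgroup.upperCentralSeries Q i).map Q.subtype
  have hchar : ∀ i, ((C i).subgroupOf Q).Characteristic := fun i => by
    show (((Subgroup.upperCentralSeries Q i).map Q.subtype).subgroupOf Q).Characteristic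
    rw [Subgroup.subgroupOf, Subgroup.comap_map_eq_self_of_injective Q.subtype_injective]
    infer_instance
  refine normal_of_series hS hF n C ?_ ?_ ?_ ?_ ?_
  · simp [C]
  · show (Subgroup.upperCentralSeries Q n).map Q.subtype = Q
    rw [hn, ← MonoidHom.range_eq_map, Subgroup.range_subtype]
  · exact fun i _ => Subgroup.map_mono (Subgroup.upperCentralSeries_mono Q (Nat.le_succ i))
  · intro i _
    have hle : C i ≤ Q := Subgroup.map_subtype_le _
    refine stronglyClosed_of_invariant hE
      (normal_stronglyClosed (isNormal_of_char hQ hle (hchar i))) fun α hα x hx => ?_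
    exact (char_img_eq hle (hchar i) ((isMap_of_mem_autGroup hTS hα).restrict hQ.1)
      (core_stable hE hα)).le (mem_img_self _ hx)
  · rintro i _ x hx _ ⟨y, hy, rfl⟩
    have h1 := Subgroup.mem_upperCentralSeries_succ_iff.1 hy ⟨x, hx⟩
    exact ⟨_, (Subgroup.upperCentralSeries Q i).inv_mem h1, by
      simp [commutatorElement_def, mul_assoc]⟩

theorem core_centric (hE : E.IsConstrained p) [Finite T] : E.IsCentric E.core := by
  obtain ⟨-, Q, hQn, hQc⟩ := hE
  exact CentricExt.centric_mono hQc (le_core hQn) (core_isNormal (F := E)).1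

omit [Fact p.Prime] in
theorem centric_of_normal (hW : F.IsNormal W) (hC : centralizerIn S W ≤ W) : F.IsCentric W := by
  refine ⟨hW.1, fun R hR => ?_⟩
  obtain ⟨f, hf, rfl⟩ := isConj_iff_map.1 hR
  rw [normal_img_eq hW hf le_rfl]
  exact hC

/-- Constraint passes from an invariant subsystem over the same group. -/
theorem constrained_of_invariant (hS : IsPGroup p S) (hF : F.IsSaturated p) {D : FusionSystem S}
    (hD : D.IsInvariantIn F) (hc : D.IsConstrained p) : F.IsConstrained p :=
  ⟨hF, _, core_normal hS hF hD,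
    centric_of_normal (core_normal hS hF hD) (centric_centralizerIn_le (core_centric hc))⟩

/-! ### Centralizers of normal subgroups -/

variable {C : FusionSystem (centralizerIn S Q)}

omit [Finite S] [Fact p.Prime] in
theorem isMap_cent_iff (hC : F.IsCentralizerSystem Q C) {f : Ω → Ω} :
    IsMap C P f ↔ P ≤ centralizerIn S Q ∧ (∀ x ∈ P, f x ∈ centralizerIn S Q) ∧
      ∃ g, IsMap F (P ⊔ Q) g ∧ (∀ x ∈ P, g x = f x) ∧ ∀ x ∈ Q, g x = x := by
  constructor
  · rintro ⟨φ, hφ, hf⟩
    obtain ⟨hφ', hP, hv, ψ, hψ, he, hfix⟩ := (hC P).le hφ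
    refine ⟨hP, fun x hx => hf ⟨x, hx⟩ ▸ hv ⟨x, hx⟩, ext ψ, IsMap.of_hom hψ, fun x hx => ?_,
      fun x hx => ?_⟩
    · rw [ext_of_mem ψ (Subgroup.mem_sup_left hx), ← hf ⟨x, hx⟩]
      exact he ⟨x, hx⟩
    · rw [ext_of_mem ψ (Subgroup.mem_sup_right hx)]
      exact hfix ⟨x, hx⟩
  · rintro ⟨hP, hv, g, hg, he, hfix⟩
    have hm : IsMap F P f := (hg.restrict le_sup_left).congr he
    refine ⟨hm.hom, (hC P).ge ⟨hm.hom_mem_self, hP, fun x => hv x x.2, hg.hom, hg.hom_mem_self,
      fun x => ?_, fun x => ?_⟩, fun x => rfl⟩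
    · rw [IsMap.hom_apply, Subgroup.coe_inclusion, he x x.2, IsMap.hom_apply]
    · rw [IsMap.hom_apply, Subgroup.coe_inclusion, hfix x x.2]

omit [Fact p.Prime] in
theorem centralizer_stronglyClosed (hQ : F.IsNormal Q) :
    F.StronglyClosed (centralizerIn S Q) := by
  refine ⟨centralizerIn_le, fun R hR φ hφ x => ?_⟩
  obtain ⟨g, hg, hge, hgQ⟩ := (isNormal_iff.1 hQ).2 R _ (IsMap.of_hom hφ)
  have h := hg.mem_centralizer_img le_sup_right (Subgroup.mem_sup_left x.2) (hR x.2).2
  rw [hgQ, hge x x.2, ext_apply] at h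
  exact ⟨(F.le_of_mem hφ).2 x, h⟩

omit [Fact p.Prime] in
theorem normal_fullyCentralized (hQ : F.IsNormal Q) : F.IsFullyCentralized Q := by
  refine ⟨hQ.1, fun R hR => ?_⟩
  obtain ⟨f, hf, rfl⟩ := isConj_iff_map.1 hR
  rw [normal_img_eq hQ hf le_rfl]

theorem centralizer_invariant (hS : IsPGroup p S) (hF : F.IsSaturated p) (hQ : F.IsNormal Q)
    (hC : F.IsCentralizerSystem Q C) : C.IsInvariantIn F := by
  have hsc := centralizer_stronglyClosed hQ
  have : Finite (centralizerIn S Q) := finite_of_le hsc.1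
  refine ⟨fun P => subset_of_isMap fun f hf => ?_, hsc, fun P hPT φ hφ α hα => ?_,
    fun P hPT φ hφ => ?_⟩
  · obtain ⟨-, -, g, hg, he, -⟩ := (isMap_cent_iff hC).1 hf
    exact (hg.restrict le_sup_left).congr he
  · obtain ⟨hP, hv, g, hg, hge, hgfix⟩ := (isMap_cent_iff hC).1 (IsMap.of_hom hφ)
    obtain ⟨γ, hγ, hγe, hγQ⟩ := (isNormal_iff.1 hQ).2 (centralizerIn S Q) _ (isMap_of_mem_autGroup hsc.1 hα)
    obtain ⟨i, hi, hiimg, hiγ, -⟩ := (hγ.restrict (sup_le_sup_right hPT Q)).exists_inv
    set R := img γ (P ⊔ Q) with hR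
    have hR' : R = img (autFun α) P ⊔ Q := by
      rw [hR, (hγ.restrict (sup_le_sup_right hPT Q)).img_sup, hγQ,
        img_congr fun x hx => hγe x (hPT hx)]
    have hgC : ∀ x ∈ P ⊔ Q, g x ∈ (centralizerIn S Q) ⊔ Q := by
      intro x hx
      have : img g (P ⊔ Q) ≤ (centralizerIn S Q) ⊔ Q := by
        rw [hg.img_sup]
        refine sup_le ((img_le fun y hy => ?_).trans le_sup_left) ((img_le fun y hy => ?_).trans
          le_sup_right)
        · rw [hge y hy]; exact hv y hy
        · rw [hgfix y hy]; exact hy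
      exact this (mem_img_self g hx)
    have hm : IsMap F R fun y => γ (g (i y)) :=
      hγ.comp (hg.comp hi fun y hy => hiimg.le (mem_img_self i hy))
        fun y hy => hgC _ (hiimg.le (mem_img_self i hy))
    have hdom : (P.subgroupOf (centralizerIn S Q)).map ((centralizerIn S Q).subtype.comp α.toMonoidHom) = img (autFun α) P :=
      map_subgroupOf_eq_img (fun x => (autFun_apply α x).symm) hPT
    have key : ∀ x ∈ P, γ (g (i (autFun α x))) = autFun α (ext φ x) := fun x hx => by
      rw [← hγe x (hPT hx), hiγ _ (Subgroup.mem_sup_left hx), hge x hx, hγe _ (hv x hx)]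
    have hm' : IsMap C (img (autFun α) P) fun y => γ (g (i y)) := by
      refine (isMap_cent_iff hC).2 ⟨img_le fun x hx => autFun_mem _ (hPT hx), fun y hy => ?_,
        fun y => γ (g (i y)), hR' ▸ hm, fun _ _ => rfl, fun q hq => ?_⟩
      · obtain ⟨x, hx, rfl⟩ := ((isMap_of_mem_autGroup hsc.1 hα).restrict hPT).mem_img.1 hy
        rw [key x hx]
        exact autFun_mem _ (hv x hx)
      · obtain ⟨q', hq', rfl⟩ := (hγ.restrict le_sup_right).mem_img.1 (hγQ.ge hq)
        show γ (g (i (γ q'))) = γ q'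
        rw [hiγ _ (Subgroup.mem_sup_right hq'), hgfix q' hq']
    rw [hdom]
    refine ⟨hm'.hom, hm'.hom_mem_self, fun x hφx hαx => ?_⟩
    rw [IsMap.hom_apply, ← autFun_of_mem α (hPT x.2), key x x.2, ext_apply,
      autFun_of_mem α hφx]
  · have hf := IsMap.of_hom hφ
    obtain ⟨g, hg, hge, hgQ⟩ := (isNormal_iff.1 hQ).2 P _ hf
    have hgQ' := hg.restrict (le_sup_right : Q ≤ P ⊔ Q)
    obtain ⟨θ, hθ, hθe⟩ := exists_extension hS hF hgQ'
      (by rw [hgQ]; exact normal_fullyCentralized hQ)
    have hle : Q ⊔ (centralizerIn S Q) ≤ nSub S Q g := sup_le (le_nSub hgQ') centralizerIn_le_nSub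
    have hθ' := hθ.restrict hle
    have hθQ : img θ Q = Q := by rw [img_congr hθe, hgQ]
    have hθC : img θ (centralizerIn S Q) = (centralizerIn S Q) := stronglyClosed_img hsc hθ' le_sup_right
    obtain ⟨j, hj, hjimg, hjθ, -⟩ := hθ'.exists_inv
    rw [hθ'.img_sup, hθQ, hθC] at hj hjimg
    obtain ⟨α, hα, hαe⟩ := (hθ'.restrict le_sup_right).exists_aut hθC
    have hgPQ : ∀ x ∈ P ⊔ Q, g x ∈ Q ⊔ (centralizerIn S Q) := by
      intro x hx
      have : img g (P ⊔ Q) ≤ Q ⊔ (centralizerIn S Q) := by
        rw [hg.img_sup, hgQ]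
        refine sup_le ((img_le fun y hy => ?_).trans le_sup_right) le_sup_left
        rw [hge y hy]
        exact stronglyClosed_mem hsc hf hy (hPT hy)
      exact this (mem_img_self g hx)
    have hjC : ∀ x ∈ P, j (g x) ∈ (centralizerIn S Q) := by
      intro x hx
      have h1 : g x ∈ (centralizerIn S Q) := by rw [hge x hx]; exact stronglyClosed_mem hsc hf hx (hPT hx)
      exact stronglyClosed_mem hsc hj (Subgroup.mem_sup_right h1) h1
    have hm : IsMap C P fun x => j (g x) :=
      (isMap_cent_iff hC).2 ⟨hPT, hjC, fun x => j (g x), hj.comp hg hgPQ, fun _ _ => rfl,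
        fun q hq => by
          show j (g q) = q
          rw [← hθe q hq, hjθ q (Subgroup.mem_sup_left hq)]⟩
    refine ⟨α, hα, hm.hom, hm.hom_mem_self, fun x hx => ?_⟩
    have h1 : g x ∈ (centralizerIn S Q) := by rw [hge x x.2]; exact stronglyClosed_mem hsc hf x.2 (hPT x.2)
    rw [← autFun_of_mem α hx, IsMap.hom_apply, hαe _ (hjC x x.2)]
    obtain ⟨z, hz, hze⟩ := (hθ'.restrict le_sup_right).mem_img.1 (hθC.ge h1)
    rw [← hze, hjθ z (Subgroup.mem_sup_right hz), hze, hge x x.2, ext_apply]

/-- A system is constrained when the centralizer of one of its normal subgroups is. -/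
theorem constrained_of_centralizer (hS : IsPGroup p S) (hF : F.IsSaturated p) (hQ : F.IsNormal Q)
    (hC : F.IsCentralizerSystem Q C) (hc : C.IsConstrained p) : F.IsConstrained p := by
  have hinv := centralizer_invariant hS hF hQ hC
  have : Finite (centralizerIn S Q) := finite_of_le centralizerIn_le
  have hV := isNormal_sup (core_normal hS hF hinv) hQ
  refine ⟨hF, _, hV, centric_of_normal hV fun x hx => ?_⟩
  have hxQ : x ∈ centralizerIn S Q := ⟨hx.1, fun y hy => hx.2 y (Subgroup.mem_sup_right hy)⟩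
  exact Subgroup.mem_sup_left (centric_centralizerIn_le (core_centric hc)
    ⟨hxQ, fun y hy => hx.2 y (Subgroup.mem_sup_left hy)⟩)

/-- A saturated system without nontrivial automorphisms of order prime to `p` is constrained. -/
theorem constrained_of_pAut (hS : IsPGroup p S) (hF : F.IsSaturated p)
    (h : ∀ P : Subgroup Ω, P ≤ S → ∀ α ∈ F.autGroup P, (orderOf α).Coprime p → α = 1) :
    F.IsConstrained p := by
  have hp : ∀ P : Subgroup Ω, P ≤ S → IsPGroup p (F.autGroup P) := by
    intro P hP a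
    have : Finite P := finite_of_le hP
    obtain ⟨k, m, A, B, hm, he, hg⟩ := Elementwise.exists_bezout (p := p) a
    refine ⟨k, ?_⟩
    have hd : orderOf (a ^ p ^ k) ∣ m :=
      orderOf_dvd_of_pow_eq_one (by rw [← pow_mul, ← he, pow_orderOf_eq_one])
    refine Subtype.ext (h P hP _ (a ^ p ^ k : F.autGroup P).2 ?_)
    rw [Subgroup.orderOf_coe]
    exact Nat.Coprime.coprime_dvd_left hd
      (((Fact.out : p.Prime).coprime_iff_not_dvd.2 hm).symm)
  have hSn : F.IsNormal S := by
    refine normal_of_invariant hS hF fun P hP => ?_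
    rcases hP with rfl | hP
    · exact ⟨le_rfl, fun α _ => autFun_img α⟩
    · exact absurd (hp P hP.1.1) (Alperin.not_isPGroup_of_essential hP)
  exact ⟨hF, S, hSn, centric_of_normal hSn inf_le_left⟩

end Cfsg.Agent.Fusion.NormalCentralizer
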