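/-
The least saturated subsystem of index prime to `p`.
-/
import Mathlib
import Cfsg.Prelude.Def_FusionComponents
import Cfsg.Agent.Lib.Fusion.PPrimeGen
import Cfsg.Agent.Lib.Fusion.KNormalizer
import Cfsg.Agent.Lib.Fusion.CentricExt

set_option autoImplicit false
set_option linter.unusedSectionVars false

namespace Cfsg.Agent.Fusion.PPrimeResidual

open Cfsg Cfsg.FusionSystem Cfsg.Agent.Fusion.Basic Cfsg.Agent.Fusion.Saturation
  Cfsg.Agent.Fusion.KNormalizer Cfsg.Agent.Fusion.CentricExt Cfsg.Agent.Fusion.PPrimeGen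

variable {Ω : Type*} [Group Ω] {S : Subgroup Ω} {F : FusionSystem S} {p : ℕ}
  {P Q R U V W : Subgroup Ω} {f g : Ω → Ω}

/-- Automorphisms of `S` that restrict to a generated map on some centric subgroup. -/
def seed (F : FusionSystem S) (p : ℕ) : Set (F.autGroup S) :=
  {a | ∃ R, F.IsCentric R ∧ Gen F p R (autFun (a : MulAut S))}

/-- The subgroup of `Aut_F(S)` generated by `seed`. -/
def A0 (F : FusionSystem S) (p : ℕ) : Subgroup (F.autGroup S) := Subgroup.closure (seed F p)

variable [Finite S]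

theorem seed_conj {a : F.autGroup S} (ha : a ∈ seed F p) (b : F.autGroup S) :
    b * a * b⁻¹ ∈ seed F p := by
  obtain ⟨R, hR, hg⟩ := ha
  refine ⟨img (autFun (b : MulAut S)) R,
    centric_conj hR ((isMap_aut b).restrict hR.1).isConj, (hg.tw b).congr fun x _ => ?_⟩
  rw [PPrimeGen.tw, Subgroup.coe_mul, Subgroup.coe_mul, autFun_mul, autFun_mul]

instance a0_normal : (A0 F p).Normal := by
  refine ⟨fun x hx b => ?_⟩
  unfold A0 at hx ⊢
  induction hx using Subgroup.closure_induction with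
  | mem y hy => exact Subgroup.subset_closure (seed_conj hy b)
  | one => simp
  | mul u v _ _ iu iv => simpa [mul_assoc] using mul_mem iu iv
  | inv u _ iu => simpa [mul_assoc] using inv_mem iu

/-- The value group. -/
abbrev Val0 (F : FusionSystem S) (p : ℕ) : Type _ := F.autGroup S ⧸ A0 F p

/-- `f` on `P` has value `g`: it is an automorphism of class `g` after a generated map. -/
def Val (F : FusionSystem S) (p : ℕ) (P : Subgroup Ω) (f : Ω → Ω) (g : Val0 F p) : Prop :=
  ∃ a : F.autGroup S, QuotientGroup.mk a = g ∧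
    ∃ e, Gen F p P e ∧ ∀ x ∈ P, f x = autFun (a : MulAut S) (e x)

variable {u v : Val0 F p}

theorem Val.isMap (h : Val F p P f u) : IsMap F P f := by
  obtain ⟨a, -, e, he, hfe⟩ := h
  exact Fac.isMap ⟨a, e, he, hfe⟩

theorem Val.congr (h : Val F p P f u) (he : ∀ x ∈ P, f x = g x) : Val F p P g u := by
  obtain ⟨a, ha, e, hgen, hfe⟩ := h
  exact ⟨a, ha, e, hgen, fun x hx => (he x hx).symm.trans (hfe x hx)⟩

theorem Val.restrict (h : Val F p P f u) (hR : R ≤ P) : Val F p R f u := by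
  obtain ⟨a, ha, e, hgen, hfe⟩ := h
  exact ⟨a, ha, e, hgen.restrict hR, fun x hx => hfe x (hR hx)⟩

theorem val_gen (h : Gen F p P f) : Val F p P f 1 :=
  ⟨1, QuotientGroup.mk_one _, f, h, fun x _ => by rw [OneMemClass.coe_one, autFun_one]; rfl⟩

theorem val_aut (hP : P ≤ S) (a : F.autGroup S) :
    Val F p P (autFun (a : MulAut S)) (QuotientGroup.mk a) :=
  ⟨a, rfl, id, Gen.ident hP, fun _ _ => rfl⟩

theorem val_cj (hS : IsPGroup p S) (hP : P ≤ S) {a : Ω} (ha : a ∈ S) : Val F p P (cj a) 1 :=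
  val_gen (gen_cj hS hP ha)

theorem Val.comp (hf : Val F p P f u) (hg : Val F p Q g v) (hPQ : ∀ x ∈ P, f x ∈ Q) :
    Val F p P (fun x => g (f x)) (v * u) := by
  obtain ⟨a, rfl, e, he, hfe⟩ := hf
  obtain ⟨b, rfl, d, hd, hgd⟩ := hg
  obtain ⟨c, hc, hce⟩ := fac_comp (b := b) he hd fun x hx => hfe x hx ▸ hPQ x hx
  refine ⟨b * a, QuotientGroup.mk_mul _ _ _, c, hc, fun x hx => ?_⟩
  show g (f x) = _
  rw [hgd _ (hPQ x hx), hfe x hx, hce x hx]

theorem Val.inv (hf : Val F p P f u) {fi : Ω → Ω} (hi : ∀ x ∈ P, fi (f x) = x) :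
    Val F p (img f P) fi u⁻¹ := by
  obtain ⟨a, rfl, e, he, hfe⟩ := hf
  obtain ⟨c, hc, hce⟩ := fac_inv he hfe
  refine ⟨a⁻¹, QuotientGroup.mk_inv _ _, c, hc, fun y hy => ?_⟩
  obtain ⟨x, hx, rfl⟩ := (Val.isMap ⟨a, rfl, e, he, hfe⟩).mem_img.1 hy
  rw [hce x hx, hi x hx]

/-- On a centric subgroup the value is unique. -/
theorem Val.unique (hP : F.IsCentric P) (h : Val F p P f u) (h' : Val F p P f v) : u = v := by
  obtain ⟨a, rfl, e, he, hfe⟩ := h
  obtain ⟨b, rfl, d, hd, hfd⟩ := h'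
  obtain ⟨ei, hei, hee⟩ := he.exists_inv
  have hmaps : ∀ y ∈ img e P, ei y ∈ P := fun y hy => by
    obtain ⟨x, hx, rfl⟩ := he.isMap.mem_img.1 hy
    rwa [hee x hx]
  have hmem : b⁻¹ * a ∈ seed F p := by
    refine ⟨img e P, centric_conj hP he.isMap.isConj, (hei.comp hd hmaps).congr fun y hy => ?_⟩
    obtain ⟨x, hx, rfl⟩ := he.isMap.mem_img.1 hy
    rw [hee x hx, Subgroup.coe_mul, autFun_mul, ← hfe x hx, hfd x hx, inv_apply]
  exact ((QuotientGroup.eq).2 (Subgroup.subset_closure hmem)).symm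

variable [Fact p.Prime] (hS : IsPGroup p S) (hF : F.IsSaturated p)
include hS hF

theorem exists_val (hf : IsMap F P f) : ∃ u : Val0 F p, Val F p P f u := by
  obtain ⟨a, e, he, hfe⟩ := frattini hS hF hf
  exact ⟨_, a, rfl, e, he, hfe⟩

omit hS hF in
/-- `Q C_S(Q)`. -/
abbrev cen (S Q : Subgroup Ω) : Subgroup Ω := Q ⊔ centralizerIn S Q

omit hS hF in
theorem cen_le (hQ : Q ≤ S) : cen S Q ≤ S := sup_le hQ centralizerIn_le

theorem cen_centric (hQ : F.IsFullyCentralized Q) : F.IsCentric (cen S Q) := by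
  refine ⟨cen_le hQ.1, fun T hT => ?_⟩
  obtain ⟨f, hf, rfl⟩ := isConj_iff_map.1 hT
  obtain ⟨i, hi, hiimg, hif, hfi⟩ := (hf.restrict (le_sup_left : Q ≤ cen S Q)).exists_inv
  obtain ⟨θ, hθ, hθe⟩ := exists_extension hS hF hi (by rw [hiimg]; exact hQ)
  intro y hy
  have hyC : y ∈ centralizerIn S (img f Q) :=
    ⟨hy.1, fun x hx => hy.2 x (img_mono f le_sup_left hx)⟩
  have hyN : y ∈ nSub S (img f Q) i := centralizerIn_le_nSub hyC
  have hθy : θ y ∈ centralizerIn S Q := by
    have h := hθ.mem_centralizer_img (le_nSub hi) hyN hyC.2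
    rw [img_congr hθe, hiimg] at h
    exact ⟨hθ.mem hyN, h⟩
  -- `θ` carries the image of `Q C_S(Q)` onto `Q C_S(Q)`
  have hle : img f (cen S Q) ≤ nSub S (img f Q) i := by
    rw [hf.img_sup]
    refine sup_le (le_nSub hi) (img_le fun x hx => centralizerIn_le_nSub ?_)
    exact ⟨hf.mem (Subgroup.mem_sup_right hx),
      hf.mem_centralizer_img le_sup_left (Subgroup.mem_sup_right hx) hx.2⟩
  have himg : img θ (img f (cen S Q)) = cen S Q := by
    have hfin : Finite (cen S Q) := finite_of_le (cen_le hQ.1)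
    refine eq_of_le_card ?_ (by rw [(hθ.restrict hle).card_img, hf.card_img])
    rw [hf.img_sup]
    refine (hθ.restrict (hf.img_sup ▸ hle)).img_sup.le.trans (sup_le ?_ ?_)
    · rw [img_congr hθe, hiimg]
      exact le_sup_left
    · refine (img_le fun z hz => ?_).trans le_sup_right
      obtain ⟨x, hx, rfl⟩ := (hf.restrict le_sup_right).mem_img.1 hz
      have hxN : f x ∈ nSub S (img f Q) i := hle (mem_img_self f (Subgroup.mem_sup_right hx))
      have h := hθ.mem_centralizer_img (le_nSub hi) hxN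
        (hf.mem_centralizer_img le_sup_left (Subgroup.mem_sup_right hx) hx.2)
      rw [img_congr hθe, hiimg] at h
      exact ⟨hθ.mem hxN, h⟩
  have h2 : θ y ∈ img θ (img f (cen S Q)) := himg.symm ▸ Subgroup.mem_sup_right hθy
  obtain ⟨z, hz, hze⟩ := (hθ.restrict hle).mem_img.1 h2
  exact hθ.inj (hle hz) hyN hze ▸ hz

omit hS hF in
/-- The values of maps on `Q C_S(Q)` fixing `Q`. -/
def InΓ (Q : Subgroup Ω) (u : Val0 F p) : Prop :=
  ∃ γ, Val F p (cen S Q) γ u ∧ ∀ x ∈ Q, γ x = x

omit hS hF in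
theorem img_cen {γ : Ω → Ω} (hγ : IsMap F (cen S Q) γ) (hQ : img γ Q = Q) :
    img γ (cen S Q) = cen S Q := by
  have : Finite (cen S Q) := finite_of_le hγ.le
  refine eq_of_le_card ?_ hγ.card_img.ge
  rw [hγ.img_sup, hQ]
  refine sup_le_sup_left (img_le fun c hc => ?_) Q
  have h := hγ.mem_centralizer_img le_sup_left (Subgroup.mem_sup_right hc) hc.2
  rw [hQ] at h
  exact ⟨hγ.mem (Subgroup.mem_sup_right hc), h⟩

omit hS hF in
theorem maps_cen {γ : Ω → Ω} (hγ : IsMap F (cen S Q) γ) (hfix : ∀ x ∈ Q, γ x = x) :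
    img γ (cen S Q) = cen S Q :=
  img_cen hγ (by rw [img_congr (g := id) hfix, img_id])

omit hS hF in
theorem InΓ.mul (hu : InΓ Q u) (hv : InΓ Q v) : InΓ Q (u * v) := by
  obtain ⟨γ, hγ, hγf⟩ := hu
  obtain ⟨δ, hδ, hδf⟩ := hv
  refine ⟨fun x => γ (δ x), hδ.comp hγ fun x hx => ?_, fun x hx => ?_⟩
  · rw [← maps_cen hδ.isMap hδf]
    exact mem_img_self δ hx
  · show γ (δ x) = x
    rw [hδf x hx, hγf x hx]

omit hS hF in
theorem InΓ.inv (hu : InΓ Q u) : InΓ Q u⁻¹ := by
  obtain ⟨γ, hγ, hγf⟩ := hu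
  obtain ⟨i, -, -, hi, -⟩ := hγ.isMap.exists_inv
  refine ⟨i, maps_cen hγ.isMap hγf ▸ hγ.inv hi, fun x hx => ?_⟩
  conv_lhs => rw [← hγf x hx]
  exact hi x (Subgroup.mem_sup_left hx)

/-- A map on a subgroup between `Q` and `V C_S(Q)` fixing `Q` has a value realized by a map on
`V C_S(Q)` fixing `Q`. -/
theorem exists_global (hQ : F.IsFullyCentralized Q) (_hQV : Q ≤ V) (hV : V ≤ normalizerIn S Q)
    (hf : IsMap F W f) (hQW : Q ≤ W) (hW : W ≤ kNorm S (autInducedBy V Q))
    (hfW : ∀ x ∈ W, f x ∈ kNorm S (autInducedBy V Q)) (hfix : ∀ x ∈ Q, f x = x) :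
    ∃ (u : Val0 F p) (z : Ω → Ω), InΓ Q u ∧ Val F p W f u ∧
      Val F p (kNorm S (autInducedBy V Q)) z u ∧ ∀ x ∈ Q, z x = x := by
  have hVS : V ≤ S := hV.trans normalizerIn_le
  set K := autInducedBy V Q with hKdef
  have hKS : K ≤ autInducedBy S Q := by
    intro α hα
    obtain ⟨a, ha, hae⟩ := mem_autInducedBy_iff'.1 hα
    exact mem_autInducedBy_iff'.2 ⟨a, ⟨hVS ha.1, ha.2⟩, hae⟩
  have hfull : KFull F p K := by
    refine ⟨hQ, ?_⟩
    rw [inf_eq_right.2 hKS, inf_eq_right.2 (hKS.trans (autInducedBy_le hQ.1)),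
      Subgroup.relIndex_self]
    exact (Fact.out : p.Prime).not_dvd_one
  obtain ⟨G, hG⟩ := exists_kSystem (F := F) (K := K) hQ.1
  have hGsat : G.IsSaturated p := KNormalizer.saturated hS hF hfull rfl G hG
  have hZ : IsPGroup p (kNorm S K) := hS.to_le kNorm_le_S
  have : Finite (kNorm S K) := finite_of_le kNorm_le_S
  have hmapG : ∀ {P : Subgroup Ω} {h : Ω → Ω}, IsMap G P h → IsKMap F K P h := by
    rintro P h ⟨φ, hφ, hφe⟩
    obtain ⟨hP, hval, k, hk, hke, hkK⟩ := (hG P φ).1 hφ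
    have hc : ∀ x ∈ P, ext φ x = h x := fun x hx => by rw [ext_of_mem φ hx, hφe ⟨x, hx⟩]
    exact ⟨hP, fun x hx => hc x hx ▸ hval x hx, k, hk, fun x hx => (hke x hx).trans (hc x hx), hkK⟩
  have hfG : IsMap G W f := by
    refine ⟨hf.hom, (hG W _).2 ⟨hW, fun x hx => ?_, f, ?_, fun x hx => ?_, ?_⟩, fun x => rfl⟩
    · rw [ext_of_mem _ hx]; exact hfW x hx
    · rw [sup_eq_left.2 hQW]; exact hf
    · rw [ext_of_mem _ hx]; rfl
    · exact ⟨1, K.one_mem, fun x hx => by rw [hfix x hx, autFun_one]; rfl⟩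
  have hQZ : Q ≤ kNorm S K := hQW.trans hW
  have hCQ : centralizerIn S Q ≤ kNorm S K := by
    rw [← kNorm_bot]
    exact fun a ha => ⟨ha.1, inK_congr (fun _ _ => rfl) (by
      obtain ⟨k, hk, hke⟩ := ha.2
      exact ⟨k, Subgroup.mem_bot.1 hk ▸ K.one_mem, hke⟩)⟩
  have hKp : IsPGroup p K := isPGroup_autInducedBy (hS.to_le hVS)
  -- generated maps of the subsystem are generated maps of `F`
  have hgen : ∀ {P : Subgroup Ω} {e : Ω → Ω}, Gen G p P e →
      ∃ e', Gen F p (P ⊔ Q) e' ∧ InK K e' ∧ ∀ x ∈ P, e' x = e x := by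
    intro P e he
    induction he with
    | @base P T α k hT hα hP =>
      obtain ⟨hTZ, -, h, hh, hhe, hhK⟩ := hmapG (isMap_of_mem_autGroup hT.1 α.2)
      have himg : img h (T ⊔ Q) = T ⊔ Q := by
        rw [hh.img_sup, hhK.img_eq, img_congr hhe, autFun_img]
      obtain ⟨β, hβ, hβe⟩ := hh.exists_aut himg
      have hcen : F.IsCentric (T ⊔ Q) := by
        refine ⟨hh.le, fun T' hT' => ?_⟩
        obtain ⟨c, hc, rfl⟩ := isConj_iff_map.1 hT'
        obtain ⟨i, hi, hiimg, hic, -⟩ := (hc.restrict (le_sup_right : Q ≤ T ⊔ Q)).exists_inv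
        obtain ⟨θ, hθ, hθe⟩ := exists_extension hS hF hi (by rw [hiimg]; exact hQ)
        have hle : img c (T ⊔ Q) ≤ nSub S (img c Q) i := by
          rw [hc.img_sup]
          refine sup_le (img_le fun x hx => ?_) (le_nSub hi)
          refine mem_nSub.2 ⟨hc.mem (Subgroup.mem_sup_left hx),
            hc.mem_normalizer_img le_sup_right (Subgroup.mem_sup_left hx)
              (kNorm_le (hTZ hx)).2, x, kNorm_le_S (hTZ hx), fun y hy => ?_⟩
          obtain ⟨q, hq, rfl⟩ := (hc.restrict le_sup_right).mem_img.1 hy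
          have hxq : x * q * x⁻¹ ∈ Q :=
            (Subgroup.mem_normalizer_iff.1 (kNorm_le (hTZ hx)).2 q).1 hq
          rw [← hc.map_conj (Subgroup.mem_sup_left hx) (Subgroup.mem_sup_right hq), hic _ hxq,
            hic _ hq]
        have hθc : IsMap F (T ⊔ Q) (fun x => θ (c x)) :=
          hθ.comp hc fun x hx => hle (mem_img_self c hx)
        have hfixθ : ∀ x ∈ Q, θ (c x) = x := fun x hx => by
          rw [hθe _ (mem_img_self c hx), hic x hx]
        have hθcZ : ∀ x ∈ T, θ (c x) ∈ kNorm S K := by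
          intro x hx
          refine ⟨hθc.mem (Subgroup.mem_sup_left hx),
            inK_congr (f := cj x) (fun q hq => ?_) (hTZ hx).2⟩
          have hxq : x * q * x⁻¹ ∈ Q :=
            (Subgroup.mem_normalizer_iff.1 (kNorm_le (hTZ hx)).2 q).1 hq
          rw [cj_apply, cj_apply]
          conv_rhs => rw [← hfixθ q hq]
          show x * q * x⁻¹ = θ (c x) * θ (c q) * (θ (c x))⁻¹
          rw [← hθc.map_conj (Subgroup.mem_sup_left hx) (Subgroup.mem_sup_right hq), hfixθ _ hxq]
        have hG' : IsMap G T (fun x => θ (c x)) := by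
          refine ⟨(hθc.restrict le_sup_left).hom, (hG T _).2 ⟨hTZ, fun x hx => ?_,
            fun x => θ (c x), hθc, fun x hx => ?_, ?_⟩, fun x => rfl⟩
          · rw [ext_of_mem _ hx]; exact hθcZ x hx
          · rw [ext_of_mem _ hx]; rfl
          · exact ⟨1, K.one_mem, fun x hx => by rw [autFun_one]; exact hfixθ x hx⟩
        intro y hy
        have hyQ : y ∈ centralizerIn S (img c Q) :=
          ⟨hy.1, fun x hx => hy.2 x (img_mono c le_sup_right hx)⟩
        have hyN : y ∈ nSub S (img c Q) i := centralizerIn_le_nSub hyQ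
        have h1 := hθ.mem_centralizer_img (le_nSub hi) hyN hyQ.2
        rw [img_congr hθe, hiimg] at h1
        have h2 := hθ.mem_centralizer_img hle hyN hy.2
        rw [hc.img_img] at h2
        have h3 : θ y ∈ img (fun x => θ (c x)) T := hT.2 _ hG'.isConj
          ⟨hCQ ⟨hθ.mem hyN, h1⟩, fun x hx => h2 x (img_mono _ le_sup_left hx)⟩
        obtain ⟨x, hx, hxe⟩ := (hθc.restrict le_sup_left).mem_img.1 h3
        have hcx := mem_img_self c (Subgroup.mem_sup_left (T := Q) hx)
        exact hθ.inj (hle hcx) hyN hxe ▸ hcx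
      obtain ⟨kk, hkk, hkke⟩ := hhK
      obtain ⟨l, hl⟩ := hKp ⟨kk, hkk⟩
      have hl' : kk ^ p ^ l = 1 := congrArg Subtype.val hl
      have hT' : ∀ n : ℕ, ∀ x ∈ T, autFun (β ^ n) x = autFun ((α : MulAut T) ^ n) x := by
        intro n
        induction n with
        | zero => intro x _; simp [autFun_one]
        | succ n ih =>
          intro x hx
          rw [pow_succ', pow_succ', autFun_mul, autFun_mul, ih x hx,
            hβe _ (Subgroup.mem_sup_left (autFun_mem _ hx)), hhe _ (autFun_mem _ hx)]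
      have hQ' : ∀ n : ℕ, ∀ x ∈ Q, autFun (β ^ n) x = autFun (kk ^ n) x := by
        intro n
        induction n with
        | zero => intro x _; simp [autFun_one]
        | succ n ih =>
          intro x hx
          rw [pow_succ', pow_succ', autFun_mul, autFun_mul, ih x hx,
            hβe _ (Subgroup.mem_sup_right (autFun_mem _ hx)), hkke _ (autFun_mem _ hx)]
      have hβp : (⟨β, hβ⟩ : F.autGroup (T ⊔ Q)) ^ p ^ (k + l) = 1 := by
        refine Subtype.ext ?_
        rw [SubmonoidClass.coe_pow, OneMemClass.coe_one]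
        show β ^ p ^ (k + l) = 1
        refine autFun_ext fun x hx => ?_
        rw [autFun_one]
        have hm : IsMap F (T ⊔ Q) (autFun (β ^ p ^ (k + l))) :=
          isMap_of_mem_autGroup hh.le (pow_mem hβ _)
        rw [Subgroup.sup_eq_closure] at hx
        induction hx using Subgroup.closure_induction with
        | mem z hz =>
          rcases hz with hz | hz
          · rw [hT' _ z hz, pow_add, pow_mul, ← SubmonoidClass.coe_pow α (p ^ k), hα,
              OneMemClass.coe_one, one_pow, autFun_one]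
          · rw [hQ' _ z hz, pow_add, mul_comm, pow_mul, hl', one_pow, autFun_one]
        | one => exact hm.map_one
        | mul x y hx hy ihx ihy =>
          rw [← Subgroup.sup_eq_closure] at hx hy
          rw [hm.map_mul hx hy, ihx, ihy]
          rfl
        | inv x hx ihx =>
          rw [← Subgroup.sup_eq_closure] at hx
          rw [hm.map_inv hx, ihx]
          rfl
      refine ⟨h, ((Gen.base _ _ hcen hβp le_rfl).congr hβe).restrict (sup_le_sup_right hP Q),
        ⟨kk, hkk, hkke⟩, fun x hx => hhe x (hP hx)⟩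
    | @ident P hP =>
      exact ⟨id, Gen.ident (sup_le (hP.trans kNorm_le_S) hQ.1), inK_id, fun x _ => rfl⟩
    | @comp P P' e d he hd hPP ihe ihd =>
      obtain ⟨e', he', heK, hee⟩ := ihe
      obtain ⟨d', hd', hdK, hde⟩ := ihd
      refine ⟨fun x => d' (e' x), he'.comp hd' fun x hx => ?_, hdK.comp heK, fun x hx => ?_⟩
      · have h1 : img e' (P ⊔ Q) ≤ P' ⊔ Q := by
          rw [he'.isMap.img_sup, heK.img_eq, img_congr hee]
          exact sup_le_sup_right (img_le hPP) Q
        exact h1 (mem_img_self e' hx)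
      · show d' (e' x) = d (e x)
        rw [hee x hx, hde _ (hPP x hx)]
    | @congr P e d _ hed ih =>
      obtain ⟨e', he', heK, hee⟩ := ih
      exact ⟨e', he', heK, fun x hx => (hee x hx).trans (hed x hx)⟩
  obtain ⟨a, e, he, hfe⟩ := frattini hZ hGsat hfG
  obtain ⟨e', he', -, hee⟩ := hgen he
  obtain ⟨-, -, a', ha', hae, haK⟩ := hmapG (isMap_aut a)
  have ha : IsMap F (kNorm S K) (autFun (a : MulAut (kNorm S K))) :=
    (ha'.restrict le_sup_left).congr hae
  obtain ⟨u, hu⟩ := exists_val hS hF ha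
  -- correct `a` by a conjugation
  obtain ⟨k, hk, hke⟩ := haK
  obtain ⟨c, hc, hce⟩ := mem_autInducedBy_iff'.1 hk
  have hcS : c ∈ S := hVS hc.1
  have hz : Val F p (kNorm S K) (fun x => cj c⁻¹ (autFun (a : MulAut (kNorm S K)) x)) u := by
    have h := hu.comp (val_cj (F := F) hS (le_refl S) (S.inv_mem hcS)) fun x hx => ha.mem hx
    rwa [one_mul] at h
  have hzfix : ∀ x ∈ Q, cj c⁻¹ (autFun (a : MulAut (kNorm S K)) x) = x := fun x hx => by
    rw [← hae x (hQZ hx), hke x hx, hce x hx, cj_inv_cj]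
  refine ⟨u, fun x => cj c⁻¹ (autFun (a : MulAut (kNorm S K)) x),
    ⟨_, hz.restrict (sup_le hQZ hCQ), hzfix⟩, ?_, hz, hzfix⟩
  have h := (val_gen (he'.restrict (le_sup_left : W ≤ W ⊔ Q))).comp hu fun x hx => by
    rw [hee x hx]; exact he.isMap.mem hx
  rw [mul_one] at h
  refine h.congr fun x hx => ?_
  show autFun _ (e' x) = f x
  rw [hee x hx, hfe x hx]

/-- Consistency at `Q`. -/
theorem consistent (hQ : F.IsFullyNormalized Q) {u : Val0 F p} (hu : Val F p Q id u) : InΓ Q u := by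
  induction hn : Nat.card S - Nat.card Q using Nat.strong_induction_on generalizing Q u with
  | _ n ih =>
  have hQS := hQ.1
  have hfc := fullyNormalized_fullyCentralized hS hF hQ
  have hX := cen_centric hS hF hfc
  by_cases hQc : F.IsCentric Q
  · have h1 : u = 1 := hu.unique hQc (val_gen (Gen.ident hQS))
    subst h1
    exact ⟨id, val_gen (Gen.ident (cen_le hQS)), fun _ _ => rfl⟩
  -- transport of consistency from a larger subgroup
  have hstep : ∀ V : Subgroup Ω, Q < V → V ≤ normalizerIn S Q → ∀ w : Val0 F p,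
      Val F p V id w → InΓ Q w := by
    intro V hQV hVN w hw
    have hVS : V ≤ S := hVN.trans normalizerIn_le
    have : Finite V := finite_of_le hVS
    obtain ⟨Q₁, hVQ₁, hQ₁⟩ := exists_fullyNormalized (F := F) hVS
    obtain ⟨η, hη, rfl⟩ := isConj_iff_map.1 hVQ₁
    have hcard : Nat.card S - Nat.card (img η V) < n := by
      rw [← hn, isConj_card hVQ₁]
      have h1 := card_lt_card hQV
      have h2 := card_le_card hVS
      omega
    obtain ⟨η', hη', -, hηη, hηη'⟩ := hη.exists_inv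
    obtain ⟨g₁, hg₁⟩ := exists_val hS hF hη
    have hconj : ∀ w : Val0 F p, Val F p V id w → InΓ (img η V) (g₁ * w * g₁⁻¹) := by
      intro w hw
      refine ih _ hcard hQ₁ ?_ rfl
      have h1 := ((hg₁.inv hηη).comp hw fun y hy => ?_).comp hg₁ fun y hy => ?_
      · rw [← mul_assoc] at h1
        exact h1.congr fun y hy => hηη' y hy
      · obtain ⟨x, hx, rfl⟩ := hη.mem_img.1 hy
        rwa [hηη x hx]
      · obtain ⟨x, hx, rfl⟩ := hη.mem_img.1 hy
        show id (η' (η x)) ∈ V
        rwa [id, hηη x hx]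
    obtain ⟨i, hi, hiimg, hiη, -⟩ := (hη.restrict hQV.le).exists_inv
    obtain ⟨h, hh, hhe⟩ := exists_extension hS hF hi (by rw [hiimg]; exact hfc)
    have hX₁ : cen S (img η V) ≤ nSub S (img η Q) i := by
      refine sup_le (img_le fun x hx => ?_) fun y hy => ?_
      · refine mem_nSub.2 ⟨hη.mem hx, hη.mem_normalizer_img hQV.le hx (hVN hx).2,
          x, hVS hx, fun y hy => ?_⟩
        obtain ⟨q, hq, rfl⟩ := (hη.restrict hQV.le).mem_img.1 hy
        rw [← hη.map_conj hx (hQV.le hq),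
          hiη _ ((Subgroup.mem_normalizer_iff.1 (hVN hx).2 q).1 hq), hiη _ hq]
      · exact centralizerIn_le_nSub ⟨hy.1, fun x hx => hy.2 x (img_mono η hQV.le hx)⟩
    have hhX := hh.restrict hX₁
    obtain ⟨g₂, hg₂⟩ := exists_val hS hF hhX
    have hQη : img h (img η Q) = Q := by rw [img_congr hhe, hiimg]
    have hηQ : img η Q ≤ cen S (img η V) := (img_mono η hQV.le).trans le_sup_left
    -- images under `h` lie in `V C_S(Q)`
    have hhZ : ∀ y ∈ cen S (img η V), h y ∈ kNorm S (autInducedBy V Q) := by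
      have hle : cen S (img η V) ≤ Subgroup.map (cen S (img η V)).subtype
          ((kNorm S (autInducedBy V Q)).comap hhX.hom) := by
        refine sup_le (fun y hy => ⟨⟨y, Subgroup.mem_sup_left hy⟩, ?_, rfl⟩)
          (fun y hy => ⟨⟨y, Subgroup.mem_sup_right hy⟩, ?_, rfl⟩)
        · obtain ⟨x, hx, rfl⟩ := hη.mem_img.1 hy
          rw [SetLike.mem_coe, Subgroup.mem_comap, IsMap.hom_apply]
          refine ⟨hhX.mem (Subgroup.mem_sup_left hy), conjAut V Q ⟨x, hx, (hVN hx).2⟩,
            conjAut_range V Q ▸ ⟨_, rfl⟩, fun q hq => ?_⟩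
          rw [conjAut_apply (⟨x, hx, (hVN hx).2⟩ : ↥(V ⊓ Subgroup.normalizer (Q : Set Ω))) hq,
            cj_apply, cj_apply]
          have e1 : h (η q) = q := by rw [hhe _ (mem_img_self η hq), hiη q hq]
          have hxq : x * q * x⁻¹ ∈ Q := (Subgroup.mem_normalizer_iff.1 (hVN hx).2 q).1 hq
          conv_lhs => rw [← e1]
          show h (η x) * h (η q) * (h (η x))⁻¹ = x * q * x⁻¹
          rw [← hhX.map_conj (Subgroup.mem_sup_left hy) (hηQ (mem_img_self η hq)),
            ← hη.map_conj hx (hQV.le hq), hhe _ (mem_img_self η hxq), hiη _ hxq]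
        · rw [SetLike.mem_coe, Subgroup.mem_comap, IsMap.hom_apply]
          refine ⟨hhX.mem (Subgroup.mem_sup_right hy), 1, Subgroup.one_mem _, fun q hq => ?_⟩
          rw [autFun_one, id, cj_apply, mul_inv_eq_iff_eq_mul]
          have hc := hhX.mem_centralizer_img hηQ (Subgroup.mem_sup_right hy)
            (fun z hz => hy.2 z (img_mono η hQV.le hz))
          rw [hQη] at hc
          exact (hc q hq).symm
      intro y hy
      obtain ⟨z, hz, rfl⟩ := hle hy
      rw [SetLike.mem_coe, Subgroup.mem_comap, IsMap.hom_apply] at hz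
      exact hz
    have hVZ : V ≤ kNorm S (autInducedBy V Q) := fun x hx =>
      ⟨hVS hx, conjAut V Q ⟨x, hx, (hVN hx).2⟩, conjAut_range V Q ▸ ⟨_, rfl⟩,
        fun q hq => (conjAut_apply (⟨x, hx, (hVN hx).2⟩ :
          ↥(V ⊓ Subgroup.normalizer (Q : Set Ω))) hq).symm⟩
    -- every value fixing `η V` is carried into `InΓ Q`
    have hΓ : ∀ k : Val0 F p, InΓ (img η V) k → InΓ Q (g₂ * k * g₂⁻¹) := by
      rintro k ⟨γ, hγ, hγfix⟩
      have hγX := maps_cen hγ.isMap hγfix
      obtain ⟨h', -, -, hh'h, -⟩ := hhX.exists_inv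
      have h1 := ((hg₂.inv hh'h).comp hγ fun y hy => ?_).comp hg₂ fun y hy => ?_
      · have hc : F.IsCentric (img h (cen S (img η V))) := centric_conj
          (cen_centric hS hF (fullyNormalized_fullyCentralized hS hF hQ₁)) hhX.isConj
        have hval : ∀ y ∈ img h (cen S (img η V)), h (γ (h' y)) ∈ kNorm S (autInducedBy V Q) := by
          intro y hy
          obtain ⟨x, hx, rfl⟩ := hhX.mem_img.1 hy
          rw [hh'h x hx]
          exact hhZ _ (hγX ▸ mem_img_self γ hx)
        have hfixQ : ∀ q ∈ Q, h (γ (h' q)) = q := by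
          intro q hq
          obtain ⟨x, hx, rfl⟩ := (hhX.restrict hηQ).mem_img.1 (hQη.symm ▸ hq)
          rw [hh'h x (hηQ hx), hγfix x (img_mono η hQV.le hx)]
        obtain ⟨r, -, hr, hr', -, -⟩ := exists_global hS hF hfc hQV.le hVN h1.isMap
          (hQη ▸ img_mono h hηQ) (img_le hhZ) hval hfixQ
        have e0 := hr'.unique hc h1
        rw [← mul_assoc] at e0
        exact e0 ▸ hr
      · obtain ⟨x, hx, rfl⟩ := hhX.mem_img.1 hy
        rwa [hh'h x hx]
      · obtain ⟨x, hx, rfl⟩ := hhX.mem_img.1 hy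
        show γ (h' (h x)) ∈ _
        rw [hh'h x hx]
        exact hγX ▸ mem_img_self γ hx
    -- compare `h η` with a global value
    have hηX : ∀ x ∈ V, η x ∈ cen S (img η V) := fun x hx =>
      Subgroup.mem_sup_left (mem_img_self η hx)
    have h2 := hg₁.comp hg₂ hηX
    obtain ⟨r, -, hr, hr', -, -⟩ := exists_global hS hF hfc hQV.le hVN h2.isMap hQV.le hVZ
      (fun x hx => hhZ _ (hηX x hx))
      (fun q hq => show h (η q) = q by rw [hhe _ (mem_img_self η hq), hiη q hq])
    obtain ⟨η'', -, -, hη''η, -⟩ := h2.isMap.exists_inv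
    have h3 : Val F p V id (r⁻¹ * (g₂ * g₁)) := by
      have := h2.comp (hr'.inv hη''η) fun x hx => mem_img_self (fun x => h (η x)) hx
      exact this.congr fun x hx => hη''η x hx
    have hk := hconj _ h3
    have hk' := hconj _ hw
    -- `g₁ r⁻¹ g₂ ∈ Γ₁`
    have hk1 : InΓ (img η V) (g₁ * r⁻¹ * g₂) := by
      convert hk using 1; group
    have h4 := hΓ _ (hk1.inv.mul (hk'.mul hk1))
    have h5 := hr.inv.mul (h4.mul hr)
    convert h5 using 1
    group
  -- reference maps
  have hnorm : ∀ R : Subgroup Ω, F.IsConj R Q → ∃ χ : Ω → Ω, ∃ w : Val0 F p,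
      Val F p (normalizerIn S R) χ w ∧ img χ R = Q := by
    intro R hR
    obtain ⟨χ, hχ, hχR⟩ := exists_map_to_fullyNormalized hS hF hQ hR
    obtain ⟨w, hw⟩ := exists_val hS hF hχ
    exact ⟨χ, w, hw, hχR⟩
  choose χ wt hwt hχR using hnorm
  -- generated maps respect the references
  have hgood : ∀ {P : Subgroup Ω} {e : Ω → Ω}, Gen F p P e → ∀ (R : Subgroup Ω), R ≤ P →
      ∀ (hR : F.IsConj R Q) (R' : Subgroup Ω), img e R = R' → ∀ (hR' : F.IsConj R' Q),
        ∃ γ, Val F p (cen S Q) γ (wt _ hR' * (wt _ hR)⁻¹) ∧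
          ∀ x ∈ R, γ (χ _ hR x) = χ _ hR' (e x) := by
    intro P e he
    induction he with
    | @base P U α k hU hα hPU =>
      intro R hRP hR R' hR'def hR'
      have hRU := hRP.trans hPU
      subst hR'def
      have hRS := hRU.trans hU.1
      have : Finite U := finite_of_le hU.1
      have : Finite R := finite_of_le hRS
      have hαm : IsMap F U (autFun (α : MulAut U)) := isMap_of_mem_autGroup hU.1 α.2
      set R' := img (autFun (α : MulAut U)) R
      set χ₀ := χ _ hR with hχ₀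
      set χ₁ := χ _ hR' with hχ₁
      have hw₀ := hwt _ hR
      have hw₁ := hwt _ hR'
      have hlt : R < U := lt_of_le_of_ne hRU fun h => hQc (centric_conj (h ▸ hU) hR)
      set R₁ := normalizerIn U R with hR₁
      have hR₁U : R₁ ≤ U := normalizerIn_le
      have hRR₁ : R < R₁ := lt_normalizerIn (hS.to_le hU.1) hlt
      have hR₁N : R₁ ≤ normalizerIn S R := fun x hx => ⟨hU.1 (hR₁U hx), hx.2⟩
      have hαR₁ : ∀ x ∈ R₁, autFun (α : MulAut U) x ∈ normalizerIn S R' := fun x hx =>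
        ⟨hαm.mem (hR₁U hx), hαm.mem_normalizer_img hRU (hR₁U hx) hx.2⟩
      obtain ⟨j, hj, -, hjχ, -⟩ := (hw₀.restrict hR₁N).isMap.exists_inv
      set V := img χ₀ R₁ with hVdef
      have hlm : Val F p V (fun y => χ₁ (autFun (α : MulAut U) (j y)))
          (wt _ hR' * (wt _ hR)⁻¹) := by
        have h := (((hw₀.restrict hR₁N).inv hjχ).comp
          (val_gen (Gen.base α k hU hα le_rfl)) fun y hy => ?_).comp hw₁ fun y hy => ?_
        · rwa [one_mul] at h
        · obtain ⟨x, hx, rfl⟩ := (hw₀.restrict hR₁N).isMap.mem_img.1 hy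
          rw [hjχ x hx]; exact hR₁U hx
        · obtain ⟨x, hx, rfl⟩ := (hw₀.restrict hR₁N).isMap.mem_img.1 hy
          show autFun _ (j (χ₀ x)) ∈ _
          rw [hjχ x hx]; exact hαR₁ x hx
      set lam := fun y => χ₁ (autFun (α : MulAut U) (j y)) with hlam
      have hQV : Q < V := by
        refine lt_of_le_of_ne ((hχR _ hR).ge.trans (img_mono _ hRR₁.le)) fun h => ?_
        have h1 := (hw₀.restrict hR₁N).isMap.card_img
        rw [← hVdef, ← h, ← hχR _ hR,
          (hw₀.restrict (le_normalizerIn hRS)).isMap.card_img] at h1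
        have : Finite R₁ := finite_of_le (hR₁U.trans hU.1)
        exact (card_lt_card hRR₁).ne h1
      have hVN : V ≤ normalizerIn S Q := by
        rw [← hχR _ hR]
        exact img_le fun x hx => ⟨hw₀.isMap.mem (hR₁N hx),
          hw₀.isMap.mem_normalizer_img (le_normalizerIn hRS) (hR₁N hx) hx.2⟩
      have hlamQ : img lam Q = Q := by
        rw [← hχR _ hR, (hw₀.restrict (le_normalizerIn hRS)).isMap.img_img,
          img_congr (g := fun x => χ₁ (autFun (α : MulAut U) x)) (fun x hx => by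
            show χ₁ (autFun (α : MulAut U) (j (χ₀ x))) = _
            rw [hjχ x (hRR₁.le hx)]),
          ← (hαm.restrict hRU).img_img, hχR, hχR]
      have hlamQ' : IsMap F Q lam := hlm.isMap.restrict hQV.le
      obtain ⟨θ, hθ, hθe⟩ := exists_extension hS hF hlamQ' (by rw [hlamQ]; exact hfc)
      set N := nSub S Q lam with hN
      have hVN' : V ≤ N := fun v hv => mem_nSub.2 ⟨hVN.trans normalizerIn_le hv, (hVN hv).2,
        lam v, hlm.isMap.mem hv, fun q hq => hlm.isMap.map_conj hv (hQV.le hq)⟩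
      have hXN : cen S Q ≤ N := sup_le (le_nSub hlamQ') centralizerIn_le_nSub
      have hθQ : img θ Q = Q := by rw [img_congr hθe, hlamQ]
      have hθX : img θ (cen S Q) = cen S Q := img_cen (hθ.restrict hXN) hθQ
      have hlamN : ∀ v ∈ V, lam v ∈ img θ N := by
        intro v hv
        have hvN := hVN' hv
        have hc : (θ v)⁻¹ * lam v ∈ centralizerIn S Q := by
          refine ⟨S.mul_mem (S.inv_mem (hθ.mem hvN)) (hlm.isMap.mem hv), fun y hy => ?_⟩
          obtain ⟨q, hq, rfl⟩ := hlamQ'.mem_img.1 (hlamQ.symm ▸ hy)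
          have hvq : v * q * v⁻¹ ∈ Q := (Subgroup.mem_normalizer_iff.1 (hVN hv).2 q).1 hq
          have h1 : θ v * lam q * (θ v)⁻¹ = lam v * lam q * (lam v)⁻¹ := by
            rw [← hθe q hq, ← hθ.map_conj hvN (le_nSub hlamQ' hq), hθe q hq, hθe _ hvq,
              hlm.isMap.map_conj hv (hQV.le hq)]
          calc lam q * ((θ v)⁻¹ * lam v)
              = (θ v)⁻¹ * (θ v * lam q * (θ v)⁻¹) * lam v := by group
            _ = (θ v)⁻¹ * (lam v * lam q * (lam v)⁻¹) * lam v := by rw [h1]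
            _ = (θ v)⁻¹ * lam v * lam q := by group
        have h2 := Subgroup.mul_mem _ (mem_img_self θ hvN)
          (img_mono θ hXN (hθX.ge (Subgroup.mem_sup_right hc : (θ v)⁻¹ * lam v ∈ cen S Q)))
        simpa using h2
      obtain ⟨w'', hw''⟩ := exists_val hS hF hθ
      obtain ⟨θi, hθi, hθiimg, hθiθ, -⟩ := hθ.exists_inv
      have hf0 := hlm.comp (hw''.inv hθiθ) hlamN
      have hQN : Q ≤ N := le_nSub hlamQ'
      obtain ⟨r, -, hr, hr', -, -⟩ := exists_global hS hF hfc hQV.le hVN hf0.isMap hQV.le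
        (fun v hv => ⟨(hVN hv).1, conjAut V Q ⟨v, hv, (hVN hv).2⟩,
          conjAut_range V Q ▸ ⟨_, rfl⟩, fun q hq => (conjAut_apply (⟨v, hv, (hVN hv).2⟩ :
            ↥(V ⊓ Subgroup.normalizer (Q : Set Ω))) hq).symm⟩)
        (fun v hv => ⟨hf0.isMap.mem hv, conjAut V Q ⟨v, hv, (hVN hv).2⟩,
          conjAut_range V Q ▸ ⟨_, rfl⟩, fun q hq => by
            rw [conjAut_apply (⟨v, hv, (hVN hv).2⟩ :
              ↥(V ⊓ Subgroup.normalizer (Q : Set Ω))) hq, cj_apply, cj_apply]
            have hvq : v * q * v⁻¹ ∈ Q := (Subgroup.mem_normalizer_iff.1 (hVN hv).2 q).1 hq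
            have e1 : θi (lam q) = q := by rw [← hθe q hq, hθiθ q (hQN hq)]
            conv_lhs => rw [← e1]
            show θi (lam v) * θi (lam q) * (θi (lam v))⁻¹ = v * q * v⁻¹
            rw [← hθi.map_conj (hlamN v hv) (hlamN q (hQV.le hq)),
              ← hlm.isMap.map_conj hv (hQV.le hq), ← hθe _ hvq, hθiθ _ (hQN hvq)]⟩)
        (fun q hq => show θi (lam q) = q by rw [← hθe q hq, hθiθ q (hQN hq)])
      obtain ⟨fi, -, -, hfi, -⟩ := hf0.isMap.exists_inv
      have hid : Val F p V id (r⁻¹ * (w''⁻¹ * (wt _ hR' * (wt _ hR)⁻¹))) :=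
        (hf0.comp (hr'.inv hfi) fun v hv => mem_img_self (fun y => θi (lam y)) hv).congr
          fun v hv => hfi v hv
      have hΓ := hr.mul (hstep V hQV hVN _ hid)
      rw [mul_inv_cancel_left] at hΓ
      obtain ⟨γ₀, hγ₀, hγ₀fix⟩ := hΓ
      have h6 := hγ₀.comp (hw''.restrict hXN) fun y hy => maps_cen hγ₀.isMap hγ₀fix ▸ mem_img_self γ₀ hy
      rw [mul_inv_cancel_left] at h6
      refine ⟨_, h6, fun x hx => ?_⟩
      have hxQ : χ₀ x ∈ Q := (hχR _ hR).le (mem_img_self _ hx)
      show θ (γ₀ (χ₀ x)) = χ₁ (autFun (α : MulAut U) x)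
      rw [hγ₀fix _ hxQ, hθe _ hxQ]
      show χ₁ (autFun (α : MulAut U) (j (χ₀ x))) = _
      rw [hjχ x (hRR₁.le hx)]
    | @ident P hP =>
      intro R hRP h R' hR'def h'
      rw [img_id] at hR'def
      subst hR'def
      exact ⟨id, by rw [mul_inv_cancel]; exact val_gen (Gen.ident (cen_le hQS)), fun _ _ => rfl⟩
    | @comp P T e d he hd hPT ihe ihd =>
      intro R hRP h R' hR'def h'
      have hRe : IsMap F R e := he.isMap.restrict hRP
      have hm : F.IsConj (img e R) Q := isConj_trans (isConj_symm hRe.isConj) h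
      rw [← hRe.img_img] at hR'def
      obtain ⟨γ, hγ, hγe⟩ := ihe R hRP h _ rfl hm
      obtain ⟨δ, hδ, hδe⟩ := ihd (img e R) (img_le fun x hx => hPT x (hRP hx)) hm R' hR'def h'
      have hγQ : img γ Q = Q := by
        conv_lhs => rw [← hχR _ h]
        rw [((hwt _ h).restrict (le_normalizerIn (isConj_le h).1)).isMap.img_img,
          img_congr hγe, ← hRe.img_img, hχR]
      have h1 := hγ.comp hδ fun x hx => by
        rw [← img_cen hγ.isMap hγQ]; exact mem_img_self γ hx
      refine ⟨fun x => δ (γ x), ?_, fun x hx => ?_⟩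
      · have e0 : ∀ a b c : Val0 F p, c * b⁻¹ * (b * a⁻¹) = c * a⁻¹ := fun a b c => by group
        rwa [e0] at h1
      · show δ (γ _) = _
        rw [hγe x hx, hδe _ (mem_img_self e hx)]
    | @congr P e d he hed ih =>
      intro R hRP h R' hR'def h'
      obtain ⟨γ, hγ, hγe⟩ := ih R hRP h R'
        ((img_congr fun x hx => hed x (hRP hx)).trans hR'def) h'
      exact ⟨γ, hγ, fun x hx => by rw [hγe x hx, hed x (hRP hx)]⟩
  -- conclusion
  obtain ⟨a, rfl, e, he, hae⟩ := hu
  have hR : F.IsConj Q Q := isConj_refl hQS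
  have hR' : F.IsConj (img e Q) Q := isConj_symm he.isMap.isConj
  obtain ⟨γ, hγ, hγe⟩ := hgood he Q le_rfl hR _ rfl hR'
  set R' := img e Q
  have haR' : ∀ y ∈ R', autFun (a : MulAut S) y ∈ Q := fun y hy => by
    obtain ⟨x, hx, rfl⟩ := he.isMap.mem_img.1 hy
    rw [← hae x hx]; exact hx
  have hR'S : R' ≤ S := he.isMap.img_le_S
  -- `a⁻¹` carries `N_S(Q)` into `N_S(R')`
  have hai : ∀ y ∈ normalizerIn S Q,
      autFun ((a⁻¹ : F.autGroup S) : MulAut S) y ∈ normalizerIn S R' := by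
    intro y hy
    have hm := isMap_aut (a⁻¹ : F.autGroup S)
    have h := hm.mem_normalizer_img hQS hy.1 hy.2
    rw [show img (autFun ((a⁻¹ : F.autGroup S) : MulAut S)) Q = R' from
      img_congr fun x hx => by
        conv_lhs => rw [show x = autFun (a : MulAut S) (e x) from hae x hx]
        exact inv_apply a (e x)] at h
    exact ⟨hm.mem hy.1, h⟩
  have hXN : cen S Q ≤ normalizerIn S Q :=
    sup_le (le_normalizerIn hQS) centralizerIn_le_normalizerIn
  set δ := fun y => χ _ hR' (autFun ((a⁻¹ : F.autGroup S) : MulAut S) y) with hδdef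
  have hδ : Val F p (normalizerIn S Q) δ (wt _ hR' * (QuotientGroup.mk a)⁻¹) := by
    have h := (val_aut (p := p) (normalizerIn_le : normalizerIn S Q ≤ S) a⁻¹).comp (hwt _ hR') hai
    rwa [QuotientGroup.mk_inv] at h
  -- `δ` and `γ χ` agree on `Q`
  have hagree : ∀ x ∈ Q, γ (χ _ hR x) = δ x := fun x hx => by
    rw [hγe x hx]
    show χ _ hR' (e x) = χ _ hR' (autFun _ x)
    congr 1
    conv_rhs => rw [show x = autFun (a : MulAut S) (e x) from hae x hx]
    exact (inv_apply a (e x)).symm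
  have hχ0 := (hwt _ hR).restrict hXN
  have hδ0 := hδ.restrict hXN
  have hχX : img (χ _ hR) (cen S Q) = cen S Q := img_cen hχ0.isMap (hχR _ hR)
  have hQQ : ∀ x ∈ Q, autFun ((a⁻¹ : F.autGroup S) : MulAut S) x = e x := fun x hx => by
    conv_lhs => rw [show x = autFun (a : MulAut S) (e x) from hae x hx]
    exact inv_apply a (e x)
  have hδQ : img δ Q = Q := by
    rw [img_congr (g := fun x => χ _ hR' (e x)) fun x hx => by
      show χ _ hR' (autFun _ x) = _
      rw [hQQ x hx]]
    rw [← he.isMap.img_img]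
    exact hχR _ hR'
  have hγQ : img γ Q = Q := by
    conv_lhs => rw [← hχR _ hR]
    rw [((hwt _ hR).restrict (le_normalizerIn hQS)).isMap.img_img, img_congr hagree, hδQ]
  obtain ⟨δi, -, hδiimg, hδiδ, -⟩ := hδ0.isMap.exists_inv
  have hδi := hδ0.inv hδiδ
  rw [img_cen hδ0.isMap hδQ] at hδi
  have h1 := (hχ0.comp hγ fun x hx => hχX ▸ mem_img_self _ hx).comp hδi fun x hx => by
    rw [← img_cen hγ.isMap hγQ]
    exact mem_img_self γ (hχX ▸ mem_img_self _ hx)
  refine ⟨fun x => δi (γ (χ _ hR x)), ?_, fun x hx => ?_⟩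
  · have e0 : ∀ a b c : Val0 F p, (c * a⁻¹)⁻¹ * (c * b⁻¹ * b) = a := fun a b c => by group
    rwa [e0] at h1
  · show δi (γ (χ _ hR x)) = x
    rw [hagree x hx, hδiδ x (Subgroup.mem_sup_left hx)]

omit [Fact p.Prime] hF in
theorem exists_sys : ∃ E : FusionSystem S,
    ∀ (P : Subgroup Ω) (f : Ω → Ω), IsMap E P f ↔ Val F p P f 1 := by
  have hgen : ∀ {P : Subgroup Ω} {φ : P →* Ω}, Val F p P (ext φ) 1 → φ ∈ F.Hom P :=
    fun h => hom_mem_iff.2 h.isMap
  let E : FusionSystem S :=
    { Hom := fun P => {φ | Val F p P (ext φ) 1}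
      le_of_mem := fun h => F.le_of_mem (hgen h)
      injective_of_mem := fun h => F.injective_of_mem (hgen h)
      conj_mem := fun {P g} hP hg =>
        (val_cj hS hP hg).congr fun x hx => by rw [ext_of_mem _ hx]; rfl
      comp_mem := by
        rintro P Q φ ψ hφ hψ h
        have hφQ : ∀ x ∈ P, ext φ x ∈ Q := fun x hx => ext_of_mem φ hx ▸ h ⟨x, hx⟩
        have h1 := hφ.comp hψ hφQ
        rw [one_mul] at h1
        refine h1.congr fun x hx => ?_
        show ext ψ (ext φ x) = _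
        rw [ext_of_mem φ hx, ext_of_mem ψ (h ⟨x, hx⟩), ext_of_mem _ hx]
        rfl
      inv_mem := by
        rintro P φ hφ
        obtain ⟨ψ, hψ, hψe⟩ := F.inv_mem (hgen hφ)
        refine ⟨ψ, ?_, hψe⟩
        have hi : ∀ x ∈ P, ext ψ (ext φ x) = x := fun x hx => by
          rw [ext_of_mem φ hx, ext_of_mem ψ ⟨⟨x, hx⟩, rfl⟩, hψe]
        have h1 := hφ.inv hi
        rw [inv_one, ← range_eq_img] at h1
        exact h1 }
  refine ⟨E, fun P f => ⟨?_, fun h => ?_⟩⟩
  · rintro ⟨φ, hφ, hφf⟩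
    exact Val.congr hφ fun x hx => by rw [ext_of_mem φ hx, hφf ⟨x, hx⟩]
  · refine ⟨h.isMap.hom, h.congr fun x hx => ?_, fun x => rfl⟩
    rw [ext_of_mem _ hx, IsMap.hom_apply]

omit hS hF in
theorem fn_aut (hR : R ≤ S) (a : F.autGroup S)
    (h : F.IsFullyNormalized (img (autFun (a : MulAut S)) R)) : F.IsFullyNormalized R := by
  have hm := isMap_aut a
  refine ⟨hR, fun T hT => ?_⟩
  have hconj : F.IsConj (img (autFun (a : MulAut S)) R) (img (autFun (a : MulAut S)) T) :=
    isConj_trans (isConj_symm (hm.restrict hR).isConj)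
      (isConj_trans hT (hm.restrict (isConj_le hT).2).isConj)
  have h1 := hm.img_normalizerIn_le (isConj_le hT).2 normalizerIn_le
  have : Finite (normalizerIn S (img (autFun (a : MulAut S)) T)) := finite_of_le normalizerIn_le
  have : Finite (normalizerIn S R) := finite_of_le normalizerIn_le
  rw [← (hm.restrict normalizerIn_le).card_img]
  refine (card_le_card h1).trans ((h.2 _ hconj).trans ?_)
  -- the normalizer of the image comes back
  have hmi := isMap_aut (a⁻¹ : F.autGroup S)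
  have himg : img (autFun ((a⁻¹ : F.autGroup S) : MulAut S)) (img (autFun (a : MulAut S)) R) = R := by
    rw [(hm.restrict hR).img_img, img_congr (g := id) fun x _ => inv_apply a x, img_id]
  have h2 := hmi.img_normalizerIn_le (hm.restrict hR).img_le_S normalizerIn_le
  rw [himg] at h2
  rw [← (hmi.restrict normalizerIn_le).card_img]
  exact card_le_card h2

variable {E : FusionSystem S} (hE : ∀ (P : Subgroup Ω) (f : Ω → Ω), IsMap E P f ↔ Val F p P f 1)
include hE

omit [Fact p.Prime] hS hF in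
theorem sub : E.IsSubsystemOf F := fun P =>
  subset_of_isMap fun f hf => ((hE P f).1 hf).isMap

/-- The value-one system is saturated. -/
theorem saturated : E.IsSaturated p := by
  intro P hP
  obtain ⟨Q₀, hPQ₀, hQ₀⟩ := exists_fullyNormalized (F := F) hP
  obtain ⟨f, hf, rfl⟩ := isConj_iff_map.1 hPQ₀
  obtain ⟨a, e, he, hfe⟩ := frattini hS hF hf
  have himg : img f P = img (autFun (a : MulAut S)) (img e P) := by
    rw [he.isMap.img_img, img_congr hfe]
  have hQ : F.IsFullyNormalized (img e P) := fn_aut he.isMap.img_le_S a (himg ▸ hQ₀)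
  refine ⟨img e P, ((hE _ _).2 (val_gen he)).isConj, ?_, ?_⟩
  · rw [fullyAutomized_iff hS]
    refine ⟨hQ.1, fun hdvd => ?_⟩
    have hA := ((fullyAutomized_iff hS).1 (fullyNormalized_fullyAutomized hS hF hQ)).2
    refine hA (hdvd.trans ?_)
    have hle : E.autGroup (img e P) ≤ F.autGroup (img e P) := fun α hα =>
      (mem_autGroup_iff hQ.1).2 (isMap_of_subset (sub hE) (isMap_of_mem_autGroup hQ.1 hα))
    rw [← Subgroup.relIndex_mul_relIndex (autInducedBy S (img e P)) (E.autGroup (img e P))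
      (F.autGroup (img e P)) (autInducedBy_le hQ.1) hle]
    exact dvd_mul_right _ _
  · set Q := img e P with hQdef
    refine isReceptive_iff.2 ⟨hQ.1, fun R φ hφ himgφ => ?_⟩
    have hφ1 := (hE R φ).1 hφ
    have hφF : IsMap F R φ := hφ1.isMap
    have hfc := fullyNormalized_fullyCentralized hS hF hQ
    obtain ⟨ψ, hψ, hψe⟩ := exists_extension hS hF hφF (himgφ ▸ hfc)
    set N := nSub S R φ with hN
    have hRN : R ≤ N := le_nSub hφF
    obtain ⟨u, hu⟩ := exists_val hS hF hψ
    obtain ⟨i, -, -, hiφ, -⟩ := hφF.exists_inv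
    have hiQ : ∀ y ∈ Q, i y ∈ R := fun y hy => by
      obtain ⟨x, hx, rfl⟩ := hφF.mem_img.1 (himgφ.symm ▸ hy)
      rwa [hiφ x hx]
    have hid : Val F p Q id u := by
      have h := (hφ1.inv hiφ).comp hu fun y hy => hRN (hiQ y (himgφ ▸ hy))
      rw [inv_one, mul_one, himgφ] at h
      refine h.congr fun y hy => ?_
      obtain ⟨x, hx, rfl⟩ := hφF.mem_img.1 (himgφ.symm ▸ hy)
      show ψ (i (φ x)) = φ x
      rw [hiφ x hx, hψe x hx]
    obtain ⟨γ, hγ, hγfix⟩ := (consistent hS hF hQ hid).inv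
    -- the image of `ψ`
    set V := img ψ N with hVdef
    have hψR : img ψ R = Q := by rw [img_congr hψe, himgφ]
    have hQV : Q ≤ V := hψR ▸ img_mono ψ hRN
    have hVN : V ≤ normalizerIn S Q := by
      refine img_le fun x hx => ⟨hψ.mem hx, ?_⟩
      rw [← hψR]
      exact hψ.mem_normalizer_img hRN hx (nSub_le S R φ hx).2
    have hVS : V ≤ S := hVN.trans normalizerIn_le
    have hXN : cen S Q ≤ kNorm S (autInducedBy V Q) := by
      refine sup_le (fun x hx => ?_) fun x hx => ?_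
      · exact ⟨hQ.1 hx, conjAut V Q ⟨x, hQV hx, Subgroup.le_normalizer hx⟩,
          conjAut_range V Q ▸ ⟨_, rfl⟩, fun q hq => (conjAut_apply (⟨x, hQV hx,
            Subgroup.le_normalizer hx⟩ : ↥(V ⊓ Subgroup.normalizer (Q : Set Ω))) hq).symm⟩
      · refine ⟨hx.1, 1, Subgroup.one_mem _, fun q hq => ?_⟩
        rw [autFun_one, id, cj_apply, mul_inv_eq_iff_eq_mul]
        exact (hx.2 q hq).symm
    have hγX : ∀ x ∈ cen S Q, γ x ∈ kNorm S (autInducedBy V Q) := fun x hx =>
      hXN (maps_cen hγ.isMap hγfix ▸ mem_img_self γ hx)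
    obtain ⟨r, z, -, hr, hz, hzfix⟩ := exists_global hS hF hfc hQV hVN hγ.isMap le_sup_left hXN
      hγX hγfix
    rw [hr.unique (cen_centric hS hF hfc) hγ] at hz
    have hNZ : ∀ x ∈ N, ψ x ∈ kNorm S (autInducedBy V Q) := fun x hx => by
      have hxV : ψ x ∈ V := mem_img_self ψ hx
      exact ⟨hVS hxV, conjAut V Q ⟨ψ x, hxV, (hVN hxV).2⟩, conjAut_range V Q ▸ ⟨_, rfl⟩,
        fun q hq => (conjAut_apply (⟨ψ x, hxV, (hVN hxV).2⟩ :
          ↥(V ⊓ Subgroup.normalizer (Q : Set Ω))) hq).symm⟩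
    have h1 := hu.comp hz hNZ
    rw [inv_mul_cancel] at h1
    refine ⟨fun x => z (ψ x), (hE _ _).2 h1, fun x hx => ?_⟩
    show z (ψ x) = φ x
    rw [hψe x hx, hzfix _ (himgφ ▸ mem_img_self φ hx)]

theorem hasPrimeToPIndex : E.HasPrimeToPIndexIn F p :=
  ⟨sub hE, fun _ hP => primeIndex_of_gen hS hF (fun P f hf => (hE P f).2 (val_gen hf)) hP⟩

/-- The value-one system is the least saturated subsystem of index prime to `p`. -/
theorem least {D : FusionSystem S} (hD : D.IsSaturated p) (hDi : D.HasPrimeToPIndexIn F p) :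
    E.IsSubsystemOf D := by
  have hgen : ∀ (P : Subgroup Ω) (f : Ω → Ω), Gen F p P f → IsMap D P f :=
    fun P f hf => hf.isMap_of fun U hU => hDi.2 U hU.1
  have hclimb : ∀ (R : Subgroup Ω), F.IsCentric R → ∀ a : F.autGroup S,
      IsMap D R (autFun (a : MulAut S)) → IsMap D S (autFun (a : MulAut S)) := by
    intro R hR a ha
    induction hn : Nat.card S - Nat.card R using Nat.strong_induction_on generalizing R with
    | _ n ih =>
    rcases eq_or_lt_of_le hR.1 with rfl | hlt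
    · exact ha
    set R₁ := normalizerIn S R with hR₁
    have hRR₁ : R < R₁ := lt_normalizerIn hS hlt
    have hR₁S : R₁ ≤ S := normalizerIn_le
    have hm := (isMap_aut a).restrict hR₁S
    have hDc : D.IsCentric (img (autFun (a : MulAut S)) R) :=
      (centric_iff hS hF hDi.1 hgen _).2 (centric_conj hR (hm.restrict hRR₁.le).isConj)
    obtain ⟨θ, hθ, hθe⟩ := exists_extension hS hD ha (centric_fullyCentralized hDc)
    have hR₁N : R₁ ≤ nSub S R (autFun (a : MulAut S)) := fun x hx => mem_nSub.2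
      ⟨hx.1, hx.2, _, hm.mem hx, fun y hy => hm.map_conj hx (hRR₁.le hy)⟩
    obtain ⟨z, hz, -, hze⟩ := agree_on_centric hS hF hR hRR₁.le
      (isMap_of_subset hDi.1 (hθ.restrict hR₁N)) hm hθe
    have h1 : IsMap D R₁ (autFun (a : MulAut S)) := by
      refine ((hθ.restrict hR₁N).comp (isMap_cj hR₁S (hR.1 hz)) fun y hy => ?_).congr
        fun y hy => ?_
      · exact R₁.mul_mem (R₁.mul_mem (hRR₁.le hz) hy) (R₁.inv_mem (hRR₁.le hz))
      · exact (hze y hy).symm
    have : Finite R₁ := finite_of_le hR₁S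
    refine ih _ ?_ R₁ (centric_mono hR hRR₁.le hR₁S) h1 rfl
    have := card_lt_card hRR₁
    have := card_le_card hR₁S
    omega
  have hA : ∀ a ∈ A0 F p, IsMap D S (autFun (a : MulAut S)) := by
    intro a ha
    refine (mem_autGroup_iff le_rfl).1 ?_
    refine (Subgroup.closure_le (K := (D.autGroup S).subgroupOf (F.autGroup S))).2 ?_ ha
    rintro b ⟨R, hR, hb⟩
    exact Subgroup.mem_subgroupOf.2 ((mem_autGroup_iff le_rfl).2 (hclimb R hR b (hgen _ _ hb)))
  refine fun P => subset_of_isMap fun f hf => ?_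
  obtain ⟨a, ha, e, he, hfe⟩ := (hE P f).1 hf
  exact ((hA a ((QuotientGroup.eq_one_iff a).1 ha)).comp (hgen _ _ he)
    fun x hx => he.isMap.mem hx).congr fun x hx => (hfe x hx).symm

omit hE
/-- `O^{p'}(F)` exists. -/
theorem exists_residual : ∃ E : FusionSystem S, F.IsPPrimeResidual p E := by
  obtain ⟨E, hE⟩ := exists_sys (F := F) (p := p) hS
  exact ⟨E, saturated hS hF hE, hasPrimeToPIndex hS hF hE,
    fun D hD hDi => least hS hF hE hD hDi⟩

end Cfsg.Agent.Fusion.PPrimeResidual
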