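/-
A saturation criterion: a system generated and saturated on a family of subgroups is saturated, if
every other centric class has a member whose normalizer meets the p-core of the automorphism group
outside the inner automorphisms.
-/
import Mathlib
import Cfsg.Agent.Lib.Fusion.Alperin
import Cfsg.Agent.Lib.PLocal.Cores

set_option autoImplicit false
set_option linter.all false

namespace Cfsg.Agent.Fusion.SaturationCriterion

open Cfsg Cfsg.FusionSystem Cfsg.Agent.Fusion.Basic Cfsg.Agent.Fusion.Saturation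

theorem exists_conj_of_pQuot {G H : Type*} [Group G] [Finite G] [Group H] {p : ℕ} [Fact p.Prime]
    (A M : Subgroup G) (r : G →* H) (hA : IsPGroup p A) (hAM : ¬ p ∣ (A ⊓ M).relIndex M)
    (hr : IsPGroup p (M.map r)) {B : Subgroup G} (hBM : B ≤ M) (hB : IsPGroup p B) :
    ∃ k : G, r k = 1 ∧ k ∈ M ∧ ∀ b ∈ B, k * b * k⁻¹ ∈ A := by
  have hT : IsPGroup p ((A ⊓ M).subgroupOf M) :=
    (hA.to_le inf_le_left).comap_of_injective _ Subtype.val_injective
  set T : Sylow p M := hT.toSylow hAM with hTdef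
  obtain ⟨c, hc⟩ := exists_conj_le_sylow T
    (show IsPGroup p (B.subgroupOf M) from hB.comap_of_injective _ Subtype.val_injective)
  have hsurj : Function.Surjective (r.subgroupMap M) := r.subgroupMap_surjective M
  have htop : ((T.mapSurjective hsurj) : Subgroup (M.map r)) = ⊤ :=
    ((T.mapSurjective hsurj).3 (IsPGroup.of_injective hr (Subgroup.subtype ⊤)
      Subtype.val_injective) le_top).symm
  have hcmem : r.subgroupMap M c ∈ ((T.mapSurjective hsurj) : Subgroup (M.map r)) :=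
    htop ▸ Subgroup.mem_top _
  rw [Sylow.coe_mapSurjective] at hcmem
  obtain ⟨t, ht, hte⟩ := hcmem
  refine ⟨((t⁻¹ * c : M) : G), ?_, (t⁻¹ * c).2, fun b hb => ?_⟩
  · have : r.subgroupMap M (t⁻¹ * c) = 1 := by rw [map_mul, map_inv, hte, inv_mul_cancel]
    exact congrArg Subtype.val this
  · have h1 := hc ⟨b, hBM hb⟩ hb
    have ht' : t ∈ (T : Subgroup M) := ht
    have h2 : t⁻¹ * (c * ⟨b, hBM hb⟩ * c⁻¹) * t ∈ (T : Subgroup M) :=
      Subgroup.mul_mem _ (Subgroup.mul_mem _ (Subgroup.inv_mem _ ht') h1) ht'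
    have h3 : ((t⁻¹ * (c * ⟨b, hBM hb⟩ * c⁻¹) * t : M) : G) ∈ A ⊓ M :=
      Subgroup.mem_subgroupOf.1 h2
    simpa [mul_assoc, mul_inv_rev] using h3.1

variable {Ω : Type*} [Group Ω] {S : Subgroup Ω} [Finite S] {F : FusionSystem S} {p : ℕ}
  [Fact p.Prime] {A B C P Q R X W : Subgroup Ω} {f g : Ω → Ω}

/-- Some conjugate of `R` is fully automized and receptive. -/
def Good (F : FusionSystem S) (p : ℕ) (R : Subgroup Ω) : Prop :=
  ∃ R', F.IsConj R R' ∧ F.IsFullyAutomized p R' ∧ F.IsReceptive R'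

/-- All classes of order bigger than `n` are good. -/
def Above (F : FusionSystem S) (p n : ℕ) : Prop :=
  ∀ R : Subgroup Ω, R ≤ S → n < Nat.card R → Good F p R

/-- The automorphisms in `Aut_F(X)` stabilizing `P`. -/
def stab (F : FusionSystem S) (X P : Subgroup Ω) [Finite X] : Subgroup (F.autGroup X) :=
  let M : Submonoid (F.autGroup X) :=
  { carrier := {a | ∀ y ∈ P, autFun (a : MulAut X) y ∈ P}
    one_mem' := fun y hy => by simpa [autFun_one] using hy
    mul_mem' := fun {a b} ha hb y hy => by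
      rw [Subgroup.coe_mul, autFun_mul]
      exact ha _ (hb y hy) }
  { M with
    inv_mem' := fun {a} ha => by
      have h1 : a⁻¹ = a ^ (orderOf a - 1) := by
        refine inv_eq_of_mul_eq_one_right ?_
        rw [← pow_succ', Nat.sub_add_cancel (orderOf_pos a), pow_orderOf_eq_one]
      rw [h1]
      exact M.pow_mem ha _ }

omit [Fact p.Prime] in
theorem mem_stab [Finite X] {a : F.autGroup X} :
    a ∈ stab F X P ↔ ∀ y ∈ P, autFun (a : MulAut X) y ∈ P := Iff.rfl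

omit [Fact p.Prime] in
theorem img_of_mem_stab [Finite X] (hX : X ≤ S) (hP : P ≤ X) {a : F.autGroup X}
    (ha : a ∈ stab F X P) : img (autFun (a : MulAut X)) P = P := by
  have : Finite P := finite_of_le hP
  exact eq_of_le_card (img_le ha)
    ((isMap_of_mem_autGroup hX a.2).restrict hP).card_img.ge

omit [Fact p.Prime] in
/-- Restriction to a stabilized subgroup. -/
theorem exists_res [Finite X] (hX : X ≤ S) (hP : P ≤ X) :
    ∃ r : stab F X P →* F.autGroup P, ∀ (a : stab F X P), ∀ x ∈ P,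
      autFun (r a : MulAut P) x = autFun ((a : F.autGroup X) : MulAut X) x := by
  have h : ∀ a : stab F X P, ∃ b : F.autGroup P, ∀ x ∈ P,
      autFun (b : MulAut P) x = autFun ((a : F.autGroup X) : MulAut X) x := by
    intro a
    obtain ⟨α, hα, he⟩ := ((isMap_of_mem_autGroup hX (a : F.autGroup X).2).restrict hP).exists_aut
      (img_of_mem_stab hX hP a.2)
    exact ⟨⟨α, hα⟩, he⟩
  choose r hr using h
  refine ⟨MonoidHom.mk' r fun a b => Subtype.ext (autFun_ext fun x hx => ?_), hr⟩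
  rw [Subgroup.coe_mul, autFun_mul, hr _ x hx, hr b x hx, hr a _ (b.2 x hx)]
  show autFun (((a : F.autGroup X) : MulAut X) * ((b : F.autGroup X) : MulAut X)) x = _
  rw [autFun_mul]

/-- Every `p`-group of automorphisms stabilizing `P` can be moved into `Aut_S(X)` by an
automorphism stabilizing `P`. -/
def Adapted (F : FusionSystem S) (p : ℕ) (X P : Subgroup Ω) [Finite X] : Prop :=
  ∀ B : Subgroup (F.autGroup X), IsPGroup p B → B ≤ stab F X P →
    ∃ s ∈ stab F X P, ∀ b ∈ B, ((s * b * s⁻¹ : F.autGroup X) : MulAut X) ∈ autInducedBy S X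

theorem exists_adapted [Finite X] (hX : F.IsFullyAutomized p X) (hP : P ≤ X) :
    ∃ c : F.autGroup X, Adapted F p X (img (autFun (c : MulAut X)) P) := by
  obtain ⟨R, hR⟩ := hX.2
  obtain ⟨T⟩ : Nonempty (Sylow p (stab F X P)) := inferInstance
  obtain ⟨c, hc⟩ := exists_conj_le_sylow R (T.2.map (stab F X P).subtype)
  have hm := (isMap_of_mem_autGroup hX.1 c.2).restrict hP
  refine ⟨c, fun B hBp hB => ?_⟩
  have hin : ∀ b ∈ B, c⁻¹ * b * c ∈ stab F X P := by
    intro b hb y hy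
    obtain ⟨z, hz, hze⟩ := hm.mem_img.1 (hB hb _ (mem_img_self _ hy))
    rw [Subgroup.coe_mul, Subgroup.coe_mul, Subgroup.coe_inv, autFun_mul, autFun_mul, ← hze,
      autFun_inv_apply]
    exact hz
  set B' := (B.map (MulAut.conj c⁻¹).toMonoidHom).subgroupOf (stab F X P) with hB'
  obtain ⟨s, hs⟩ := exists_conj_le_sylow T (A := B')
    ((hBp.map _).comap_of_injective _ Subtype.val_injective)
  refine ⟨c * (s : F.autGroup X) * c⁻¹, ?_, fun b hb => ?_⟩
  · intro y hy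
    obtain ⟨x, hx, rfl⟩ := hm.mem_img.1 hy
    rw [Subgroup.coe_mul, Subgroup.coe_mul, Subgroup.coe_inv, autFun_mul, autFun_mul,
      autFun_inv_apply]
    exact mem_img_self _ (s.2 x hx)
  · have h1 := hs ⟨c⁻¹ * b * c, hin b hb⟩
      (Subgroup.mem_subgroupOf.2 ⟨b, hb, by simp [MulAut.conj_apply]⟩)
    have h2 := hc _ ⟨_, h1, rfl⟩
    rw [hR, Subgroup.mem_subgroupOf] at h2
    convert h2 using 2
    simp [mul_assoc, mul_inv_rev]

omit [Finite S] [Fact p.Prime] in
theorem conjAut_mem_autGroup (hP : P ≤ S) (w : ↥(normalizerIn S P)) :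
    conjAut S P w ∈ F.autGroup P :=
  autInducedBy_le hP (conjAut_range S P ▸ ⟨w, rfl⟩)

/-- The transported automorphisms induced by `W`. -/
theorem exists_transported (hS : IsPGroup p S) (hf : IsMap F X f) (hW : W ≤ normalizerIn S X) :
    ∃ τ : W →* F.autGroup (img f X), (∀ (w : W), ∀ x ∈ X,
      autFun (τ w : MulAut (img f X : Subgroup Ω)) (f x) = f ((w : Ω) * x * (w : Ω)⁻¹)) ∧
      IsPGroup p τ.range := by
  obtain ⟨e, he⟩ := hf.exists_autEquiv
  let ι : W →* F.autGroup X :=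
    MonoidHom.codRestrict ((conjAut S X).comp (Subgroup.inclusion hW)) _
      fun w => conjAut_mem_autGroup hf.le _
  refine ⟨e.toMonoidHom.comp ι, fun w x hx => ?_, ?_⟩
  · show autFun (e (ι w) : MulAut (img f X : Subgroup Ω)) (f x) = _
    rw [he (ι w) x hx]
    show f (autFun (conjAut S X (Subgroup.inclusion hW w)) x) = _
    exact congrArg f (conjAut_apply (K := S) (Subgroup.inclusion hW w) hx)
  · exact (hS.to_le (hW.trans inf_le_left)).of_surjective _ (MonoidHom.rangeRestrict_surjective _)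

/-- A map extends to `X ⊔ W` if the transported automorphisms are induced by `S`. -/
theorem exists_ext_of_induced (hf : IsMap F X f) [Finite (img f X)]
    (hrec : F.IsReceptive (img f X)) (hW : W ≤ normalizerIn S X)
    (s : F.autGroup (img f X)) (τ : W →* F.autGroup (img f X))
    (hτ : ∀ (w : W), ∀ x ∈ X,
      autFun (τ w : MulAut (img f X : Subgroup Ω)) (f x) = f ((w : Ω) * x * (w : Ω)⁻¹))
    (hs : ∀ w, ((s * τ w * s⁻¹ : F.autGroup (img f X)) : MulAut (img f X : Subgroup Ω)) ∈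
      autInducedBy S (img f X)) :
    ∃ ψ, IsMap F (X ⊔ W) ψ ∧
      ∀ x ∈ X, ψ x = autFun (s : MulAut (img f X : Subgroup Ω)) (f x) := by
  have hm : IsMap F X fun x => autFun (s : MulAut (img f X : Subgroup Ω)) (f x) :=
    (isMap_of_mem_autGroup hf.img_le_S s.2).comp hf fun x hx => mem_img_self f hx
  obtain ⟨ψ, hψ, hψe⟩ := (isReceptive_iff.1 hrec).2 X _ hm (by rw [← hf.img_img, autFun_img])
  refine ⟨ψ, hψ.restrict (sup_le (le_nSub hm) fun w hw => ?_), hψe⟩
  obtain ⟨h, hh, hhe⟩ := mem_autInducedBy_iff'.1 (hs ⟨w, hw⟩)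
  refine ⟨(hW hw).1, (hW hw).2, h, hh.1, fun x hx => ?_⟩
  have h3 := hhe _ (autFun_mem (s : MulAut (img f X : Subgroup Ω)) (mem_img_self f hx))
  rw [Subgroup.coe_mul, Subgroup.coe_mul, Subgroup.coe_inv, autFun_mul, autFun_mul,
    autFun_inv_apply, hτ ⟨w, hw⟩ x hx] at h3
  exact h3

omit [Fact p.Prime] in
theorem range_le_stab (hf : IsMap F X f) [Finite (img f X)] (hPX : P ≤ X)
    (hP' : img f P = Q) (hWP : W ≤ Subgroup.normalizer (P : Set Ω))
    (τ : W →* F.autGroup (img f X))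
    (hτ : ∀ (w : W), ∀ x ∈ X,
      autFun (τ w : MulAut (img f X : Subgroup Ω)) (f x) = f ((w : Ω) * x * (w : Ω)⁻¹)) :
    τ.range ≤ stab F (img f X) Q := by
  rintro _ ⟨w, rfl⟩ y hy
  rw [← hP'] at hy ⊢
  obtain ⟨x, hx, rfl⟩ := (hf.restrict hPX).mem_img.1 hy
  rw [hτ w x (hPX hx)]
  exact mem_img_self f ((Subgroup.mem_normalizer_iff.1 (hWP w.2) x).1 hx)

/-- Lifting with a stabilizing correction. -/
theorem exists_lift (hS : IsPGroup p S) (hf : IsMap F X f) [Finite (img f X)] (hPX : P ≤ X)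
    (hP' : img f P = Q) (hrec : F.IsReceptive (img f X)) (had : Adapted F p (img f X) Q)
    (hW : W ≤ normalizerIn S X) (hWP : W ≤ Subgroup.normalizer (P : Set Ω)) :
    ∃ ψ, IsMap F (X ⊔ W) ψ ∧ img ψ P = Q ∧ img ψ X = img f X := by
  obtain ⟨τ, hτ, hτp⟩ := exists_transported hS hf hW
  obtain ⟨s, hs, hsb⟩ := had τ.range hτp (range_le_stab hf hPX hP' hWP τ hτ)
  obtain ⟨ψ, hψ, hψe⟩ := exists_ext_of_induced hf hrec hW s τ hτ fun w => hsb _ ⟨w, rfl⟩
  refine ⟨ψ, hψ, ?_, ?_⟩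
  · rw [img_congr (fun x hx => hψe x (hPX hx)), ← (hf.restrict hPX).img_img, hP']
    exact img_of_mem_stab hf.img_le_S (hP' ▸ img_mono f hPX) hs
  · rw [img_congr hψe, ← hf.img_img, autFun_img]

theorem adapted_sylow [Finite X] (hS : IsPGroup p S) (had : Adapted F p X P) :
    IsPGroup p (((autInducedBy S X).subgroupOf (F.autGroup X)).subgroupOf (stab F X P)) ∧
      ¬ p ∣ (((autInducedBy S X).subgroupOf (F.autGroup X)).subgroupOf (stab F X P)).index := by
  set A := ((autInducedBy S X).subgroupOf (F.autGroup X)).subgroupOf (stab F X P) with hAdef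
  have hAp : IsPGroup p A :=
    (((isPGroup_autInducedBy hS).comap_of_injective _ Subtype.val_injective)).comap_of_injective _
      Subtype.val_injective
  refine ⟨hAp, ?_⟩
  obtain ⟨T⟩ : Nonempty (Sylow p (stab F X P)) := inferInstance
  obtain ⟨s, hs, hsT⟩ := had ((T : Subgroup (stab F X P)).map (stab F X P).subtype) (T.2.map _)
    (Subgroup.map_subtype_le _)
  set cc := MulAut.conj (⟨s, hs⟩ : stab F X P)
  have hle : (T : Subgroup (stab F X P)).map cc.toMonoidHom ≤ A := by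
    rintro _ ⟨t, ht, rfl⟩
    exact hsT _ ⟨t, ht, rfl⟩
  intro hdvd
  apply T.not_dvd_index
  rw [← Subgroup.index_map_equiv (T : Subgroup (stab F X P)) cc]
  exact dvd_trans hdvd (Subgroup.index_dvd_of_le hle)

/-- Lifting without changing the map on `P`: the kernel version. -/
theorem exists_lift_fix (hS : IsPGroup p S) (hf : IsMap F X f) [Finite (img f X)] (hPX : P ≤ X)
    (hP' : img f P = Q) (hrec : F.IsReceptive (img f X)) (hW : W ≤ normalizerIn S X)
    (hWP : W ≤ Subgroup.normalizer (P : Set Ω)) (K : Subgroup (F.autGroup Q)) (hK : IsPGroup p K)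
    (r : stab F (img f X) Q →* F.autGroup Q)
    (hr : ∀ (a : stab F (img f X) Q), ∀ y ∈ Q, autFun (r a : MulAut Q) y =
      autFun ((a : F.autGroup (img f X)) : MulAut (img f X : Subgroup Ω)) y)
    (hidx : ¬ p ∣ ((((autInducedBy S (img f X)).subgroupOf
      (F.autGroup (img f X))).subgroupOf (stab F (img f X) Q)) ⊓ K.comap r).relIndex (K.comap r))
    (hWK : ∀ w ∈ W, ∃ k ∈ K, ∀ x ∈ P, autFun (k : MulAut Q) (f x) = f (w * x * w⁻¹)) :
    ∃ ψ, IsMap F (X ⊔ W) ψ ∧ ∀ x ∈ P, ψ x = f x := by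
  obtain ⟨τ, hτ, hτp⟩ := exists_transported hS hf hW
  have hst := range_le_stab hf hPX hP' hWP τ hτ
  set B := τ.range.subgroupOf (stab F (img f X) Q)
  have hBM : B ≤ K.comap r := by
    intro b hb
    obtain ⟨w, hw⟩ : (b : F.autGroup (img f X)) ∈ τ.range := hb
    obtain ⟨k, hk, hke⟩ := hWK w w.2
    have : r b = k := by
      refine Subtype.ext (autFun_ext fun y hy => ?_)
      rw [hr b y hy]
      rw [← hP'] at hy
      obtain ⟨x, hx, rfl⟩ := (hf.restrict hPX).mem_img.1 hy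
      rw [← hw, hτ w x (hPX hx), hke x hx]
    rw [Subgroup.mem_comap, this]
    exact hk
  obtain ⟨k, hk1, -, hkb⟩ := exists_conj_of_pQuot
    (((autInducedBy S (img f X)).subgroupOf (F.autGroup (img f X))).subgroupOf
      (stab F (img f X) Q)) (K.comap r) r
    (((isPGroup_autInducedBy hS).comap_of_injective _
      Subtype.val_injective).comap_of_injective _ Subtype.val_injective)
    hidx (hK.to_le (Subgroup.map_comap_le r K)) hBM
    (hτp.comap_of_injective _ Subtype.val_injective)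
  obtain ⟨ψ, hψ, hψe⟩ := exists_ext_of_induced hf hrec hW (k : F.autGroup (img f X)) τ hτ
    fun w => hkb ⟨τ w, hst ⟨w, rfl⟩⟩ ⟨w, rfl⟩
  refine ⟨ψ, hψ, fun x hx => ?_⟩
  have hxQ : f x ∈ Q := hP' ▸ mem_img_self f hx
  rw [hψe x (hPX hx), ← hr k _ hxQ, hk1, Subgroup.coe_one, autFun_one, id]

/-! ### Meeting conjugates in the normalizers -/

/-- The normalizers of `A` and `B` map to a common subgroup's. -/
def Joined (F : FusionSystem S) (A B : Subgroup Ω) : Prop :=
  ∃ g h, IsMap F (normalizerIn S A) g ∧ IsMap F (normalizerIn S B) h ∧ img g A = img h B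

omit [Finite S] [Fact p.Prime] in
theorem Joined.symm (h : Joined F A B) : Joined F B A :=
  let ⟨g, k, hg, hk, e⟩ := h
  ⟨k, g, hk, hg, e.symm⟩

/-- Steps from maps on `X`, for all `X` of order more than `m`. -/
def Steps (F : FusionSystem S) (n m : ℕ) : Prop :=
  ∀ (A X : Subgroup Ω) (ρ : Ω → Ω), Nat.card A = n → A < X → X ≤ normalizerIn S A → m < Nat.card X →
    IsMap F X ρ → Joined F A (img ρ A)

omit [Fact p.Prime] in
theorem joined_trans {n m : ℕ} (hst : Steps F n m) (hA : A ≤ S) (hB : B ≤ S) (hC : C ≤ S)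
    (hBn : Nat.card B = n) (hBS : B < normalizerIn S B)
    (hm : m < Nat.card (normalizerIn S B)) (h₁ : Joined F A B) (h₂ : Joined F B C) :
    Joined F A C := by
  obtain ⟨g, h, hg, hh, e₁⟩ := h₁
  obtain ⟨h', k, hh', hk, e₂⟩ := h₂
  obtain ⟨i, hi, himg, hih, -⟩ := hh.exists_inv
  have hBN := le_normalizerIn hB
  have hm' : IsMap F (img h (normalizerIn S B)) fun y => h' (i y) :=
    hh'.comp hi fun y hy => himg.le (mem_img_self i hy)
  have hlt : img h B < img h (normalizerIn S B) := by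
    refine lt_of_le_of_ne (img_mono h hBS.le) fun he => hBS.ne ?_
    have : Finite (normalizerIn S B) := finite_of_le normalizerIn_le
    refine eq_of_le_card hBS.le (le_of_eq ?_)
    rw [← hh.card_img, ← he, (hh.restrict hBN).card_img]
  obtain ⟨u, v, hu, hv, e⟩ := hst (img h B) _ _ (by rw [(hh.restrict hBN).card_img, hBn]) hlt
    (hh.img_normalizerIn_le hBN le_rfl) (by rw [hh.card_img]; exact hm) hm'
  have e' : img (fun y => h' (i y)) (img h B) = img h' B := by
    rw [(hh.restrict hBN).img_img]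
    exact img_congr fun x hx => by rw [hih x (hBN hx)]
  rw [e'] at hv e
  have hgN : ∀ x ∈ normalizerIn S A, g x ∈ normalizerIn S (img h B) := fun x hx =>
    e₁ ▸ hg.img_normalizerIn_le (le_normalizerIn hA) le_rfl (mem_img_self g hx)
  have hkN : ∀ x ∈ normalizerIn S C, k x ∈ normalizerIn S (img h' B) := fun x hx =>
    e₂ ▸ hk.img_normalizerIn_le (le_normalizerIn hC) le_rfl (mem_img_self k hx)
  refine ⟨fun x => u (g x), fun x => v (k x), hu.comp hg hgN, hv.comp hk hkN, ?_⟩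
  rw [← (hg.restrict (le_normalizerIn hA)).img_img, ← (hk.restrict (le_normalizerIn hC)).img_img,
    e₁, ← e₂, e]

theorem steps (hS : IsPGroup p S) {n : ℕ} (hab : Above F p n) (m : ℕ) : Steps F n m := by
  suffices ∀ d m, Nat.card S - m ≤ d → Steps F n m from this _ m le_rfl
  intro d
  induction d with
  | zero =>
    intro m hm A X ρ _ _ hXN hmX
    have := card_le_card (hXN.trans normalizerIn_le)
    omega
  | succ d ih =>
    intro m hm A X ρ hAn hAX hXN hmX hρ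
    have hXS : X ≤ S := hρ.le
    have hfinX : Finite X := finite_of_le hXS
    have hIH : Steps F n (Nat.card X) := ih _ (by have := card_le_card hXS; omega)
    have hAS : A ≤ S := hAX.le.trans hXS
    set B := img ρ A with hBdef
    have hρA := hρ.restrict hAX.le
    have hBn : Nat.card B = n := by rw [hρA.card_img, hAn]
    rcases eq_or_lt_of_le hXN with hXe | hXlt
    · subst hXe
      exact ⟨ρ, id, hρ, isMap_id normalizerIn_le, (img_id B).symm⟩
    set X' := img ρ X with hX'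
    have hX'S : X' ≤ S := hρ.img_le_S
    have hnX : n < Nat.card X := hAn ▸ card_lt_card hAX
    obtain ⟨Xs, hXs, hFA, hRec⟩ := hab X hXS hnX
    obtain ⟨γ₁, hγ₁, hγ₁X⟩ := exists_map_normalizer hFA hRec hS hXs
    obtain ⟨γ₂, hγ₂, hγ₂X⟩ := exists_map_normalizer hFA hRec hS
      (isConj_trans (isConj_symm hρ.isConj) hXs)
    have hXsS : Xs ≤ S := hFA.1
    have hfinXs : Finite Xs := finite_of_le hXsS
    have hA' : img γ₁ A ≤ Xs := hγ₁X ▸ img_mono γ₁ hAX.le
    obtain ⟨c, hc⟩ := exists_adapted hFA hA'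
    set A' := img (autFun (c : MulAut Xs)) (img γ₁ A) with hA'def
    have hcm := isMap_of_mem_autGroup hXsS c.2
    -- first side
    have hγ₁' := hγ₁.restrict (le_normalizerIn hXS)
    have hφ₁ : IsMap F X fun x => autFun (c : MulAut Xs) (γ₁ x) :=
      hcm.comp hγ₁' fun x hx => hγ₁X.le (mem_img_self γ₁ hx)
    have hφ₁X : img (fun x => autFun (c : MulAut Xs) (γ₁ x)) X = Xs := by
      rw [← hγ₁'.img_img, hγ₁X, autFun_img]
    have hφ₁A : img (fun x => autFun (c : MulAut Xs) (γ₁ x)) A = A' := by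
      rw [hA'def, (hγ₁'.restrict hAX.le).img_img]
    -- second side
    obtain ⟨j, hj, hjimg, hjρ, hρj⟩ := hρ.exists_inv
    have hγ₂' := hγ₂.restrict (le_normalizerIn hX'S)
    have hφ₂ : IsMap F X' fun y => autFun (c : MulAut Xs) (γ₁ (j y)) :=
      hφ₁.comp hj fun y hy => hjimg.le (mem_img_self j hy)
    have hφ₂X : img (fun y => autFun (c : MulAut Xs) (γ₁ (j y))) X' = Xs := by
      rw [← hj.img_img (fun x => autFun (c : MulAut Xs) (γ₁ x)), hjimg, hφ₁X]
    have hφ₂B : img (fun y => autFun (c : MulAut Xs) (γ₁ (j y))) B = A' := by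
      rw [hBdef, hρA.img_img, ← hφ₁A]
      exact img_congr fun x hx => by rw [hjρ x (hAX.le hx)]
    set W₁ := normalizerIn S A ⊓ normalizerIn S X with hW₁
    set W₂ := normalizerIn S B ⊓ normalizerIn S X' with hW₂
    have : Finite (img (fun x => autFun (c : MulAut Xs) (γ₁ x)) X) := finite_of_le hφ₁.img_le_S
    have : Finite (img (fun y => autFun (c : MulAut Xs) (γ₁ (j y))) X') :=
      finite_of_le hφ₂.img_le_S
    obtain ⟨δ₁, hδ₁, hδ₁A, -⟩ := exists_lift hS hφ₁ hAX.le hφ₁A (by rwa [hφ₁X])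
      (by convert hc using 1) (W := W₁) inf_le_right (fun w hw => hw.1.2)
    obtain ⟨δ₂, hδ₂, hδ₂B, -⟩ := exists_lift hS hφ₂ (img_mono ρ hAX.le) hφ₂B (by rwa [hφ₂X])
      (by convert hc using 1) (W := W₂) inf_le_right (fun w hw => hw.1.2)
    have : Finite (normalizerIn S A) := finite_of_le normalizerIn_le
    have hlt₁ : X < X ⊔ W₁ := by
      obtain ⟨w, hw, hwX⟩ := exists_mem_normalizer_not_mem (hS.to_le normalizerIn_le) hXlt
        (S := normalizerIn S A)
      exact left_lt_sup.2 fun hle => hwX (hle ⟨hw.1, normalizerIn_le hw.1, hw.2⟩)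
    have hX1N : X ⊔ W₁ ≤ normalizerIn S A := sup_le hXN inf_le_left
    have hA'S : A' ≤ S := hδ₁A ▸ (hδ₁.restrict (hAX.le.trans le_sup_left)).img_le_S
    have : Finite (X ⊔ W₁ : Subgroup Ω) := finite_of_le hδ₁.le
    have hbig : Nat.card X < Nat.card (normalizerIn S A') := by
      have : Finite (X ⊔ W₁ : Subgroup Ω) := finite_of_le hδ₁.le
      have : Finite (normalizerIn S A') := finite_of_le normalizerIn_le
      refine (card_lt_card hlt₁).trans_le ?_
      rw [← hδ₁.card_img]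
      refine card_le_card ?_
      rw [← hδ₁A]
      exact img_le fun x hx => ⟨hδ₁.mem hx,
        hδ₁.mem_normalizer_img (hAX.le.trans le_sup_left) hx (hX1N hx).2⟩
    have hj₁ : Joined F A A' := by
      have := hIH A (X ⊔ W₁) δ₁ hAn (hAX.trans hlt₁) hX1N
        (card_lt_card hlt₁ |>.trans_eq' rfl) hδ₁
      rwa [hδ₁A] at this
    have hBS : B ≤ S := hρA.img_le_S
    have hX'N : X' ≤ normalizerIn S B := img_le fun x hx =>
      ⟨hρ.mem hx, hρ.mem_normalizer_img hAX.le hx (hXN hx).2⟩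
    have hj₂ : Joined F A' B := by
      rcases eq_or_lt_of_le hX'N with hXe | hXlt'
      · exact ⟨id, δ₂, isMap_id normalizerIn_le,
          hδ₂.restrict (hXe.symm.le.trans le_sup_left), by rw [img_id, hδ₂B]⟩
      have : Finite (normalizerIn S B) := finite_of_le normalizerIn_le
      obtain ⟨w, hw, hwX⟩ := exists_mem_normalizer_not_mem (hS.to_le normalizerIn_le) hXlt'
        (S := normalizerIn S B)
      have hlt₂ : X' < X' ⊔ W₂ :=
        left_lt_sup.2 fun hle => hwX (hle ⟨hw.1, normalizerIn_le hw.1, hw.2⟩)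
      have : Finite (X' ⊔ W₂ : Subgroup Ω) := finite_of_le hδ₂.le
      have hBX' : B < X' ⊔ W₂ := lt_of_le_of_lt (img_mono ρ hAX.le) hlt₂
      have := hIH B (X' ⊔ W₂) δ₂ hBn hBX' (sup_le hX'N inf_le_left)
        (lt_of_eq_of_lt hρ.card_img.symm (card_lt_card hlt₂)) hδ₂
      rw [hδ₂B] at this
      exact this.symm
    have hA'n : Nat.card A' = n := by
      rw [← hδ₁A, (hδ₁.restrict (hAX.le.trans le_sup_left)).card_img, hAn]
    refine joined_trans hIH hAS hA'S hBS hA'n ?_ hbig hj₁ hj₂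
    have : Finite (normalizerIn S A') := finite_of_le normalizerIn_le
    exact lt_of_le_of_ne (le_normalizerIn hA'S) fun e => by rw [← e] at hbig; omega

/-! ### The subgroup of elements inducing automorphisms in the p-core -/

/-- `g` normalizes `P` and induces an element of `O_p(Aut_F(P))` on it. -/
def InO (F : FusionSystem S) (p : ℕ) (P : Subgroup Ω) (g : Ω) : Prop :=
  g ∈ normalizerIn S P ∧
    ∃ a ∈ pCore p (F.autGroup P), ∀ x ∈ P, autFun (a : MulAut P) x = g * x * g⁻¹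

/-- The elements of `N_S(P)` inducing automorphisms in `O_p(Aut_F(P))`. -/
def yOf (F : FusionSystem S) (p : ℕ) (P : Subgroup Ω) : Subgroup Ω where
  carrier := {g | InO F p P g}
  one_mem' := ⟨Subgroup.one_mem _, 1, Subgroup.one_mem _, fun x _ => by simp [autFun_one]⟩
  mul_mem' := by
    rintro g h ⟨hg, a, ha, hae⟩ ⟨hh, b, hb, hbe⟩
    refine ⟨Subgroup.mul_mem _ hg hh, a * b, Subgroup.mul_mem _ ha hb, fun x hx => ?_⟩
    rw [Subgroup.coe_mul, autFun_mul, hbe x hx,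
      hae _ ((Subgroup.mem_normalizer_iff.1 hh.2 x).1 hx)]
    group
  inv_mem' := by
    rintro g ⟨hg, a, ha, hae⟩
    refine ⟨Subgroup.inv_mem _ hg, a⁻¹, Subgroup.inv_mem _ ha, fun x hx => ?_⟩
    have hy : g⁻¹ * x * g⁻¹⁻¹ ∈ P :=
      (Subgroup.mem_normalizer_iff.1 (Subgroup.inv_mem _ hg.2) x).1 hx
    have h1 := congrArg (autFun (a : MulAut P)⁻¹) (hae _ hy)
    rw [autFun_inv_apply] at h1
    rw [Subgroup.coe_inv]
    simpa [mul_assoc] using h1.symm

theorem mem_yOf {x : Ω} : x ∈ yOf F p P ↔ InO F p P x := Iff.rfl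

omit [Finite S] [Fact p.Prime] in
theorem yOf_le : yOf F p P ≤ normalizerIn S P := fun _ h => h.1

theorem le_yOf (hS : IsPGroup p S) (hP : P ≤ S) : P ≤ yOf F p P := by
  intro g hg
  refine ⟨le_normalizerIn hP hg, ?_⟩
  have : Finite P := finite_of_le hP
  have := Alperin.inn_normal F P
  have hp : IsPGroup p ((Inn P).subgroupOf (F.autGroup P)) :=
    ((isPGroup_autInducedBy (hS.to_le hP)).to_le (inn_le_autInducedBy le_rfl)).comap_of_injective _
      Subtype.val_injective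
  obtain ⟨α, hα, hαe⟩ : ∃ α ∈ Inn P, ∀ x ∈ P, autFun α x = cj g x :=
    ⟨conjAut P P ⟨g, hg, Subgroup.le_normalizer hg⟩,
      mem_inn_iff.2 ⟨g, hg, fun x hx => conjAut_apply _ hx⟩, fun x hx => conjAut_apply _ hx⟩
  exact ⟨⟨α, inn_le_autGroup hP hα⟩, PLocal.Cores.le_pCore hp (Subgroup.mem_subgroupOf.2 hα),
    fun x hx => hαe x hx⟩

theorem normalizerIn_le_normalizer_yOf [Finite (yOf F p P)] (hP : P ≤ S) [Finite P] :
    normalizerIn S P ≤ Subgroup.normalizer (yOf F p P : Set Ω) := by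
  intro g hg
  refine mem_normalizer_of_forall fun y hy => ?_
  obtain ⟨hyN, a, ha, hae⟩ := mem_yOf.1 hy
  let b : F.autGroup P := ⟨conjAut S P ⟨g, hg⟩, conjAut_mem_autGroup hP _⟩
  refine mem_yOf.2 ⟨Subgroup.mul_mem _ (Subgroup.mul_mem _ hg hyN) (Subgroup.inv_mem _ hg),
    b * a * b⁻¹, (PLocal.Cores.pCore_normal').conj_mem a ha b, fun x hx => ?_⟩
  have hx' : g⁻¹ * x * g⁻¹⁻¹ ∈ P :=
    (Subgroup.mem_normalizer_iff.1 (Subgroup.inv_mem _ hg.2) x).1 hx
  have hy' : y * (g⁻¹ * x * g⁻¹⁻¹) * y⁻¹ ∈ P := (Subgroup.mem_normalizer_iff.1 hyN.2 _).1 hx'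
  have hb : ∀ z ∈ P, autFun (b : MulAut P) z = cj g z := fun z hz =>
    conjAut_apply (K := S) ⟨g, hg⟩ hz
  have hbi : autFun (b : MulAut P)⁻¹ x = g⁻¹ * x * g⁻¹⁻¹ := by
    have h1 := congrArg (autFun (b : MulAut P)⁻¹) (hb _ hx')
    rw [autFun_inv_apply] at h1
    rw [h1]
    simp [cj, mul_assoc]
  rw [Subgroup.coe_mul, Subgroup.coe_mul, Subgroup.coe_inv, autFun_mul, autFun_mul, hbi,
    hae _ hx', hb _ hy']
  simp [cj, mul_assoc]

/-- The transported automorphism is in the p-core. -/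
theorem core_transport (hf : IsMap F P f) (hQ : img f P = Q) {w : Ω} (hw : InO F p P w) :
    ∃ k ∈ pCore p (F.autGroup Q), ∀ x ∈ P, autFun (k : MulAut Q) (f x) = f (w * x * w⁻¹) := by
  subst hQ
  obtain ⟨e, he⟩ := hf.exists_autEquiv
  obtain ⟨-, a, ha, hae⟩ := hw
  refine ⟨e a, ?_, fun x hx => by rw [he a x hx, hae x hx]⟩
  rw [← PLocal.Cores.map_pCore_equiv e]
  exact ⟨a, ha, rfl⟩

theorem map_yOf (hf : IsMap F R f) (hPR : P ≤ R) (hQ : img f P = Q) {w : Ω} (hwR : w ∈ R)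
    (hw : w ∈ yOf F p P) : f w ∈ yOf F p Q := by
  obtain ⟨k, hk, hke⟩ := core_transport (hf.restrict hPR) hQ hw
  refine ⟨⟨hf.mem hwR, hQ ▸ hf.mem_normalizer_img hPR hwR hw.1.2⟩, k, hk, fun y hy => ?_⟩
  rw [← hQ] at hy
  obtain ⟨x, hx, rfl⟩ := (hf.restrict hPR).mem_img.1 hy
  rw [hke x hx, hf.map_conj hwR (hPR hx)]

/-- The automorphisms of `Q` extending to `yOf Q`. -/
def extY (hS : IsPGroup p S) (hQ : Q ≤ S) [Finite Q] : Subgroup (F.autGroup Q) :=
  let M : Submonoid (F.autGroup Q) :=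
  { carrier := {a | ∃ h, IsMap F (yOf F p Q) h ∧ ∀ x ∈ Q, h x = autFun (a : MulAut Q) x}
    one_mem' := ⟨id, isMap_id (yOf_le.trans normalizerIn_le), fun x _ => by simp [autFun_one]⟩
    mul_mem' := fun {a b} => by
      rintro ⟨h, hh, hha⟩ ⟨k, hk, hkb⟩
      have hQY := le_yOf (F := F) hS hQ
      have hkQ : img k Q = Q := by rw [img_congr hkb, autFun_img]
      refine ⟨fun x => h (k x), hh.comp hk fun x hx => map_yOf hk hQY hkQ hx hx, fun x hx => ?_⟩
      show h (k x) = autFun ((a * b : F.autGroup Q) : MulAut Q) x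
      rw [Subgroup.coe_mul, autFun_mul, hkb x hx, hha _ (autFun_mem _ hx)] }
  { M with
    inv_mem' := fun {a} ha => by
      have h1 : a⁻¹ = a ^ (orderOf a - 1) := by
        refine inv_eq_of_mul_eq_one_right ?_
        rw [← pow_succ', Nat.sub_add_cancel (orderOf_pos a), pow_orderOf_eq_one]
      rw [h1]
      exact M.pow_mem ha _ }

theorem mem_extY {hS : IsPGroup p S} {hQ : Q ≤ S} [Finite Q] {a : F.autGroup Q} :
    a ∈ extY hS hQ ↔ ∃ h, IsMap F (yOf F p Q) h ∧ ∀ x ∈ Q, h x = autFun (a : MulAut Q) x :=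
  Iff.rfl

/-- The normalizers of all conjugates map to that of `Q`. -/
def Tgt (F : FusionSystem S) (Q : Subgroup Ω) : Prop :=
  ∀ A, F.IsConj A Q → ∃ g, IsMap F (normalizerIn S A) g ∧ img g A = Q

omit [Fact p.Prime] in
theorem relIndex_dvd_index {G : Type*} [Group G] [Finite G] (B N : Subgroup G) [N.Normal] :
    B.relIndex N ∣ B.index := by
  have h1 : B.relIndex N * N.index = N.relIndex B * B.index := by
    rw [← Subgroup.inf_relIndex_right B N, ← Subgroup.inf_relIndex_right N B,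
      Subgroup.relIndex_mul_index inf_le_right, Subgroup.relIndex_mul_index inf_le_right, inf_comm]
  obtain ⟨c, hc⟩ : N.relIndex B ∣ N.index := Subgroup.relIndex_dvd_index_of_normal N B
  have h2 : N.relIndex B ≠ 0 := Subgroup.index_ne_zero_of_finite (H := N.subgroupOf B)
  refine ⟨c, ?_⟩
  rw [hc] at h1
  exact Nat.eq_of_mul_eq_mul_left (Nat.pos_of_ne_zero h2) (by rw [← h1]; ring)

omit [Finite S] [Fact p.Prime] in
theorem not_le_of_mul [Finite X] {Y : Subgroup Ω} (hXY : X ≤ Subgroup.normalizer (Y : Set Ω)) {w : Ω}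
    (hw : w ∈ X ⊔ Y) (hwN : w ∈ Subgroup.normalizer (X : Set Ω)) (hwX : w ∉ X) :
    ¬ Y ⊓ Subgroup.normalizer (X : Set Ω) ≤ X := by
  rw [← SetLike.mem_coe, Subgroup.coe_mul_of_left_le_normalizer_right _ _ hXY] at hw
  obtain ⟨x, hx, y, hy, rfl⟩ := hw
  refine fun hle => hwX (X.mul_mem hx (hle ⟨hy, ?_⟩))
  simpa using Subgroup.mul_mem _ (Subgroup.inv_mem _ (Subgroup.le_normalizer hx)) hwN

/-- An automorphism extending to some subgroup bigger than `Q` extends to `yOf Q`. -/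
theorem claim_ext (hS : IsPGroup p S) {n : ℕ} (hab : Above F p n) (hQ : Q ≤ S) [Finite Q]
    (hQn : Nat.card Q = n) (htgt : Tgt F Q) {h : Ω → Ω} (hQX : Q < X)
    (hXN : X ≤ normalizerIn S Q) (hh : IsMap F X h) (a : F.autGroup Q)
    (ha : ∀ x ∈ Q, h x = autFun (a : MulAut Q) x) : a ∈ extY hS hQ := by
  induction hd : Nat.card S - Nat.card X using Nat.strong_induction_on generalizing X h a with
  | _ d ih =>
  set Y := yOf F p Q with hY
  by_cases hYX : Y ≤ X
  · exact mem_extY.2 ⟨h, hh.restrict hYX, ha⟩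
  have hYN : Y ≤ normalizerIn S Q := yOf_le
  have hfinN : Finite (normalizerIn S Q) := finite_of_le normalizerIn_le
  have hfinY : Finite Y := finite_of_le hYN
  have hNY := normalizerIn_le_normalizer_yOf (F := F) (p := p) hQ
  have hXS : X ≤ S := hh.le
  have hfinX : Finite X := finite_of_le hXS
  have hhQ : img h Q = Q := by rw [img_congr ha, autFun_img]
  set X' := img h X with hX'
  have hX'S : X' ≤ S := hh.img_le_S
  have hfinX' : Finite X' := finite_of_le hX'S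
  have hX'N : X' ≤ normalizerIn S Q := img_le fun x hx =>
    ⟨hh.mem hx, hhQ ▸ hh.mem_normalizer_img hQX.le hx (hXN hx).2⟩
  have hQX' : Q ≤ X' := hhQ ▸ img_mono h hQX.le
  have hnX : n < Nat.card X' := by rw [hh.card_img, ← hQn]; exact card_lt_card hQX
  obtain ⟨Xs, hXs, hFA, hRec⟩ := hab X' hX'S hnX
  obtain ⟨γ, hγ, hγX⟩ := exists_map_normalizer hFA hRec hS hXs
  have hXsS : Xs ≤ S := hFA.1
  have hfinXs : Finite Xs := finite_of_le hXsS
  have hγ' := hγ.restrict (le_normalizerIn hX'S)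
  obtain ⟨c, hc⟩ := exists_adapted hFA (hγX ▸ img_mono γ hQX')
  set φ₂ := fun y => autFun (c : MulAut Xs) (γ y) with hφ₂def
  have hφ₂ : IsMap F X' φ₂ :=
    (isMap_of_mem_autGroup hXsS c.2).comp hγ' fun x hx => hγX.le (mem_img_self γ hx)
  have hφ₂X : img φ₂ X' = Xs := by rw [hφ₂def, ← hγ'.img_img, hγX, autFun_img]
  have hφ₁ : IsMap F X fun x => φ₂ (h x) := hφ₂.comp hh fun x hx => mem_img_self h hx
  have hφ₁X : img (fun x => φ₂ (h x)) X = Xs := by rw [← hh.img_img, ← hX', hφ₂X]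
  set Q' := img φ₂ Q with hQ'
  have hφ₁Q : img (fun x => φ₂ (h x)) Q = Q' := by rw [← (hh.restrict hQX.le).img_img, hhQ]
  have hQ'e : Q' = img (autFun (c : MulAut Xs)) (img γ Q) := by
    rw [hQ', hφ₂def, (hγ'.restrict hQX').img_img]
  rw [← hQ'e] at hc
  have hQ'Xs : Q' ≤ Xs := hφ₂X ▸ img_mono φ₂ hQX'
  have hfinQ' : Finite Q' := finite_of_le (hQ'Xs.trans hXsS)
  have hfix : ∀ (X₀ : Subgroup Ω) (φ : Ω → Ω), IsMap F X₀ φ → Q ≤ X₀ → img φ X₀ = Xs →
      img φ Q = Q' → ∃ ψ, IsMap F (X₀ ⊔ (Y ⊓ Subgroup.normalizer (X₀ : Set Ω))) ψ ∧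
        ∀ x ∈ Q, ψ x = φ x := by
    intro X₀ φ hφ hQX₀ hφX hφQ
    subst hφX
    obtain ⟨r, hr⟩ := exists_res (F := F) hφ.img_le_S hQ'Xs
    obtain ⟨hAp, hAidx⟩ := adapted_sylow hS hc
    refine exists_lift_fix hS hφ hQX₀ hφQ hRec
      (fun w hw => ⟨(hYN hw.1).1, hw.2⟩) (fun w hw => (hYN hw.1).2)
      (pCore p (F.autGroup Q')) PLocal.Cores.isPGroup_pCore r hr ?_ fun w hw => ?_
    · have : ((pCore p (F.autGroup Q')).comap r).Normal := inferInstance
      intro hdvd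
      rw [Subgroup.inf_relIndex_right] at hdvd
      exact hAidx (hdvd.trans (relIndex_dvd_index _ _))
    · exact core_transport (hφ.restrict hQX₀) hφQ hw.1
  have hQQ' : F.IsConj Q' Q := isConj_symm (hQ' ▸ (hφ₂.restrict hQX').isConj)
  obtain ⟨η, hη, hηQ⟩ := htgt Q' hQQ'
  have hext : ∀ (X₀ : Subgroup Ω) (ψ : Ω → Ω), IsMap F X₀ ψ → Q ≤ X₀ → X₀ ≤ normalizerIn S Q →
      img ψ Q = Q' → IsMap F X₀ fun x => η (ψ x) := by
    intro X₀ ψ hψ hQX₀ hX₀ hψQ
    exact hη.comp hψ fun x hx => ⟨hψ.mem hx, hψQ ▸ hψ.mem_normalizer_img hQX₀ hx (hX₀ hx).2⟩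
  have hbig : ∀ (X₀ : Subgroup Ω), Q ≤ X₀ → X₀ ≤ normalizerIn S Q → ¬ Y ≤ X₀ →
      X₀ < X₀ ⊔ (Y ⊓ Subgroup.normalizer (X₀ : Set Ω)) := by
    intro X₀ _ hX₀ hnot
    have : Finite X₀ := finite_of_le (hX₀.trans normalizerIn_le)
    have hlt : X₀ < X₀ ⊔ Y := left_lt_sup.2 hnot
    have : Finite (X₀ ⊔ Y : Subgroup Ω) := finite_of_le (sup_le hX₀ hYN)
    obtain ⟨w, hw, hwX⟩ := exists_mem_normalizer_not_mem
      (hS.to_le ((sup_le hX₀ hYN).trans normalizerIn_le)) hlt
    exact left_lt_sup.2 (not_le_of_mul (hX₀.trans hNY) hw.1 hw.2 hwX)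
  -- the second map
  obtain ⟨b, hb, hbe⟩ := (hext X' φ₂ hφ₂ hQX' hX'N hQ'.symm |>.restrict hQX').exists_aut (by
    rw [← (hφ₂.restrict hQX').img_img, ← hQ', hηQ])
  have hbm : (⟨b, hb⟩ : F.autGroup Q) ∈ extY hS hQ := by
    by_cases hYX' : Y ≤ X'
    · exact mem_extY.2 ⟨_, (hext X' φ₂ hφ₂ hQX' hX'N hQ'.symm).restrict hYX',
        fun x hx => (hbe x hx).symm⟩
    obtain ⟨ψ, hψ, hψe⟩ := hfix X' φ₂ hφ₂ hQX' hφ₂X rfl
    have hlt := hbig X' hQX' hX'N hYX'
    have hN := sup_le hX'N (inf_le_left.trans hYN) (b := Y ⊓ Subgroup.normalizer (X' : Set Ω))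
    refine ih _ ?_ (lt_of_le_of_lt hQX' hlt) hN
      (hext _ ψ hψ (hQX'.trans le_sup_left) hN (by rw [img_congr hψe])) _
      (fun x hx => by rw [hψe x hx]; exact (hbe x hx).symm) rfl
    have : Finite (X' ⊔ (Y ⊓ Subgroup.normalizer (X' : Set Ω)) : Subgroup Ω) := finite_of_le hψ.le
    have := card_lt_card hlt
    have := card_le_card hψ.le
    rw [hh.card_img] at *
    omega
  obtain ⟨a₁, ha₁, ha₁e⟩ := (hext X _ hφ₁ hQX.le hXN hφ₁Q |>.restrict hQX.le).exists_aut (by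
    rw [← (hφ₁.restrict hQX.le).img_img, hφ₁Q, hηQ])
  have ha₁m : (⟨a₁, ha₁⟩ : F.autGroup Q) ∈ extY hS hQ := by
    obtain ⟨ψ, hψ, hψe⟩ := hfix X _ hφ₁ hQX.le hφ₁X hφ₁Q
    have hlt := hbig X hQX.le hXN hYX
    have hN := sup_le hXN (inf_le_left.trans hYN) (b := Y ⊓ Subgroup.normalizer (X : Set Ω))
    refine ih _ ?_ (lt_of_le_of_lt hQX.le hlt) hN
      (hext _ ψ hψ (hQX.le.trans le_sup_left) hN (by rw [img_congr hψe, hφ₁Q])) _
      (fun x hx => by rw [hψe x hx]; exact (ha₁e x hx).symm) rfl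
    have : Finite (X ⊔ (Y ⊓ Subgroup.normalizer (X : Set Ω)) : Subgroup Ω) := finite_of_le hψ.le
    have := card_lt_card hlt
    have := card_le_card hψ.le
    omega
  have e : (⟨b, hb⟩ : F.autGroup Q) * a = ⟨a₁, ha₁⟩ := by
    refine Subtype.ext (autFun_ext fun x hx => ?_)
    rw [Subgroup.coe_mul, autFun_mul, hbe _ (autFun_mem _ hx), ha₁e x hx, ← ha x hx]
  have : a = (⟨b, hb⟩ : F.autGroup Q)⁻¹ * ⟨a₁, ha₁⟩ := by rw [← e, inv_mul_cancel_left]
  rw [this]
  exact Subgroup.mul_mem _ (Subgroup.inv_mem _ hbm) ha₁m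

/-! ### Induction over generators -/

/-- A property of maps on the members of a class holds for all once it holds for maps extending to
bigger subgroups, and is closed under composition and inversion. -/
theorem class_induction (hS : IsPGroup p S) {ℋ : Set (Subgroup Ω)}
    (hℋconj : ∀ P ∈ ℋ, ∀ Q, F.IsConj P Q → Q ∈ ℋ)
    (hgen : ∀ E : FusionSystem S, (∀ P ∈ ℋ, F.Hom P ⊆ E.Hom P) → F ≤ E)
    (hP : P ∉ ℋ) (hPS : P < S) (Φ : Subgroup Ω → (Ω → Ω) → Prop)
    (hcongr : ∀ A f g, (∀ x ∈ A, f x = g x) → Φ A f → Φ A g)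
    (hstep : ∀ A X ρ, F.IsConj P A → A < X → X ≤ normalizerIn S A → IsMap F X ρ → Φ A ρ)
    (hcomp : ∀ A f g, F.IsConj P A → IsMap F A f → IsMap F (img f A) g → Φ A f →
      Φ (img f A) g → Φ A (fun x => g (f x)))
    (hinv : ∀ A f g, F.IsConj P A → IsMap F A f → IsMap F (img f A) g →
      (∀ x ∈ A, g (f x) = x) → Φ A f → Φ (img f A) g)
    (hA : F.IsConj P A) (hf : IsMap F A f) : Φ A f := by
  have hne : ∀ B, F.IsConj P B → B < S := by
    intro B hB
    have : Finite P := finite_of_le hPS.le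
    refine lt_of_le_of_ne (isConj_le hB).2 fun e => hPS.ne ?_
    exact eq_of_le_card hPS.le (by rw [← isConj_card hB, e])
  let E : FusionSystem S :=
  { Hom := fun R => {φ | φ ∈ F.Hom R ∧ ∀ B, B ≤ R → F.IsConj P B → Φ B (ext φ)}
    le_of_mem := fun h => F.le_of_mem h.1
    injective_of_mem := fun h => F.injective_of_mem h.1
    conj_mem := by
      intro R g hR hg
      refine ⟨F.conj_mem hR hg, fun B hBR hB => ?_⟩
      refine hcongr B (cj g) _ (fun x hx => by rw [ext_of_mem _ (hBR hx)]; rfl) ?_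
      exact hstep B _ _ hB (lt_normalizerIn hS (hne B hB)) le_rfl (isMap_cj normalizerIn_le hg)
    comp_mem := by
      rintro R R' φ ψ ⟨hφ, hφP⟩ ⟨hψ, hψP⟩ h
      refine ⟨F.comp_mem hφ hψ h, fun B hBR hB => ?_⟩
      have hm := (IsMap.of_hom hφ).restrict hBR
      have himg : img (ext φ) B ≤ R' := img_le fun x hx => by
        rw [ext_of_mem φ (hBR hx)]; exact h _
      have hm' := (IsMap.of_hom hψ).restrict himg
      refine hcongr B (fun x => ext ψ (ext φ x)) _ (fun x hx => ?_) (hcomp B _ _ hB hm hm'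
        (hφP B hBR hB) (hψP _ himg (isConj_trans hB hm.isConj)))
      rw [ext_of_mem φ (hBR hx), ext_of_mem ψ (h ⟨x, hBR hx⟩), ext_of_mem _ (hBR hx)]
      rfl
    inv_mem := by
      rintro R φ ⟨hφ, hφP⟩
      obtain ⟨ψ, hψ, hψe⟩ := F.inv_mem hφ
      refine ⟨ψ, ⟨hψ, fun B hBR hB => ?_⟩, hψe⟩
      have hleft : ∀ x ∈ R, ext ψ (ext φ x) = x := fun x hx => by
        rw [ext_of_mem φ hx, ext_of_mem ψ ⟨⟨x, hx⟩, rfl⟩]
        exact hψe ⟨x, hx⟩
      have hr : φ.range = img (ext φ) R := range_eq_img φ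
      have hm := (IsMap.of_hom hψ).restrict hBR
      have hBR' : img (ext ψ) B ≤ R := img_le fun y hy => by
        obtain ⟨x, hx, rfl⟩ := (IsMap.of_hom hφ).mem_img.1 (hr.le (hBR hy))
        rw [hleft x hx]
        exact hx
      have hback : ∀ y ∈ B, ext φ (ext ψ y) = y := fun y hy => by
        obtain ⟨x, hx, rfl⟩ := (IsMap.of_hom hφ).mem_img.1 (hr.le (hBR hy))
        rw [hleft x hx]
      have hB' : img (ext φ) (img (ext ψ) B) = B := by
        rw [hm.img_img, img_congr (g := id) hback, img_id]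
      have hm' := (IsMap.of_hom hφ).restrict hBR'
      have := hinv _ (ext φ) (ext ψ) (isConj_trans hB hm.isConj) hm' (by rwa [hB'])
        (fun x hx => hleft x (hBR' hx)) (hφP _ hBR' (isConj_trans hB hm.isConj))
      rwa [hB'] at this }
  have hFE : F ≤ E := hgen E fun R hR φ hφ => ⟨hφ, fun B hBR hB => by
    have hm := IsMap.of_hom hφ
    have : Finite R := finite_of_le hm.le
    have hne' : B < R := lt_of_le_of_ne hBR fun e =>
      hP (hℋconj R hR P (isConj_symm (e ▸ hB)))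
    obtain ⟨w, hw, hwB⟩ := exists_mem_normalizer_not_mem (hS.to_le hm.le) hne'
    refine hstep B (normalizerIn R B) _ hB ?_ (fun x hx => ⟨hm.le hx.1, hx.2⟩)
      (hm.restrict inf_le_left)
    exact lt_of_le_of_ne (le_normalizerIn hBR) fun e => hwB (e ▸ hw)⟩
  obtain ⟨φ, hφ, hφe⟩ := hf
  refine hcongr A (ext φ) _ (fun x hx => by rw [ext_of_mem φ hx]; exact hφe ⟨x, hx⟩) ?_
  exact (hFE A hφ).2 A le_rfl hA

omit [Finite S] [Fact p.Prime] in
theorem exists_transfer (hA : A ≤ S) (hf : IsMap F A f) {g₁ g₂ : Ω → Ω}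
    (hg₁ : IsMap F (normalizerIn S A) g₁) (hg₂ : IsMap F (normalizerIn S (img f A)) g₂)
    (h₁ : img g₁ A = Q) (h₂ : img g₂ (img f A) = Q) :
    ∃ a : F.autGroup Q, ∀ x ∈ A, autFun (a : MulAut Q) (g₁ x) = g₂ (f x) := by
  have hm₁ := hg₁.restrict (le_normalizerIn hA)
  obtain ⟨i, hi, himg, hig, -⟩ := hm₁.exists_inv
  rw [h₁] at hi himg
  have hm : IsMap F Q fun y => g₂ (f (i y)) :=
    hg₂.comp (hf.comp hi fun y hy => himg.le (mem_img_self i hy))
      fun y hy => le_normalizerIn hf.img_le_S (mem_img_self f (himg.le (mem_img_self i hy)))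
  obtain ⟨a, ha, hae⟩ := hm.exists_aut (by
    refine le_antisymm (img_le fun y hy => ?_) fun y hy => ?_
    · exact h₂.le (mem_img_self g₂ (mem_img_self f (himg.le (mem_img_self i hy))))
    · rw [← h₂] at hy
      obtain ⟨z, hz, rfl⟩ := (hg₂.restrict (le_normalizerIn hf.img_le_S)).mem_img.1 hy
      obtain ⟨x, hx, rfl⟩ := hf.mem_img.1 hz
      have := mem_img_self (fun y => g₂ (f (i y))) (h₁.le (mem_img_self g₁ hx))
      simpa [hig x hx] using this)
  refine ⟨⟨a, ha⟩, fun x hx => ?_⟩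
  rw [hae _ (h₁.le (mem_img_self g₁ hx)), hig x hx]

section Criterion

variable {ℋ : Set (Subgroup Ω)} {n : ℕ}

theorem tgt_of_fullyNormalized (hS : IsPGroup p S)
    (hℋconj : ∀ P ∈ ℋ, ∀ Q, F.IsConj P Q → Q ∈ ℋ)
    (hgen : ∀ E : FusionSystem S, (∀ P ∈ ℋ, F.Hom P ⊆ E.Hom P) → F ≤ E)
    (hab : Above F p n) (hP : P ∉ ℋ) (hPS : P < S) (hPn : Nat.card P = n)
    (hQ : F.IsConj P Q) (hQn : F.IsFullyNormalized Q) : Tgt F Q := by
  have hst : Steps F n n := steps hS hab n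
  have hcard : ∀ B, F.IsConj P B → Nat.card B = n := fun B hB => by rw [isConj_card hB, hPn]
  have hlt : ∀ B, F.IsConj P B → B < normalizerIn S B := by
    intro B hB
    have : Finite P := finite_of_le hPS.le
    refine lt_normalizerIn hS (lt_of_le_of_ne (isConj_le hB).2 fun e => hPS.ne ?_)
    exact eq_of_le_card hPS.le (by rw [← isConj_card hB, e])
  have hall : ∀ A f, F.IsConj P A → IsMap F A f → Joined F A (img f A) := by
    intro A f hA hf
    refine class_induction hS hℋconj hgen hP hPS (fun A f => Joined F A (img f A))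
      ?_ ?_ ?_ ?_ hA hf
    · intro A f g he h; rwa [← img_congr he]
    · intro A X ρ hA hAX hXN hρ
      have : Finite X := finite_of_le hρ.le
      exact hst A X ρ (hcard A hA) hAX hXN (hcard A hA ▸ card_lt_card hAX) hρ
    · intro A f g hA hf hg h₁ h₂
      have hB : F.IsConj P (img f A) := isConj_trans hA hf.isConj
      rw [← hf.img_img]
      have : Finite (normalizerIn S (img f A)) := finite_of_le normalizerIn_le
      exact joined_trans hst (isConj_le hA).2 hf.img_le_S hg.img_le_S (hcard _ hB) (hlt _ hB)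
        (hcard _ hB ▸ card_lt_card (hlt _ hB)) h₁ h₂
    · intro A f g hA hf hg hgf h
      have e : img g (img f A) = A := by rw [hf.img_img, img_congr (g := id) hgf, img_id]
      rw [e]
      exact h.symm
  intro A hA
  obtain ⟨f, hf, rfl⟩ := isConj_iff_map.1 hA
  obtain ⟨g, h, hg, hh, e⟩ := hall A f (isConj_trans hQ (isConj_symm hA)) hf
  have hQS : img f A ≤ S := hQn.1
  have hhN : img h (normalizerIn S (img f A)) = normalizerIn S (img h (img f A)) := by
    have hle := hh.img_normalizerIn_le (le_normalizerIn hQS) le_rfl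
    have : Finite (normalizerIn S (img h (img f A))) := finite_of_le normalizerIn_le
    exact eq_of_le_card hle (by
      rw [hh.card_img]; exact hQn.2 _ ((hh.restrict (le_normalizerIn hQS)).isConj))
  obtain ⟨i, hi, -, hih, -⟩ := hh.exists_inv
  rw [hhN, ← e] at hi
  have hgN := hg.img_normalizerIn_le (le_normalizerIn hf.le) le_rfl
  refine ⟨fun x => i (g x), hi.comp hg fun x hx => hgN (mem_img_self g hx), ?_⟩
  rw [← (hg.restrict (le_normalizerIn hf.le)).img_img, e,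
    (hh.restrict (le_normalizerIn hQS)).img_img,
    img_congr (g := id) fun x hx => hih x (le_normalizerIn hQS hx), img_id]

theorem extY_eq_top (hS : IsPGroup p S)
    (hℋconj : ∀ P ∈ ℋ, ∀ Q, F.IsConj P Q → Q ∈ ℋ)
    (hgen : ∀ E : FusionSystem S, (∀ P ∈ ℋ, F.Hom P ⊆ E.Hom P) → F ≤ E)
    (hab : Above F p n) (hP : P ∉ ℋ) (hPS : P < S) (hPn : Nat.card P = n)
    (hQ : F.IsConj P Q) (hQS : Q ≤ S) [Finite Q] (htgt : Tgt F Q) (a : F.autGroup Q) :
    a ∈ extY hS hQS := by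
  let Φ : Subgroup Ω → (Ω → Ω) → Prop := fun A f => ∀ g₁ g₂ : Ω → Ω,
    IsMap F (normalizerIn S A) g₁ → IsMap F (normalizerIn S (img f A)) g₂ → img g₁ A = Q →
      img g₂ (img f A) = Q → ∀ b : F.autGroup Q,
        (∀ x ∈ A, autFun (b : MulAut Q) (g₁ x) = g₂ (f x)) → b ∈ extY hS hQS
  have hext : ∀ A, F.IsConj P A → ∀ b b' : F.autGroup Q, ∀ g₁ : Ω → Ω,
      IsMap F (normalizerIn S A) g₁ → img g₁ A = Q →
      (∀ x ∈ A, autFun (b : MulAut Q) (g₁ x) = autFun (b' : MulAut Q) (g₁ x)) → b = b' := by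
    intro A hA b b' g₁ hg₁ he₁ h
    refine Subtype.ext (autFun_ext fun y hy => ?_)
    rw [← he₁] at hy
    obtain ⟨x, hx, rfl⟩ := (hg₁.restrict (le_normalizerIn (isConj_le hA).2)).mem_img.1 hy
    exact h x hx
  have hall : Φ Q (autFun (a : MulAut Q)) := by
    refine class_induction hS hℋconj hgen hP hPS Φ ?_ ?_ ?_ ?_ hQ
      (isMap_of_mem_autGroup hQS a.2)
    · intro A f g he h g₁ g₂ h₁ h₂ e₁ e₂ b hb
      rw [← img_congr he] at h₂ e₂
      exact h g₁ g₂ h₁ h₂ e₁ e₂ b fun x hx => by rw [hb x hx, he x hx]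
    · intro A X ρ hA hAX hXN hρ g₁ g₂ h₁ h₂ e₁ e₂ b hb
      have hg₁ := h₁.restrict hXN
      obtain ⟨i, hi, himg, hig, -⟩ := hg₁.exists_inv
      have hm : IsMap F (img g₁ X) fun y => g₂ (ρ (i y)) :=
        h₂.comp (hρ.comp hi fun y hy => himg.le (mem_img_self i hy)) fun y hy =>
          have hx := himg.le (mem_img_self i hy)
          ⟨hρ.mem hx, hρ.mem_normalizer_img hAX.le hx (hXN hx).2⟩
      have hA' : A ≤ normalizerIn S A := hAX.le.trans hXN
      refine claim_ext hS hab hQS (by rw [isConj_card hQ, hPn]) htgt ?_ ?_ hm b fun y hy => ?_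
      · rw [← e₁]
        refine lt_of_le_of_ne (img_mono g₁ hAX.le) fun e => hAX.ne ?_
        have : Finite X := finite_of_le hρ.le
        exact eq_of_le_card hAX.le
          (le_of_eq (by rw [← hg₁.card_img, ← e, (h₁.restrict hA').card_img]))
      · exact img_le fun x hx => ⟨hg₁.mem hx, e₁ ▸ h₁.mem_normalizer_img hA' (hXN hx) (hXN hx).2⟩
      · rw [← e₁] at hy
        obtain ⟨x, hx, rfl⟩ := (h₁.restrict hA').mem_img.1 hy
        show g₂ (ρ (i (g₁ x))) = _
        rw [hig x (hAX.le hx), hb x hx]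
    · intro A f g hA hf hg hΦf hΦg g₁ g₂ h₁ h₂ e₁ e₂ b hb
      rw [← hf.img_img] at h₂ e₂
      have hB : F.IsConj P (img f A) := isConj_trans hA hf.isConj
      obtain ⟨k, hk, hkB⟩ := htgt (img f A) (isConj_trans (isConj_symm hB) hQ)
      obtain ⟨b₁, hb₁⟩ := exists_transfer (isConj_le hA).2 hf h₁ hk e₁ hkB
      obtain ⟨b₂, hb₂⟩ := exists_transfer hf.img_le_S hg hk h₂ hkB e₂
      have : b = b₂ * b₁ := hext A hA _ _ g₁ h₁ e₁ fun x hx => by
        rw [hb x hx, Subgroup.coe_mul, autFun_mul, hb₁ x hx, hb₂ _ (mem_img_self f hx)]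
      rw [this]
      exact Subgroup.mul_mem _ (hΦg k g₂ hk h₂ hkB e₂ b₂ hb₂) (hΦf g₁ k h₁ hk e₁ hkB b₁ hb₁)
    · intro A f g hA hf hg hgf hΦ g₁ g₂ h₁ h₂ e₁ e₂ b hb
      have e : img g (img f A) = A := by rw [hf.img_img, img_congr (g := id) hgf, img_id]
      rw [e] at h₂ e₂
      have h' : ∀ x ∈ A, autFun ((b⁻¹ : F.autGroup Q) : MulAut Q) (g₂ x) = g₁ (f x) := by
        intro x hx
        have := hb _ (mem_img_self f hx)
        rw [hgf x hx] at this
        rw [← this, Subgroup.coe_inv, autFun_inv_apply]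
      simpa using Subgroup.inv_mem _ (hΦ g₂ g₁ h₂ h₁ e₂ e₁ b⁻¹ h')
  have hh := isMap_id (F := F) (normalizerIn_le (S := S) (P := Q))
  exact hall id id hh (by rw [autFun_img]; exact hh) (img_id Q)
    (by rw [autFun_img, img_id]) a fun x _ => rfl

theorem exists_seed (hS : IsPGroup p S)
    (hℋconj : ∀ P ∈ ℋ, ∀ Q, F.IsConj P Q → Q ∈ ℋ)
    (hstar : ∀ P : Subgroup Ω, F.IsCentric P → P ∉ ℋ → ∃ Q, F.IsConj P Q ∧
      ¬ (autInducedBy S Q ⊓ (pCore p (F.autGroup Q)).map (F.autGroup Q).subtype ≤ Inn Q))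
    (hPS : P ≤ S) (hP : P ∉ ℋ) :
    ∃ A, F.IsConj P A ∧ ∃ w, w ∈ yOf F p A ∧ w ∉ A := by
  by_cases hc : F.IsCentric P
  · obtain ⟨A, hA, hne⟩ := hstar P hc hP
    obtain ⟨α, ⟨hαS, a, ha, hae⟩, hαI⟩ := SetLike.not_le_iff_exists.1 hne
    obtain ⟨g, hg, hge⟩ := mem_autInducedBy_iff'.1 hαS
    refine ⟨A, hA, g, ⟨hg, a, ha, fun x hx => ?_⟩, fun hgA => hαI (mem_inn_iff.2 ⟨g, hgA, hge⟩)⟩
    have hae' : (a : MulAut A) = α := hae
    rw [hae']
    exact hge x hx
  · obtain ⟨A, hA⟩ := not_forall.1 fun h => hc ⟨hPS, h⟩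
    obtain ⟨hA, hne⟩ := Classical.not_imp.1 hA
    obtain ⟨w, hw, hwA⟩ := SetLike.not_le_iff_exists.1 hne
    refine ⟨A, hA, w, ⟨centralizerIn_le_normalizerIn hw, 1, Subgroup.one_mem _, fun x hx => ?_⟩, hwA⟩
    rw [Subgroup.coe_one, autFun_one, id, ← hw.2 x hx, mul_inv_cancel_right]

theorem seed_at (hA : F.IsConj A Q) (htgt : Tgt F Q) (hQS : Q ≤ S) {w : Ω}
    (hw : w ∈ yOf F p A) (hwA : w ∉ A) (hS : IsPGroup p S) : Q < yOf F p Q := by
  obtain ⟨g, hg, hgQ⟩ := htgt A hA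
  have hAN := le_normalizerIn (isConj_le hA).1
  refine SetLike.lt_iff_le_and_exists.2 ⟨le_yOf hS hQS, g w,
    map_yOf hg hAN hgQ hw.1 hw, fun hgw => hwA ?_⟩
  obtain ⟨x, hx, hxe⟩ := (hg.restrict hAN).mem_img.1 (hgQ ▸ hgw)
  exact hg.inj (hAN hx) hw.1 hxe ▸ hx

theorem good_class (hS : IsPGroup p S)
    (hℋconj : ∀ P ∈ ℋ, ∀ Q, F.IsConj P Q → Q ∈ ℋ)
    (hgen : ∀ E : FusionSystem S, (∀ P ∈ ℋ, F.Hom P ⊆ E.Hom P) → F ≤ E)
    (hstar : ∀ P : Subgroup Ω, F.IsCentric P → P ∉ ℋ → ∃ Q, F.IsConj P Q ∧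
      ¬ (autInducedBy S Q ⊓ (pCore p (F.autGroup Q)).map (F.autGroup Q).subtype ≤ Inn Q))
    (hab : Above F p n) (hP : P ∉ ℋ) (hPS : P < S) (hPn : Nat.card P = n) : Good F p P := by
  obtain ⟨A, hA, w, hw, hwA⟩ := exists_seed hS hℋconj hstar hPS.le hP
  obtain ⟨Q₀, hQ₀, hQ₀n⟩ := exists_fullyNormalized (F := F) hPS.le
  have htgt₀ := tgt_of_fullyNormalized hS hℋconj hgen hab hP hPS hPn hQ₀ hQ₀n
  have hQ₀S : Q₀ ≤ S := hQ₀n.1
  have hQY₀ := seed_at (isConj_trans (isConj_symm hA) hQ₀) htgt₀ hQ₀S hw hwA hS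
  set Y₀ := yOf F p Q₀ with hY₀
  have hY₀S : Y₀ ≤ S := yOf_le.trans normalizerIn_le
  have : Finite Y₀ := finite_of_le hY₀S
  have : Finite Q₀ := finite_of_le hQ₀S
  have hNY₀ := normalizerIn_le_normalizer_yOf (F := F) (p := p) hQ₀S
  obtain ⟨Ys, hYs, hFA, hRec⟩ := hab Y₀ hY₀S (by
    rw [← hPn, ← isConj_card hQ₀]; exact card_lt_card hQY₀)
  obtain ⟨γ, hγ, hγY⟩ := exists_map_normalizer hFA hRec hS hYs
  have hfinYs : Finite Ys := finite_of_le hFA.1
  have hγ' := hγ.restrict (le_normalizerIn hY₀S)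
  obtain ⟨c, hc⟩ := exists_adapted hFA (hγY ▸ img_mono γ hQY₀.le)
  set φ := fun x => autFun (c : MulAut Ys) (γ x) with hφdef
  have hφ : IsMap F Y₀ φ :=
    (isMap_of_mem_autGroup hFA.1 c.2).comp hγ' fun x hx => hγY.le (mem_img_self γ hx)
  have hφY : img φ Y₀ = Ys := by rw [hφdef, ← hγ'.img_img, hγY, autFun_img]
  have hφQ : img φ Q₀ = img (autFun (c : MulAut Ys)) (img γ Q₀) := by
    rw [hφdef, (hγ'.restrict hQY₀.le).img_img]
  rw [← hφQ] at hc
  clear hφQ
  clear hφdef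
  clear_value φ
  subst hφY
  obtain ⟨ψ, hψ, hψQ, hψY⟩ := exists_lift hS hφ hQY₀.le rfl hRec hc
    (W := normalizerIn S Q₀) (fun x hx => ⟨hx.1, hNY₀ hx⟩) (fun x hx => hx.2)
  replace hψ := hψ.restrict (le_sup_right : normalizerIn S Q₀ ≤ Y₀ ⊔ normalizerIn S Q₀)
  set Q := img φ Q₀ with hQdef
  have hQS : Q ≤ S := (hφ.restrict hQY₀.le).img_le_S
  have hQ0conj : F.IsConj Q₀ Q := (hφ.restrict hQY₀.le).isConj
  have hQ : F.IsConj P Q := isConj_trans hQ₀ hQ0conj
  have hfinQ : Finite Q := finite_of_le hQS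
  have hNimg : img ψ (normalizerIn S Q₀) ≤ normalizerIn S Q :=
    hψQ ▸ hψ.img_normalizerIn_le (le_normalizerIn hQ₀S) le_rfl
  have : Finite (normalizerIn S Q) := finite_of_le normalizerIn_le
  have hNeq : img ψ (normalizerIn S Q₀) = normalizerIn S Q :=
    eq_of_le_card hNimg (by rw [hψ.card_img]; exact hQ₀n.2 _ hQ0conj)
  have hQn : F.IsFullyNormalized Q := ⟨hQS, fun R hR => by
    rw [← hNeq, hψ.card_img]; exact hQ₀n.2 R (isConj_trans hQ0conj hR)⟩
  have hY : yOf F p Q = img φ Y₀ := by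
    obtain ⟨i, hi, himg, hiψ, hψi⟩ := hψ.exists_inv
    rw [hNeq] at hi himg hψi
    have hiQ : img i Q = Q₀ := by
      rw [← hψQ, (hψ.restrict (le_normalizerIn hQ₀S)).img_img,
        img_congr (g := id) fun x hx => hiψ x (le_normalizerIn hQ₀S hx), img_id]
    refine le_antisymm (fun y hy => ?_) ?_
    · have h1 : i y ∈ Y₀ := map_yOf hi (le_normalizerIn hQS) hiQ (yOf_le hy) hy
      rw [← hψY, ← hψi y (yOf_le hy)]
      exact mem_img_self ψ h1
    · rw [← hψY]
      exact img_le fun x hx => map_yOf hψ (le_normalizerIn hQ₀S) hψQ (yOf_le hx) hx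
  have htgt := tgt_of_fullyNormalized hS hℋconj hgen hab hP hPS hPn hQ hQn
  set Y := img φ Y₀ with hYdef
  have hQY : Q ≤ Y := img_mono φ hQY₀.le
  have hYN : Y ≤ normalizerIn S Q := hY ▸ yOf_le
  have hNY : normalizerIn S Q ≤ Subgroup.normalizer (Y : Set Ω) := by
    have : Finite (yOf F p Q) := finite_of_le (yOf_le.trans normalizerIn_le)
    exact hY ▸ normalizerIn_le_normalizer_yOf hQS
  obtain ⟨r, hr⟩ := exists_res (F := F) hφ.img_le_S hQY
  obtain ⟨hAp, hAidx⟩ := adapted_sylow hS hc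
  set A' := ((autInducedBy S Y).subgroupOf (F.autGroup Y)).subgroupOf (stab F Y Q) with hA'
  set K := (autInducedBy S Q).subgroupOf (F.autGroup Q) with hK
  have hAK : A' ≤ K.comap r := by
    intro a ha
    obtain ⟨g, hg, hge⟩ := mem_autInducedBy_iff'.1
      (Subgroup.mem_subgroupOf.1 (Subgroup.mem_subgroupOf.1 ha))
    refine Subgroup.mem_subgroupOf.2 (mem_autInducedBy_iff.2 ⟨g, hg.1, fun x => ?_⟩)
    rw [← autFun_apply, hr a x x.2, hge x (hQY x.2)]
    rfl
  have hext : ∀ a : F.autGroup Q, ∃ h, IsMap F Y h ∧ img h Y = Y ∧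
      ∀ x ∈ Q, h x = autFun (a : MulAut Q) x := by
    intro a
    obtain ⟨h, hh, hha⟩ := mem_extY.1 (extY_eq_top hS hℋconj hgen hab hP hPS hPn hQ hQS htgt a)
    have hhQ : img h Q = Q := by rw [img_congr hha, autFun_img]
    have hle : img h (yOf F p Q) ≤ yOf F p Q :=
      img_le fun x hx => map_yOf hh (le_yOf hS hQS) hhQ hx hx
    rw [hY] at hh hle
    exact ⟨h, hh, eq_of_le_card hle hh.card_img.ge, hha⟩
  have hsurj : Function.Surjective r := by
    intro a
    obtain ⟨h, hh, hhY, hha⟩ := hext a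
    obtain ⟨b, hb, hbe⟩ := hh.exists_aut hhY
    refine ⟨⟨⟨b, hb⟩, fun y hy => ?_⟩, Subtype.ext (autFun_ext fun x hx => ?_)⟩
    · show autFun b y ∈ Q
      rw [hbe y (hQY hy), hha y hy]
      exact autFun_mem _ hy
    · rw [hr _ x hx]
      show autFun b x = _
      rw [hbe x (hQY hx), hha x hx]
  refine ⟨Q, hQ, (fullyAutomized_iff hS).2 ⟨hQS, ?_⟩, isReceptive_iff.2 ⟨hQS, ?_⟩⟩
  · intro hdvd
    refine hAidx (dvd_trans hdvd ?_)
    exact (Subgroup.index_dvd_of_le (Subgroup.map_le_iff_le_comap.2 hAK)).trans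
      (Subgroup.index_map_dvd _ hsurj)
  intro R f hf hfR
  obtain ⟨g, hg, hgR⟩ := htgt R (hfR ▸ hf.isConj)
  obtain ⟨a, ha⟩ := exists_transfer (Q := Q) hf.le hf hg
    (by rw [hfR]; exact isMap_id normalizerIn_le) hgR (by rw [hfR, img_id])
  obtain ⟨h, hh, hhY, hha⟩ := hext a
  set W := nSub S Q (autFun (a : MulAut Q)) with hW
  have : Finite (img h Y) := finite_of_le hh.img_le_S
  have hidx : ∀ (X' : Subgroup Ω) [Finite X'], X' = Y →
      ∀ r' : stab F X' Q →* F.autGroup Q, (∀ (b : stab F X' Q), ∀ x ∈ Q,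
        autFun (r' b : MulAut Q) x = autFun ((b : F.autGroup X') : MulAut X') x) →
      ¬ p ∣ ((((autInducedBy S X').subgroupOf (F.autGroup X')).subgroupOf (stab F X' Q)) ⊓
        K.comap r').relIndex (K.comap r') := by
    intro X' _ e r' hr'
    subst e
    have : r' = r := MonoidHom.ext fun b => Subtype.ext (autFun_ext fun x hx => by
      rw [hr' b x hx, hr b x hx])
    subst this
    rw [inf_eq_left.2 hAK]
    intro hdvd
    refine hAidx (hdvd.trans ?_)
    rw [← Subgroup.relIndex_mul_index hAK]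
    exact dvd_mul_right _ _
  have hkey : ∃ θ, IsMap F (Y ⊔ W) θ ∧ ∀ x ∈ Q, θ x = h x := by
    have hfinQK : IsPGroup p K :=
      (isPGroup_autInducedBy hS).comap_of_injective _ Subtype.val_injective
    revert hhY hh
    intro hh hhY
    have hrec' : F.IsReceptive (img h Y) := hhY.symm ▸ hRec
    obtain ⟨r', hr'⟩ := exists_res (F := F) (X := img h Y) (P := Q) hh.img_le_S
      (hhY.symm ▸ hQY)
    refine exists_lift_fix hS hh hQY (by rw [img_congr hha, autFun_img]) hrec'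
      (fun x hx => ⟨hx.1, hNY ⟨hx.1, hx.2.1⟩⟩) (fun x hx => hx.2.1) K hfinQK r' hr' ?_ ?_
    · exact hidx _ hhY r' hr'
    · intro w hw
      obtain ⟨h', hh', hh'e⟩ := hw.2.2
      have hN : h' ∈ normalizerIn S Q := by
        refine ⟨hh', mem_normalizer_of_forall fun y hy => ?_⟩
        rw [← autFun_apply_inv (a : MulAut Q) y, ← hh'e _ (autFun_mem _ hy)]
        exact autFun_mem _ ((Subgroup.mem_normalizer_iff.1 hw.2.1 _).1 (autFun_mem _ hy))
      refine ⟨⟨conjAut S Q ⟨h', hN⟩, conjAut_mem_autGroup hQS _⟩,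
        Subgroup.mem_subgroupOf.2 (conjAut_range S Q ▸ ⟨_, rfl⟩), fun x hx => ?_⟩
      rw [hha x hx, hha _ ((Subgroup.mem_normalizer_iff.1 hw.2.1 x).1 hx), hh'e x hx]
      exact conjAut_apply (K := S) ⟨h', hN⟩ (autFun_mem _ hx)
  obtain ⟨θ, hθ, hθe⟩ := hkey
  have hRN : R ≤ normalizerIn S R := le_normalizerIn hf.le
  have hgW : ∀ u ∈ nSub S R f, g u ∈ W := by
    intro u hu
    have huN := nSub_le S R f hu
    refine ⟨hg.mem huN, hgR ▸ hg.mem_normalizer_img hRN huN hu.2.1, ?_⟩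
    obtain ⟨h', hh', hh'e⟩ := hu.2.2
    refine ⟨h', hh', fun y hy => ?_⟩
    rw [← hgR] at hy
    obtain ⟨x, hx, rfl⟩ := (hg.restrict hRN).mem_img.1 hy
    rw [← hg.map_conj huN (hRN hx), ha _ ((Subgroup.mem_normalizer_iff.1 hu.2.1 x).1 hx),
      ha x hx]
    exact hh'e x hx
  refine ⟨fun x => θ (g x), hθ.comp (hg.restrict (nSub_le S R f))
    fun x hx => Subgroup.mem_sup_right (hgW x hx), fun x hx => ?_⟩
  have hgx : g x ∈ Q := hgR ▸ mem_img_self g hx
  show θ (g x) = f x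
  rw [hθe _ hgx, hha _ hgx, ha x hx, id]

/-- The criterion. -/
theorem saturated_of_family (hS : IsPGroup p S)
    (hℋconj : ∀ P ∈ ℋ, ∀ Q, F.IsConj P Q → Q ∈ ℋ)
    (hsat : ∀ P ∈ ℋ, ∃ Q, F.IsConj P Q ∧ F.IsFullyAutomized p Q ∧ F.IsReceptive Q)
    (hgen : ∀ E : FusionSystem S, (∀ P ∈ ℋ, F.Hom P ⊆ E.Hom P) → F ≤ E)
    (hstar : ∀ P : Subgroup Ω, F.IsCentric P → P ∉ ℋ → ∃ Q, F.IsConj P Q ∧
      ¬ (autInducedBy S Q ⊓ (pCore p (F.autGroup Q)).map (F.autGroup Q).subtype ≤ Inn Q)) :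
    F.IsSaturated p := by
  intro P hPS
  induction hn : Nat.card S - Nat.card P using Nat.strong_induction_on generalizing P with
  | _ d ih =>
  by_cases hP : P ∈ ℋ
  · exact hsat P hP
  rcases eq_or_lt_of_le hPS with hPe | hlt
  · subst hPe
    exfalso
    have hcl : ∀ Q, F.IsConj P Q → Q = P := fun Q hQ =>
      eq_of_le_card (isConj_le hQ).2 (isConj_card hQ).ge
    have hc : F.IsCentric P := ⟨le_rfl, fun Q hQ => by rw [hcl Q hQ]; exact centralizerIn_le⟩
    obtain ⟨Q, hQ, hne⟩ := hstar P hc hP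
    rw [hcl Q hQ] at hne
    refine hne (inf_le_left.trans fun α hα => ?_)
    obtain ⟨g, hg, hge⟩ := mem_autInducedBy_iff'.1 hα
    exact mem_inn_iff.2 ⟨g, hg.1, hge⟩
  refine good_class hS hℋconj hgen hstar (n := Nat.card P) (fun R hR hlt' => ?_) hP hlt rfl
  refine ih (Nat.card S - Nat.card R) ?_ R hR rfl
  have := card_le_card hR
  omega

end Criterion

end Cfsg.Agent.Fusion.SaturationCriterion
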