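/-
The automorphisms of a centric subgroup `R` in a normal subsystem extend to `R C_S(R)` moving the
elements of `C_S(R)` inside cosets of `Z(R)`.
-/
import Mathlib
import Cfsg.Agent.Lib.Fusion.CentralizeNormal
import Cfsg.Agent.Lib.Fusion.NormalCentralizer
import Cfsg.Agent.Lib.Fusion.WeaklyNormalTop
import Cfsg.Agent.Lib.Fusion.PPrimeResidual
import Cfsg.Agent.Lib.Fusion.Hyperfocal
import Cfsg.Agent.Lib.Fusion.SaturationCriterion

set_option autoImplicit false
set_option linter.all false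

namespace Cfsg.Agent.Fusion.GoodExtension

open Cfsg Cfsg.FusionSystem Cfsg.Agent.Fusion.Basic Cfsg.Agent.Fusion.Saturation
  Cfsg.Agent.Fusion.Normal Cfsg.Agent.Fusion.Subsystems Cfsg.Agent.Fusion.CentralizeNormal

variable {Ω : Type*} [Group Ω] {S T : Subgroup Ω} {F : FusionSystem S} {D : FusionSystem T}
  {p : ℕ} {A B P Q R V W Z : Subgroup Ω}

/-! ### Generalities -/

theorem eqOn_sup {f g : Ω → Ω} (hf : IsHomOn (A ⊔ B) f) (hg : IsHomOn (A ⊔ B) g)
    (hA : ∀ x ∈ A, f x = g x) (hB : ∀ x ∈ B, f x = g x) {x : Ω} (hx : x ∈ A ⊔ B) : f x = g x := by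
  let E : Subgroup Ω :=
    { carrier := {y | y ∈ A ⊔ B ∧ f y = g y}
      one_mem' := ⟨one_mem _, by rw [hf.map_one, hg.map_one]⟩
      mul_mem' := fun {a b} ha hb =>
        ⟨mul_mem ha.1 hb.1, by rw [hf _ ha.1 _ hb.1, hg _ ha.1 _ hb.1, ha.2, hb.2]⟩
      inv_mem' := fun {a} ha =>
        ⟨InvMemClass.inv_mem ha.1, by rw [hf.map_inv ha.1, hg.map_inv ha.1, ha.2]⟩ }
  exact ((sup_le (fun y hy => ⟨Subgroup.mem_sup_left hy, hA y hy⟩)
    fun y hy => ⟨Subgroup.mem_sup_right hy, hB y hy⟩ : A ⊔ B ≤ E) hx).2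

theorem cj_isHom (P : Subgroup Ω) (u : Ω) : IsHomOn P (cj u) := fun x _ y _ => by
  simp [cj, mul_assoc]

theorem pow_agree (hWV : W ≤ V) {a : MulAut V} {d : MulAut W}
    (h : ∀ x ∈ W, autFun a x = autFun d x) :
    ∀ (n : ℕ), ∀ x ∈ W, autFun (a ^ n) x = autFun (d ^ n) x := by
  intro n
  induction n with
  | zero => intro x hx; rw [pow_zero, pow_zero, autFun_one, autFun_one]
  | succ n ih =>
    intro x hx
    rw [pow_succ', pow_succ', autFun_mul, autFun_mul, ih x hx, h _ (autFun_mem _ hx)]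

theorem exists_pow_coprime [Finite V] [Fact p.Prime] (hWV : W ≤ V) {a : MulAut V} {d : MulAut W}
    (h : ∀ x ∈ W, autFun a x = autFun d x) (hd : (orderOf d).Coprime p) :
    ∃ k : ℕ, (orderOf (a ^ k)).Coprime p ∧ ∀ x ∈ W, autFun (a ^ k) x = autFun d x := by
  obtain ⟨k, m, hdvd, hm, hk⟩ :=
    Hyperfocal.exists_exp (p := p) (n := orderOf a) (orderOf_pos a).ne' hd
  refine ⟨k, Nat.Coprime.coprime_dvd_left (orderOf_dvd_of_pow_eq_one ?_) hm, fun x hx => ?_⟩
  · rw [← pow_mul]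
    exact orderOf_dvd_iff_pow_eq_one.1 hdvd
  · rw [pow_agree hWV h k x hx]
    congr 1
    rw [← pow_mod_orderOf, hk, pow_mod_orderOf, pow_one]

/-- The automorphisms in `A` stabilizing `W` and `Z` and moving the elements of `C` by elements of
`Z`. -/
def movers {V : Subgroup Ω} [Finite V] (A : Subgroup (MulAut V)) (W Z C : Subgroup Ω) (hC : C ≤ V)
    (hZ : Z ≤ V) : Subgroup (MulAut V) :=
  let M : Submonoid (MulAut V) :=
  { carrier := {a | a ∈ A ∧ (∀ x ∈ W, autFun a x ∈ W) ∧ (∀ x ∈ Z, autFun a x ∈ Z) ∧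
      ∀ x ∈ C, x⁻¹ * autFun a x ∈ Z}
    one_mem' := ⟨one_mem _, fun x hx => by rw [autFun_one]; exact hx,
      fun x hx => by rw [autFun_one]; exact hx,
      fun x _ => by rw [autFun_one]; simp [Z.one_mem]⟩
    mul_mem' := fun {a b} => by
      rintro ⟨ha, haW, haZ, haC⟩ ⟨hb, hbW, hbZ, hbC⟩
      refine ⟨mul_mem ha hb, fun x hx => by rw [autFun_mul]; exact haW _ (hbW x hx),
        fun x hx => by rw [autFun_mul]; exact haZ _ (hbZ x hx), fun x hx => ?_⟩
      have e : autFun b x = x * (x⁻¹ * autFun b x) := (mul_inv_cancel_left _ _).symm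
      rw [autFun_mul, e, autFun_isHom a _ (hC hx) _ (hZ (hbC x hx)), ← mul_assoc]
      exact mul_mem (haC x hx) (haZ _ (hbC x hx)) }
  { M with
    inv_mem' := fun {a} ha => by
      have h1 : a⁻¹ = a ^ (orderOf a - 1) := by
        refine inv_eq_of_mul_eq_one_right ?_
        rw [← pow_succ', Nat.sub_add_cancel (orderOf_pos a), pow_orderOf_eq_one]
      rw [h1]
      exact M.pow_mem ha _ }

theorem mem_movers {V : Subgroup Ω} [Finite V] {A : Subgroup (MulAut V)} {W Z C : Subgroup Ω}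
    {hC : C ≤ V} {hZ : Z ≤ V} {a : MulAut V} :
    a ∈ movers A W Z C hC hZ ↔ a ∈ A ∧ (∀ x ∈ W, autFun a x ∈ W) ∧
      (∀ x ∈ Z, autFun a x ∈ Z) ∧ ∀ x ∈ C, x⁻¹ * autFun a x ∈ Z := Iff.rfl

theorem conjAut_inv_apply {K : Subgroup Ω}
    (g : ↥(K ⊓ Subgroup.normalizer (P : Set Ω))) {x : Ω} (hx : x ∈ P) :
    autFun (conjAut K P g)⁻¹ x = (g : Ω)⁻¹ * x * (g : Ω) := by
  rw [← map_inv, conjAut_apply _ hx, cj_apply, Subgroup.coe_inv, inv_inv]

theorem mem_of_pow_mem {y : Ω} {m n : ℕ} (h : Nat.Coprime m n) (hm : y ^ m ∈ W) (hn : y ^ n ∈ W) :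
    y ∈ W := by
  have hz := Nat.gcd_eq_gcd_ab m n
  rw [show m.gcd n = 1 from h, Nat.cast_one] at hz
  have h1 : y ^ (1 : ℤ) ∈ W := by
    rw [hz, zpow_add, zpow_mul, zpow_mul, zpow_natCast, zpow_natCast]
    exact mul_mem (zpow_mem hm _) (zpow_mem hn _)
  simpa using h1

theorem normalizer_cen {c : Ω} (hcS : c ∈ S) (hc : c ∈ Subgroup.normalizer (W : Set Ω))
    [Finite (W ⊔ centralizerIn S W : Subgroup Ω)] :
    c ∈ Subgroup.normalizer ((W ⊔ centralizerIn S W : Subgroup Ω) : Set Ω) := by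
  refine mem_normalizer_of_forall fun x hx => ?_
  have hle : W ⊔ centralizerIn S W ≤
      (W ⊔ centralizerIn S W).comap (MulAut.conj c).toMonoidHom := by
    refine sup_le (fun y hy => Subgroup.mem_sup_left ((Subgroup.mem_normalizer_iff.1 hc y).1 hy))
      fun y hy => Subgroup.mem_sup_right ⟨?_, fun w hw => ?_⟩
    · exact S.mul_mem (S.mul_mem hcS hy.1) (S.inv_mem hcS)
    · have h1 : c⁻¹ * w * c ∈ W :=
        (Subgroup.mem_normalizer_iff'.1 hc _).2 (by simpa [mul_assoc] using hw)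
      have h2 : c⁻¹ * w * c * y = y * (c⁻¹ * w * c) := hy.2 _ h1
      show w * (c * y * c⁻¹) = c * y * c⁻¹ * w
      calc w * (c * y * c⁻¹) = c * (c⁻¹ * w * c * y) * c⁻¹ := by group
        _ = c * (y * (c⁻¹ * w * c)) * c⁻¹ := by rw [h2]
        _ = c * y * c⁻¹ * w := by group
  exact hle hx

theorem ctr_conj {c z : Ω} (hc : c ∈ Subgroup.normalizer (W : Set Ω)) (hz : z ∈ ctr W) :
    c * z * c⁻¹ ∈ ctr W := by
  refine ⟨(Subgroup.mem_normalizer_iff.1 hc z).1 hz.1, fun w hw => ?_⟩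
  have h1 : c⁻¹ * w * c ∈ W :=
    (Subgroup.mem_normalizer_iff'.1 hc _).2 (by simpa [mul_assoc] using hw)
  have h2 : c⁻¹ * w * c * z = z * (c⁻¹ * w * c) := hz.2 _ h1
  calc w * (c * z * c⁻¹) = c * (c⁻¹ * w * c * z) * c⁻¹ := by group
    _ = c * (z * (c⁻¹ * w * c)) * c⁻¹ := by rw [h2]
    _ = c * z * c⁻¹ * w := by group

variable [Finite S] [Fact p.Prime]

omit [Fact p.Prime] in
theorem centric_conj_invariant (hD : D.IsInvariantIn F) (hR : D.IsCentric R) (h : F.IsConj R P) :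
    D.IsCentric P := by
  obtain ⟨f, hf, rfl⟩ := isConj_iff_map.1 h
  obtain ⟨α, hα, f₀, hf₀, he⟩ := invariant_frattini hD hR.1 hf
  have : Finite T := finite_of_le (A := T) (B := S) (subsystem_le hD.1)
  have hTS : T ≤ S := subsystem_le hD.1
  have hαm := isMap_of_mem_autGroup hTS hα
  have hPT : img f R ≤ T :=
    img_le fun x hx => by rw [he x hx]; exact autFun_mem _ (hf₀.mem hx)
  refine ⟨hPT, fun Q hQ => ?_⟩
  obtain ⟨g, hg, rfl⟩ := isConj_iff_map.1 hQ
  obtain ⟨g', hg', hg'e⟩ := invariant_transport hD hPT hg (Subgroup.inv_mem _ hα)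
  have himg : img (autFun α⁻¹) (img f R) = img f₀ R := by
    rw [hf.img_img]
    exact img_congr fun x hx => by rw [he x hx, autFun_inv_apply]
  rw [himg] at hg'
  rintro u ⟨huT, huC⟩
  have hu : autFun α⁻¹ u ∈ img g' (img f₀ R) := by
    refine hR.2 _ (isConj_trans hf₀.isConj hg'.isConj) ⟨autFun_mem _ huT, fun y hy => ?_⟩
    obtain ⟨x, hx, rfl⟩ := hg'.mem_img.1 hy
    obtain ⟨r, hr, rfl⟩ := hf₀.mem_img.1 hx
    have hfr := mem_img_self f hr
    have e1 : f₀ r = autFun α⁻¹ (f r) := by rw [he r hr, autFun_inv_apply]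
    rw [e1, hg'e _ hfr]
    have h1 : g (f r) * u = u * g (f r) := huC _ (mem_img_self g hfr)
    have h2 := congrArg (autFun α⁻¹) h1
    rwa [autFun_isHom α⁻¹ _ (hg.mem hfr) _ huT, autFun_isHom α⁻¹ _ huT _ (hg.mem hfr)] at h2
  obtain ⟨x, hx, hxe⟩ := hg'.mem_img.1 hu
  obtain ⟨r, hr, rfl⟩ := hf₀.mem_img.1 hx
  have hfr := mem_img_self f hr
  rw [show f₀ r = autFun α⁻¹ (f r) by rw [he r hr, autFun_inv_apply], hg'e _ hfr] at hxe
  have h3 := congrArg (autFun α) hxe
  rw [autFun_apply_inv, autFun_apply_inv] at h3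
  rw [← h3]
  exact mem_img_self g hfr

omit [Fact p.Prime] in
theorem hcen_of_centric (hD : D.IsInvariantIn F) (hR : D.IsCentric R) :
    ∀ R', F.IsConj R R' → centralizerIn T R' ≤ R' := fun R' h =>
  (centric_conj_invariant hD hR h).2 R' (isConj_refl (centric_conj_invariant hD hR h).1)

/-- An automorphism of `p`-power order of `W C_S(W)` fixing `W` is induced by `C_S(W)`. -/
theorem exists_inner_of_fix (hS : IsPGroup p S) (hF : F.IsSaturated p)
    (hW : F.IsFullyCentralized W) {a : MulAut (W ⊔ centralizerIn S W : Subgroup Ω)}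
    (ha : a ∈ F.autGroup (W ⊔ centralizerIn S W)) (hfix : ∀ x ∈ W, autFun a x = x)
    (hp : ∃ k, a ^ p ^ k = 1) :
    ∃ u ∈ centralizerIn S W, ∀ x ∈ W ⊔ centralizerIn S W, autFun a x = u * x * u⁻¹ := by
  obtain ⟨C, hC⟩ := KNormalizer.exists_centralizerSystem (F := F) hW.1
  have hCs := KNormalizer.centralizerSystem_saturated hS hF hW hC
  have hfin : Finite (centralizerIn S W) := finite_of_le centralizerIn_le
  have hC0p : IsPGroup p (centralizerIn S W) := hS.to_le centralizerIn_le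
  have hV : W ⊔ centralizerIn S W ≤ S := sup_le hW.1 centralizerIn_le
  have hm := isMap_of_mem_autGroup hV ha
  have hmaps : ∀ x ∈ centralizerIn S W, autFun a x ∈ centralizerIn S W := by
    intro x hx
    have h := hm.mem_centralizer_img le_sup_left (Subgroup.mem_sup_right hx) hx.2
    rw [img_congr (g := id) hfix, img_id] at h
    exact ⟨hm.mem (Subgroup.mem_sup_right hx), h⟩
  have hmC : IsMap C (centralizerIn S W) (autFun a) :=
    (NormalCentralizer.isMap_cent_iff hC).2 ⟨le_rfl, hmaps, autFun a, by rwa [sup_comm],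
      fun _ _ => rfl, hfix⟩
  obtain ⟨b, hb, hbe⟩ := hmC.exists_aut (eq_of_le_card (img_le hmaps) hmC.card_img.ge)
  have hn : C.IsFullyNormalized (centralizerIn S W) :=
    ⟨le_rfl, fun Q hQ => le_of_eq (by rw [Alperin.eq_top_of_card le_rfl hQ rfl])⟩
  obtain ⟨P₀, hP₀⟩ := (fullyNormalized_fullyAutomized hC0p hCs hn).2
  obtain ⟨k, hk⟩ := hp
  have hbp : IsPGroup p (Subgroup.zpowers (⟨b, hb⟩ : C.autGroup (centralizerIn S W))) := by
    have h1 : (⟨b, hb⟩ : C.autGroup (centralizerIn S W)) ^ p ^ k = 1 := by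
      refine Subtype.ext (autFun_ext fun x hx => ?_)
      rw [Subgroup.coe_pow, Subgroup.coe_one,
        ← pow_agree (le_sup_right : centralizerIn S W ≤ W ⊔ centralizerIn S W)
          (a := a) (d := b) (fun y hy => (hbe y hy).symm) _ x hx, hk, autFun_one, autFun_one]
    exact IsPGroup.of_card_dvd_pow (n := k) (by
      rw [Nat.card_zpowers]; exact orderOf_dvd_of_pow_eq_one h1)
  obtain ⟨c, hc⟩ := exists_conj_le_sylow P₀ hbp
  have h2 := hc _ (Subgroup.mem_zpowers _)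
  rw [hP₀, Subgroup.mem_subgroupOf] at h2
  obtain ⟨u₀, hu₀, hu₀e⟩ := mem_autInducedBy_iff'.1 h2
  have hinn : c * (⟨b, hb⟩ : C.autGroup (centralizerIn S W)) * c⁻¹ ∈
      (Inn (centralizerIn S W)).subgroupOf (C.autGroup (centralizerIn S W)) :=
    Subgroup.mem_subgroupOf.2 (mem_inn_iff.2 ⟨u₀, hu₀.1, hu₀e⟩)
  have hinnN := Alperin.inn_normal C (centralizerIn S W)
  have h3 := hinnN.conj_mem _ hinn c⁻¹
  simp only [inv_inv, mul_assoc, inv_mul_cancel_left, inv_mul_cancel, mul_one] at h3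
  obtain ⟨u, hu, hue⟩ := mem_inn_iff.1 (Subgroup.mem_subgroupOf.1 h3)
  refine ⟨u, hu, fun x hx => eqOn_sup (autFun_isHom a) (cj_isHom _ u) (fun y hy => ?_)
    (fun y hy => ?_) hx⟩
  · rw [hfix y hy, cj_apply, eq_mul_inv_iff_mul_eq]
    exact hu.2 y hy
  · rw [← hbe y hy]
    exact hue y hy

/-- The case of an automorphism of order prime to `p` of the fully normalized image of `N_T(R)`. -/
theorem ext_coprime_at (hS : IsPGroup p S) (hF : F.IsSaturated p) (hD : D.IsNormalIn F p)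
    (hR : D.IsCentric R) (hRW : R ≤ W) (hWT : W ≤ T)
    (hWR : W ≤ Subgroup.normalizer (R : Set Ω)) (hWn : F.IsFullyNormalized W) {d : MulAut W}
    (hd : d ∈ D.autGroup W) (hdR : ∀ x ∈ R, autFun d x ∈ R) (hdo : (orderOf d).Coprime p)
    (hext : Extends F (centralizerIn S W) W d) {C : Subgroup Ω} (hC : C ≤ centralizerIn S R)
    (hCW : C ≤ Subgroup.normalizer (W : Set Ω)) :
    ∃ h, IsMap F (R ⊔ C) h ∧ (∀ x ∈ R, h x = autFun d x) ∧ ∀ x ∈ C, x⁻¹ * h x ∈ ctr R := by
  have hinv : D.IsInvariantIn F := hD.1.2.2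
  have hTS : T ≤ S := hinv.2.1.1
  have hfinT : Finite T := finite_of_le hTS
  have hWS : W ≤ S := hWT.trans hTS
  have hRS : R ≤ S := hRW.trans hWS
  set V := W ⊔ centralizerIn S W with hVdef
  have hWV : W ≤ V := le_sup_left
  have hVS : V ≤ S := sup_le hWS centralizerIn_le
  have hfinV : Finite V := finite_of_le hVS
  have hfinW : Finite W := finite_of_le hWS
  have hfinR : Finite R := finite_of_le hRS
  have hdstab : ∀ r ∈ R, autFun d⁻¹ r ∈ R := by
    intro r hr
    have himg : img (autFun d) R = R := eq_of_le_card (img_le hdR)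
      ((isMap_of_mem_autGroup hWT hd).restrict hRW).card_img.ge
    obtain ⟨r₀, hr₀, hr₀e⟩ :=
      ((isMap_of_mem_autGroup hWT hd).restrict hRW).mem_img.1 (himg.ge hr)
    rw [← hr₀e, autFun_inv_apply]
    exact hr₀
  obtain ⟨h, hh, hhW, hhC⟩ := hext
  obtain ⟨D₀, hD₀, hD₀e⟩ := hh.exists_aut
    (eq_of_le_card (extends_mem hh hhW hhC) hh.card_img.ge)
  have hCSV : centralizerIn S W ≤ V := le_sup_right
  have hZV : ctr W ≤ V := inf_le_left.trans hWV
  set MV := movers (F.autGroup V) W (ctr W) (centralizerIn S W) hCSV hZV with hMV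
  have hD₀W : ∀ x ∈ W, autFun D₀ x = autFun d x := fun x hx => by
    rw [hD₀e x (hWV hx), hhW x hx]
  have hD₀M : D₀ ∈ MV := mem_movers.2 ⟨hD₀,
    fun x hx => by rw [hD₀W x hx]; exact autFun_mem _ hx,
    fun x hx => by rw [hD₀W x hx.1]; exact autFun_ctr hx,
    fun x hx => by rw [hD₀e x (hCSV hx)]; exact hhC x hx⟩
  obtain ⟨k, hkc, hkW⟩ := exists_pow_coprime hWV hD₀W hdo
  set D' := D₀ ^ k with hD'
  have hD'M : D' ∈ MV := Subgroup.pow_mem _ hD₀M k
  obtain ⟨hD'A, -, -, hD'C⟩ := mem_movers.1 hD'M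
  have hWC := hWn
  have hWfc : F.IsFullyCentralized W := fullyNormalized_fullyCentralized hS hF hWn
  have hVc : F.IsCentric V := PPrimeResidual.cen_centric hS hF hWfc
  have hVp : IsPGroup p V := hS.to_le hVS
  -- the commutators with the elements of `C`
  have key : ∀ c ∈ C, ∃ v, v ∈ S ∧ c⁻¹ * v ∈ V ∧
      ∀ y ∈ V, autFun D' (c * y * c⁻¹) = v * autFun D' y * v⁻¹ := by
    intro c hc
    have hcS : c ∈ S := (hC hc).1
    have hcR : ∀ r ∈ R, c * r * c⁻¹ = r := fun r hr => by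
      rw [mul_inv_eq_iff_eq_mul]; exact ((hC hc).2 r hr).symm
    have hcR' : ∀ r ∈ R, c⁻¹ * r * c = r := fun r hr => by
      rw [mul_assoc, (hC hc).2 r hr, inv_mul_cancel_left]
    have hcW : c ∈ normalizerIn S W := ⟨hcS, hCW hc⟩
    have hcV : c ∈ normalizerIn S V := ⟨hcS, normalizer_cen hcS (hCW hc)⟩
    set cV := conjAut S V ⟨c, hcV⟩ with hcVd
    set cW := conjAut S W ⟨c, hcW⟩ with hcWd
    have hcWA : cW ∈ F.autGroup W := SaturationCriterion.conjAut_mem_autGroup hWS _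
    have hcVA : cV ∈ F.autGroup V := SaturationCriterion.conjAut_mem_autGroup hVS _
    -- on `W`
    have hω : d * (cW * d⁻¹ * cW⁻¹) ∈ D.autGroup W := by
      refine mul_mem hd ?_
      have hn := WeaklyNormalTop.autGroup_normal hinv hWT
      have hdF : d⁻¹ ∈ F.autGroup W := Subgroup.inv_mem _ ((mem_autGroup_iff hWS).2
        (isMap_of_subset hinv.1 (isMap_of_mem_autGroup hWT hd)))
      exact Subgroup.mem_subgroupOf.1 (hn.conj_mem ⟨d⁻¹, hdF⟩
        (Subgroup.mem_subgroupOf.2 (Subgroup.inv_mem _ hd)) ⟨cW, hcWA⟩)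
    have hωfix : ∀ r ∈ R, autFun (d * (cW * d⁻¹ * cW⁻¹)) r = r := by
      intro r hr
      rw [autFun_mul, autFun_mul, autFun_mul, hcWd, conjAut_inv_apply _ (hRW hr),
        show ((⟨c, hcW⟩ : normalizerIn S W) : Ω) = c from rfl, hcR' r hr,
        conjAut_apply (K := S) ⟨c, hcW⟩ (autFun_mem _ (hRW hr))]
      show autFun d (c * autFun d⁻¹ r * c⁻¹) = r
      rw [hcR _ (hdstab r hr), autFun_apply_inv]
    have hωm := isMap_of_mem_autGroup hWT hω
    obtain ⟨z, hz, -, hze⟩ := CentricExt.aut_fix_centric (hS.to_le hTS) hD.1.1 hR hRW hWT hWR hωm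
      (autFun_img _) hωfix
    have hzW : z ∈ W := hRW hz
    have hzV : z ∈ normalizerIn S V := ⟨hWS hzW, Subgroup.le_normalizer (hWV hzW)⟩
    set zV := conjAut S V ⟨z, hzV⟩ with hzVd
    set a₀ := zV⁻¹ * (D' * (cV * D'⁻¹ * cV⁻¹)) with ha₀
    have hzM : zV ∈ MV := by
      refine mem_movers.2 ⟨SaturationCriterion.conjAut_mem_autGroup hVS _, fun x hx => ?_,
        fun x hx => ?_, fun x hx => ?_⟩
      · rw [hzVd, conjAut_apply (K := S) ⟨z, hzV⟩ (hWV hx)]
        exact mul_mem (mul_mem hzW hx) (InvMemClass.inv_mem hzW)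
      · rw [hzVd, conjAut_apply (K := S) ⟨z, hzV⟩ (hZV hx)]
        exact ctr_conj (Subgroup.le_normalizer hzW) hx
      · rw [hzVd, conjAut_apply (K := S) ⟨z, hzV⟩ (hCSV hx), cj_apply]
        show x⁻¹ * (z * x * z⁻¹) ∈ ctr W
        rw [hx.2 z hzW, mul_inv_cancel_right, inv_mul_cancel]
        exact one_mem _
    have hconjM : ∀ a ∈ MV, cV * a * cV⁻¹ ∈ MV := by
      intro a ha
      obtain ⟨haA, haW, haZ, haC⟩ := mem_movers.1 ha
      have hcN : c ∈ Subgroup.normalizer (W : Set Ω) := hCW hc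
      have happ : ∀ x ∈ V, autFun (cV * a * cV⁻¹) x = c * autFun a (c⁻¹ * x * c) * c⁻¹ := by
        intro x hx
        have h1 : autFun cV⁻¹ x = c⁻¹ * x * c := conjAut_inv_apply ⟨c, hcV⟩ hx
        rw [autFun_mul, autFun_mul, h1, hcVd,
          conjAut_apply (K := S) ⟨c, hcV⟩ (autFun_mem _ (h1 ▸ autFun_mem _ hx))]
        rfl
      have hback : ∀ x ∈ W, c⁻¹ * x * c ∈ W := fun x hx =>
        (Subgroup.mem_normalizer_iff'.1 hcN _).2 (by simpa [mul_assoc] using hx)
      refine mem_movers.2 ⟨mul_mem (mul_mem hcVA haA) (InvMemClass.inv_mem hcVA), fun x hx => ?_,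
        fun x hx => ?_, fun x hx => ?_⟩
      · rw [happ x (hWV hx)]
        exact (Subgroup.mem_normalizer_iff.1 hcN _).1 (haW _ (hback x hx))
      · rw [happ x (hZV hx)]
        refine ctr_conj hcN (haZ _ ?_)
        simpa using ctr_conj (Subgroup.inv_mem _ hcN) hx
      · rw [happ x (hCSV hx)]
        have hy : c⁻¹ * x * c ∈ centralizerIn S W := by
          refine ⟨S.mul_mem (S.mul_mem (S.inv_mem hcS) hx.1) hcS, fun w hw => ?_⟩
          have h1 : c * w * c⁻¹ ∈ W := (Subgroup.mem_normalizer_iff.1 hcN w).1 hw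
          calc w * (c⁻¹ * x * c) = c⁻¹ * ((c * w * c⁻¹) * x) * c := by group
            _ = c⁻¹ * (x * (c * w * c⁻¹)) * c := by rw [hx.2 _ h1]
            _ = c⁻¹ * x * c * w := by group
        have h2 := ctr_conj hcN (haC _ hy)
        have h3 : x⁻¹ * (c * autFun a (c⁻¹ * x * c) * c⁻¹) =
            c * ((c⁻¹ * x * c)⁻¹ * autFun a (c⁻¹ * x * c)) * c⁻¹ := by group
        rw [h3]
        exact h2
    have ha₀M : a₀ ∈ MV :=
      mul_mem (InvMemClass.inv_mem hzM) (mul_mem hD'M (hconjM _ (InvMemClass.inv_mem hD'M)))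
    have ha₀fix : ∀ x ∈ W, autFun a₀ x = x := by
      intro x hx
      have h1 : autFun (D' * (cV * D'⁻¹ * cV⁻¹)) x = z * x * z⁻¹ := by
        rw [← hze x hx]
        have e1 : autFun cV⁻¹ x = autFun cW⁻¹ x := by
          rw [hcVd, hcWd, conjAut_inv_apply ⟨c, hcV⟩ (hWV hx), conjAut_inv_apply ⟨c, hcW⟩ hx]
        have hw : autFun cW⁻¹ x ∈ W := autFun_mem _ hx
        have e2 : autFun D'⁻¹ (autFun cW⁻¹ x) = autFun d⁻¹ (autFun cW⁻¹ x) := by
          conv_lhs => rw [← autFun_apply_inv d (autFun cW⁻¹ x), ← hkW _ (autFun_mem _ hw)]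
          rw [autFun_inv_apply]
        have hw' : autFun d⁻¹ (autFun cW⁻¹ x) ∈ W := autFun_mem _ hw
        have e3 : autFun cV (autFun d⁻¹ (autFun cW⁻¹ x)) =
            autFun cW (autFun d⁻¹ (autFun cW⁻¹ x)) := by
          rw [hcVd, hcWd, conjAut_apply (K := S) ⟨c, hcV⟩ (hWV hw'),
            conjAut_apply (K := S) ⟨c, hcW⟩ hw']
        simp only [autFun_mul, e1, e2, e3]
        exact hkW _ (autFun_mem _ hw')
      rw [ha₀, autFun_mul, h1, hzVd, conjAut_inv_apply ⟨z, hzV⟩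
        (mul_mem (mul_mem (hWV hzW) (hWV hx)) (InvMemClass.inv_mem (hWV hzW)))]
      show z⁻¹ * (z * x * z⁻¹) * z = x
      group
    obtain ⟨ha₀A, -, -, ha₀C⟩ := mem_movers.1 ha₀M
    have ha₀p : ∃ k, a₀ ^ p ^ k = 1 := by
      obtain ⟨e, he⟩ := IsPGroup.iff_card.1 hVp
      have hpow : ∀ n : ℕ, ∀ x ∈ centralizerIn S W,
          autFun (a₀ ^ n) x = x * (x⁻¹ * autFun a₀ x) ^ n := by
        intro n
        induction n with
        | zero => intro x _; rw [pow_zero, autFun_one, pow_zero, mul_one]; rfl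
        | succ n ih =>
          intro x hx
          have hζ := ha₀C x hx
          rw [pow_succ', autFun_mul, ih x hx, autFun_isHom a₀ _ (hCSV hx) _
            (pow_mem (hZV hζ) n), ha₀fix _ (pow_mem hζ.1 n), pow_succ', ← mul_assoc x,
            mul_inv_cancel_left]
      refine ⟨e, autFun_ext fun x hx => ?_⟩
      rw [autFun_one]
      refine eqOn_sup (autFun_isHom _) (fun _ _ _ _ => rfl) (fun y hy => ?_) (fun y hy => ?_) hx
      · rw [pow_agree hWV (a := a₀) (d := 1) (fun u hu => by rw [ha₀fix u hu, autFun_one]; rfl) _ y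
          hy, one_pow, autFun_one]
      · rw [hpow _ y hy, ← he]
        have hv : y⁻¹ * autFun a₀ y ∈ V :=
          mul_mem (InvMemClass.inv_mem (hCSV hy)) (autFun_mem _ (hCSV hy))
        have h1 : (⟨_, hv⟩ : V) ^ Nat.card V = 1 := pow_card_eq_one'
        have h2 : (y⁻¹ * autFun a₀ y) ^ Nat.card V = 1 := congrArg Subtype.val h1
        rw [h2, mul_one]
        rfl
    obtain ⟨u, hu, hue⟩ := exists_inner_of_fix hS hF hWfc ha₀A ha₀fix ha₀p
    refine ⟨z * u * c, mul_mem (mul_mem (hWS hzW) hu.1) hcS, ?_, fun y hy => ?_⟩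
    · have h1 : c⁻¹ * (z * u) * c ∈ V :=
        (Subgroup.mem_normalizer_iff'.1 hcV.2 _).2 (by
          simpa [mul_assoc] using mul_mem (hWV hzW) (hCSV hu))
      simpa [mul_assoc] using h1
    · have hD'y : autFun D' y ∈ V := autFun_mem _ hy
      have hx : c * autFun D' y * c⁻¹ ∈ V := (Subgroup.mem_normalizer_iff.1 hcV.2 _).1 hD'y
      have h1 := hue _ hx
      have e4 : autFun a₀ (c * autFun D' y * c⁻¹) =
          z⁻¹ * autFun D' (c * y * c⁻¹) * z := by
        rw [ha₀, autFun_mul, autFun_mul, autFun_mul, autFun_mul]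
        have e5 : autFun cV⁻¹ (c * autFun D' y * c⁻¹) = autFun D' y := by
          rw [hcVd, conjAut_inv_apply ⟨c, hcV⟩ hx]
          show c⁻¹ * (c * autFun D' y * c⁻¹) * c = _
          group
        rw [e5, autFun_inv_apply, hcVd, conjAut_apply (K := S) ⟨c, hcV⟩ hy, hzVd]
        exact conjAut_inv_apply (K := S) ⟨z, hzV⟩
          (autFun_mem _ ((Subgroup.mem_normalizer_iff.1 hcV.2 _).1 hy))
      rw [e4] at h1
      calc autFun D' (c * y * c⁻¹) = z * (z⁻¹ * autFun D' (c * y * c⁻¹) * z) * z⁻¹ := by group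
        _ = z * (u * (c * autFun D' y * c⁻¹) * u⁻¹) * z⁻¹ := by rw [h1]
        _ = _ := by group
  -- extend to `V C`
  have hVC : C ≤ Subgroup.normalizer (V : Set Ω) := fun c hc =>
    normalizer_cen (hC hc).1 (hCW hc)
  have hD'm := isMap_of_mem_autGroup hVS hD'A
  obtain ⟨θ, hθ, hθe⟩ := exists_extension hS hF hD'm
    (by rw [autFun_img]; exact centric_fullyCentralized hVc)
  set M := V ⊔ C with hM
  have hMS : M ≤ S := sup_le hVS (hC.trans centralizerIn_le)
  have hle : M ≤ nSub S V (autFun D') := by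
    refine sup_le (le_nSub hD'm) fun c hc => ?_
    obtain ⟨v, hv, -, hve⟩ := key c hc
    exact ⟨(hC hc).1, hVC hc, v, hv, hve⟩
  have hθ' := hθ.restrict hle
  have hθC : ∀ c ∈ C, c⁻¹ * θ c ∈ V := by
    intro c hc
    obtain ⟨v, hv, hvV, hve⟩ := key c hc
    have h1 : v⁻¹ * θ c ∈ centralizerIn S V := by
      refine ⟨S.mul_mem (S.inv_mem hv) (hθ'.mem (Subgroup.mem_sup_right hc)), fun x hx => ?_⟩
      obtain ⟨y, hy, rfl⟩ := hD'm.mem_img.1 ((autFun_img D').ge hx)
      have hcy : c * y * c⁻¹ ∈ V := (Subgroup.mem_normalizer_iff.1 (hVC hc) y).1 hy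
      have h2 := hve y hy
      rw [← hθe _ hcy, hθ'.map_conj (Subgroup.mem_sup_right hc) (Subgroup.mem_sup_left hy),
        hθe y hy] at h2
      calc autFun D' y * (v⁻¹ * θ c) = v⁻¹ * (v * autFun D' y * v⁻¹) * θ c := by group
        _ = v⁻¹ * (θ c * autFun D' y * (θ c)⁻¹) * θ c := by rw [h2]
        _ = v⁻¹ * θ c * autFun D' y := by group
    have h3 := mul_mem hvV (centric_centralizerIn_le hVc h1)
    simpa [mul_assoc] using h3
  have hfinM : Finite M := finite_of_le hMS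
  have hθM : img θ M = M := by
    refine eq_of_le_card ?_ hθ'.card_img.ge
    rw [hθ'.img_sup]
    refine sup_le ((img_le fun x hx => ?_).trans le_sup_left) (img_le fun c hc => ?_)
    · rw [hθe x hx]; exact autFun_mem _ hx
    · have := mul_mem (Subgroup.mem_sup_right hc : c ∈ M)
        (Subgroup.mem_sup_left (hθC c hc) : c⁻¹ * θ c ∈ M)
      simpa using this
  obtain ⟨D₂, hD₂, hD₂e⟩ := hθ'.exists_aut hθM
  have hVM : V ≤ M := le_sup_left
  have hCM : C ≤ M := le_sup_right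
  have hD₂V : ∀ x ∈ V, autFun D₂ x = autFun D' x := fun x hx => by
    rw [hD₂e x (hVM hx), hθe x hx]
  set MM := movers (F.autGroup M) V V C hCM hVM with hMM
  have hD₂M : D₂ ∈ MM := mem_movers.2 ⟨hD₂, fun x hx => by rw [hD₂V x hx]; exact autFun_mem _ hx,
    fun x hx => by rw [hD₂V x hx]; exact autFun_mem _ hx,
    fun x hx => by rw [hD₂e x (hCM hx)]; exact hθC x hx⟩
  obtain ⟨k', hk'c, hk'V⟩ := exists_pow_coprime hVM hD₂V hkc
  set D₃ := D₂ ^ k' with hD₃
  obtain ⟨hD₃A, -, -, hD₃C⟩ := mem_movers.1 (show D₃ ∈ MM from Subgroup.pow_mem _ hD₂M k')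
  have hD₃W : ∀ x ∈ W, autFun D₃ x = autFun d x := fun x hx => by
    rw [hk'V x (hWV hx), hkW x hx]
  -- the action on `V` is trivial modulo `W` on `C_S(W)`
  have hmod : ∀ x ∈ centralizerIn S W, x⁻¹ * autFun D₃ x ∈ W := fun x hx => by
    rw [hk'V x (hCSV hx)]
    exact (hD'C x hx).1
  have hyW : ∀ c ∈ C, c⁻¹ * autFun D₃ c ∈ W := by
    intro c hc
    set y := c⁻¹ * autFun D₃ c with hy
    have hyV : y ∈ V := hD₃C c hc
    have hnorm : ∀ x ∈ V, ∀ w ∈ W, x⁻¹ * w * x ∈ W := by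
      intro x hx w hw
      have hxN : x ∈ Subgroup.normalizer (W : Set Ω) :=
        (sup_le Subgroup.le_normalizer
          (fun s hs => Subgroup.centralizer_le_normalizer _ hs.2) : V ≤ _) hx
      exact (Subgroup.mem_normalizer_iff'.1 hxN _).2 (by simpa [mul_assoc] using hw)
    let K : Subgroup Ω :=
      { carrier := {x | x ∈ V ∧ x⁻¹ * autFun D₃ x ∈ W}
        one_mem' := ⟨one_mem _, by
          rw [inv_one, one_mul, (autFun_isHom D₃).map_one]; exact one_mem _⟩
        mul_mem' := fun {a b} ha hb => ⟨mul_mem ha.1 hb.1, by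
          rw [autFun_isHom D₃ _ (hVM ha.1) _ (hVM hb.1)]
          have h1 := mul_mem (hnorm b hb.1 _ ha.2) hb.2
          simpa [mul_assoc] using h1⟩
        inv_mem' := fun {a} ha => ⟨InvMemClass.inv_mem ha.1, by
          rw [(autFun_isHom D₃).map_inv (hVM ha.1)]
          have h1 := hnorm a⁻¹ (InvMemClass.inv_mem ha.1) _ (InvMemClass.inv_mem ha.2)
          simpa [mul_assoc] using h1⟩ }
    have hVmod : ∀ x ∈ V, x⁻¹ * autFun D₃ x ∈ W := fun x hx =>
      ((sup_le (fun w hw => ⟨hWV hw, mul_mem (InvMemClass.inv_mem hw) (hD₃W w hw ▸ autFun_mem _ hw)⟩)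
        fun s hs => ⟨hCSV hs, hmod s hs⟩ : V ≤ K) hx).2
    have hpow : ∀ n : ℕ, (c * y ^ n)⁻¹ * autFun (D₃ ^ n) c ∈ W := by
      intro n
      induction n with
      | zero => rw [pow_zero, pow_zero, autFun_one]; simp [W.one_mem]
      | succ n ih =>
        have hD3n : autFun (D₃ ^ n) c = c * (y ^ n * ((c * y ^ n)⁻¹ * autFun (D₃ ^ n) c)) := by
          group
        set x := y ^ n * ((c * y ^ n)⁻¹ * autFun (D₃ ^ n) c) with hx
        have hxV : x ∈ V := mul_mem (pow_mem hyV n) (hWV ih)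
        have h1 : autFun (D₃ ^ (n + 1)) c = c * y * (x * (x⁻¹ * autFun D₃ x)) := by
          rw [pow_succ', autFun_mul, hD3n, autFun_isHom D₃ _ (hCM hc) _ (hVM hxV)]
          rw [hy, mul_inv_cancel_left, mul_inv_cancel_left]
        rw [h1, pow_succ']
        have h2 := mul_mem ih (hVmod x hxV)
        rw [hx] at h2 ⊢
        simpa [mul_assoc] using h2
    have h1 := hpow (orderOf D₃)
    rw [pow_orderOf_eq_one, autFun_one, id, mul_inv_rev, inv_mul_cancel_right] at h1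
    obtain ⟨k, hk⟩ := hVp ⟨y, hyV⟩
    refine mem_of_pow_mem (m := orderOf D₃) (n := p ^ k) (Nat.Coprime.pow_right k hk'c) ?_ ?_
    · exact inv_mem_iff.1 h1
    · have h2 : y ^ p ^ k = 1 := congrArg Subtype.val hk
      rw [h2]
      exact one_mem _
  have hRM : R ≤ M := hRW.trans (hWV.trans hVM)
  have hD₃m := isMap_of_mem_autGroup hMS hD₃A
  have hD₃R : img (autFun D₃) R = R := by
    refine eq_of_le_card (img_le fun x hx => ?_) (hD₃m.restrict hRM).card_img.ge
    rw [hD₃W x (hRW hx)]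
    exact hdR x hx
  refine ⟨autFun D₃, hD₃m.restrict (sup_le hRM hCM), fun x hx => hD₃W x (hRW hx), fun c hc => ?_⟩
  set y := c⁻¹ * autFun D₃ c with hy
  have hcent : y ∈ Subgroup.centralizer (R : Set Ω) := by
    refine mul_mem (InvMemClass.inv_mem (hC hc).2) ?_
    have h := hD₃m.mem_centralizer_img hRM (hCM hc) (hC hc).2
    rwa [hD₃R] at h
  exact ⟨hR.2 R (isConj_refl hR.1) ⟨hWT (hyW c hc), hcent⟩, hcent⟩

/-- An automorphism of `R` of order prime to `p` extending to `N_T(R)`. -/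
theorem extends_of_coprime (hS : IsPGroup p S) (hF : F.IsSaturated p) (hD : D.IsNormalIn F p)
    (hR : D.IsCentric R) (hlt : R < T)
    (ih : ∀ W, D.IsCentric W → D.IsFullyNormalized W → Nat.card R < Nat.card W →
      ∀ d ∈ D.autGroup W, Extends F (centralizerIn S W) W d)
    {b : MulAut R} (hbo : (orderOf b).Coprime p) {g : Ω → Ω}
    (hg : IsMap D (normalizerIn T R) g) (hge : ∀ x ∈ R, g x = autFun b x) :
    Extends F (centralizerIn S R) R b := by
  have hinv : D.IsInvariantIn F := hD.1.2.2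
  have hT : F.StronglyClosed T := hinv.2.1
  have hfinT : Finite T := finite_of_le hT.1
  have hTp : IsPGroup p T := hS.to_le hT.1
  have hRT : R ≤ T := hlt.le
  have hRS : R ≤ S := hRT.trans hT.1
  set W := normalizerIn T R with hWdef
  have hWT : W ≤ T := normalizerIn_le
  have hWS : W ≤ S := hWT.trans hT.1
  have hRW : R ≤ W := le_normalizerIn hRT
  have hfinW : Finite W := finite_of_le hWS
  have hgR : img g R = R := by rw [img_congr hge, autFun_img]
  have hgW : img g W = W := by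
    have h := hg.img_normalizerIn_le hRW (le_refl W)
    rw [hgR] at h
    exact eq_of_le_card h hg.card_img.ge
  obtain ⟨d₀, hd₀, hd₀e⟩ := hg.exists_aut hgW
  obtain ⟨k, hkc, hkR⟩ := exists_pow_coprime (V := W) hRW
    (fun x hx => by rw [hd₀e x (hRW hx), hge x hx]) hbo
  have hd : d₀ ^ k ∈ D.autGroup W := Subgroup.pow_mem _ hd₀ k
  obtain ⟨W₀, hWW₀, hW₀n⟩ := exists_fullyNormalized (F := F) hWS
  obtain ⟨g₁, hg₁, hg₁W⟩ := exists_map_to_fullyNormalized hS hF hW₀n hWW₀
  subst hg₁W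
  have hCN : centralizerIn S R ≤ normalizerIn S W := fun c hc => by
    refine ⟨hc.1, mem_normalizer_of_forall fun x hx => ⟨?_, ?_⟩⟩
    · exact (Subgroup.mem_normalizer_iff.1 (le_normalizer_of_stronglyClosed hT hc.1) x).1 hx.1
    · have hcN := Subgroup.centralizer_le_normalizer _ hc.2
      exact Subgroup.mul_mem _ (Subgroup.mul_mem _ hcN hx.2) (Subgroup.inv_mem _ hcN)
  have hWN := le_normalizerIn hWS
  have hgW₁ := hg₁.restrict hWN
  have hW₁T : img g₁ W ≤ T := img_le fun x hx => stronglyClosed_mem hT hgW₁ hx (hWT hx)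
  obtain ⟨e, he⟩ := hgW₁.exists_autEquiv
  have hdF : d₀ ^ k ∈ F.autGroup W :=
    (mem_autGroup_iff hWS).2 (isMap_of_subset hinv.1 (isMap_of_mem_autGroup hWT hd))
  obtain ⟨χ, hχ, hχe⟩ := WeaklyNormalTop.conj_transport hinv hgW₁ hWT
    (isMap_of_mem_autGroup hWT hd) le_rfl fun x hx => autFun_mem _ hx
  set d' : MulAut (img g₁ W) := (e ⟨d₀ ^ k, hdF⟩ : MulAut (img g₁ W)) with hd'
  have hd'D : d' ∈ D.autGroup (img g₁ W) := by
    refine (mem_autGroup_iff hW₁T).2 (hχ.congr fun y hy => ?_)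
    obtain ⟨x, hx, rfl⟩ := hgW₁.mem_img.1 hy
    rw [hχe x hx, hd']
    exact (he ⟨_, hdF⟩ x hx).symm
  have hd'o : (orderOf d').Coprime p := by
    rw [hd', Subgroup.orderOf_coe, MulEquiv.orderOf_eq, ← Subgroup.orderOf_coe]
    exact hkc
  have hgR₁ := hgW₁.restrict hRW
  have hR₁c : D.IsCentric (img g₁ R) := centric_conj_invariant hinv hR hgR₁.isConj
  have hW₁c : D.IsCentric (img g₁ W) := CentricExt.centric_mono hR₁c (img_mono g₁ hRW) hW₁T
  have hW₁n : D.IsFullyNormalized (img g₁ W) :=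
    fullyNormalized_of_subsystem hS hF hT hinv.1 hW₁T hW₀n
  have hcard : Nat.card R < Nat.card (img g₁ W) := by
    rw [hgW₁.card_img]
    exact card_lt_card (lt_normalizerIn hTp hlt)
  have hext := ih _ hW₁c hW₁n hcard d' hd'D
  have hC₁ : img g₁ (centralizerIn S R) ≤ centralizerIn S (img g₁ R) :=
    img_le fun c hc => ⟨hg₁.mem (hCN hc),
      hg₁.mem_centralizer_img (hRW.trans hWN) (hCN hc) hc.2⟩
  have hC₁N : img g₁ (centralizerIn S R) ≤ Subgroup.normalizer (img g₁ W : Set Ω) :=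
    img_le fun c hc => hg₁.mem_normalizer_img hWN (hCN hc) (hCN hc).2
  have hW₁R : img g₁ W ≤ Subgroup.normalizer (img g₁ R : Set Ω) :=
    img_le fun w hw => hg₁.mem_normalizer_img (hRW.trans hWN) (hWN hw) hw.2
  have hd'R : ∀ y ∈ img g₁ R, autFun d' y ∈ img g₁ R := by
    intro y hy
    obtain ⟨x, hx, rfl⟩ := hgR₁.mem_img.1 hy
    rw [hd', he ⟨_, hdF⟩ x (hRW hx)]
    show g₁ (autFun (d₀ ^ k) x) ∈ _
    rw [hkR x hx]
    exact mem_img_self g₁ (autFun_mem _ hx)
  obtain ⟨h, hh, hhR, hhC⟩ := ext_coprime_at hS hF hD hR₁c (img_mono g₁ hRW) hW₁T hW₁R hW₀n hd'D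
    hd'R hd'o hext hC₁ hC₁N
  have hm := hg₁.restrict (sup_le (hRW.trans hWN) hCN : R ⊔ centralizerIn S R ≤ normalizerIn S W)
  obtain ⟨i, hi, hiimg, hig, -⟩ := hm.exists_inv
  rw [hm.img_sup] at hi hiimg
  have hhM : ∀ y ∈ img g₁ R ⊔ img g₁ (centralizerIn S R),
      h y ∈ img g₁ R ⊔ img g₁ (centralizerIn S R) :=
    fun y hy => extends_mem (γ := mkAut (hh.restrict le_sup_left).isHom
      (hh.restrict le_sup_left).injOn (by
        have : Finite (img g₁ R) := finite_of_le hgR₁.img_le_S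
        exact eq_of_le_card (img_le fun z hz => by rw [hhR z hz]; exact hd'R z hz)
          (hh.restrict le_sup_left).card_img.ge))
      hh (fun z hz => (autFun_mkAut _ _ _ hz).symm) hhC (mem_img_self h hy)
  refine ⟨fun x => i (h (g₁ x)), ?_, fun x hx => ?_, fun x hx => ?_⟩
  · refine hi.comp (hh.comp hm fun x hx => ?_) fun x hx => hhM _ ?_
    all_goals exact hm.img_sup.le (mem_img_self g₁ hx)
  · show i (h (g₁ x)) = _
    rw [hhR _ (mem_img_self g₁ hx), hd', he ⟨_, hdF⟩ x (hRW hx)]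
    show i (g₁ (autFun (d₀ ^ k) x)) = _
    rw [hkR x hx, hig _ (Subgroup.mem_sup_left (autFun_mem _ hx))]
  · have hz := hhC _ (mem_img_self g₁ hx)
    obtain ⟨r, hr, hre⟩ := hgR₁.mem_img.1 hz.1
    have hxM : x ∈ R ⊔ centralizerIn S R := Subgroup.mem_sup_right hx
    have hrM : r ∈ R ⊔ centralizerIn S R := Subgroup.mem_sup_left hr
    have e : h (g₁ x) = g₁ (x * r) := by
      rw [hm.map_mul hxM hrM, hre, mul_inv_cancel_left]
    show x⁻¹ * i (h (g₁ x)) ∈ ctr R
    rw [e, hig _ (mul_mem hxM hrM), inv_mul_cancel_left]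
    refine ⟨hr, fun s hs => hgR₁.inj (mul_mem hs hr) (mul_mem hr hs) ?_⟩
    rw [hgR₁.map_mul hs hr, hgR₁.map_mul hr hs, hre]
    exact hz.2 _ (mem_img_self g₁ hs)

/-- Every automorphism in `D` of a centric `R` extends to `R C_S(R)`, moving `C_S(R)` by `Z(R)`. -/
theorem exists_good_ext (hS : IsPGroup p S) (hF : F.IsSaturated p) (hD : D.IsNormalIn F p)
    (hR : D.IsCentric R) (hRn : D.IsFullyNormalized R) {γ : MulAut R} (hγ : γ ∈ D.autGroup R) :
    Extends F (centralizerIn S R) R γ := by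
  have hinv : D.IsInvariantIn F := hD.1.2.2
  have hT : F.StronglyClosed T := hinv.2.1
  have hfinT : Finite T := finite_of_le hT.1
  have hTp : IsPGroup p T := hS.to_le hT.1
  induction hn : Nat.card T - Nat.card R using Nat.strong_induction_on generalizing R with
  | _ n ih =>
  have hRT : R ≤ T := hR.1
  have hRS : R ≤ S := hRT.trans hT.1
  have hfinR : Finite R := finite_of_le hRS
  have hsup : R ⊔ centralizerIn S R ≤ S := sup_le hRS centralizerIn_le
  rcases eq_or_lt_of_le hRT with hRe | hlt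
  · obtain ⟨β, hβ, hβT, hβC⟩ : ∃ β ∈ F.autGroup (R ⊔ centralizerIn S R),
        (∀ x : R, ((β (Subgroup.inclusion le_sup_left x) : ↥(R ⊔ centralizerIn S R)) : Ω) =
          ((γ x : R) : Ω)) ∧
        ∀ c : ↥(R ⊔ centralizerIn S R), (c : Ω) ∈ centralizerIn S R →
          (c : Ω)⁻¹ * ((β c : ↥(R ⊔ centralizerIn S R)) : Ω) ∈
            R ⊓ Subgroup.centralizer (R : Set Ω) := by
      subst hRe
      exact hD.2 γ hγ
    refine ⟨autFun β, isMap_of_mem_autGroup hsup hβ, fun x hx => ?_, fun c hc => ?_⟩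
    · rw [autFun_of_mem β (Subgroup.mem_sup_left hx), autFun_of_mem γ hx]
      exact hβT ⟨x, hx⟩
    · rw [autFun_of_mem β (Subgroup.mem_sup_right hc)]
      exact hβC ⟨c, Subgroup.mem_sup_right hc⟩ hc
  set A := D.autGroup R
  obtain ⟨P₀, hP₀⟩ := (fullyNormalized_fullyAutomized hTp hD.1.1 hRn).2
  set M := (extAut F hsup).subgroupOf A with hMdef
  set N := Subgroup.normalClosure ((P₀ : Subgroup A) : Set A) with hN
  have hNext : N ≤ M := by
    rw [hN, Subgroup.normalClosure, Subgroup.closure_le]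
    intro x hx
    obtain ⟨b, hb, hbx⟩ := Group.mem_conjugatesOfSet_iff.1 hx
    obtain ⟨c, rfl⟩ := isConj_iff.1 hbx
    rw [hP₀] at hb
    refine Subgroup.mem_subgroupOf.2 (mem_extAut.2 ?_)
    rw [Subgroup.coe_mul, Subgroup.coe_mul, Subgroup.coe_inv]
    exact extends_conj_of_le hS hF hT hRT (hcen_of_centric hinv hR) le_rfl
      ((mem_autGroup_iff hRS).2 (isMap_of_subset hinv.1 (isMap_of_mem_autGroup hRT c.2)))
      (Subgroup.mem_subgroupOf.1 hb)
  have hfr := Sylow.normalizer_sup_eq_top' P₀ (N := N) Subgroup.le_normalClosure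
  have hnorm : Subgroup.normalizer ((P₀ : Subgroup A) : Set A) ≤ M := by
    intro b hb
    refine Elementwise.mem_of_parts (p := p) (fun h hh hc => ?_) fun h hh hk => ?_
    · have hbN : h ∈ Subgroup.normalizer ((P₀ : Subgroup A) : Set A) :=
        Subgroup.zpowers_le.2 hb hh
      have hm := isMap_of_mem_autGroup hRT h.2
      have hsub : normalizerIn T R ≤ nSub T R (autFun (h : MulAut R)) := by
        intro s hs
        have hsA : conjAut T R ⟨s, hs⟩ ∈ autInducedBy T R := conjAut_range T R ▸ ⟨_, rfl⟩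
        have h1 : (h * ⟨_, autInducedBy_le hRT hsA⟩ * h⁻¹ : A) ∈ (P₀ : Subgroup A) :=
          (Subgroup.mem_normalizer_iff.1 hbN _).1 (by rw [hP₀]; exact hsA)
        rw [hP₀] at h1
        obtain ⟨u, hu, hue⟩ := mem_autInducedBy_iff'.1 (Subgroup.mem_subgroupOf.1 h1)
        refine ⟨hs.1, hs.2, u, hu.1, fun x hx => ?_⟩
        have h2 := hue _ (autFun_mem (h : MulAut R) hx)
        rw [Subgroup.coe_mul, Subgroup.coe_mul, Subgroup.coe_inv, autFun_mul, autFun_mul,
          autFun_inv_apply, conjAut_apply ⟨s, hs⟩ hx, cj_apply, cj_apply] at h2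
        exact h2
      obtain ⟨g, hg, hge⟩ := exists_extension hTp hD.1.1 hm
        (by rw [autFun_img]; exact fullyNormalized_fullyCentralized hTp hD.1.1 hRn)
      refine Subgroup.mem_subgroupOf.2 (mem_extAut.2 (extends_of_coprime hS hF hD hR hlt
        (fun W hWc hWn hlt' d hd => ih (Nat.card T - Nat.card W) ?_ hWc hWn hd rfl) ?_ (hg.restrict hsub) hge))
      · have := card_le_card hWc.1
        omega
      · rwa [Subgroup.orderOf_coe]
    · refine hNext (Subgroup.le_normalClosure ?_)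
      have hhp : IsPGroup p (Subgroup.zpowers h) := by
        obtain ⟨k, hk⟩ := hk
        exact IsPGroup.of_card_dvd_pow (n := k) (by
          rw [Nat.card_zpowers]; exact orderOf_dvd_of_pow_eq_one hk)
      have h1 : h ∈ Subgroup.zpowers h ⊓ Subgroup.normalizer ((P₀ : Subgroup A) : Set A) :=
        ⟨Subgroup.mem_zpowers h, Subgroup.zpowers_le.2 hb hh⟩
      exact (hhp.inf_normalizer_sylow P₀ ▸ h1).2
  have hmem : (⟨γ, hγ⟩ : A) ∈ M := by
    refine (?_ : (⊤ : Subgroup A) ≤ M) (Subgroup.mem_top _)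
    rw [← hfr]
    exact sup_le hnorm hNext
  exact mem_extAut.1 (Subgroup.mem_subgroupOf.1 hmem)

end Cfsg.Agent.Fusion.GoodExtension
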