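/-
Park's realization of a saturated fusion system inside the centralizer of the right action on a
characteristic biset, with the transfer of that group.
-/
import Mathlib
import Cfsg.Agent.Lib.Fusion.BisetTransfer

set_option autoImplicit false

namespace Cfsg.Agent.Fusion.Realize

open Cfsg Cfsg.FusionSystem Cfsg.Agent.Fusion.Basic Cfsg.Agent.Fusion.Saturation
  Cfsg.Agent.Fusion.Marks Cfsg.Agent.Fusion.Biset Cfsg.Agent.Fusion.BisetTransfer MulAction

universe u

section Fixed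

variable {K : Type*} [Group K] [Finite K] {O : Type*} [Fintype O] [MulAction K O]
  {A : Type*} [CommGroup A] {p : ℕ} [Fact p.Prime]

open scoped Classical in
omit [Finite K] in
theorem prod_eq_prod_fixed (hK : IsPGroup p K) (f : O → A) (hexp : ∀ a : A, a ^ p = 1)
    (hf : ∀ (k : K) (o : O), f (k • o) = f o) :
    ∏ o, f o = ∏ o : {o : O // ∀ k : K, k • o = o}, f o := by
  classical
  rw [← Finset.prod_filter_mul_prod_filter_not Finset.univ (fun o : O => ∀ k : K, k • o = o) f]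
  have h0 : ∏ o ∈ Finset.univ.filter (fun o : O => ¬ ∀ k : K, k • o = o), f o = 1 := by
    rw [← Finset.prod_fiberwise (Finset.univ.filter (fun o : O => ¬ ∀ k : K, k • o = o))
      (fun o => Quotient.mk (orbitRel K O) o) f]
    refine Finset.prod_eq_one fun q _ => ?_
    rcases Finset.eq_empty_or_nonempty ((Finset.univ.filter
      (fun o : O => ¬ ∀ k : K, k • o = o)).filter fun o => Quotient.mk (orbitRel K O) o = q)
      with h | ⟨o, ho⟩
    · rw [h, Finset.prod_empty]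
    simp only [Finset.mem_filter, Finset.mem_univ, true_and] at ho
    have hmem : (Finset.univ.filter (fun x : O => ¬ ∀ k : K, k • x = x)).filter
        (fun x => Quotient.mk (orbitRel K O) x = q) = (orbit K o).toFinset := by
      ext x
      simp only [Finset.mem_filter, Finset.mem_univ, true_and, Set.mem_toFinset, ← ho.2]
      constructor
      · exact fun h => orbitRel_apply.1 (Quotient.exact h.2)
      · rintro ⟨k, rfl⟩
        refine ⟨fun hx => ho.1 fun l => ?_, Quotient.sound (orbitRel_apply.2 (mem_orbit o k))⟩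
        have h1 := hx (k * l * k⁻¹)
        change (k * l * k⁻¹) • k • o = k • o at h1
        rw [← mul_smul, show k * l * k⁻¹ * k = k * l by group, mul_smul] at h1
        exact (smul_left_cancel_iff k).1 h1
    have hval : ∀ x ∈ (orbit K o).toFinset, f x = f o := fun x hx => by
      obtain ⟨k, rfl⟩ := Set.mem_toFinset.1 hx
      exact hf k o
    rw [hmem, Finset.prod_congr rfl hval, Finset.prod_const]
    obtain ⟨n, hn⟩ := hK.card_orbit o
    have hc : (orbit K o).toFinset.card = p ^ n := by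
      rw [← hn, Nat.card_eq_fintype_card, Set.toFinset_card]
    rcases n with _ | n
    · refine absurd (fun k => ?_) ho.1
      obtain ⟨x, hx⟩ := Finset.card_eq_one.1 hc
      have h1 : k • o ∈ (orbit K o).toFinset := Set.mem_toFinset.2 (mem_orbit o k)
      have h2 : o ∈ (orbit K o).toFinset := Set.mem_toFinset.2 (mem_orbit_self o)
      rw [hx, Finset.mem_singleton] at h1 h2
      rw [h1, h2]
    · rw [hc, pow_succ', pow_mul, hexp, one_pow]
  rw [h0, mul_one]
  exact Finset.prod_subtype _ (fun o => by simp) f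

end Fixed

variable {Ω : Type u} [Group Ω] {S : Subgroup Ω} {F : FusionSystem S} {p : ℕ}
  [Finite S] [Fact p.Prime]

/-- A group realizing every map of `F`, with a homomorphism extending `m` times `χ`. -/
theorem exists_realization (hS : IsPGroup p S) (hF : F.IsSaturated p) {A : Type*} [CommGroup A]
    (χ : ↥S →* A) :
    ∃ (G : Type u) (_ : Group G) (_ : Finite G) (ι : ↥S →* G) (τ : G →* A) (m : ℕ),
      m.Coprime p ∧ Function.Injective ι ∧
      (∀ (P : Subgroup Ω) (f : Ω → Ω) (hf : IsMap F P f), ∃ g : G, ∀ (x : Ω) (hx : x ∈ P),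
        g * ι ⟨x, hf.le hx⟩ * g⁻¹ = ι ⟨f x, hf.mem hx⟩) ∧
      (∀ u : ↥S, (∀ (Q : Subgroup Ω) (f : Ω → Ω) (hf : IsMap F Q f) (k : ℤ) (hk : (u : Ω) ^ k ∈ Q),
          χ ⟨f ((u : Ω) ^ k), hf.mem hk⟩ = χ u ^ k) → τ (ι u) = χ u ^ m) ∧
      ((∀ a : A, a ^ p = 1) →
        (∀ (Q : Subgroup Ω) (f : Ω → Ω) (hf : IsMap F Q f) (x : Ω) (hx : x ∈ Q),
          χ ⟨f x, hf.mem hx⟩ = χ ⟨x, hf.le hx⟩) →
        ∀ (R : Subgroup Ω), R ≤ S → ∀ (Λ : Subgroup A),
          (∀ (f : Ω → Ω), IsMap F R f → ∀ (c : Ω) (hc : c ∈ centralizerIn S (img f R)),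
            χ ⟨c, hc.1⟩ ∈ Λ) →
          ∀ z : G, (∀ r : ↥S, (r : Ω) ∈ R → z * ι r = ι r * z) → τ z ∈ Λ) := by
  classical
  obtain ⟨X, iX, fX, T, m, hX, hT, hmark, hm, hcard⟩ := exists_biset hS hF
  have hfree : ∀ (x : X) (s : ↥S), ((1, s) : ↥S × ↥S) • x = x → s = 1 := fun x s hs => by
    obtain ⟨Q, f, hf, he⟩ := hX x
    exact Subtype.ext ((he.le hs).2.trans hf.map_one)
  let G : Subgroup (Equiv.Perm X) :=
    { carrier := {g | ∀ (s : ↥S) (x : X), g (((1, s) : ↥S × ↥S) • x) = ((1, s) : ↥S × ↥S) • g x}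
      one_mem' := fun _ _ => rfl
      mul_mem' := fun {a b} ha hb s x => by rw [Equiv.Perm.mul_apply, Equiv.Perm.mul_apply, hb, ha]
      inv_mem' := fun {a} ha s x => a.injective (by
        rw [ha, ← Equiv.Perm.mul_apply, ← Equiv.Perm.mul_apply, mul_inv_cancel]; rfl) }
  have hcomm : ∀ (u s : ↥S) (x : X), ((u, 1) : ↥S × ↥S) • ((1, s) : ↥S × ↥S) • x =
      ((1, s) : ↥S × ↥S) • ((u, 1) : ↥S × ↥S) • x := fun u s x => by
    rw [← mul_smul, ← mul_smul]; simp
  let ι : ↥S →* G := MonoidHom.mk' (fun u => ⟨MulAction.toPerm ((u, 1) : ↥S × ↥S), fun s x =>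
    hcomm u s x⟩) fun u v => Subtype.ext (Equiv.ext fun x => by
      show ((u * v, 1) : ↥S × ↥S) • x = ((u, 1) : ↥S × ↥S) • ((v, 1) : ↥S × ↥S) • x
      rw [← mul_smul]; simp)
  have hι : ∀ (u : ↥S) (x : X), (ι u : Equiv.Perm X) x = ((u, 1) : ↥S × ↥S) • x := fun _ _ => rfl
  -- the right orbits
  let r : Setoid X :=
    ⟨fun x y => ∃ s : ↥S, ((1, s) : ↥S × ↥S) • x = y, fun x => ⟨1, one_smul _ x⟩,
      fun {x y} ⟨s, hs⟩ => ⟨s⁻¹, by rw [← hs, ← mul_smul]; simp [Prod.mk_one_one]⟩,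
      fun {x y z} ⟨s, hs⟩ ⟨s', hs'⟩ => ⟨s' * s, by rw [← hs', ← hs, ← mul_smul]; simp⟩⟩
  let O := Quotient r
  have : Fintype O := Fintype.ofFinite _
  have hO : Fintype.card O = m := by
    let e : O × ↥S ≃ X := Equiv.ofBijective (fun w => ((1, w.2) : ↥S × ↥S) • w.1.out)
      ⟨fun a b hab => by
        dsimp only at hab
        have h1 : a.1 = b.1 := by
          rw [← Quotient.out_eq a.1, ← Quotient.out_eq b.1]
          refine Quotient.sound (show r.r _ _ from ⟨b.2⁻¹ * a.2, ?_⟩)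
          rw [show ((1, b.2⁻¹ * a.2) : ↥S × ↥S) = ((1, b.2) : ↥S × ↥S)⁻¹ * (1, a.2) by simp,
            mul_smul, hab, inv_smul_smul]
        refine Prod.ext h1 ?_
        have h2 : ((1, b.2⁻¹ * a.2) : ↥S × ↥S) • a.1.out = a.1.out := by
          rw [show ((1, b.2⁻¹ * a.2) : ↥S × ↥S) = ((1, b.2) : ↥S × ↥S)⁻¹ * (1, a.2) by simp,
            mul_smul, hab, inv_smul_smul, h1]
        exact (inv_mul_eq_one.1 (hfree _ _ h2)).symm,
      fun x => by
        obtain ⟨s, hs⟩ : r.r (Quotient.mk r x).out x := Quotient.exact (Quotient.out_eq _)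
        exact ⟨(Quotient.mk r x, s), hs⟩⟩
    have h1 := Nat.card_congr e
    rw [Nat.card_prod, hcard, mul_comm, Nat.card_eq_fintype_card (α := O)] at h1
    exact Nat.eq_of_mul_eq_mul_left Nat.card_pos h1
  -- a potential for the right action
  obtain ⟨c0, hc0'⟩ : ∃ c : X → A, ∀ (s : ↥S) (x : X),
      c (((1, s) : ↥S × ↥S) • x) = (χ s)⁻¹ * c x := by
    let L : Subgroup (↥S × ↥S) := (⊥ : Subgroup ↥S).prod ⊤
    let lam : L →* A := MonoidHom.mk' (fun w => (χ (w : ↥S × ↥S).2)⁻¹) fun v w => by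
      simp only [Subgroup.coe_mul, Prod.snd_mul, map_mul, mul_inv]
    obtain ⟨c, hc⟩ := exists_equivariant (X := X) lam fun x w hw => by
      have h1 : (w : ↥S × ↥S).1 = 1 := Subgroup.mem_bot.1 (Subgroup.mem_prod.1 w.2).1
      have h2 : ((1, (w : ↥S × ↥S).2) : ↥S × ↥S) • x = x := by
        have : ((1, (w : ↥S × ↥S).2) : ↥S × ↥S) = (w : ↥S × ↥S) := Prod.ext h1.symm rfl
        rw [this]; exact hw
      rw [MonoidHom.mem_ker]
      show (χ (w : ↥S × ↥S).2)⁻¹ = 1
      rw [hfree x _ h2, map_one, inv_one]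
    exact ⟨c, fun s x => hc ⟨(1, s), Subgroup.mem_prod.2 ⟨rfl, Subgroup.mem_top _⟩⟩ x⟩
  let β : G → O → A := fun g => Quotient.lift (fun x => c0 ((g : Equiv.Perm X) x) / c0 x)
    fun x y ⟨s, hs⟩ => by rw [← hs, g.2, hc0', hc0', mul_div_mul_left_eq_div]
  let π : G → O → O := fun g => Quotient.map (fun x => (g : Equiv.Perm X) x)
    fun x y ⟨s, hs⟩ => ⟨s, by rw [← hs, g.2]⟩
  have hπmul : ∀ g h o, π (g * h) o = π g (π h o) := fun g h o =>
    Quotient.inductionOn o fun _ => rfl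
  have hπone : ∀ o, π 1 o = o := fun o => Quotient.inductionOn o fun _ => rfl
  let perm : G → (O ≃ O) := fun g =>
    { toFun := π g
      invFun := π g⁻¹
      left_inv := fun o => by rw [← hπmul, inv_mul_cancel, hπone]
      right_inv := fun o => by rw [← hπmul, mul_inv_cancel, hπone] }
  let τ : G →* A := MonoidHom.mk' (fun g => ∏ o, β g o) fun g h => by
    rw [show ∏ o, β g o = ∏ o, β g (π h o) from (Equiv.prod_comp (perm h) (β g)).symm,
      ← Finset.prod_mul_distrib]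
    refine Finset.prod_congr rfl fun o _ => Quotient.inductionOn o fun x => ?_
    exact (div_mul_div_cancel _ _ _).symm
  have hτ : ∀ (c : X → A), (∀ (s : ↥S) (x : X), c (((1, s) : ↥S × ↥S) • x) = (χ s)⁻¹ * c x) →
      ∀ (g : G) (b : O → A), (∀ x : X, c ((g : Equiv.Perm X) x) / c x = b (Quotient.mk r x)) →
      τ g = ∏ o, b o := by
    intro c hc g b hb
    let e : O → A := Quotient.lift (fun x => c0 x / c x) fun x y ⟨s, hs⟩ => by
      rw [← hs, hc, hc0', mul_div_mul_left_eq_div]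
    show ∏ o, β g o = _
    rw [show ∏ o, β g o = ∏ o, b o * (e (π g o) / e o) from
      Finset.prod_congr rfl fun o _ => Quotient.inductionOn o fun x => ?_]
    · rw [Finset.prod_mul_distrib, Finset.prod_div_distrib,
        show ∏ o, e (π g o) = ∏ o, e o from Equiv.prod_comp (perm g) e, div_self', mul_one]
    · show c0 _ / c0 x = b _ * (c0 _ / c _ / (c0 x / c x))
      rw [← hb, div_div_div_eq, div_mul_div_comm, div_eq_div_iff_mul_eq_mul]
      simp [mul_comm, mul_left_comm]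
  refine ⟨G, inferInstance, inferInstance, ι, τ, m, hm, ?_, ?_, ?_, ?_⟩
  · intro u v huv
    obtain ⟨x⟩ : Nonempty X := by
      rcases isEmpty_or_nonempty X with h | h
      · exfalso
        rw [Nat.card_of_isEmpty] at hcard
        rcases Nat.mul_eq_zero.1 hcard.symm with h1 | h1
        · exact Nat.card_pos.ne' h1
        · rw [h1, Nat.coprime_zero_left] at hm
          exact (Fact.out : p.Prime).ne_one hm
      · exact h
    have h1 : ((u, 1) : ↥S × ↥S) • x = ((v, 1) : ↥S × ↥S) • x :=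
      congrArg (fun g : G => (g : Equiv.Perm X) x) huv
    have h2 : ((v⁻¹ * u, 1) : ↥S × ↥S) ∈ stabilizer (↥S × ↥S) x := by
      rw [mem_stabilizer_iff, show ((v⁻¹ * u, 1) : ↥S × ↥S) = ((v, 1) : ↥S × ↥S)⁻¹ * (u, 1) by simp,
        mul_smul, h1, inv_smul_smul]
    obtain ⟨Q, f, hf, he⟩ := hX x
    obtain ⟨h3, h4⟩ := he.le h2
    have h5 : ((v⁻¹ * u : ↥S) : Ω) = 1 := hf.inj h3 Q.one_mem (by rw [hf.map_one, ← h4]; rfl)
    exact (inv_mul_eq_one.1 (Subtype.ext h5 : v⁻¹ * u = 1)).symm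
  · intro P f hf
    obtain ⟨E, hE⟩ := exists_stable_equiv hX hT hmark hf
    have h1 : ∀ (b : ↥S) (z : X), E (((1, b) : ↥S × ↥S) • z) = ((1, b) : ↥S × ↥S) • E z := by
      intro b z
      have h := hE 1 b z
      have e1 : (⟨f (1 : ↥P), hf.mem (1 : ↥P).2⟩ : ↥S) = 1 := Subtype.ext hf.map_one
      have e2 : (⟨((1 : ↥P) : Ω), hf.le (1 : ↥P).2⟩ : ↥S) = 1 := Subtype.ext rfl
      rwa [e1, e2] at h
    refine ⟨⟨E, h1⟩, fun x hx => Subtype.ext (Equiv.ext fun z => ?_)⟩
    show E (((⟨x, hf.le hx⟩, 1) : ↥S × ↥S) • E.symm z) = ((⟨f x, hf.mem hx⟩, 1) : ↥S × ↥S) • z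
    rw [hE ⟨x, hx⟩, Equiv.apply_symm_apply]
  · intro u hu
    let L : Subgroup (↥S × ↥S) := (Subgroup.zpowers u).prod ⊤
    let lam : L →* A := MonoidHom.mk'
      (fun w => χ (w : ↥S × ↥S).1 * (χ (w : ↥S × ↥S).2)⁻¹) fun v w => by
        simp only [Subgroup.coe_mul, Prod.fst_mul, Prod.snd_mul, map_mul, mul_inv]
        exact mul_mul_mul_comm _ _ _ _
    have hker : ∀ z : X, stabilizer L z ≤ lam.ker := by
      intro z w hw
      obtain ⟨Q, f, hf, he⟩ := hX z
      obtain ⟨hw1, hw2⟩ := he.le (show (w : ↥S × ↥S) ∈ stabilizer (↥S × ↥S) z from hw)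
      obtain ⟨k, hk⟩ := Subgroup.mem_zpowers_iff.1 (Subgroup.mem_prod.1 w.2).1
      have hk' : (u : Ω) ^ k = ((w : ↥S × ↥S).1 : Ω) := by rw [← hk]; rfl
      have h := hu Q f hf k (hk' ▸ hw1)
      have h2 : (⟨f ((u : Ω) ^ k), hf.mem (hk' ▸ hw1)⟩ : ↥S) = (w : ↥S × ↥S).2 :=
        Subtype.ext ((congrArg f hk').trans hw2.symm)
      rw [h2, ← map_zpow, hk] at h
      rw [MonoidHom.mem_ker]
      show χ (w : ↥S × ↥S).1 * (χ (w : ↥S × ↥S).2)⁻¹ = 1
      rw [h, mul_inv_cancel]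
    obtain ⟨c, hc⟩ := exists_equivariant lam hker
    have hc' : ∀ (s : ↥S) (x : X), c (((1, s) : ↥S × ↥S) • x) = (χ s)⁻¹ * c x := fun s x => by
      have h := hc ⟨(1, s), Subgroup.mem_prod.2 ⟨Subgroup.one_mem _, Subgroup.mem_top _⟩⟩ x
      change c (((1, s) : ↥S × ↥S) • x) = χ 1 * (χ s)⁻¹ * c x at h
      rwa [map_one, one_mul] at h
    rw [hτ c hc' (ι u) (fun _ => χ u) fun x => ?_, Finset.prod_const, Finset.card_univ, hO]
    have h := hc ⟨(u, 1), Subgroup.mem_prod.2 ⟨Subgroup.mem_zpowers u, Subgroup.mem_top _⟩⟩ x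
    change c (((u, 1) : ↥S × ↥S) • x) = χ u * (χ 1)⁻¹ * c x at h
    rw [map_one, inv_one, mul_one] at h
    rw [hι, h, mul_div_cancel_right]
  · intro hexp hχ R hR Λ hΛ z hz
    -- a potential equivariant for `R × S`
    obtain ⟨c1, hc1l, hc1r⟩ : ∃ c : X → A,
        (∀ (u : ↥S), (u : Ω) ∈ R → ∀ x : X, c (((u, 1) : ↥S × ↥S) • x) = χ u * c x) ∧
        ∀ (s : ↥S) (x : X), c (((1, s) : ↥S × ↥S) • x) = (χ s)⁻¹ * c x := by
      let L : Subgroup (↥S × ↥S) := (R.subgroupOf S).prod ⊤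
      let lam : L →* A := MonoidHom.mk'
        (fun w => χ (w : ↥S × ↥S).1 * (χ (w : ↥S × ↥S).2)⁻¹) fun v w => by
          simp only [Subgroup.coe_mul, Prod.fst_mul, Prod.snd_mul, map_mul, mul_inv]
          exact mul_mul_mul_comm _ _ _ _
      obtain ⟨c, hc⟩ := exists_equivariant (X := X) lam fun x w hw => by
        obtain ⟨Q, f, hf, he⟩ := hX x
        obtain ⟨hw1, hw2⟩ := he.le (show (w : ↥S × ↥S) ∈ stabilizer (↥S × ↥S) x from hw)
        have h := hχ Q f hf _ hw1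
        have h2 : (⟨f (w : ↥S × ↥S).1, hf.mem hw1⟩ : ↥S) = (w : ↥S × ↥S).2 :=
          Subtype.ext hw2.symm
        rw [h2] at h
        rw [MonoidHom.mem_ker]
        show χ (w : ↥S × ↥S).1 * (χ (w : ↥S × ↥S).2)⁻¹ = 1
        rw [h]
        exact mul_inv_cancel _
      refine ⟨c, fun u hu x => ?_, fun s x => ?_⟩
      · have h := hc ⟨(u, 1), Subgroup.mem_prod.2 ⟨Subgroup.mem_subgroupOf.2 hu, Subgroup.mem_top _⟩⟩ x
        change c (((u, 1) : ↥S × ↥S) • x) = χ u * (χ 1)⁻¹ * c x at h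
        rwa [map_one, inv_one, mul_one] at h
      · have h := hc ⟨(1, s), Subgroup.mem_prod.2 ⟨Subgroup.one_mem _, Subgroup.mem_top _⟩⟩ x
        change c (((1, s) : ↥S × ↥S) • x) = χ 1 * (χ s)⁻¹ * c x at h
        rwa [map_one, one_mul] at h
    let b : O → A := Quotient.lift (fun x => c1 ((z : Equiv.Perm X) x) / c1 x)
      fun x y ⟨s, hs⟩ => by rw [← hs, z.2, hc1r, hc1r, mul_div_mul_left_eq_div]
    rw [hτ c1 hc1r z b fun x => rfl]
    let R' : Subgroup ↥S := R.subgroupOf S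
    let aR : MulAction R' O :=
      { smul := fun u o => π (ι u) o
        one_smul := fun o => by show π (ι 1) o = o; rw [map_one, hπone]
        mul_smul := fun u v o => by
          show π (ι (u * v : ↥S)) o = π (ι u) (π (ι v) o)
          rw [map_mul, hπmul] }
    have hzR : ∀ u : ↥S, (u : Ω) ∈ R → ∀ x : X,
        (z : Equiv.Perm X) (((u, 1) : ↥S × ↥S) • x) = ((u, 1) : ↥S × ↥S) • (z : Equiv.Perm X) x :=
      fun u hu x => congrArg (fun g : G => (g : Equiv.Perm X) x) (hz u hu)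
    have hbinv : ∀ (u : R') (o : O), b (u • o) = b o := fun u o => Quotient.inductionOn o fun x => by
      show c1 ((z : Equiv.Perm X) ((((u : ↥S), 1) : ↥S × ↥S) • x)) / c1 ((((u : ↥S), 1) : ↥S × ↥S) • x) = _
      rw [hzR _ u.2, hc1l _ u.2, hc1l _ u.2, mul_div_mul_left_eq_div]
      rfl
    rw [prod_eq_prod_fixed (hS.to_subgroup R') b hexp hbinv]
    -- the fixed orbits
    let Fx := {o : O // ∀ u : R', u • o = o}
    have hπfix : ∀ o : O, (∀ u : R', u • o = o) → ∀ u : R', u • π z o = π z o := fun o ho u => by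
      show π (ι u) (π z o) = π z o
      rw [← hπmul, ← hz u u.2, hπmul]
      exact congrArg (π z) (ho u)
    let πF : Fx ≃ Fx := Equiv.ofBijective (fun o => ⟨π z o, hπfix o o.2⟩)
      ((Finite.injective_iff_bijective).1 fun o o' h =>
        Subtype.ext ((perm z).injective (congrArg Subtype.val h)))
    -- a potential invariant under `z` on the fixed points, modulo `Λ`
    let Xf := {x : X // ∀ u : R', π (ι u) (Quotient.mk r x) = Quotient.mk r x}
    have hXfz : ∀ (k : ↥(Subgroup.zpowers z)) (s : ↥S) (x : Xf) (u : R'),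
        π (ι u) (Quotient.mk r (((k : G) : Equiv.Perm X) (((1, s) : ↥S × ↥S) • (x : X)))) =
          Quotient.mk r (((k : G) : Equiv.Perm X) (((1, s) : ↥S × ↥S) • (x : X))) := by
      intro k s x u
      have h1 : Quotient.mk r (((k : G) : Equiv.Perm X) (((1, s) : ↥S × ↥S) • (x : X))) =
          π (k : G) (Quotient.mk r (x : X)) :=
        congrArg (π (k : G)) (Quotient.sound (r.symm ⟨s, rfl⟩))
      have hck : ι u * (k : G) = (k : G) * ι u := by
        obtain ⟨j, hj⟩ := Subgroup.mem_zpowers_iff.1 k.2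
        rw [← hj]
        exact ((show Commute z (ι u) from hz u u.2).zpow_left j).eq.symm
      rw [h1, ← hπmul, hck, hπmul, x.2 u]
    let aL : MulAction (↥(Subgroup.zpowers z) × ↥S) Xf :=
      { smul := fun w x => ⟨((w.1 : G) : Equiv.Perm X) (((1, w.2) : ↥S × ↥S) • (x : X)),
          hXfz w.1 w.2 x⟩
        one_smul := fun x => Subtype.ext
          (show ((1 : ↥S), (1 : ↥S)) • (x : X) = x from one_smul _ _)
        mul_smul := fun v w x => Subtype.ext (by
          show (((v.1 * w.1 : ↥(Subgroup.zpowers z)) : G) : Equiv.Perm X) _ =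
            ((v.1 : G) : Equiv.Perm X) (((1, v.2) : ↥S × ↥S) • ((w.1 : G) : Equiv.Perm X) _)
          rw [Subgroup.coe_mul, Subgroup.coe_mul, Equiv.Perm.mul_apply, ← (w.1 : G).2,
            ← mul_smul]
          simp) }
    let q : A →* A ⧸ Λ := QuotientGroup.mk' Λ
    let lam : ↥(Subgroup.zpowers z) × ↥S →* A ⧸ Λ :=
      MonoidHom.mk' (fun w => q (χ w.2)⁻¹) fun v w => by
        simp [mul_comm]
    obtain ⟨c2, hc2⟩ := exists_equivariant (X := Xf) lam fun x w hw => by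
      rw [MonoidHom.mem_ker]
      show q (χ w.2)⁻¹ = 1
      rw [map_inv, inv_eq_one, QuotientGroup.mk'_apply, QuotientGroup.eq_one_iff]
      obtain ⟨Q, f, hf, he⟩ := hX (x : X)
      have hRQ : ∀ (v : Ω) (hv : v ∈ R), ∃ hvQ : v ∈ Q,
          ((⟨v, hR hv⟩, ⟨f v, hf.mem hvQ⟩) : ↥S × ↥S) • (x : X) = x := by
        intro v hv
        obtain ⟨s, hs⟩ : r.r (((⟨v, hR hv⟩, 1) : ↥S × ↥S) • (x : X)) x :=
          Quotient.exact (x.2 ⟨⟨v, hR hv⟩, hv⟩)
        rw [← mul_smul, Prod.mk_mul_mk, one_mul, mul_one] at hs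
        obtain ⟨h1, h2⟩ := he.le hs
        exact ⟨h1, he.ge ⟨h1, rfl⟩⟩
      have hfR : IsMap F R f := hf.restrict fun y hy => (hRQ y hy).1
      refine hΛ f hfR (w.2 : Ω) ⟨w.2.2, ?_⟩
      intro y hy
      obtain ⟨v, hv, rfl⟩ := hfR.mem_img.1 hy
      set u : ↥S := ⟨v, hR hv⟩
      obtain ⟨_, hst⟩ := hRQ v hv
      set d : ↥S := ⟨f v, hfR.mem hv⟩
      have hw' : ((w.1 : G) : Equiv.Perm X) (((1, w.2) : ↥S × ↥S) • (x : X)) = x :=
        congrArg Subtype.val hw
      have hku : ∀ y : X, ((w.1 : G) : Equiv.Perm X) (((u, d) : ↥S × ↥S) • y) =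
          ((u, d) : ↥S × ↥S) • ((w.1 : G) : Equiv.Perm X) y := by
        intro y
        obtain ⟨j, hj⟩ := Subgroup.mem_zpowers_iff.1 w.1.2
        have hck : (w.1 : G) * ι u = ι u * (w.1 : G) := by
          rw [← hj]
          exact ((show Commute z (ι u) from hz u hv).zpow_left j).eq
        rw [show ((u, d) : ↥S × ↥S) = (1, d) * (u, 1) by simp, mul_smul, mul_smul, (w.1 : G).2]
        exact congrArg (((1, d) : ↥S × ↥S) • ·) (congrArg (fun g : G => (g : Equiv.Perm X) y) hck)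
      have h3 : ((w.1 : G) : Equiv.Perm X) (((u, d * w.2) : ↥S × ↥S) • (x : X)) =
          ((w.1 : G) : Equiv.Perm X) (((1, w.2) : ↥S × ↥S) • (x : X)) := by
        rw [show ((u, d * w.2) : ↥S × ↥S) = (u, d) * (1, w.2) by simp, mul_smul, hku, hw']
        exact hst
      have h4 := ((w.1 : G) : Equiv.Perm X).injective h3
      have h5 : ((u, w.2⁻¹ * d * w.2) : ↥S × ↥S) ∈ stabilizer (↥S × ↥S) (x : X) := by
        rw [mem_stabilizer_iff, show ((u, w.2⁻¹ * d * w.2) : ↥S × ↥S) =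
          ((1, w.2) : ↥S × ↥S)⁻¹ * (u, d * w.2) by simp [mul_assoc], mul_smul, h4, inv_smul_smul]
      have h6 : (((w.2⁻¹ * d * w.2 : ↥S)) : Ω) = f v := (he.le h5).2
      simp only [Subgroup.coe_mul, Subgroup.coe_inv] at h6
      show f v * (w.2 : Ω) = (w.2 : Ω) * f v
      calc f v * (w.2 : Ω) = (w.2 : Ω) * ((w.2 : Ω)⁻¹ * f v * w.2) := by group
        _ = (w.2 : Ω) * f v := by rw [h6]
    have hfixX : ∀ (o : Fx) (x : X), Quotient.mk r x = (o : O) →
        ∀ u : R', π (ι u) (Quotient.mk r x) = Quotient.mk r x := fun o x hx u => by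
      rw [hx]; exact o.2 u
    let e : Fx → A ⧸ Λ := fun o => q (c1 (o : O).out) /
      c2 ⟨(o : O).out, hfixX o _ (Quotient.out_eq _)⟩
    have he' : ∀ (o : Fx) (x : X) (hx : Quotient.mk r x = (o : O)),
        e o = q (c1 x) / c2 ⟨x, hfixX o x hx⟩ := by
      intro o x hx
      obtain ⟨s, hs⟩ : r.r (o : O).out x := Quotient.exact ((Quotient.out_eq _).trans hx.symm)
      have h1 := hc2 ((1 : ↥(Subgroup.zpowers z)), s) ⟨(o : O).out, hfixX o _ (Quotient.out_eq _)⟩
      rw [show ((((1 : ↥(Subgroup.zpowers z)), s) : ↥(Subgroup.zpowers z) × ↥S) •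
        (⟨(o : O).out, hfixX o _ (Quotient.out_eq _)⟩ : Xf)) = ⟨x, hfixX o x hx⟩ from
          Subtype.ext hs] at h1
      rw [h1, ← hs, hc1r, map_mul]
      show _ = q (χ s)⁻¹ * _ / (q (χ s)⁻¹ * _)
      rw [mul_div_mul_left_eq_div]
    rw [← QuotientGroup.eq_one_iff]
    show q (∏ o : Fx, b o) = 1
    rw [map_prod, show ∏ o : Fx, q (b o) = ∏ o : Fx, e (πF o) / e o from
      Finset.prod_congr rfl fun o _ => ?_]
    · rw [Finset.prod_div_distrib, Equiv.prod_comp πF e, div_self']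
    · have hx := Quotient.out_eq (o : O)
      have hzx : Quotient.mk r ((z : Equiv.Perm X) (o : O).out) = (πF o : O) :=
        congrArg (π z) hx
      rw [he' (πF o) _ hzx, he' o _ hx]
      have h1 := hc2 ((⟨z, Subgroup.mem_zpowers z⟩ : ↥(Subgroup.zpowers z)), 1)
        ⟨(o : O).out, hfixX o _ hx⟩
      rw [show (((⟨z, Subgroup.mem_zpowers z⟩ : ↥(Subgroup.zpowers z)), (1 : ↥S)) •
        (⟨(o : O).out, hfixX o _ hx⟩ : Xf)) = ⟨_, hfixX (πF o) _ hzx⟩ from
          Subtype.ext (congrArg (fun y => (z : Equiv.Perm X) y) (one_smul (↥S × ↥S) (o : O).out))] at h1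
      rw [h1]
      have h2 : lam ((⟨z, Subgroup.mem_zpowers z⟩ : ↥(Subgroup.zpowers z)), (1 : ↥S)) = 1 := by
        show q (χ 1)⁻¹ = 1
        rw [map_one, inv_one, map_one]
      rw [h2, one_mul, div_div_div_cancel_right, ← map_div]
      conv_lhs => rw [← hx]
      rfl

end Cfsg.Agent.Fusion.Realize
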