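/-
Saturated subsystems of `p`-power index: existence and uniqueness over every subgroup containing
the hyperfocal subgroup.
-/
import Mathlib
import Cfsg.Agent.Lib.Fusion.Realize
import Cfsg.Agent.Lib.Fusion.Focal
import Cfsg.Agent.Lib.Fusion.Normal

set_option autoImplicit false

namespace Cfsg.Agent.Fusion.PPowerIndex

open scoped commutatorElement
open Cfsg Cfsg.FusionSystem Cfsg.Agent.Fusion.Basic Cfsg.Agent.Fusion.Saturation
  Cfsg.Agent.Fusion.Alperin Cfsg.Agent.Fusion.Focal Cfsg.Agent.Fusion.Normal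
  Cfsg.Agent.Fusion.Realize

universe u

variable {Ω : Type u} [Group Ω] {S T : Subgroup Ω} {p : ℕ}

section Kernel

variable {F : FusionSystem S} {G A : Type*} [Group G] [CommGroup A]

/-- The maps of `F` below `T` realized by the kernel of `τ`. -/
def kerSystem (F : FusionSystem S) (T : Subgroup Ω) (hT : T ≤ S)
    (hTc : ∀ (P : Subgroup Ω) (φ : P →* Ω), φ ∈ F.Hom P → P ≤ T → ∀ x : P, φ x ∈ T)
    (ι : ↥S →* G) (τ : G →* A) (hτ : ∀ t : ↥S, (t : Ω) ∈ T → τ (ι t) = 1) : FusionSystem T where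
  Hom P := {φ | φ ∈ F.Hom P ∧ ∃ hP : P ≤ T, ∃ g : G, τ g = 1 ∧ ∀ (x : P) (hx : φ x ∈ S),
    g * ι ⟨x, hT (hP x.2)⟩ * g⁻¹ = ι ⟨φ x, hx⟩}
  le_of_mem h := ⟨h.2.fst, fun x => hTc _ _ h.1 h.2.fst x⟩
  injective_of_mem h := F.injective_of_mem h.1
  conj_mem := by
    intro P a hP ha
    refine ⟨F.conj_mem (hP.trans hT) (hT ha), hP, ι ⟨a, hT ha⟩, hτ _ ha, fun x hx => ?_⟩
    rw [← map_inv, ← map_mul, ← map_mul]
    rfl
  comp_mem := by
    rintro P R φ ψ ⟨hφ, hP, g, hg, hge⟩ ⟨hψ, hR, k, hk, hke⟩ h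
    refine ⟨F.comp_mem hφ hψ h, hP, k * g, by rw [map_mul, hk, hg, one_mul], fun x hx => ?_⟩
    have h1 := hge x ((F.le_of_mem hφ).2 x)
    have h2 := hke ⟨φ x, h x⟩ hx
    calc k * g * ι ⟨x, hT (hP x.2)⟩ * (k * g)⁻¹
        = k * (g * ι ⟨x, hT (hP x.2)⟩ * g⁻¹) * k⁻¹ := by group
      _ = _ := by rw [h1]; exact h2
  inv_mem := by
    rintro P φ ⟨hφ, hP, g, hg, hge⟩
    obtain ⟨ψ, hψ, hψe⟩ := F.inv_mem hφ
    have hr : φ.range ≤ T := by
      rintro _ ⟨x, rfl⟩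
      exact hTc _ _ hφ hP x
    refine ⟨ψ, ⟨hψ, hr, g⁻¹, by rw [map_inv, hg, inv_one], fun y hy => ?_⟩, hψe⟩
    obtain ⟨x, hx⟩ := y.2
    have h1 := hge x ((F.le_of_mem hφ).2 x)
    have e1 : (⟨(y : Ω), hT (hr y.2)⟩ : ↥S) = ⟨φ x, (F.le_of_mem hφ).2 x⟩ := Subtype.ext hx.symm
    have e2 : (⟨ψ y, hy⟩ : ↥S) = ⟨x, hT (hP x.2)⟩ := Subtype.ext
      ((congrArg ψ (Subtype.ext hx.symm : y = ⟨φ x, ⟨x, rfl⟩⟩)).trans (hψe x))
    rw [e1, e2, ← h1]
    group

theorem isMap_kerSystem_iff {hT : T ≤ S}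
    {hTc : ∀ (P : Subgroup Ω) (φ : P →* Ω), φ ∈ F.Hom P → P ≤ T → ∀ x : P, φ x ∈ T}
    {ι : ↥S →* G} {τ : G →* A} {hτ : ∀ t : ↥S, (t : Ω) ∈ T → τ (ι t) = 1}
    {P : Subgroup Ω} {f : Ω → Ω} :
    IsMap (kerSystem F T hT hTc ι τ hτ) P f ↔
      ∃ (hf : IsMap F P f) (_ : P ≤ T) (g : G), τ g = 1 ∧
        ∀ (x : Ω) (hx : x ∈ P), g * ι ⟨x, hf.le hx⟩ * g⁻¹ = ι ⟨f x, hf.mem hx⟩ := by
  constructor
  · rintro ⟨φ, ⟨hφ, hP, g, hg, hge⟩, hf⟩
    have hm : IsMap F P f := ⟨φ, hφ, hf⟩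
    refine ⟨hm, hP, g, hg, fun x hx => ?_⟩
    rw [show (⟨f x, hm.mem hx⟩ : ↥S) = ⟨φ ⟨x, hx⟩, (F.le_of_mem hφ).2 _⟩ from
      Subtype.ext (hf ⟨x, hx⟩).symm]
    exact hge ⟨x, hx⟩ _
  · rintro ⟨hf, hP, g, hg, hge⟩
    exact ⟨hf.hom, ⟨hf.hom_mem_self, hP, g, hg, fun x _ => hge x x.2⟩, fun _ => rfl⟩

end Kernel

variable [Finite S] [Fact p.Prime] {F : FusionSystem S}

omit [Finite S] in
theorem relIndex_dvd_index_inf {G : Type*} [Group G] [Finite G] (B N : Subgroup G) [N.Normal] :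
    B.relIndex N ∣ B.index := by
  have h1 : B.relIndex N * N.index = N.relIndex B * B.index := by
    rw [← Subgroup.inf_relIndex_right B N, ← Subgroup.inf_relIndex_right N B,
      Subgroup.relIndex_mul_index inf_le_right, Subgroup.relIndex_mul_index inf_le_right, inf_comm]
  obtain ⟨c, hc⟩ : N.relIndex B ∣ N.index := Subgroup.relIndex_dvd_index_of_normal N B
  have h2 : N.relIndex B ≠ 0 := Subgroup.index_ne_zero_of_finite (H := N.subgroupOf B)
  refine ⟨c, ?_⟩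
  rw [hc] at h1
  exact Nat.eq_of_mul_eq_mul_left (Nat.pos_of_ne_zero h2) (by rw [← h1]; ring)

omit [Finite S] in
theorem pow_smul_aut {P : Subgroup Ω} {G : Type*} [Group G] (hP : P ≤ S) (ι : ↥S →* G) (g : G)
    (α : MulAut P)
    (hg : ∀ (x : Ω) (hx : x ∈ P), g * ι ⟨x, hP hx⟩ * g⁻¹ = ι ⟨autFun α x, hP (autFun_mem α hx)⟩)
    (k : ℕ) : ∀ (x : Ω) (hx : x ∈ P),
      g ^ k * ι ⟨x, hP hx⟩ * (g ^ k)⁻¹ = ι ⟨autFun (α ^ k) x, hP (autFun_mem _ hx)⟩ := by
  induction k with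
  | zero =>
    intro x hx
    rw [pow_zero, one_mul, inv_one, mul_one]
    congr 1
    exact Subtype.ext (show x = autFun (α ^ 0) x by rw [pow_zero, autFun_one]; rfl)
  | succ k ih =>
    intro x hx
    calc g ^ (k + 1) * ι ⟨x, hP hx⟩ * (g ^ (k + 1))⁻¹
        = g * (g ^ k * ι ⟨x, hP hx⟩ * (g ^ k)⁻¹) * g⁻¹ := by rw [pow_succ']; group
      _ = ι ⟨autFun α (autFun (α ^ k) x), hP (autFun_mem _ (autFun_mem _ hx))⟩ := by
          rw [ih x hx, hg _ (autFun_mem _ hx)]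
      _ = _ := by
          congr 1
          exact Subtype.ext (show autFun α (autFun (α ^ k) x) = autFun (α ^ (k + 1)) x by
            rw [pow_succ', autFun_mul])

/-- The subsystem over a subgroup of index `p` containing the hyperfocal subgroup. -/
theorem exists_index_step (hS : IsPGroup p S) (hF : F.IsSaturated p) (hT : T ≤ S)
    (hidx : T.relIndex S = p) (hhyp : F.hyperfocalSubgroup p ≤ T) :
    ∃ E : FusionSystem T, E.IsSaturated p ∧ E.IsSubsystemOf F ∧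
      (∀ (P : Subgroup Ω), P ≤ T → ∀ α : F.autGroup P, (orderOf α).Coprime p →
        (α : MulAut P) ∈ E.autGroup P) ∧
      ∀ (P : Subgroup Ω) (f : Ω → Ω), IsMap F P f → P ≤ T →
        ∃ s ∈ S, IsMap E P fun x => cj s⁻¹ (f x) := by
  classical
  have : Finite T := finite_of_le hT
  obtain ⟨a, ha⟩ := IsPGroup.iff_card.1 hS
  have hn : (T.subgroupOf S).Normal := by
    refine Subgroup.normal_of_index_eq_minFac_card ?_
    have h1 : (T.subgroupOf S).index ∣ Nat.card S := Subgroup.index_dvd_card _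
    rw [show (T.subgroupOf S).index = T.relIndex S from rfl, hidx, ha] at *
    rcases a with _ | a
    · rw [pow_zero, Nat.dvd_one] at h1; exact absurd h1 (Fact.out : p.Prime).ne_one
    · rw [Nat.pow_minFac a.succ_ne_zero, (Fact.out : p.Prime).minFac_eq]
  have hcard : Nat.card (↥S ⧸ T.subgroupOf S) = p := hidx
  have : IsCyclic (↥S ⧸ T.subgroupOf S) := isCyclic_of_prime_card hcard
  let e := (zmodCyclicMulEquiv this).symm
  let χ := e.toMonoidHom.comp (QuotientGroup.mk' (T.subgroupOf S))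
  have hexp : ∀ b : Multiplicative (ZMod (Nat.card (↥S ⧸ T.subgroupOf S))), b ^ p = 1 := fun b => by
    obtain ⟨c, rfl⟩ := e.surjective b
    rw [← map_pow, ← hcard, pow_card_eq_one', map_one]
  have hker : ∀ s : ↥S, χ s = 1 ↔ (s : Ω) ∈ T := fun s => by
    show e (QuotientGroup.mk' _ s) = 1 ↔ _
    rw [MulEquiv.map_eq_one_iff, QuotientGroup.mk'_apply, QuotientGroup.eq_one_iff,
      Subgroup.mem_subgroupOf]
  have hχsurj : Function.Surjective χ := e.surjective.comp (QuotientGroup.mk'_surjective _)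
  have hfoc : F.focalSubgroup ≤ T := by
    rw [focal_eq hS hF]
    refine sup_le hhyp (Subgroup.commutator_le.2 fun x hx y hy => ?_)
    have h : χ ⁅(⟨x, hx⟩ : ↥S), (⟨y, hy⟩ : ↥S)⁆ = 1 := by
      rw [map_commutatorElement, commutatorElement_eq_one_iff_mul_comm]
      exact mul_comm _ _
    exact (hker _).1 h
  have hdiff : ∀ (P : Subgroup Ω) (φ : P →* Ω), φ ∈ F.Hom P → ∀ x : P,
      (x : Ω)⁻¹ * φ x ∈ T := fun P φ hφ x => hfoc (Subgroup.subset_closure ⟨P, φ, x, hφ, rfl⟩)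
  have hTc : ∀ (P : Subgroup Ω) (φ : P →* Ω), φ ∈ F.Hom P → P ≤ T → ∀ x : P, φ x ∈ T :=
    fun P φ hφ hPT x => by simpa using T.mul_mem (hPT x.2) (hdiff P φ hφ x)
  have hχ : ∀ (Q : Subgroup Ω) (f : Ω → Ω) (hf : IsMap F Q f) (x : Ω) (hx : x ∈ Q),
      χ ⟨f x, hf.mem hx⟩ = χ ⟨x, hf.le hx⟩ := fun Q f hf x hx => by
    refine (inv_mul_eq_one.1 ?_).symm
    rw [← map_inv, ← map_mul, hker]
    exact hdiff Q hf.hom hf.hom_mem_self ⟨x, hx⟩
  obtain ⟨G, _, _, ι, τ, m, hm, hι, hreal, hev, hkz⟩ := exists_realization hS hF χ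
  have hτι : ∀ s : ↥S, τ (ι s) = χ s ^ m := fun s => hev s fun Q f hf k hk => by
    rw [hχ Q f hf _ hk, ← map_zpow]
    rfl
  have hroot : ∀ b, ∃ s : ↥S, χ s ^ m = b := fun b => by
    obtain ⟨j, hj⟩ := exists_pow_eq_self_of_coprime (x := b) (n := m)
      (Nat.Coprime.coprime_dvd_right (orderOf_dvd_of_pow_eq_one (hexp b)) hm)
    obtain ⟨s, hs⟩ := hχsurj (b ^ j)
    exact ⟨s, by rw [hs, ← pow_mul, mul_comm, pow_mul, hj]⟩
  -- the transfer of the centralizer of a fully centralized subgroup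
  have hcen : ∀ R : Subgroup Ω, R ≤ S → F.IsFullyCentralized R → ∀ z : G,
      (∀ r : ↥S, (r : Ω) ∈ R → z * ι r = ι r * z) →
      ∃ c : ↥S, (c : Ω) ∈ centralizerIn S R ∧ χ c ^ m = τ z := by
    intro R hR hRc z hz
    let Λ : Subgroup (Multiplicative (ZMod (Nat.card (↥S ⧸ T.subgroupOf S)))) :=
      ((centralizerIn S R).subgroupOf S).map χ
    have hΛ : τ z ∈ Λ := hkz hexp hχ R hR Λ (fun f hf c hc => by
      obtain ⟨f', hf', himg, -, -⟩ := hf.exists_inv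
      obtain ⟨g, hg, hge⟩ := exists_extension hS hF hf' (by rw [himg]; exact hRc)
      have hle := centralizerIn_le_nSub (S := S) (P := img f R) (f := f')
      have h1 := hg.img_centralizerIn_le (le_nSub hf') hle
      rw [img_congr hge, himg] at h1
      rw [← hχ _ g hg c (hle hc)]
      exact ⟨_, Subgroup.mem_subgroupOf.2 (h1 (mem_img_self g hc)), rfl⟩) z hz
    obtain ⟨c, hc, hce⟩ := hΛ
    obtain ⟨j, hj⟩ := exists_pow_eq_self_of_coprime (x := τ z) (n := m)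
      (Nat.Coprime.coprime_dvd_right (orderOf_dvd_of_pow_eq_one (hexp _)) hm)
    refine ⟨c ^ j, Subgroup.pow_mem _ (Subgroup.mem_subgroupOf.1 hc) j, ?_⟩
    rw [map_pow, hce, ← pow_mul, mul_comm, pow_mul, hj]
  have hτT : ∀ t : ↥S, (t : Ω) ∈ T → τ (ι t) = 1 := fun t ht => by
    rw [hτι, (hker t).2 ht, one_pow]
  let E := kerSystem F T hT hTc ι τ hτT
  have hEsub : E.IsSubsystemOf F := fun P φ hφ => hφ.1
  have hadj : ∀ (P : Subgroup Ω) (f₀ : Ω → Ω), IsMap F P f₀ → P ≤ T →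
      ∃ s : ↥S, IsMap E P fun x => cj (s : Ω)⁻¹ (f₀ x) := by
    intro P f₀ hf₀ hP
    obtain ⟨g₀, hg₀⟩ := hreal P f₀ hf₀
    obtain ⟨s, hs⟩ := hroot (τ g₀)
    have hcs : IsMap F (img f₀ P) (cj (s : Ω)⁻¹) := isMap_cj hf₀.img_le_S (S.inv_mem s.2)
    refine ⟨s, isMap_kerSystem_iff.2 ⟨hcs.comp hf₀ fun x hx => mem_img_self f₀ hx, hP,
      ι s⁻¹ * g₀, by rw [map_mul, hτι, map_inv, inv_pow, hs, inv_mul_cancel], fun x hx => ?_⟩⟩
    calc ι s⁻¹ * g₀ * ι ⟨x, _⟩ * (ι s⁻¹ * g₀)⁻¹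
        = ι s⁻¹ * (g₀ * ι ⟨x, hf₀.le hx⟩ * g₀⁻¹) * (ι s⁻¹)⁻¹ := by group
      _ = _ := by
        rw [hg₀ x hx, ← map_mul, ← map_inv, ← map_mul]
        exact congrArg ι (Subtype.ext rfl)
  refine ⟨E, fun P hP => ?_, hEsub, fun P hP α hα => ?_, fun P f hf hP => ?_⟩
  rotate_left 2
  · obtain ⟨s, hs⟩ := hadj P f hf hP
    exact ⟨s, s.2, hs⟩
  · obtain ⟨R₀, hR₀c, hR₀⟩ := exists_fullyNormalized (F := F) (hP.trans hT)
    obtain ⟨f₀, hf₀, rfl⟩ := isConj_iff_map.1 hR₀c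
    obtain ⟨s, hfE⟩ := hadj P f₀ hf₀ hP
    -- adjust the conjugate
    have hcs : IsMap F (img f₀ P) (cj (s : Ω)⁻¹) := isMap_cj hf₀.img_le_S (S.inv_mem s.2)
    have hf : IsMap F P (fun x => cj (s : Ω)⁻¹ (f₀ x)) := hcs.comp hf₀ fun x hx => mem_img_self f₀ hx
    set f : Ω → Ω := fun x => cj (s : Ω)⁻¹ (f₀ x) with hfdef
    set R := img f P with hRdef
    have hRT : R ≤ T := hfE.img_le_S
    have hRS : R ≤ S := hRT.trans hT
    have hR : F.IsFullyNormalized R := by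
      refine ⟨hRS, fun Q hQ => ?_⟩
      have h1 : img (cj (s : Ω)⁻¹) (img f₀ P) = R := hf₀.img_img _
      have h2 : F.IsConj (img f₀ P) Q := isConj_trans (isConj_iff_map.2 ⟨_, hcs, h1⟩) hQ
      refine (hR₀.2 Q h2).trans ?_
      have hc2 : IsMap F S (cj (s : Ω)⁻¹) := isMap_cj le_rfl (S.inv_mem s.2)
      have h3 := hc2.img_normalizerIn_le hf₀.img_le_S normalizerIn_le
      rw [h1] at h3
      have : Finite (normalizerIn S R) := finite_of_le normalizerIn_le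
      rw [← (hc2.restrict (normalizerIn_le (P := img f₀ P))).card_img]
      exact card_le_card h3
    have hRc := fullyNormalized_fullyCentralized hS hF hR
    refine ⟨R, isConj_iff_map.2 ⟨f, hfE, rfl⟩, ?_, isReceptive_iff.2 ⟨hRT, fun Q k hk himg => ?_⟩⟩
    · -- fully automized
      refine (fullyAutomized_iff (hS.to_le hT)).2 ⟨hRT, fun hdvd => ?_⟩
      have hfinR : Finite R := finite_of_le hRS
      set AF := F.autGroup R
      set AE := E.autGroup R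
      have hEF : AE ≤ AF := autGroup_mono hEsub R
      have hmemE : ∀ α : MulAut R, α ∈ AE ↔ α ∈ AF ∧ ∃ g : G, τ g = 1 ∧ ∀ (x : Ω) (hx : x ∈ R),
          g * ι ⟨x, hRS hx⟩ * g⁻¹ = ι ⟨autFun α x, hRS (autFun_mem α hx)⟩ := by
        intro α
        constructor
        · intro h
          obtain ⟨hf', -, g, hg, hge⟩ := isMap_kerSystem_iff.1 (isMap_of_mem_autGroup hRT h)
          exact ⟨hEF h, g, hg, hge⟩
        · rintro ⟨h, g, hg, hge⟩
          exact (mem_autGroup_iff hRT).2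
            (isMap_kerSystem_iff.2 ⟨isMap_of_mem_autGroup hRS h, hRT, g, hg, hge⟩)
      have hnor : (AE.subgroupOf AF).Normal := by
        refine ⟨fun b hb c => Subgroup.mem_subgroupOf.2 ((hmemE _).2 ⟨SetLike.coe_mem _, ?_⟩)⟩
        obtain ⟨-, g, hg, hge⟩ := (hmemE _).1 (Subgroup.mem_subgroupOf.1 hb)
        obtain ⟨k, hk⟩ := hreal R _ (isMap_of_mem_autGroup hRS c.2)
        refine ⟨k * g * k⁻¹, by rw [map_mul, map_mul, hg, mul_one, map_inv, mul_inv_cancel],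
          fun x hx => ?_⟩
        have hy := autFun_mem (c : MulAut R)⁻¹ hx
        have hky : k * ι ⟨_, hRS hy⟩ * k⁻¹ = ι ⟨x, hRS hx⟩ := (hk _ hy).trans
          (congrArg ι (Subtype.ext (autFun_apply_inv _ _)))
        calc k * g * k⁻¹ * ι ⟨x, hRS hx⟩ * (k * g * k⁻¹)⁻¹
            = k * (g * (k⁻¹ * ι ⟨x, hRS hx⟩ * k) * g⁻¹) * k⁻¹ := by group
          _ = k * (g * ι ⟨_, hRS hy⟩ * g⁻¹) * k⁻¹ := by rw [← hky]; group
          _ = _ := by
            rw [hge _ hy, hk _ (autFun_mem _ hy)]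
            exact congrArg ι (Subtype.ext (by
              simp only [Subgroup.coe_mul, Subgroup.coe_inv, autFun_mul]))
      have hBT : (autInducedBy S R) ⊓ AE ≤ autInducedBy T R := by
        rintro α ⟨hαS, hαE⟩
        obtain ⟨v, hv, hve⟩ := mem_autInducedBy_iff'.1 hαS
        obtain ⟨-, g, hg, hge⟩ := (hmemE α).1 hαE
        obtain ⟨c, hc, hce⟩ := hcen R hRS hRc (g⁻¹ * ι ⟨v, hv.1⟩) fun r hr => by
          have h1 := hge r hr
          have h2 : (⟨autFun α (r : Ω), hRS (autFun_mem α hr)⟩ : ↥S) =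
              ⟨v, hv.1⟩ * r * ⟨v, hv.1⟩⁻¹ := Subtype.ext (hve r hr)
          rw [h2, map_mul, map_mul, map_inv] at h1
          calc g⁻¹ * ι ⟨v, hv.1⟩ * ι r
              = g⁻¹ * (ι ⟨v, hv.1⟩ * ι r * (ι ⟨v, hv.1⟩)⁻¹) * ι ⟨v, hv.1⟩ := by group
            _ = g⁻¹ * (g * ι r * g⁻¹) * ι ⟨v, hv.1⟩ := by rw [← h1]
            _ = ι r * (g⁻¹ * ι ⟨v, hv.1⟩) := by group
        rw [map_mul, map_inv, hg, inv_one, one_mul, hτι] at hce
        have h3 : χ (⟨v, hv.1⟩ * c⁻¹) ^ m = 1 := by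
          rw [map_mul, map_inv, mul_pow, inv_pow, hce, mul_inv_cancel]
        have h4 : χ (⟨v, hv.1⟩ * c⁻¹) = 1 := orderOf_eq_one_iff.1 (Nat.eq_one_of_dvd_coprimes hm
          (orderOf_dvd_of_pow_eq_one h3) (orderOf_dvd_of_pow_eq_one (hexp _)))
        have hcN : (c : Ω) ∈ Subgroup.normalizer (R : Set Ω) :=
          Subgroup.centralizer_le_normalizer _ hc.2
        refine mem_autInducedBy_iff'.2 ⟨v * (c : Ω)⁻¹, ⟨(hker _).1 h4,
          Subgroup.mul_mem _ hv.2 (Subgroup.inv_mem _ hcN)⟩, fun x hx => ?_⟩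
        rw [hve x hx, cj_apply, cj_apply]
        have hcx : (c : Ω)⁻¹ * x * c = x := by
          rw [mul_assoc, hc.2 x hx, inv_mul_cancel_left]
        calc v * x * v⁻¹ = v * ((c : Ω)⁻¹ * x * c) * v⁻¹ := by rw [hcx]
          _ = _ := by group
      obtain ⟨-, hFA⟩ := (fullyAutomized_iff hS).1 (fullyNormalized_fullyAutomized hS hF hR)
      refine hFA ?_
      have hTS : autInducedBy T R ≤ AE := autInducedBy_le hRT
      have h1 : (autInducedBy T R).relIndex AE ∣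
          ((autInducedBy S R).subgroupOf AF).relIndex (AE.subgroupOf AF) := by
        rw [Subgroup.relIndex_subgroupOf hEF, ← Subgroup.inf_relIndex_right (autInducedBy S R)]
        exact Subgroup.relIndex_dvd_of_le_left AE hBT
      exact dvd_trans hdvd (dvd_trans h1 (relIndex_dvd_index_inf _ _))
    · -- receptive
      have hkF := isMap_of_subset hEsub hk
      obtain ⟨_, hQT, g, hg, hge⟩ := isMap_kerSystem_iff.1 hk
      obtain ⟨h, hh, hhe⟩ := exists_extension hS hF hkF (by rw [himg]; exact hRc)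
      have hle : nSub T Q k ≤ nSub S Q k := fun a ha =>
        ⟨hT ha.1, ha.2.1, ha.2.2.choose, hT ha.2.2.choose_spec.1, ha.2.2.choose_spec.2⟩
      have hhN := hh.restrict hle
      obtain ⟨g₁, hg₁⟩ := hreal _ h hhN
      obtain ⟨c, hc, hce⟩ := hcen R hRS hRc (g₁ * g⁻¹) fun r hr => by
        obtain ⟨x, hx, hxr⟩ := hkF.mem_img.1 (himg.symm ▸ hr)
        have hxN : x ∈ nSub T Q k := le_nSub hk hx
        have h1 := hge x hx
        have h2 := hg₁ x hxN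
        have e1 : (⟨k x, hkF.mem hx⟩ : ↥S) = r := Subtype.ext hxr
        have e2 : (⟨h x, hhN.mem hxN⟩ : ↥S) = r := Subtype.ext ((hhe x hx).trans hxr)
        rw [e1] at h1
        rw [e2] at h2
        calc g₁ * g⁻¹ * ι r = g₁ * g⁻¹ * (g * ι ⟨x, hkF.le hx⟩ * g⁻¹) := by rw [h1]
          _ = g₁ * ι ⟨x, hhN.le hxN⟩ * g₁⁻¹ * (g₁ * g⁻¹) := by group
          _ = ι r * (g₁ * g⁻¹) := by rw [h2]
      rw [map_mul, map_inv, hg, inv_one, mul_one] at hce
      have hhc : IsMap F (nSub T Q k) (fun y => cj (c : Ω)⁻¹ (h y)) :=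
        (isMap_cj hhN.img_le_S (S.inv_mem c.2)).comp hhN fun y hy => mem_img_self h hy
      refine ⟨fun y => cj (c : Ω)⁻¹ (h y), isMap_kerSystem_iff.2
        ⟨hhc, (nSub_le T Q k).trans normalizerIn_le, ι c⁻¹ * g₁, ?_, fun y hy => ?_⟩, fun x hx => ?_⟩
      · rw [map_mul, hτι, map_inv, inv_pow, hce, inv_mul_cancel]
      · calc ι c⁻¹ * g₁ * ι ⟨y, _⟩ * (ι c⁻¹ * g₁)⁻¹
            = ι c⁻¹ * (g₁ * ι ⟨y, hhN.le hy⟩ * g₁⁻¹) * (ι c⁻¹)⁻¹ := by group
          _ = _ := by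
            rw [hg₁ y hy, ← map_mul, ← map_inv, ← map_mul]
            exact congrArg ι (Subtype.ext rfl)
      · show (c : Ω)⁻¹ * h x * ((c : Ω)⁻¹)⁻¹ = k x
        rw [hhe x hx, inv_inv, mul_assoc, hc.2 _ (himg ▸ mem_img_self k hx), inv_mul_cancel_left]
  · -- automorphisms of order prime to `p`
    have hPS := hP.trans hT
    have hfinP : Finite P := finite_of_le hPS
    have hαm := isMap_of_mem_autGroup hPS α.2
    obtain ⟨g, hg⟩ := hreal P _ hαm
    obtain ⟨k, hk1, hkp⟩ := Nat.chineseRemainder hα 1 0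
    refine (mem_autGroup_iff hP).2 (isMap_kerSystem_iff.2 ⟨hαm, hP, g ^ k, ?_, fun x hx => ?_⟩)
    · obtain ⟨j, rfl⟩ := Nat.modEq_zero_iff_dvd.1 hkp
      rw [map_pow, pow_mul, hexp, one_pow]
    · rw [pow_smul_aut hPS ι g _ hg k x hx]
      refine congrArg ι (Subtype.ext ?_)
      rw [← Subgroup.coe_pow, ← pow_mod_orderOf, show k % orderOf α = 1 % orderOf α from hk1,
        pow_mod_orderOf, pow_one]

/-- A saturated subsystem of `p`-power index exists over every subgroup containing the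
hyperfocal subgroup. -/
theorem exists_pPowerIndex' (hS : IsPGroup p S) (hF : F.IsSaturated p) (hT : T ≤ S)
    (hhyp : F.hyperfocalSubgroup p ≤ T) :
    ∃ E : FusionSystem T, E.IsSaturated p ∧ E.HasPPowerIndexIn F p ∧
      ((∀ a ∈ S, ∀ x ∈ T, a * x * a⁻¹ ∈ T) → ∀ (P : Subgroup Ω) (f : Ω → Ω), IsMap F P f →
        P ≤ T → ∃ s ∈ S, IsMap E P fun x => cj s⁻¹ (f x)) := by
  induction hn : Nat.card S using Nat.strongRecOn generalizing S with
  | _ n ih =>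
    subst hn
    rcases eq_or_lt_of_le hT with rfl | hlt
    · exact ⟨F, hF, ⟨fun P => subset_rfl, hhyp, fun P hP => by
        rintro _ ⟨a, -, rfl⟩; exact a.2⟩, fun _ P f hf _ => ⟨1, T.one_mem, hf.congr fun x _ => by
          rw [inv_one, cj_one]; rfl⟩⟩
    obtain ⟨a, ha⟩ := IsPGroup.iff_card.1 hS
    have : Finite T := finite_of_le hT
    obtain ⟨b, hb⟩ := IsPGroup.iff_card.1 (hS.to_le hT)
    have hba : b < a := by
      have h1 := card_lt_card hlt
      rw [ha, hb] at h1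
      exact (Nat.pow_lt_pow_iff_right (Fact.out : p.Prime).one_lt).1 h1
    have hb' : Nat.card (T.subgroupOf S) = p ^ b := by
      rw [Nat.card_congr (Subgroup.subgroupOfEquivOfLe hT).toEquiv, hb]
    obtain ⟨M, hM, hTM⟩ := Sylow.exists_subgroup_card_pow_prime_le (G := ↥S) p
      (n := b) (m := a - 1) (by rw [ha]; exact pow_dvd_pow p (by omega)) (T.subgroupOf S) hb' (by omega)
    set T₁ := M.map S.subtype with hT₁
    have hT₁S : T₁ ≤ S := Subgroup.map_subtype_le _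
    have hTT₁ : T ≤ T₁ := fun x hx => ⟨⟨x, hT hx⟩, hTM hx, rfl⟩
    have hidx : T₁.relIndex S = p := by
      show (T₁.subgroupOf S).index = p
      rw [Subgroup.subgroupOf, hT₁, Subgroup.comap_map_eq_self_of_injective S.subtype_injective]
      have h1 := Subgroup.card_mul_index M
      rw [hM, ha, show a = (a - 1) + 1 by omega, pow_succ, Nat.add_sub_cancel] at h1
      exact Nat.eq_of_mul_eq_mul_left (pow_pos (Fact.out : p.Prime).pos _) h1
    obtain ⟨E₁, hE₁s, hE₁sub, hE₁aut, hE₁coset⟩ :=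
      exists_index_step hS hF hT₁S hidx (hhyp.trans hTT₁)
    have : Finite T₁ := finite_of_le hT₁S
    have hlt₁ : Nat.card T₁ < Nat.card S := by
      have h1 : Nat.card T₁ = p ^ (a - 1) :=
        (Nat.card_congr (M.equivMapOfInjective _ S.subtype_injective).toEquiv).symm.trans hM
      rw [h1, ha]
      exact Nat.pow_lt_pow_right (Fact.out : p.Prime).one_lt (by omega)
    obtain ⟨E, hEs, ⟨hEsub, -, hEaut⟩, hEcoset⟩ := ih _ hlt₁ (hS.to_le hT₁S) hE₁s hTT₁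
      ((hyp_mono hT₁S hE₁sub).trans hhyp) rfl
    refine ⟨E, hEs, ⟨fun P => (hEsub P).trans (hE₁sub P), hhyp, fun P hP => ?_⟩,
      fun hn P f hf hP => ?_⟩
    swap
    · obtain ⟨s, hs, hg⟩ := hE₁coset P f hf (hP.trans hTT₁)
      obtain ⟨t, ht, hg'⟩ := hEcoset (fun a ha => hn a (hT₁S ha)) P _ hg hP
      exact ⟨s * t, S.mul_mem hs (hT₁S ht), hg'.congr fun x _ => by rw [mul_inv_rev, cj_mul]⟩
    rw [pResidual, MonoidHom.map_closure, Subgroup.closure_le]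
    rintro _ ⟨α, hα, rfl⟩
    have h1 := hE₁aut P (hP.trans hTT₁) α hα
    refine hEaut P hP ⟨⟨α, h1⟩, Subgroup.subset_closure ?_, rfl⟩
    show (orderOf (⟨(α : MulAut P), h1⟩ : E₁.autGroup P)).Coprime p
    rwa [Subgroup.orderOf_mk, Subgroup.orderOf_coe]

theorem exists_pPowerIndex (hS : IsPGroup p S) (hF : F.IsSaturated p) (hT : T ≤ S)
    (hhyp : F.hyperfocalSubgroup p ≤ T) :
    ∃ E : FusionSystem T, E.IsSaturated p ∧ E.HasPPowerIndexIn F p := by
  obtain ⟨E, h₁, h₂, -⟩ := exists_pPowerIndex' hS hF hT hhyp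
  exact ⟨E, h₁, h₂⟩

/-- A saturated subsystem of `F` over `T` lies in every subsystem of `p`-power index over `T`. -/
theorem le_of_pPowerIndex (hS : IsPGroup p S) (hT : T ≤ S) {E E' : FusionSystem T}
    (hE : E.IsSaturated p) (hEF : E.IsSubsystemOf F) (hE' : E'.HasPPowerIndexIn F p) : E ≤ E' := by
  have : Finite T := finite_of_le hT
  refine le_of_autGroup (hS.to_le hT) hE fun P hP _ α hα => ?_
  obtain ⟨r, hr, a, ha, rfl⟩ := aut_decomp (hS.to_le hT) hE hP hα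
  refine Subgroup.mul_mem _ (autInducedBy_le hP.1 ha) (hE'.2.2 P hP.1 ?_)
  obtain ⟨r₀, hr₀, rfl⟩ := hr
  exact ⟨Subgroup.inclusion (autGroup_mono hEF P) r₀,
    Cfsg.Agent.Cores.map_pResidual_le _ p ⟨r₀, hr₀, rfl⟩, rfl⟩

theorem pPowerIndex_unique (hS : IsPGroup p S) (hT : T ≤ S) {E E' : FusionSystem T}
    (hE : E.IsSaturated p) (hEi : E.HasPPowerIndexIn F p) (hE' : E'.IsSaturated p)
    (hEi' : E'.HasPPowerIndexIn F p) : E' = E :=
  fs_ext_le (le_of_pPowerIndex hS hT hE' hEi'.1 hEi)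
    (le_of_pPowerIndex hS hT hE hEi.1 hEi')

end Cfsg.Agent.Fusion.PPowerIndex
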