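/-
Saturated subsystems of `p`-power index over normal subgroups of `S` are normal.
-/
import Mathlib
import Cfsg.Agent.Lib.Fusion.PPowerIndex
import Cfsg.Agent.Lib.Fusion.Subsystems
import Cfsg.Agent.Lib.Fusion.Hyperfocal

set_option autoImplicit false

namespace Cfsg.Agent.Fusion.PPowerNormal

open Cfsg Cfsg.FusionSystem Cfsg.Agent.Fusion.Basic Cfsg.Agent.Fusion.Saturation
  Cfsg.Agent.Fusion.Alperin Cfsg.Agent.Fusion.Focal Cfsg.Agent.Fusion.Normal
  Cfsg.Agent.Fusion.PPowerIndex

variable {Ω : Type*} [Group Ω] {S T : Subgroup Ω} {F : FusionSystem S} {p : ℕ}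

/-- The maps of `F` below `T` whose conjugates by an automorphism of `T` lie in `E`. -/
def conjSystem (F : FusionSystem S) (E : FusionSystem T) (hT : T ≤ S) (g : MulAut T) :
    FusionSystem T where
  Hom P := {φ | φ ∈ F.Hom P ∧ P ≤ T ∧ (∀ x : P, φ x ∈ T) ∧
    IsMap E (img (autFun g) P) fun y => autFun g (ext φ (autFun g⁻¹ y))}
  le_of_mem h := ⟨h.2.1, h.2.2.1⟩
  injective_of_mem h := F.injective_of_mem h.1
  conj_mem := by
    intro P a hP ha
    refine ⟨F.conj_mem (hP.trans hT) (hT ha), hP,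
      fun x => T.mul_mem (T.mul_mem ha (hP x.2)) (T.inv_mem ha), ?_⟩
    have hgP : img (autFun g) P ≤ T := img_le fun x hx => autFun_mem g (hP hx)
    refine (isMap_cj hgP (autFun_mem g ha)).congr fun y hy => ?_
    have hy' : autFun g⁻¹ y ∈ P := by
      obtain ⟨x, hx, rfl⟩ : ∃ x ∈ P, autFun g x = y := by
        have hy1 : y ∈ ((img (autFun g) P : Subgroup Ω) : Set Ω) := hy
        rwa [coe_img_of_hom ((autFun_isHom g).mono hP)] at hy1
      rwa [autFun_inv_apply]
    rw [show ext (conjHom P a) (autFun g⁻¹ y) = a * autFun g⁻¹ y * a⁻¹ from ext_of_mem _ hy',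
      (autFun_isHom g).map_conj ha (hP hy'), autFun_apply_inv]
    rfl
  comp_mem := by
    rintro P R φ ψ ⟨hφ, hP, hφT, hφE⟩ ⟨hψ, hR, hψT, hψE⟩ h
    refine ⟨F.comp_mem hφ hψ h, hP, fun x => hψT _, ?_⟩
    have hmem : ∀ y ∈ img (autFun g) P, autFun g⁻¹ y ∈ P := fun y hy => by
      obtain ⟨x, hx, rfl⟩ : ∃ x ∈ P, autFun g x = y := by
        have hy1 : y ∈ ((img (autFun g) P : Subgroup Ω) : Set Ω) := hy
        rwa [coe_img_of_hom ((autFun_isHom g).mono hP)] at hy1
      rwa [autFun_inv_apply]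
    refine (hψE.comp hφE fun y hy => mem_img_self _ ?_).congr fun y hy => ?_
    · rw [ext_of_mem φ (hmem y hy)]
      exact h _
    · simp only [autFun_inv_apply]
      rw [ext_of_mem φ (hmem y hy), ext_of_mem ψ (h _), ext_of_mem _ (hmem y hy)]
      rfl
  inv_mem := by
    rintro P φ ⟨hφ, hP, hφT, hφE⟩
    obtain ⟨ψ, hψ, hψe⟩ := F.inv_mem hφ
    have hr : φ.range ≤ T := by
      rintro _ ⟨x, rfl⟩
      exact hφT x
    obtain ⟨k, hk, -, hke, -⟩ := hφE.exists_inv
    have hval : ∀ y : φ.range, ∃ x : P, φ x = y ∧ ψ y = x := fun y => by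
      obtain ⟨x, hx⟩ := y.2
      obtain rfl : y = ⟨φ x, ⟨x, rfl⟩⟩ := Subtype.ext hx.symm
      exact ⟨x, rfl, hψe x⟩
    refine ⟨ψ, ⟨hψ, hr, fun y => ?_, ?_⟩, hψe⟩
    · obtain ⟨x, -, hx⟩ := hval y
      rw [hx]
      exact hP x.2
    · have hdom : img (autFun g) φ.range =
          img (fun y => autFun g (ext φ (autFun g⁻¹ y))) (img (autFun g) P) := by
        refine le_antisymm (img_le ?_) (img_le fun y hy => ?_)
        · rintro _ ⟨x, rfl⟩
          have := mem_img_self (fun y => autFun g (ext φ (autFun g⁻¹ y)))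
            (mem_img_self (autFun g) x.2)
          simp only [autFun_inv_apply, ext_apply] at this
          exact this
        · obtain ⟨x, hx, rfl⟩ : ∃ x ∈ P, autFun g x = y := by
            have hy1 : y ∈ ((img (autFun g) P : Subgroup Ω) : Set Ω) := hy
            rwa [coe_img_of_hom ((autFun_isHom g).mono hP)] at hy1
          simp only [autFun_inv_apply]
          rw [ext_of_mem φ hx]
          exact mem_img_self _ ⟨⟨x, hx⟩, rfl⟩
      rw [hdom]
      refine hk.congr fun y hy => ?_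
      obtain ⟨z, hz, rfl⟩ := hφE.mem_img.1 hy
      obtain ⟨x, hx, rfl⟩ : ∃ x ∈ P, autFun g x = z := by
        have hz1 : z ∈ ((img (autFun g) P : Subgroup Ω) : Set Ω) := hz
        rwa [coe_img_of_hom ((autFun_isHom g).mono hP)] at hz1
      rw [hke _ hz]
      simp only [autFun_inv_apply]
      rw [ext_of_mem φ hx, ext_of_mem ψ ⟨⟨x, hx⟩, rfl⟩, hψe]

theorem isMap_conjSystem {E : FusionSystem T} {hT : T ≤ S} {g : MulAut T} {P : Subgroup Ω}
    {f : Ω → Ω} (hf : IsMap (conjSystem F E hT g) P f) :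
    IsMap E (img (autFun g) P) fun y => autFun g (f (autFun g⁻¹ y)) := by
  obtain ⟨φ, ⟨-, hP, -, hE⟩, he⟩ := hf
  refine hE.congr fun y hy => ?_
  obtain ⟨x, hx, rfl⟩ : ∃ x ∈ P, autFun g x = y := by
    have hy1 : y ∈ ((img (autFun g) P : Subgroup Ω) : Set Ω) := hy
    rwa [coe_img_of_hom ((autFun_isHom g).mono hP)] at hy1
  simp only [autFun_inv_apply]
  rw [ext_of_mem φ hx, ← he ⟨x, hx⟩]

variable [Finite S] [Fact p.Prime]

omit [Finite S] [Fact p.Prime] in
/-- An element of order prime to `p` of `Aut_F(P)` lies in every subsystem of `p`-power index. -/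
theorem pPrime_mem {E : FusionSystem T} (hE : E.HasPPowerIndexIn F p) {P : Subgroup Ω}
    (hP : P ≤ T) {α : MulAut P} (hα : α ∈ F.autGroup P) (h : (orderOf α).Coprime p) :
    α ∈ E.autGroup P :=
  hE.2.2 P hP ⟨⟨α, hα⟩, Subgroup.subset_closure (by
    show (orderOf (⟨α, hα⟩ : F.autGroup P)).Coprime p
    rwa [Subgroup.orderOf_mk]), rfl⟩

/-- A saturated subsystem of `F` over a smaller subgroup lies in a subsystem of `p`-power index as
soon as its automorphism groups are tested. -/
theorem subsystem_le_pPowerIndex (hS : IsPGroup p S) {U : Subgroup Ω} {E : FusionSystem T}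
    (hE : E.IsSaturated p) (hEF : E.IsSubsystemOf F) {E' : FusionSystem U} (hTU : T ≤ U)
    (hUS : U ≤ S) (hE' : E'.HasPPowerIndexIn F p) : E.IsSubsystemOf E' := by
  have : Finite T := finite_of_le (hTU.trans hUS)
  let D : FusionSystem T :=
    { Hom := fun P => E.Hom P ∩ E'.Hom P
      le_of_mem := fun h => E.le_of_mem h.1
      injective_of_mem := fun h => E.injective_of_mem h.1
      conj_mem := fun hP ha => ⟨E.conj_mem hP ha, E'.conj_mem (hP.trans hTU) (hTU ha)⟩
      comp_mem := fun hφ hψ h => ⟨E.comp_mem hφ.1 hψ.1 h, E'.comp_mem hφ.2 hψ.2 h⟩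
      inv_mem := fun {P φ} hφ => by
        obtain ⟨ψ, hψ, hψe⟩ := E.inv_mem hφ.1
        obtain ⟨ψ', hψ', hψe'⟩ := E'.inv_mem hφ.2
        have : ψ = ψ' := MonoidHom.ext fun y => by
          obtain ⟨x, hx⟩ := y.2
          obtain rfl : y = ⟨φ x, ⟨x, rfl⟩⟩ := Subtype.ext hx.symm
          rw [hψe, hψe']
        exact ⟨ψ, ⟨hψ, this ▸ hψ'⟩, hψe⟩ }
  suffices h : E ≤ D from fun P φ hφ => (h P hφ).2
  refine le_of_autGroup (hS.to_le (hTU.trans hUS)) hE fun P hP _ α hα => ?_
  obtain ⟨r, hr, a, ha, rfl⟩ := aut_decomp (hS.to_le (hTU.trans hUS)) hE hP hα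
  have hboth : ∀ β : MulAut P, β ∈ E.autGroup P → β ∈ E'.autGroup P → β ∈ D.autGroup P := by
    intro β h₁ h₂
    obtain ⟨φ, hφ, he⟩ := isMap_of_mem_autGroup hP.1 h₁
    obtain ⟨φ', hφ', he'⟩ := isMap_of_mem_autGroup (hP.1.trans hTU) h₂
    refine (mem_autGroup_iff hP.1).2 ⟨φ, ⟨hφ, ?_⟩, he⟩
    rwa [show φ = φ' from MonoidHom.ext fun x => by rw [he, he']]
  refine Subgroup.mul_mem _ (autInducedBy_le hP.1 ha) (hboth r ?_ ?_)
  · obtain ⟨r₀, -, rfl⟩ := hr
    exact r₀.2
  · obtain ⟨r₀, hr₀, rfl⟩ := hr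
    exact hE'.2.2 P (hP.1.trans hTU) ⟨Subgroup.inclusion (autGroup_mono hEF P) r₀,
      Cfsg.Agent.Cores.map_pResidual_le _ p ⟨r₀, hr₀, rfl⟩, rfl⟩

omit [Finite S] [Fact p.Prime] in
theorem normal_conj (hTS : T ≤ S) (hn : (T.subgroupOf S).Normal) :
    ∀ a ∈ S, ∀ x ∈ T, a * x * a⁻¹ ∈ T :=
  fun a ha x hx => hn.conj_mem ⟨x, hTS hx⟩ hx ⟨a, ha⟩

/-- The saturated subsystem of `p`-power index over a normal subgroup is normal. -/
theorem isNormalIn_of_pPowerIndex (hS : IsPGroup p S) (hF : F.IsSaturated p) (hTS : T ≤ S)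
    (hn : ∀ a ∈ S, ∀ x ∈ T, a * x * a⁻¹ ∈ T) {E : FusionSystem T} (hE : E.IsSaturated p)
    (hEi : E.HasPPowerIndexIn F p) : E.IsNormalIn F p := by
  have hfinT : Finite T := finite_of_le hTS
  obtain ⟨E₀, hE₀, hE₀i, hcos₀⟩ := exists_pPowerIndex' hS hF hTS hEi.2.1
  have heq : E₀ = E := pPowerIndex_unique hS hTS hE hEi hE₀ hE₀i
  subst heq
  have hcos := hcos₀ hn
  have hsc : F.StronglyClosed T := by
    refine ⟨hTS, fun R hR φ hφ x => ?_⟩
    obtain ⟨s, hs, hm⟩ := hcos R (ext φ) (IsMap.of_hom hφ) hR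
    have h1 := hn s hs _ (hm.mem x.2)
    simp only [cj_apply, inv_inv, ext_apply, mul_assoc, mul_inv_cancel_left, mul_inv_cancel,
      mul_one] at h1
    exact h1
  have hTnorm : S ≤ Subgroup.normalizer (T : Set Ω) := le_normalizer_of_stronglyClosed hsc
  refine ⟨⟨hE, hF, hEi.1, hsc, fun P hP φ hφ α hα => ?_, fun P hP φ hφ => ?_⟩, fun α hα => ?_⟩
  · -- invariance
    have hle : E₀ ≤ conjSystem F E₀ hTS α := by
      refine le_of_autGroup (hS.to_le hTS) hE fun Q hQ _ β hβ => ?_
      obtain ⟨r, hr, a, ha, rfl⟩ := aut_decomp (hS.to_le hTS) hE hQ hβ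
      refine Subgroup.mul_mem _ (autInducedBy_le hQ.1 ha) ?_
      suffices h0 : (pResidual p (E₀.autGroup Q)).map (E₀.autGroup Q).subtype ≤
          (conjSystem F E₀ hTS α).autGroup Q from h0 hr
      rw [pResidual, MonoidHom.map_closure, Subgroup.closure_le]
      rintro _ ⟨β₀, hβ₀, rfl⟩
      have hQS := hQ.1.trans hTS
      have hβF : (β₀ : MulAut Q) ∈ F.autGroup Q := autGroup_mono hEi.1 Q β₀.2
      have hm := isMap_of_mem_autGroup hQS hβF
      refine (mem_autGroup_iff hQ.1).2 ⟨hm.hom, ⟨hm.hom_mem_self, hQ.1,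
        fun x => hQ.1 (autFun_mem _ x.2), ?_⟩, fun _ => rfl⟩
      have hαm : IsMap F Q (autFun α) := (isMap_of_mem_autGroup hTS hα).restrict hQ.1
      obtain ⟨e, he⟩ := hαm.exists_autEquiv
      have hR : img (autFun α) Q ≤ T := img_le fun x hx => autFun_mem α (hQ.1 hx)
      have h1 : (e ⟨β₀, hβF⟩ : MulAut (img (autFun α) Q)) ∈ E₀.autGroup (img (autFun α) Q) := by
        refine pPrime_mem hEi hR (SetLike.coe_mem _) ?_
        rw [Subgroup.orderOf_coe, MulEquiv.orderOf_eq, ← Subgroup.orderOf_coe]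
        show (orderOf (β₀ : MulAut Q)).Coprime p
        rw [Subgroup.orderOf_coe]
        exact hβ₀
      refine (isMap_of_mem_autGroup hR h1).congr fun y hy => ?_
      obtain ⟨x, hx, rfl⟩ := hαm.mem_img.1 hy
      rw [he ⟨β₀, hβF⟩ x hx]
      simp only [autFun_inv_apply]
      rw [ext_of_mem _ hx, IsMap.hom_apply]
    have hm := isMap_conjSystem (isMap_mono hle (IsMap.of_hom hφ))
    have hdom : (P.subgroupOf T).map (T.subtype.comp α.toMonoidHom) = img (autFun α) P :=
      map_subgroupOf_eq_img (fun x => (autFun_apply α x).symm) hP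
    rw [hdom]
    refine ⟨hm.hom, hm.hom_mem_self, fun x hφx hαx => ?_⟩
    rw [IsMap.hom_apply]
    show autFun α (ext φ (autFun α⁻¹ ((α ⟨x, hP x.2⟩ : T) : Ω))) = _
    rw [← autFun_of_mem α (hP x.2), autFun_inv_apply, ext_apply, autFun_of_mem α hφx]
  · -- Frattini condition
    obtain ⟨s, hs, hm⟩ := hcos P (ext φ) (IsMap.of_hom hφ) hP
    obtain ⟨α, hα, hαe⟩ := (isMap_cj (F := F) hTS hs).exists_aut
      (img_cj_eq_of_mem_normalizer (hTnorm hs))
    refine ⟨α, hα, hm.hom, hm.hom_mem_self, fun x hx => ?_⟩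
    rw [← autFun_of_mem α hx, hαe _ hx, IsMap.hom_apply, cj_cj_inv, ext_apply]
  · -- extension condition
    set C := T ⊔ centralizerIn S T
    have hCS : C ≤ S := sup_le hTS centralizerIn_le
    have hmemC : ∀ β : MulAut C, (∀ x ∈ T, autFun β x ∈ T) → ∀ c ∈ centralizerIn S T,
        β ∈ F.autGroup C → autFun β c ∈ centralizerIn S T := by
      intro β hβT c hc hβ
      have hm := isMap_of_mem_autGroup hCS hβ
      refine ⟨hm.mem (Subgroup.mem_sup_right hc), fun y hy => ?_⟩
      have himg : img (autFun β) T = T := by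
        refine eq_of_le_card (img_le hβT) ?_
        rw [(hm.restrict le_sup_left).card_img]
      obtain ⟨x, hx, rfl⟩ := (hm.restrict (le_sup_left : T ≤ C)).mem_img.1 (himg.ge hy)
      have hxc : x * c = c * x := hc.2 x hx
      rw [← hm.map_mul (Subgroup.mem_sup_left hx) (Subgroup.mem_sup_right hc), hxc,
        hm.map_mul (Subgroup.mem_sup_right hc) (Subgroup.mem_sup_left hx)]
    let B : Subgroup (MulAut T) :=
      { carrier := {α | ∃ β ∈ F.autGroup C, (∀ x ∈ T, autFun β x = autFun α x) ∧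
          ∀ c ∈ centralizerIn S T, c⁻¹ * autFun β c ∈ T ⊓ Subgroup.centralizer (T : Set Ω)}
        one_mem' := ⟨1, Subgroup.one_mem _, fun x _ => by rw [autFun_one, autFun_one],
          fun c _ => by rw [autFun_one, id, inv_mul_cancel]; exact Subgroup.one_mem _⟩
        mul_mem' := by
          rintro a₁ a₂ ⟨b₁, hb₁, e₁, z₁⟩ ⟨b₂, hb₂, e₂, z₂⟩
          refine ⟨b₁ * b₂, Subgroup.mul_mem _ hb₁ hb₂, fun x hx => ?_, fun c hc => ?_⟩
          · rw [autFun_mul, e₂ x hx, e₁ _ (autFun_mem a₂ hx), autFun_mul]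
          · have hc' := hmemC b₂ (fun x hx => e₂ x hx ▸ autFun_mem a₂ hx) c hc hb₂
            rw [autFun_mul]
            simpa [mul_assoc] using Subgroup.mul_mem _ (z₂ c hc) (z₁ _ hc')
        inv_mem' := by
          rintro a ⟨b, hb, e, z⟩
          have hTinv : ∀ x ∈ T, autFun b⁻¹ x = autFun a⁻¹ x := fun x hx => by
            conv_lhs => rw [← autFun_apply_inv a x, ← e _ (autFun_mem _ hx)]
            rw [autFun_inv_apply]
          refine ⟨b⁻¹, Subgroup.inv_mem _ hb, hTinv, fun c hc => ?_⟩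
          have hc' := hmemC b⁻¹ (fun x hx => hTinv x hx ▸ autFun_mem a⁻¹ hx) c hc
            (Subgroup.inv_mem _ hb)
          have h1 := Subgroup.inv_mem _ (z _ hc')
          simpa [autFun_apply_inv] using h1 }
    suffices hB : E₀.autGroup T ≤ B by
      obtain ⟨β, hβ, e, z⟩ := hB hα
      refine ⟨β, hβ, fun x => ?_, fun c hc => ?_⟩
      · rw [← autFun_apply, Subgroup.coe_inclusion, e x x.2, autFun_apply]
      · rw [← autFun_apply]
        exact z c hc
    have hTn : E₀.IsFullyNormalized T := ⟨le_rfl, fun R hR => by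
      obtain ⟨f, hf, rfl⟩ := isConj_iff_map.1 hR
      have h1 : img f T = T := eq_of_le_card hf.img_le_S (by rw [hf.card_img])
      rw [h1]⟩
    intro β hβ
    obtain ⟨r, hr, a, ha, rfl⟩ := aut_decomp (hS.to_le hTS) hE hTn hβ
    refine B.mul_mem ?_ ?_
    · obtain ⟨t, ht, hte⟩ := mem_autInducedBy_iff'.1 ha
      have htC : t ∈ C := Subgroup.mem_sup_left ht.1
      obtain ⟨b, hb, hbe⟩ := (isMap_cj (F := F) hCS (hTS ht.1)).exists_aut
        (img_cj_eq_of_mem_normalizer (Subgroup.le_normalizer htC))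
      refine ⟨b, hb, fun x hx => by rw [hbe x (Subgroup.mem_sup_left hx), hte x hx], fun c hc => ?_⟩
      rw [hbe c (Subgroup.mem_sup_right hc), cj_apply, hc.2 t ht.1, mul_inv_cancel_right,
        inv_mul_cancel]
      exact Subgroup.one_mem _
    · suffices h0 : (pResidual p (E₀.autGroup T)).map (E₀.autGroup T).subtype ≤ B from h0 hr
      rw [pResidual, MonoidHom.map_closure, Subgroup.closure_le]
      rintro _ ⟨α₀, hα₀, rfl⟩
      have hαF : (α₀ : MulAut T) ∈ F.autGroup T := autGroup_mono hEi.1 T α₀.2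
      have hαm := isMap_of_mem_autGroup hTS hαF
      have hTfn : F.IsFullyNormalized T := by
        refine ⟨hTS, fun R hR => ?_⟩
        obtain ⟨f, hf, rfl⟩ := isConj_iff_map.1 hR
        rw [stronglyClosed_img hsc hf le_rfl]
      have hTc : F.IsFullyCentralized (img (autFun (α₀ : MulAut T)) T) := by
        rw [autFun_img]
        exact fullyNormalized_fullyCentralized hS hF hTfn
      obtain ⟨h, hh, hhe⟩ := exists_extension hS hF hαm hTc
      have hCN : C ≤ nSub S T (autFun (α₀ : MulAut T)) :=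
        sup_le (le_nSub hαm) centralizerIn_le_nSub
      have hhC := hh.restrict hCN
      have himgT : img h T = T := by
        rw [img_congr hhe, autFun_img]
      have himg : img h C = C := by
        have : Finite C := finite_of_le hCS
        refine eq_of_le_card (img_le fun x hx => ?_) (by rw [hhC.card_img])
        have h2 : img h C ≤ C := by
          rw [hhC.img_sup, himgT]
          refine sup_le_sup_left ?_ _
          have h3 := hh.img_centralizerIn_le (le_nSub hαm) centralizerIn_le_nSub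
          rwa [himgT] at h3
        exact h2 (mem_img_self h hx)
      obtain ⟨b, hb, hbe⟩ := hhC.exists_aut himg
      have hrest : ∀ x ∈ T, autFun b x = autFun (α₀ : MulAut T) x := fun x hx => by
        rw [hbe x (Subgroup.mem_sup_left hx), hhe x hx]
      have hrestp : ∀ n : ℕ, ∀ x ∈ T, autFun (b ^ n) x = autFun ((α₀ : MulAut T) ^ n) x := by
        intro n
        induction n with
        | zero => intro x _; rw [pow_zero, pow_zero, autFun_one, autFun_one]
        | succ n ih =>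
          intro x hx
          rw [pow_succ, autFun_mul, hrest x hx, ih _ (autFun_mem _ hx), pow_succ, autFun_mul]
      -- pass to an element of order prime to `p`
      have : Finite C := finite_of_le hCS
      obtain ⟨k, m, hdvd, hm, hk'⟩ := Cfsg.Agent.Fusion.Hyperfocal.exists_exp (p := p)
        (n := orderOf b) (orderOf_pos b).ne' hα₀
      have hk : (orderOf (b ^ k)).Coprime p := by
        refine Nat.Coprime.coprime_dvd_left (orderOf_dvd_of_pow_eq_one ?_) hm
        rw [← pow_mul]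
        exact orderOf_dvd_iff_pow_eq_one.1 hdvd
      have hα : α₀ ^ k = α₀ := by rw [← pow_mod_orderOf, hk', pow_mod_orderOf, pow_one]
      refine ⟨b ^ k, Subgroup.pow_mem _ hb k, fun x hx => ?_, fun c hc => ?_⟩
      · rw [hrestp k x hx, Subgroup.subtype_apply, ← Subgroup.coe_pow, hα]
      · have hbk : (orderOf (b ^ k)).Coprime p := hk
        have hmap : (b ^ k : MulAut C) ∈ (pResidual p (F.autGroup C)).map (F.autGroup C).subtype :=
          ⟨⟨b ^ k, Subgroup.pow_mem _ hb k⟩, Subgroup.subset_closure (by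
            show (orderOf _).Coprime p
            rwa [Subgroup.orderOf_mk]), rfl⟩
        have hcC : c ∈ C := Subgroup.mem_sup_right hc
        refine ⟨hEi.2.1 (mem_hyp (p := p) hCS hmap hcC), ?_⟩
        refine Subgroup.mul_mem _ (Subgroup.inv_mem _ hc.2) (hmemC _ (fun x hx => ?_) c hc
          (Subgroup.pow_mem _ hb k)).2
        rw [hrestp k x hx]
        exact autFun_mem _ hx

end Cfsg.Agent.Fusion.PPowerNormal
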