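/-
A normal subsystem of the quotient by a central subgroup lifts to a weakly normal subsystem on the
preimage: the subsystem generated by the automorphisms of order prime to `p` inducing maps of the
normal subsystem.
-/
import Mathlib
import Cfsg.Agent.Lib.Fusion.CentralQuot
import Cfsg.Agent.Lib.Fusion.GoodExtension
import Cfsg.Agent.Lib.Fusion.SaturationCriterion
import Cfsg.Agent.Lib.Fusion.PPowerNormal
import Cfsg.Agent.Lib.Transfer.NormalPComplement

set_option autoImplicit false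
set_option linter.all false

namespace Cfsg.Agent.Fusion.CentralLift

open Cfsg Cfsg.FusionSystem Cfsg.Agent.Fusion.Basic Cfsg.Agent.Fusion.Saturation
  Cfsg.Agent.Fusion.Normal Cfsg.Agent.Fusion.Factor Cfsg.Agent.Fusion.CentralQuot

theorem eq_top_of_coprime {G : Type*} [Group G] [Finite G] {p : ℕ} [hp : Fact p.Prime]
    (K B : Subgroup G) (hB : ¬ p ∣ B.index) (hBK : B ≤ K)
    (h : ∀ g : G, (orderOf g).Coprime p → g ∈ K) : K = ⊤ := by
  have h1 : pResidual p G ≤ K := (Subgroup.closure_le K).2 h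
  obtain ⟨k, hk⟩ := Transfer.NormalPComplement.index_pResidual (p := p) (G := G)
  obtain ⟨j, -, hj⟩ := (Nat.dvd_prime_pow hp.out).1 (hk ▸ Subgroup.index_dvd_of_le h1)
  rw [← Subgroup.index_eq_one, hj]
  rcases Nat.eq_zero_or_pos j with rfl | hj0
  · rfl
  · exact absurd ((dvd_pow_self p hj0.ne').trans (hj ▸ Subgroup.index_dvd_of_le hBK)) hB

variable {Ω Ω' : Type*} [Group Ω] [Group Ω'] {S Z : Subgroup Ω} [Finite S]
  {S' U' : Subgroup Ω'} {F : FusionSystem S} {F' : FusionSystem S'} {θ : S →* Ω'}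
  {D : FusionSystem U'} {p : ℕ} [Fact p.Prime] {P Q R X A : Subgroup Ω} {f : Ω → Ω}

/-- The hypotheses: a quotient by a central subgroup and a normal subsystem of it. -/
structure Setup (p : ℕ) (F : FusionSystem S) (Z : Subgroup Ω) (θ : S →* Ω') (F' : FusionSystem S')
    (D : FusionSystem U') : Prop where
  pg : IsPGroup p S
  sat : F.IsSaturated p
  central : F.IsCentral Z
  quot : IsQuot F Z θ F'
  normal : D.IsNormalIn F' p

/-- The automorphisms of order prime to `p` inducing automorphisms in `D`. -/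
def IsGen (p : ℕ) (F : FusionSystem S) (Z : Subgroup Ω) (θ : S →* Ω') (D : FusionSystem U')
    (Q : Subgroup Ω) (γ : MulAut Q) : Prop :=
  Z ≤ Q ∧ Q ≤ preimageAlong θ U' ∧ D.IsCentric (imageAlong θ Q) ∧ γ ∈ F.autGroup Q ∧
    (orderOf γ).Coprime p ∧ ∃ δ ∈ D.autGroup (imageAlong θ Q),
      ∀ x ∈ Q, autFun δ (along θ x) = along θ (autFun γ x)

/-- The systems containing all generators. -/
def Contains (p : ℕ) (F : FusionSystem S) (Z : Subgroup Ω) (θ : S →* Ω') (D : FusionSystem U')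
    (E : FusionSystem (preimageAlong θ U')) : Prop :=
  ∀ (Q : Subgroup Ω) (γ : MulAut Q), IsGen p F Z θ D Q γ → IsMap E Q (autFun γ)

/-- The generators at `Q` and the automorphisms induced by `U`. -/
def alg (p : ℕ) (F : FusionSystem S) (Z : Subgroup Ω) (θ : S →* Ω') (D : FusionSystem U')
    (Q : Subgroup Ω) : Subgroup (MulAut Q) :=
  Subgroup.closure {γ | IsGen p F Z θ D Q γ} ⊔ autInducedBy (preimageAlong θ U') Q

/-- The members of the family on which the lifted system is generated. -/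
def Fam (Z : Subgroup Ω) (θ : S →* Ω') (D : FusionSystem U') : Set (Subgroup Ω) :=
  {Q | Z ≤ Q ∧ Q ≤ preimageAlong θ U' ∧ D.IsCentric (imageAlong θ Q)}

variable (h : Setup p F Z θ F' D)
include h

theorem Setup.invariant : D.IsInvariantIn F' := h.normal.1.2.2

theorem Setup.Dsat : D.IsSaturated p := h.normal.1.1

theorem Setup.sat' : F'.IsSaturated p := h.quot.saturated h.pg h.sat

theorem Setup.pg' : IsPGroup p S' := h.quot.isPGroup h.pg

theorem Setup.closed' : F'.StronglyClosed U' := h.invariant.2.1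

theorem Setup.finS' : Finite S' := h.quot.finite

theorem Setup.finU' : Finite U' := by
  have := h.finS'
  exact finite_of_le h.closed'.1

theorem Setup.pgU' : IsPGroup p U' := h.pg'.to_le h.closed'.1

theorem Setup.le : preimageAlong θ U' ≤ S := preimageAlong_le _

theorem Setup.finU : Finite (preimageAlong θ U') := finite_of_le h.le

theorem Setup.pgU : IsPGroup p (preimageAlong θ U') := h.pg.to_le h.le

theorem Setup.le_U : Z ≤ preimageAlong θ U' := h.quot.le_preimage U'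

theorem Setup.image_U : imageAlong θ (preimageAlong θ U') = U' :=
  imageAlong_preimageAlong h.quot.range_eq h.closed'.1

theorem Setup.image_le_U (hQ : Q ≤ preimageAlong θ U') : imageAlong θ Q ≤ U' :=
  (image_mono hQ).trans h.image_U.le

theorem Setup.closed : F.StronglyClosed (preimageAlong θ U') := by
  refine ⟨h.le, fun R hR φ hφ x => ?_⟩
  obtain ⟨g, hg, hge, -⟩ := (isCentral_iff.1 h.central).2 R _ (IsMap.of_hom hφ)
  obtain ⟨g', hg', hg'e⟩ := exists_down h.quot le_sup_right hg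
  have hxm : (x : Ω) ∈ R ⊔ Z := Subgroup.mem_sup_left x.2
  have h1 := stronglyClosed_mem h.closed' hg' (mem_image hg.le hxm)
    (mem_preimageAlong.1 (hR x.2)).2
  rw [hg'e _ hxm, hge x x.2, ext_apply] at h1
  exact mem_preimageAlong.2 ⟨(F.le_of_mem hφ).2 x, h1⟩

theorem Setup.normalizer_U (hZR : Z ≤ R) (hRS : R ≤ S) :
    preimageAlong θ (normalizerIn U' (imageAlong θ R)) =
      normalizerIn (preimageAlong θ U') R :=
  normalizer_pre h.quot hZR hRS

theorem Setup.conj_U {u x : Ω} (hu : u ∈ S) (hx : x ∈ preimageAlong θ U') :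
    u * x * u⁻¹ ∈ preimageAlong θ U' :=
  (Subgroup.mem_normalizer_iff.1 (le_normalizer_of_stronglyClosed h.closed hu) x).1 hx

omit h in
/-- `F` cut down to a strongly closed subgroup. -/
def restr (F : FusionSystem S) (U : Subgroup Ω) (hU : F.StronglyClosed U) : FusionSystem U where
  Hom P := {φ | φ ∈ F.Hom P ∧ P ≤ U}
  le_of_mem := fun {P φ} hφ => ⟨hφ.2, fun x => hU.2 P hφ.2 φ hφ.1 x⟩
  injective_of_mem hφ := F.injective_of_mem hφ.1
  conj_mem := fun {P g} hP hg => ⟨F.conj_mem (hP.trans hU.1) (hU.1 hg), hP⟩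
  comp_mem := fun hφ hψ hh => ⟨F.comp_mem hφ.1 hψ.1 hh, hφ.2⟩
  inv_mem := fun {P φ} hφ => by
    obtain ⟨ψ, hψ, he⟩ := F.inv_mem hφ.1
    refine ⟨ψ, ⟨hψ, ?_⟩, he⟩
    rintro _ ⟨x, rfl⟩
    exact hU.2 P hφ.2 φ hφ.1 x

/-- The maps of `F` on subgroups of `U` inducing maps of `D`. -/
def indSys : FusionSystem (preimageAlong θ U') where
  Hom P := {φ | φ ∈ (restr F _ h.closed).Hom P ∧
    ∃ g', IsMap D (imageAlong θ P) g' ∧ ∀ x ∈ P, g' (along θ x) = along θ (ext φ x)}
  le_of_mem hφ := (restr F _ h.closed).le_of_mem hφ.1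
  injective_of_mem hφ := (restr F _ h.closed).injective_of_mem hφ.1
  conj_mem := by
    intro P g hP hg
    obtain ⟨hgS, hg'⟩ := mem_preimageAlong.1 hg
    refine ⟨(restr F _ h.closed).conj_mem hP hg, cj (along θ g),
      isMap_cj (h.image_le_U hP) hg', fun x hx => ?_⟩
    have hxS : x ∈ S := h.le (hP hx)
    rw [ext_of_mem _ hx]
    show along θ g * along θ x * (along θ g)⁻¹ = along θ (g * x * g⁻¹)
    rw [along_mul θ (S.mul_mem hgS hxS) (S.inv_mem hgS), along_mul θ hgS hxS, along_inv θ hgS]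
  comp_mem := by
    rintro P R φ ψ ⟨hφ, a, ha, hae⟩ ⟨hψ, b, hb, hbe⟩ hh
    have hPS : P ≤ S := hφ.2.trans h.le
    have hRS : R ≤ S := hψ.2.trans h.le
    refine ⟨(restr F _ h.closed).comp_mem hφ hψ hh, fun y => b (a y), hb.comp ha ?_,
      fun x hx => ?_⟩
    · intro y hy
      obtain ⟨x, hx, hxS, rfl⟩ := mem_imageAlong.1 hy
      rw [hae x hx, ext_of_mem φ hx]
      exact mem_image hRS (hh ⟨x, hx⟩)
    · show b (a (along θ x)) = _
      rw [hae x hx, ext_of_mem φ hx, hbe _ (hh ⟨x, hx⟩), ext_of_mem ψ (hh ⟨x, hx⟩),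
        ext_of_mem _ hx]
      rfl
  inv_mem := by
    rintro P φ ⟨hφ, a, ha, hae⟩
    obtain ⟨ψ, hψ, hψe⟩ := (restr F _ h.closed).inv_mem hφ
    obtain ⟨b, hb, -, hba, -⟩ := ha.exists_inv
    have hPS : P ≤ S := hφ.2.trans h.le
    have hrS : φ.range ≤ S := hψ.2.trans h.le
    have himg : img a (imageAlong θ P) = imageAlong θ φ.range := by
      refine le_antisymm (img_le fun y hy => ?_) fun y hy => ?_
      · obtain ⟨x, hx, hxS, rfl⟩ := mem_imageAlong.1 hy
        rw [hae x hx, ext_of_mem φ hx]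
        exact mem_image hrS ⟨⟨x, hx⟩, rfl⟩
      · obtain ⟨_, ⟨x, rfl⟩, -, rfl⟩ := mem_imageAlong.1 hy
        rw [← ext_apply φ x, ← hae x x.2]
        exact mem_img_self a (mem_image hPS x.2)
    refine ⟨ψ, ⟨hψ, b, himg ▸ hb, ?_⟩, hψe⟩
    rintro _ ⟨x, rfl⟩
    rw [ext_of_mem ψ ⟨x, rfl⟩, hψe, ← ext_apply φ x, ← hae x x.2, hba _ (mem_image hPS x.2)]

/-- The lifted system: the least system containing all generators. -/
def sys : FusionSystem (preimageAlong θ U') where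
  Hom P := {φ | φ ∈ (indSys h).Hom P ∧
    ∀ E : FusionSystem (preimageAlong θ U'), Contains p F Z θ D E → φ ∈ E.Hom P}
  le_of_mem hφ := (indSys h).le_of_mem hφ.1
  injective_of_mem hφ := (indSys h).injective_of_mem hφ.1
  conj_mem := fun hP hg => ⟨(indSys h).conj_mem hP hg, fun E _ => E.conj_mem hP hg⟩
  comp_mem := fun hφ hψ hh =>
    ⟨(indSys h).comp_mem hφ.1 hψ.1 hh, fun E hE => E.comp_mem (hφ.2 E hE) (hψ.2 E hE) hh⟩
  inv_mem := fun {P φ} hφ => by
    obtain ⟨ψ, hψ, hψe⟩ := (indSys h).inv_mem hφ.1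
    refine ⟨ψ, ⟨hψ, fun E hE => ?_⟩, hψe⟩
    obtain ⟨ψ', hψ', hψ'e⟩ := E.inv_mem (hφ.2 E hE)
    have : ψ = ψ' := MonoidHom.ext fun y => by
      obtain ⟨x, hx⟩ := y.2
      obtain rfl : y = ⟨φ x, ⟨x, rfl⟩⟩ := Subtype.ext hx.symm
      rw [hψe, hψ'e]
    exact this ▸ hψ'

theorem sys_isMap_F (hf : IsMap (sys h) P f) : IsMap F P f := by
  obtain ⟨φ, hφ, he⟩ := hf
  exact ⟨φ, hφ.1.1.1, he⟩

theorem sys_sub : (sys h).IsSubsystemOf F := fun _ _ hφ => hφ.1.1.1

theorem sys_down (hf : IsMap (sys h) P f) :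
    ∃ g', IsMap D (imageAlong θ P) g' ∧ ∀ x ∈ P, g' (along θ x) = along θ (f x) := by
  obtain ⟨φ, hφ, he⟩ := hf
  obtain ⟨g', hg', hge⟩ := hφ.1.2
  exact ⟨g', hg', fun x hx => by rw [hge x hx, ext_of_mem φ hx, he ⟨x, hx⟩]⟩

theorem sys_le {E : FusionSystem (preimageAlong θ U')} (hE : Contains p F Z θ D E) :
    sys h ≤ E := fun _ _ hφ => hφ.2 E hE

theorem contains_sys : Contains p F Z θ D (sys h) := by
  rintro Q γ hγ
  obtain ⟨hZQ, hQU, -, hγF, -, δ, hδ, hδe⟩ := id hγ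
  have hm := isMap_of_mem_autGroup (hQU.trans h.le) hγF
  refine ⟨hm.hom, ⟨⟨⟨hm.hom_mem_self, hQU⟩, autFun δ,
    isMap_of_mem_autGroup (h.image_le_U hQU) hδ, fun x hx => ?_⟩, fun E hE => ?_⟩, fun _ => rfl⟩
  · rw [ext_of_mem _ hx, hδe x hx]
    rfl
  · exact (hE Q γ hγ).hom_mem fun _ => rfl

theorem gen_of_aut (hQ : Q ∈ Fam Z θ D) {γ : MulAut Q} (hγ : γ ∈ (sys h).autGroup Q)
    (hc : (orderOf γ).Coprime p) : IsGen p F Z θ D Q γ := by
  obtain ⟨hZQ, hQU, hcen⟩ := hQ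
  have hm := isMap_of_mem_autGroup hQU hγ
  obtain ⟨g', hg', hge⟩ := sys_down h hm
  have := h.finU'
  have : Finite (imageAlong θ Q) := finite_of_le (h.image_le_U hQU)
  have himg : img g' (imageAlong θ Q) = imageAlong θ Q := by
    refine eq_of_le_card (img_le fun y hy => ?_) hg'.card_img.ge
    obtain ⟨x, hx, -, rfl⟩ := mem_imageAlong.1 hy
    rw [hge x hx]
    exact mem_image (hQU.trans h.le) (autFun_mem _ hx)
  obtain ⟨δ, hδ, hδe⟩ := hg'.exists_aut himg
  exact ⟨hZQ, hQU, hcen, (mem_autGroup_iff (hQU.trans h.le)).2 (sys_isMap_F h hm), hc, δ, hδ,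
    fun x hx => by rw [hδe _ (mem_image (hQU.trans h.le) hx), hge x hx]⟩

theorem alg_le_sys (hQ : Q ≤ preimageAlong θ U') :
    alg p F Z θ D Q ≤ (sys h).autGroup Q :=
  sup_le ((Subgroup.closure_le _).2 fun γ hg => (mem_autGroup_iff hQ).2 (contains_sys h Q γ hg))
    (autInducedBy_le hQ)

theorem alg_le_F (hQ : Q ≤ preimageAlong θ U') : alg p F Z θ D Q ≤ F.autGroup Q := fun _ ha =>
  (mem_autGroup_iff (hQ.trans h.le)).2 (sys_isMap_F h (isMap_of_mem_autGroup hQ (alg_le_sys h hQ ha)))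

/-! ### Lifting maps of `D` -/

/-- The maps of `D` induced by maps of the lifted system. -/
def liftedSys : FusionSystem U' where
  Hom B := {φ' | φ' ∈ D.Hom B ∧ ∃ f, IsMap (sys h) (preimageAlong θ B) f ∧
    ∀ x ∈ preimageAlong θ B, ext φ' (along θ x) = along θ (f x)}
  le_of_mem hφ := D.le_of_mem hφ.1
  injective_of_mem hφ := D.injective_of_mem hφ.1
  conj_mem := by
    intro B g' hB hg'
    obtain ⟨g, hgS, rfl⟩ := exists_along_eq h.quot.range_eq (h.closed'.1 hg')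
    refine ⟨D.conj_mem hB hg', cj g, isMap_cj (fun x hx => mem_preimageAlong.2
      ⟨preimageAlong_le _ hx, hB (mem_preimageAlong.1 hx).2⟩)
      (mem_preimageAlong.2 ⟨hgS, hg'⟩), fun x hx => ?_⟩
    obtain ⟨hxS, hxB⟩ := mem_preimageAlong.1 hx
    rw [ext_of_mem _ hxB]
    show along θ g * along θ x * (along θ g)⁻¹ = along θ (g * x * g⁻¹)
    rw [along_mul θ (S.mul_mem hgS hxS) (S.inv_mem hgS), along_mul θ hgS hxS, along_inv θ hgS]
  comp_mem := by
    rintro B C φ ψ ⟨hφ, a, ha, hae⟩ ⟨hψ, b, hb, hbe⟩ hh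
    have hmem : ∀ x ∈ preimageAlong θ B, a x ∈ preimageAlong θ C := by
      intro x hx
      refine mem_preimageAlong.2 ⟨h.le (ha.mem hx), ?_⟩
      rw [← hae x hx, ext_of_mem φ (mem_preimageAlong.1 hx).2]
      exact hh _
    refine ⟨D.comp_mem hφ hψ hh, fun x => b (a x), hb.comp ha hmem, fun x hx => ?_⟩
    have hxB := (mem_preimageAlong.1 hx).2
    rw [← hbe _ (hmem x hx), ← hae x hx, ext_of_mem φ hxB, ext_of_mem _ hxB,
      ext_of_mem ψ (hh ⟨_, hxB⟩)]
    rfl
  inv_mem := by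
    rintro B φ ⟨hφ, a, ha, hae⟩
    obtain ⟨ψ, hψ, hψe⟩ := D.inv_mem hφ
    obtain ⟨b, hb, hbimg, hba, hab⟩ := ha.exists_inv
    have hZB : Z ≤ preimageAlong θ B := h.quot.le_preimage B
    have himg : img a (preimageAlong θ B) = preimageAlong θ φ.range := by
      have e : imageAlong θ (img a (preimageAlong θ B)) = φ.range := by
        refine le_antisymm (fun y hy => ?_) ?_
        · obtain ⟨z, hz, -, rfl⟩ := mem_imageAlong.1 hy
          obtain ⟨x, hx, rfl⟩ := ha.mem_img.1 hz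
          rw [← hae x hx, ext_of_mem φ (mem_preimageAlong.1 hx).2]
          exact ⟨_, rfl⟩
        · rintro _ ⟨y, rfl⟩
          obtain ⟨x, hxS, hxy⟩ := exists_along_eq h.quot.range_eq
            (h.closed'.1 ((D.le_of_mem hφ).1 y.2))
          have hxB : x ∈ preimageAlong θ B := mem_preimageAlong.2 ⟨hxS, hxy.symm ▸ y.2⟩
          rw [← ext_apply φ y, ← hxy, hae x hxB]
          exact mem_image (ha.img_le_S.trans h.le) (mem_img_self a hxB)
      rw [← e, pre_image h.quot (le_img_of_central h.central (sys_isMap_F h ha) hZB)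
        (ha.img_le_S.trans h.le)]
    refine ⟨ψ, ⟨hψ, b, himg ▸ hb, fun y hy => ?_⟩, hψe⟩
    obtain ⟨x, hx, rfl⟩ := ha.mem_img.1 (himg.ge hy)
    obtain ⟨hxS, hxB⟩ := mem_preimageAlong.1 hx
    rw [hba x hx, ← hae x hx, ext_of_mem φ hxB, ext_of_mem ψ ⟨_, rfl⟩, hψe]

theorem le_liftedSys : D ≤ liftedSys h := by
  have := h.finU'
  refine Alperin.le_of_autGroup h.pgU' h.Dsat fun B hBn hcase => ?_
  have hBU := hBn.1
  have hBc : D.IsCentric B := by
    rcases eq_or_lt_of_le hBU with rfl | hlt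
    · exact PPrimeGen.centric_top
    · rcases hcase with rfl | hne
      · exact PPrimeGen.centric_top
      · exact ((Alperin.essential_iff h.pgU' h.Dsat hlt hBn).2 hne).1
  have hfinB : Finite B := finite_of_le hBU
  set Q := preimageAlong θ B with hQdef
  have hZQ : Z ≤ Q := h.quot.le_preimage B
  have hQU : Q ≤ preimageAlong θ U' := fun x hx =>
    mem_preimageAlong.2 ⟨preimageAlong_le _ hx, hBU (mem_preimageAlong.1 hx).2⟩
  have hQS : Q ≤ S := preimageAlong_le _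
  have himQ : imageAlong θ Q = B :=
    imageAlong_preimageAlong h.quot.range_eq (hBU.trans h.closed'.1)
  set K := ((liftedSys h).autGroup B).subgroupOf (D.autGroup B) with hK
  obtain ⟨P₀, hP₀⟩ := (fullyNormalized_fullyAutomized h.pgU' h.Dsat hBn).2
  suffices hKtop : K = ⊤ by
    intro α hα
    exact Subgroup.mem_subgroupOf.1 (hKtop.ge (Subgroup.mem_top ⟨α, hα⟩))
  refine eq_top_of_coprime (p := p) K (P₀ : Subgroup (D.autGroup B)) P₀.not_dvd_index ?_
    fun a hc => ?_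
  · rw [hP₀]
    exact fun a ha => Subgroup.mem_subgroupOf.2 (autInducedBy_le hBU (Subgroup.mem_subgroupOf.1 ha))
  have ham := isMap_of_mem_autGroup hBU a.2
  have ham' : IsMap F' B (autFun (a : MulAut B)) := isMap_of_subset h.invariant.1 ham
  obtain ⟨π, hπs, hπe⟩ := Hyperfocal.exists_proj h.quot (hBU.trans h.closed'.1)
  obtain ⟨γ₀, hγ₀⟩ := hπs ⟨(a : MulAut B), (mem_autGroup_iff (hBU.trans h.closed'.1)).2 ham'⟩
  have : Finite Q := finite_of_le hQS
  have hco : (orderOf (π γ₀)).Coprime p := by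
    rw [hγ₀, Subgroup.orderOf_mk, Subgroup.orderOf_coe]
    exact hc
  obtain ⟨γ, -, hγc, hγπ⟩ := Elementwise.exists_coprime_lift (p := p) π γ₀ hco
  have hrel : ∀ x ∈ Q, autFun (a : MulAut B) (along θ x) =
      along θ (autFun (γ : MulAut Q) x) := by
    intro x hx
    rw [← hπe γ x hx, hγπ, hγ₀]
  have hgen : IsGen p F Z θ D Q γ := by
    have hγo : (orderOf (γ : MulAut Q)).Coprime p := by rwa [Subgroup.orderOf_coe]
    refine ⟨hZQ, hQU, himQ.symm ▸ hBc, γ.2, hγo, ?_⟩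
    rw [himQ]
    exact ⟨a, a.2, hrel⟩
  refine Subgroup.mem_subgroupOf.2 ((mem_autGroup_iff hBU).2 ?_)
  refine ⟨ham.hom, ⟨ham.hom_mem_self, autFun (γ : MulAut Q), contains_sys h Q γ hgen,
    fun x hx => ?_⟩, fun _ => rfl⟩
  rw [ext_of_mem _ (mem_preimageAlong.1 hx).2, IsMap.hom_apply]
  exact hrel x hx

theorem sys_up (hZQ : Z ≤ Q) (hQU : Q ≤ preimageAlong θ U') {g' : Ω' → Ω'}
    (hg' : IsMap D (imageAlong θ Q) g') :
    ∃ g, IsMap (sys h) Q g ∧ ∀ x ∈ Q, g' (along θ x) = along θ (g x) := by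
  obtain ⟨φ, hφ, hφe⟩ := hg'
  obtain ⟨-, f, hf, hfe⟩ := le_liftedSys h _ hφ
  rw [pre_image h.quot hZQ (hQU.trans h.le)] at hf hfe
  refine ⟨f, hf, fun x hx => ?_⟩
  rw [← hfe x hx, ext_of_mem φ (mem_image (hQU.trans h.le) hx)]
  exact (hφe ⟨_, _⟩).symm

theorem fam_conj (hQ : Q ∈ Fam Z θ D) (hc : (sys h).IsConj Q R) : R ∈ Fam Z θ D := by
  obtain ⟨hZQ, hQU, hcen⟩ := hQ
  obtain ⟨f, hf, rfl⟩ := isConj_iff_map.1 hc
  obtain ⟨g', hg', hge⟩ := sys_down h hf
  have hfF := sys_isMap_F h hf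
  refine ⟨le_img_of_central h.central hfF hZQ, hf.img_le_S, ?_⟩
  have hg'F : IsMap F' (imageAlong θ Q) g' := isMap_of_subset h.invariant.1 hg'
  rw [← image_img hfF hg'F hge]
  have := h.finU'
  exact centric_conj hcen hg'.isConj

theorem fam_mono (hQ : Q ∈ Fam Z θ D) (hQR : Q ≤ R) (hR : R ≤ preimageAlong θ U') :
    R ∈ Fam Z θ D := by
  have := h.finU'
  exact ⟨hQ.1.trans hQR, hR, CentricExt.centric_mono hQ.2.2 (image_mono hQR) (h.image_le_U hR)⟩

/-- Maps from the normalizers of all conjugates to one whose image is fully normalized. -/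
theorem exists_tgt (hQ : Q ∈ Fam Z θ D) (hQn : D.IsFullyNormalized (imageAlong θ Q))
    (hA : (sys h).IsConj A Q) :
    ∃ g, IsMap (sys h) (normalizerIn (preimageAlong θ U') A) g ∧ img g A = Q := by
  obtain ⟨f, hf, rfl⟩ := isConj_iff_map.1 hA
  have hAF := fam_conj h hQ (isConj_symm hA)
  obtain ⟨hZA, hAU, -⟩ := hAF
  have hAS : A ≤ S := hAU.trans h.le
  have := h.finU'
  obtain ⟨f', hf', hfe⟩ := sys_down h hf
  have hfF := sys_isMap_F h hf
  have hf'F : IsMap F' (imageAlong θ A) f' := isMap_of_subset h.invariant.1 hf'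
  have hconj : D.IsConj (imageAlong θ A) (imageAlong θ (img f A)) :=
    image_img hfF hf'F hfe ▸ hf'.isConj
  obtain ⟨g', hg', hg'A⟩ := exists_map_to_fullyNormalized h.pgU' h.Dsat hQn hconj
  have hN := h.normalizer_U hZA hAS
  have hAN : A ≤ normalizerIn (preimageAlong θ U') A := le_normalizerIn hAU
  have hNS : normalizerIn (preimageAlong θ U') A ≤ S := normalizerIn_le.trans h.le
  have hNi : imageAlong θ (normalizerIn (preimageAlong θ U') A) =
      normalizerIn U' (imageAlong θ A) := by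
    rw [← hN, imageAlong_preimageAlong h.quot.range_eq
      (normalizerIn_le.trans h.closed'.1)]
  rw [← hNi] at hg'
  obtain ⟨g, hg, hge⟩ := sys_up h (hZA.trans hAN) normalizerIn_le hg'
  refine ⟨g, hg, ?_⟩
  have hgA := sys_isMap_F h (hg.restrict hAN)
  refine eq_of_image_eq h.quot (le_img_of_central h.central hgA hZA) hgA.img_le_S hQ.1
    (hQ.2.1.trans h.le) ?_
  rw [← image_img hgA (isMap_of_subset h.invariant.1 (hg'.restrict (image_mono hAN)))
    fun x hx => hge x (hAN hx), hg'A]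

/-! ### The automorphisms trivial modulo `Z` -/

/-- At fully normalized images. -/
theorem key_nice (hQ : Q ∈ Fam Z θ D) (hQn : F'.IsFullyNormalized (imageAlong θ Q))
    {a : MulAut Q} (ha : a ∈ alg p F Z θ D Q)
    (hker : ∀ x ∈ Q, along θ (autFun a x) = along θ x) :
    a ∈ autInducedBy (preimageAlong θ U') Q := by
  obtain ⟨hZQ, hQU, hcen⟩ := hQ
  have := h.finS'
  have := h.finU'
  have hQS : Q ≤ S := hQU.trans h.le
  have hfinQ : Finite Q := finite_of_le hQS
  have hFn : F.IsFullyNormalized Q :=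
    fullyNormalized_pre h.pg h.sat h.quot h.central hZQ hQS hQn
  set B := imageAlong θ Q with hB
  have hBU : B ≤ U' := h.image_le_U hQU
  have hfinB : Finite B := finite_of_le hBU
  have hBn : D.IsFullyNormalized B :=
    Subsystems.fullyNormalized_of_subsystem h.pg' h.sat' h.closed' h.invariant.1 hBU hQn
  obtain ⟨π, hπs, hπe⟩ := exists_hom h.quot hZQ hQS
  have := WeaklyNormalTop.autGroup_normal h.invariant hBU
  set N := ((D.autGroup B).subgroupOf (F'.autGroup B)).comap π with hN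
  have hNn : N.Normal := inferInstance
  set AS := (autInducedBy S Q).subgroupOf (F.autGroup Q) with hAS
  set T₀ := (autInducedBy (preimageAlong θ U') Q).subgroupOf (F.autGroup Q) with hT₀
  set K := kerMod F h.central hQS with hK
  have hT₀AS : T₀ ≤ AS := fun t ht => by
    obtain ⟨u, hu, hue⟩ := mem_autInducedBy_iff'.1 (Subgroup.mem_subgroupOf.1 ht)
    exact Subgroup.mem_subgroupOf.2 (mem_autInducedBy_iff'.2 ⟨u, ⟨h.le hu.1, hu.2⟩, hue⟩)
  have hπU : ∀ (g : (F.autGroup Q)) (u : Ω), u ∈ S → (∀ x ∈ Q, autFun (g : MulAut Q) x = u * x * u⁻¹) →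
      ∀ y ∈ B, autFun (π g : MulAut B) y = along θ u * y * (along θ u)⁻¹ := by
    intro g u hu he y hy
    obtain ⟨x, hx, hxS, rfl⟩ := mem_imageAlong.1 hy
    rw [hπe g x hx, he x hx, along_mul θ (S.mul_mem hu hxS) (S.inv_mem hu), along_mul θ hu hxS,
      along_inv θ hu]
  have hT₀N : T₀ ≤ N := fun t ht => by
    obtain ⟨u, hu, hue⟩ := mem_autInducedBy_iff'.1 (Subgroup.mem_subgroupOf.1 ht)
    obtain ⟨huS, huU⟩ := mem_preimageAlong.1 hu.1
    refine Subgroup.mem_comap.2 (Subgroup.mem_subgroupOf.2 ((mem_autGroup_iff hBU).2 ?_))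
    exact (isMap_cj hBU huU).congr fun y hy => (hπU t u huS hue y hy).symm
  have hKAS : K ≤ AS := fun k hk =>
    Subgroup.mem_subgroupOf.2 (kerMod_le_autInducedBy h.pg h.sat h.central hFn hk)
  have hKN : K ≤ N := fun k hk => by
    have : π k = 1 := by
      refine Subtype.ext (autFun_ext fun y hy => ?_)
      obtain ⟨x, hx, hxS, rfl⟩ := mem_imageAlong.1 hy
      rw [hπe k x hx, along_of_mem_kerMod h.quot hk hx, Subgroup.coe_one, autFun_one]
      rfl
    rw [hN, Subgroup.mem_comap, this]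
    exact Subgroup.one_mem _
  -- the Sylow subgroup of `N`
  have hASp : IsPGroup p AS :=
    (isPGroup_autInducedBy h.pg).comap_of_injective _ Subtype.val_injective
  have hASidx : ¬ p ∣ AS.index :=
    ((fullyAutomized_iff h.pg).1 (fullyNormalized_fullyAutomized h.pg h.sat hFn)).2
  set R := AS ⊓ N with hR
  have hRsyl : SylIn.SylIn p R N := by
    refine ⟨inf_le_right, hASp.to_le inf_le_left, fun hdvd => hASidx ?_⟩
    rw [hR, Subgroup.inf_relIndex_right] at hdvd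
    exact hdvd.trans (SaturationCriterion.relIndex_dvd_index AS N)
  have hdec : ∀ r ∈ R, ∃ t ∈ T₀, ∃ y ∈ K, r = t * y := by
    rintro r ⟨hrS, hrN⟩
    obtain ⟨s, hs, hse⟩ := mem_autInducedBy_iff'.1 (Subgroup.mem_subgroupOf.1 hrS)
    have hrD : (π r : MulAut B) ∈ D.autGroup B := Subgroup.mem_subgroupOf.1 hrN
    obtain ⟨P₀, hP₀⟩ := (fullyNormalized_fullyAutomized h.pgU' h.Dsat hBn).2
    have hs' : along θ s ∈ normalizerIn S' B := by
      refine ⟨along_mem h.quot.range_eq hs.1, mem_normalizer_of_forall fun y hy => ?_⟩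
      rw [← hπU r s hs.1 hse y hy]
      exact autFun_mem _ hy
    set Rb := (autInducedBy S' B).subgroupOf (D.autGroup B) with hRb
    have hle : (P₀ : Subgroup (D.autGroup B)) ≤ Rb := by
      rw [hP₀]
      intro x hx
      obtain ⟨u, hu, hue⟩ := mem_autInducedBy_iff'.1 (Subgroup.mem_subgroupOf.1 hx)
      exact Subgroup.mem_subgroupOf.2
        (mem_autInducedBy_iff'.2 ⟨u, ⟨h.closed'.1 hu.1, hu.2⟩, hue⟩)
    have heq : Rb = P₀ :=
      P₀.3 ((isPGroup_autInducedBy h.pg').comap_of_injective _ Subtype.val_injective) hle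
    have hmem : (⟨(π r : MulAut B), hrD⟩ : D.autGroup B) ∈ (P₀ : Subgroup (D.autGroup B)) := by
      rw [← heq]
      exact Subgroup.mem_subgroupOf.2
        (mem_autInducedBy_iff'.2 ⟨_, hs', fun y hy => hπU r s hs.1 hse y hy⟩)
    rw [hP₀, Subgroup.mem_subgroupOf] at hmem
    obtain ⟨u', hu', hu'e⟩ := mem_autInducedBy_iff'.1 hmem
    obtain ⟨u, huS, rfl⟩ := exists_along_eq h.quot.range_eq (h.closed'.1 hu'.1)
    have huN : u ∈ normalizerIn (preimageAlong θ U') Q := by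
      rw [← h.normalizer_U hZQ hQS]
      exact mem_preimageAlong.2 ⟨huS, hu'⟩
    let t : (F.autGroup Q) := ⟨conjAut S Q ⟨u, huS, huN.2⟩,
      autInducedBy_le hQS (conjAut_range S Q ▸ ⟨_, rfl⟩)⟩
    have hte : ∀ x ∈ Q, autFun (t : MulAut Q) x = u * x * u⁻¹ := fun x hx =>
      conjAut_apply (K := S) ⟨u, huS, huN.2⟩ hx
    refine ⟨t, Subgroup.mem_subgroupOf.2 (mem_autInducedBy_iff'.2 ⟨u, huN, hte⟩), t⁻¹ * r, ?_,
      (mul_inv_cancel_left _ _).symm⟩
    have h1 : π t = π r := by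
      refine Subtype.ext (autFun_ext fun y hy => ?_)
      rw [hπU t u huS hte y hy]
      exact (hu'e y hy).symm
    refine mem_kerMod_of_along h.quot fun x hx => ?_
    rw [← hπe _ x hx, map_mul, map_inv, h1, inv_mul_cancel, Subgroup.coe_one, autFun_one]
    rfl
  have hRT : R ≤ Subgroup.normalizer (T₀ : Set (F.autGroup Q)) := by
    intro r hr
    obtain ⟨s, hs, hse⟩ := mem_autInducedBy_iff'.1 (Subgroup.mem_subgroupOf.1 hr.1)
    have hfinG : Finite (F.autGroup Q) := inferInstance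
    refine mem_normalizer_of_forall fun t ht => ?_
    obtain ⟨u, hu, hue⟩ := mem_autInducedBy_iff'.1 (Subgroup.mem_subgroupOf.1 ht)
    refine Subgroup.mem_subgroupOf.2 (mem_autInducedBy_iff'.2
      ⟨s * u * s⁻¹, ⟨h.conj_U hs.1 hu.1,
        Subgroup.mul_mem _ (Subgroup.mul_mem _ hs.2 hu.2) (Subgroup.inv_mem _ hs.2)⟩,
      fun x hx => ?_⟩)
    have hsi : autFun (r : MulAut Q)⁻¹ x = s⁻¹ * x * s := by
      have hx' : s⁻¹ * x * s ∈ Q :=
        (Subgroup.mem_normalizer_iff'.1 hs.2 _).2 (by simpa [mul_assoc] using hx)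
      have h1 := congrArg (autFun (r : MulAut Q)⁻¹) (hse _ hx')
      rw [autFun_inv_apply, cj_apply] at h1
      simpa [mul_assoc] using h1.symm
    rw [Subgroup.coe_mul, Subgroup.coe_mul, Subgroup.coe_inv, autFun_mul, autFun_mul, hsi,
      hue _ (hsi ▸ autFun_mem _ hx)]
    rw [cj_apply, hse _ ((Subgroup.mem_normalizer_iff.1 hu.2 _).1
        (hsi ▸ autFun_mem _ hx))]
    simp [cj, mul_assoc]
  have hKn : K.Normal := kerMod_normal h.central hQS
  have hYn : N ≤ Subgroup.normalizer (K : Set (F.autGroup Q)) := by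
    rw [Subgroup.normalizer_eq_top]
    exact le_top
  have hTY : ∀ g ∈ N, ∀ y ∈ K, g * y * g⁻¹ * y⁻¹ ∈ T₀ := by
    intro g hg k hk
    obtain ⟨t, ht, hte⟩ := mem_autInducedBy_iff'.1 (Subgroup.mem_subgroupOf.1 (hKAS hk))
    have hγ : (π g : MulAut B) ∈ D.autGroup B := Subgroup.mem_subgroupOf.1 hg
    obtain ⟨e, he, heB, heC⟩ :=
      GoodExtension.exists_good_ext h.pg' h.sat' h.normal hcen hBn hγ
    have hB1S : B ⊔ centralizerIn S' B ≤ S' := he.le
    set Q₁ := preimageAlong θ (B ⊔ centralizerIn S' B) with hQ₁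
    obtain ⟨e₁, he₁, he₁e⟩ := h.quot.lift _ e he
    have hQQ₁ : Q ≤ Q₁ := fun x hx =>
      mem_preimageAlong.2 ⟨hQS hx, Subgroup.mem_sup_left (mem_image hQS hx)⟩
    have himg : img e₁ Q = Q := by
      refine eq_of_image_eq h.quot
        (le_img_of_central h.central (he₁.restrict hQQ₁) hZQ) (he₁.restrict hQQ₁).img_le_S hZQ hQS ?_
      have he' : IsMap F' B e := he.restrict le_sup_left
      rw [← image_img (he₁.restrict hQQ₁) he' fun x hx => he₁e x (hQQ₁ hx), ← hB,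
        img_congr heB, autFun_img]
    obtain ⟨b, hb, hbe⟩ := (he₁.restrict hQQ₁).exists_aut himg
    set b' : (F.autGroup Q) := ⟨b, hb⟩
    have hk' : b'⁻¹ * g ∈ K := by
      have : π b' = π g := by
        refine Subtype.ext (autFun_ext fun y hy => ?_)
        obtain ⟨x, hx, hxS, rfl⟩ := mem_imageAlong.1 hy
        rw [hπe b' x hx]
        show along θ (autFun b x) = _
        rw [hbe x hx, ← he₁e x (hQQ₁ hx), heB _ hy]
      refine mem_kerMod_of_along h.quot fun x hx => ?_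
      rw [← hπe _ x hx, map_mul, map_inv, this, inv_mul_cancel, Subgroup.coe_one, autFun_one]
      rfl
    have hcomm := kerMod_comm h.central hQS hk' hk
    have hgk : g * k * g⁻¹ = b' * k * b'⁻¹ := by
      calc g * k * g⁻¹ = b' * ((b'⁻¹ * g) * k) * (b'⁻¹ * g)⁻¹ * b'⁻¹ := by group
        _ = b' * (k * (b'⁻¹ * g)) * (b'⁻¹ * g)⁻¹ * b'⁻¹ := by rw [hcomm]
        _ = b' * k * b'⁻¹ := by group
    have htC : along θ t ∈ centralizerIn S' B := by
      refine ⟨along_mem h.quot.range_eq ht.1, fun y hy => ?_⟩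
      obtain ⟨x, hx, hxS, rfl⟩ := mem_imageAlong.1 hy
      have h1 := along_of_mem_kerMod h.quot hk hx
      rw [hte x hx, cj_apply, along_mul θ (S.mul_mem ht.1 hxS) (S.inv_mem ht.1),
        along_mul θ ht.1 hxS, along_inv θ ht.1, mul_inv_eq_iff_eq_mul] at h1
      exact h1.symm
    have htQ₁ : t ∈ Q₁ := mem_preimageAlong.2 ⟨ht.1, Subgroup.mem_sup_right htC⟩
    set q := t⁻¹ * e₁ t with hq
    have hqQ : q ∈ Q := by
      rw [← pre_image h.quot hZQ hQS]
      refine mem_preimageAlong.2 ⟨S.mul_mem (S.inv_mem ht.1) (he₁.mem htQ₁), ?_⟩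
      rw [hq, along_mul θ (S.inv_mem ht.1) (he₁.mem htQ₁), along_inv θ ht.1, ← he₁e t htQ₁]
      exact (heC _ htC).1
    refine Subgroup.mem_subgroupOf.2 (mem_autInducedBy_iff'.2
      ⟨t * q * t⁻¹, ⟨h.conj_U ht.1 (hQU hqQ),
        Subgroup.le_normalizer ((Subgroup.mem_normalizer_iff.1 ht.2 q).1 hqQ)⟩, fun x hx => ?_⟩)
    rw [hgk]
    -- compute `b k b⁻¹ k⁻¹`
    have hki : autFun (k : MulAut Q)⁻¹ x = t⁻¹ * x * t := by
      have hx' : t⁻¹ * x * t ∈ Q :=
        (Subgroup.mem_normalizer_iff'.1 ht.2 _).2 (by simpa [mul_assoc] using hx)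
      have h1 := congrArg (autFun (k : MulAut Q)⁻¹) (hte _ hx')
      rw [autFun_inv_apply, cj_apply] at h1
      simpa [mul_assoc] using h1.symm
    have hyQ : t⁻¹ * x * t ∈ Q := hki ▸ autFun_mem _ hx
    rw [Subgroup.coe_mul, Subgroup.coe_mul, Subgroup.coe_mul, Subgroup.coe_inv, Subgroup.coe_inv,
      autFun_mul, autFun_mul, autFun_mul, hki]
    show autFun b (autFun (k : MulAut Q) (autFun b⁻¹ (t⁻¹ * x * t))) = _
    set w := autFun b⁻¹ (t⁻¹ * x * t) with hw
    have hwQ : w ∈ Q := autFun_mem _ hyQ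
    have hbw : autFun b w = t⁻¹ * x * t := autFun_apply_inv b _
    rw [hte w hwQ, cj_apply, hbe _ ((Subgroup.mem_normalizer_iff.1 ht.2 w).1 hwQ),
      he₁.map_conj htQ₁ (hQQ₁ hwQ), ← hbe w hwQ, hbw, cj_apply, hq]
    group
  have hsc : ∀ (g : (F.autGroup Q)), ∀ x ∈ T₀, g * x * g⁻¹ ∈ R → g * x * g⁻¹ ∈ T₀ := by
    intro g x hx hgx
    obtain ⟨u, hu, hue⟩ := mem_autInducedBy_iff'.1 (Subgroup.mem_subgroupOf.1 hx)
    obtain ⟨s, hs, hse⟩ := mem_autInducedBy_iff'.1 (Subgroup.mem_subgroupOf.1 hgx.1)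
    have hm := isMap_of_mem_autGroup hQS g.2
    obtain ⟨e, he, hee⟩ := exists_extension h.pg h.sat hm
      (by rw [autFun_img]; exact fullyNormalized_fullyCentralized h.pg h.sat hFn)
    have huN : u ∈ nSub S Q (autFun (g : MulAut Q)) := by
      refine ⟨h.le hu.1, hu.2, s, hs.1, fun y hy => ?_⟩
      have h1 := hse _ (autFun_mem (g : MulAut Q) hy)
      rw [Subgroup.coe_mul, Subgroup.coe_mul, Subgroup.coe_inv, autFun_mul, autFun_mul,
        autFun_inv_apply, hue y hy] at h1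
      exact h1
    have hQn' : Q ≤ nSub S Q (autFun (g : MulAut Q)) := le_nSub hm
    refine Subgroup.mem_subgroupOf.2 (mem_autInducedBy_iff'.2 ⟨e u, ⟨?_, ?_⟩, fun y hy => ?_⟩)
    · exact stronglyClosed_mem h.closed he huN hu.1
    · have := he.mem_normalizer_img hQn' huN hu.2
      rwa [img_congr hee, autFun_img] at this
    · have hwQ : autFun (g : MulAut Q)⁻¹ y ∈ Q := autFun_mem _ hy
      rw [Subgroup.coe_mul, Subgroup.coe_mul, Subgroup.coe_inv, autFun_mul, autFun_mul,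
        hue _ hwQ, cj_apply, ← hee _ ((Subgroup.mem_normalizer_iff.1 hu.2 _).1 hwQ),
        he.map_conj huN (hQn' hwQ), hee _ hwQ, autFun_apply_inv, cj_apply]
  obtain ⟨H, -, -, hHc, hHT, hHR⟩ := Elementwise.exists_kernel (p := p) hRsyl
    (le_inf hT₀AS hT₀N) (le_inf hKAS hKN) hRT hYn hdec hTY hsc
  have halg : alg p F Z θ D Q ≤ H.map (F.autGroup Q).subtype := by
    refine sup_le ((Subgroup.closure_le _).2 ?_) ?_
    · rintro γ ⟨-, -, -, hγF, hγc, δ, hδ, hδe⟩
      refine ⟨⟨γ, hγF⟩, hHc _ ?_ (by rwa [Subgroup.orderOf_mk]), rfl⟩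
      refine Subgroup.mem_comap.2 (Subgroup.mem_subgroupOf.2 ?_)
      have : (π ⟨γ, hγF⟩ : MulAut B) = δ := autFun_ext fun y hy => by
        obtain ⟨x, hx, hxS, rfl⟩ := mem_imageAlong.1 hy
        rw [hπe ⟨γ, hγF⟩ x hx, hδe x hx]
      rw [this]
      exact hδ
    · intro t ht
      have htF : t ∈ (F.autGroup Q) := by
        obtain ⟨u, hu, hue⟩ := mem_autInducedBy_iff'.1 ht
        exact autInducedBy_le hQS (mem_autInducedBy_iff'.2 ⟨u, ⟨h.le hu.1, hu.2⟩, hue⟩)
      have htT : (⟨t, htF⟩ : (F.autGroup Q)) ∈ T₀ := Subgroup.mem_subgroupOf.2 ht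
      refine ⟨⟨t, htF⟩, ?_, rfl⟩
      simpa using hHT 1 _ htT (by simpa using hT₀N htT)
  obtain ⟨a', ha', rfl⟩ := halg ha
  have haK : a' ∈ K := mem_kerMod_of_along h.quot hker
  exact Subgroup.mem_subgroupOf.1 (hHR ⟨⟨hKAS haK, hKN haK⟩, ha'⟩)

/-- At all members with fully normalized image in `D`. -/
theorem key (hQ : Q ∈ Fam Z θ D) (hQn : D.IsFullyNormalized (imageAlong θ Q))
    {a : MulAut Q} (ha : a ∈ alg p F Z θ D Q)
    (hker : ∀ x ∈ Q, along θ (autFun a x) = along θ x) :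
    a ∈ autInducedBy (preimageAlong θ U') Q := by
  obtain ⟨hZQ, hQU, hcen⟩ := id hQ
  have := h.finS'
  have := h.finU'
  have hQS : Q ≤ S := hQU.trans h.le
  set B := imageAlong θ Q with hB
  have hBU : B ≤ U' := h.image_le_U hQU
  have hBS : B ≤ S' := hBU.trans h.closed'.1
  obtain ⟨B₂, hBB₂, hB₂n⟩ := exists_fullyNormalized (F := F') hBS
  obtain ⟨g', hg', hg'B⟩ := exists_map_to_fullyNormalized h.pg' h.sat' hB₂n hBB₂
  have hNN : preimageAlong θ (normalizerIn S' B) = normalizerIn S Q := by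
    rw [normalizer_pre h.quot hZQ hQS, pre_top h.quot]
  obtain ⟨g, hg, hge⟩ := h.quot.lift _ g' hg'
  rw [hNN] at hg hge
  have hQN := le_normalizerIn hQS
  have hNU : normalizerIn (preimageAlong θ U') Q ≤ normalizerIn S Q := inf_le_inf_right _ h.le
  have hgQ := hg.restrict hQN
  set Q₂ := img g Q with hQ₂
  have hZQ₂ : Z ≤ Q₂ := le_img_of_central h.central hgQ hZQ
  have hQ₂U : Q₂ ≤ preimageAlong θ U' :=
    img_le fun x hx => stronglyClosed_mem h.closed hgQ hx (hQU hx)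
  have hg'Q := hg'.restrict (le_normalizerIn hBS)
  have himQ₂ : imageAlong θ Q₂ = B₂ := by
    rw [hQ₂, ← image_img hgQ hg'Q fun x hx => hge x (hQN hx), ← hg'B]
  have hQ₂F : Q₂ ∈ Fam Z θ D := by
    refine ⟨hZQ₂, hQ₂U, ?_⟩
    rw [himQ₂]
    exact GoodExtension.centric_conj_invariant h.invariant hcen hBB₂
  have hfinQ : Finite Q := finite_of_le hQS
  obtain ⟨e, he⟩ := hgQ.exists_autEquiv
  -- generators are carried to generators
  have htrans : ∀ γ : MulAut Q, IsGen p F Z θ D Q γ → ∀ hγ : γ ∈ F.autGroup Q,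
      IsGen p F Z θ D Q₂ (e ⟨γ, hγ⟩ : MulAut Q₂) := by
    rintro γ ⟨-, -, -, -, hγc, δ, hδ, hδe⟩ hγ
    refine ⟨hQ₂F.1, hQ₂F.2.1, hQ₂F.2.2, SetLike.coe_mem _, ?_, ?_⟩
    · rw [Subgroup.orderOf_coe, MulEquiv.orderOf_eq, ← Subgroup.orderOf_coe]
      exact hγc
    obtain ⟨χ, hχ, hχe⟩ := WeaklyNormalTop.conj_transport h.invariant hg'Q hBU
      (isMap_of_mem_autGroup hBU hδ) le_rfl fun y hy => autFun_mem _ hy
    have hfinB₂ : Finite (img g' B) := finite_of_le hg'Q.img_le_S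
    have himg : img χ (img g' B) = img g' B := by
      refine eq_of_le_card (img_le fun y hy => ?_) hχ.card_img.ge
      obtain ⟨x, hx, rfl⟩ := hg'Q.mem_img.1 hy
      rw [hχe x hx]
      exact mem_img_self g' (autFun_mem _ hx)
    obtain ⟨δ₂, hδ₂, hδ₂e⟩ := hχ.exists_aut himg
    have e2 : img g' B = imageAlong θ Q₂ := by rw [himQ₂, hg'B]
    have key2 : ∀ (B' : Subgroup Ω') (_ : img g' B = B'), ∃ δ' ∈ D.autGroup B',
        ∀ y ∈ B', autFun δ' y = χ y := by
      rintro B' rfl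
      exact ⟨δ₂, hδ₂, hδ₂e⟩
    obtain ⟨δ', hδ', hδ'e⟩ := key2 _ e2
    refine ⟨δ', hδ', fun y hy => ?_⟩
    obtain ⟨x, hx, rfl⟩ := hgQ.mem_img.1 hy
    have hxB : along θ x ∈ B := mem_image hQS hx
    rw [hδ'e _ (mem_image (hQ₂U.trans h.le) hy), ← hge x (hQN hx), hχe _ hxB, hδe x hx,
      he ⟨γ, hγ⟩ x hx, ← hge _ (hQN (autFun_mem _ hx))]
  have hle : alg p F Z θ D Q ≤
      (((alg p F Z θ D Q₂).subgroupOf (F.autGroup Q₂)).comap e.toMonoidHom).map
        (F.autGroup Q).subtype := by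
    refine sup_le ((Subgroup.closure_le _).2 fun γ hγ => ?_) fun t ht => ?_
    · exact ⟨⟨γ, hγ.2.2.2.1⟩, Subgroup.mem_comap.2 (Subgroup.mem_subgroupOf.2
        (Subgroup.mem_sup_left (Subgroup.subset_closure (htrans γ hγ _)))), rfl⟩
    · obtain ⟨u, hu, hue⟩ := mem_autInducedBy_iff'.1 ht
      have htF : t ∈ F.autGroup Q :=
        autInducedBy_le hQS (mem_autInducedBy_iff'.2 ⟨u, ⟨h.le hu.1, hu.2⟩, hue⟩)
      refine ⟨⟨t, htF⟩, Subgroup.mem_comap.2 (Subgroup.mem_subgroupOf.2 (Subgroup.mem_sup_right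
        (mem_autInducedBy_iff'.2 ⟨g u, ⟨stronglyClosed_mem h.closed hg (hNU hu) hu.1,
          hg.mem_normalizer_img hQN (hNU hu) hu.2⟩, fun y hy => ?_⟩))), rfl⟩
      obtain ⟨x, hx, rfl⟩ := hgQ.mem_img.1 hy
      show autFun (e ⟨t, htF⟩ : MulAut Q₂) (g x) = _
      rw [he ⟨t, htF⟩ x hx]
      show g (autFun t x) = _
      rw [hue x hx, cj_apply, cj_apply, hg.map_conj (hNU hu) (hQN hx)]
  obtain ⟨a', ha', rfl⟩ := hle ha
  have h2 : (e a' : MulAut Q₂) ∈ autInducedBy (preimageAlong θ U') Q₂ := by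
    refine key_nice h hQ₂F (himQ₂ ▸ hB₂n) (Subgroup.mem_subgroupOf.1 (Subgroup.mem_comap.1 ha'))
      fun y hy => ?_
    obtain ⟨x, hx, rfl⟩ := hgQ.mem_img.1 hy
    rw [he a' x hx, ← hge _ (hQN (autFun_mem _ hx))]
    have h3 : along θ (autFun (a' : MulAut Q) x) = along θ x := hker x hx
    rw [h3, hge x (hQN hx)]
  obtain ⟨u₂, hu₂, hu₂e⟩ := mem_autInducedBy_iff'.1 h2
  -- the normalizers in `U` correspond
  set NU := normalizerIn (preimageAlong θ U') Q with hNUdef
  set NU₂ := normalizerIn (preimageAlong θ U') Q₂ with hNU₂def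
  have hfinU := h.finU
  have hsub : img g NU ≤ NU₂ := img_le fun x hx =>
    ⟨stronglyClosed_mem h.closed hg (hNU hx) hx.1, hg.mem_normalizer_img hQN (hNU hx) hx.2⟩
  have hfinNU₂ : Finite NU₂ := finite_of_le normalizerIn_le
  have heq : img g NU = NU₂ := by
    refine eq_of_le_card hsub ?_
    rw [(hg.restrict hNU).card_img]
    -- transport `N_U(Q₂)` into `N_U(Q)` by an automorphism of `U'` and a map of `D`
    obtain ⟨α, hα, d, hd, hde⟩ := Subsystems.invariant_frattini h.invariant hBU hg'Q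
    obtain ⟨c', hc', hc'B⟩ := exists_map_to_fullyNormalized h.pgU' h.Dsat hQn
      (isConj_symm (hd.isConj))
    have hα' := isMap_of_mem_autGroup h.closed'.1 (Subgroup.inv_mem _ hα)
    have hB₂U : B₂ ≤ U' := himQ₂ ▸ h.image_le_U hQ₂U
    have hdB : img (autFun α⁻¹) B₂ = img d B := by
      rw [← hg'B, hg'Q.img_img]
      exact img_congr fun x hx => by rw [hde x hx, autFun_inv_apply]
    have hαN : ∀ x ∈ normalizerIn U' B₂, autFun α⁻¹ x ∈ normalizerIn U' (img d B) := by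
      intro x hx
      refine ⟨autFun_mem _ hx.1, ?_⟩
      rw [← hdB]
      exact hα'.mem_normalizer_img hB₂U hx.1 hx.2
    have hm : IsMap F' (normalizerIn U' B₂) fun x => c' (autFun α⁻¹ x) :=
      (isMap_of_subset h.invariant.1 hc').comp (hα'.restrict normalizerIn_le) hαN
    rw [← h.normalizer_U hZQ₂ (hQ₂U.trans h.le), himQ₂] at hNU₂def
    obtain ⟨m, hm', hme⟩ := h.quot.lift _ _ hm
    rw [← hNU₂def] at hm' hme
    have : Finite NU := finite_of_le normalizerIn_le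
    rw [← hm'.card_img]
    refine card_le_card (img_le fun x hx => ?_)
    rw [hNUdef, ← h.normalizer_U hZQ hQS]
    refine mem_preimageAlong.2 ⟨hm'.mem hx, ?_⟩
    rw [← hme x hx]
    have hxN : along θ x ∈ normalizerIn U' B₂ := by
      rw [hNU₂def] at hx
      exact (mem_preimageAlong.1 hx).2
    have h4 := hc'.img_normalizerIn_le (le_normalizerIn hd.img_le_S) le_rfl
      (mem_img_self c' (hαN _ hxN))
    rwa [hc'B] at h4
  obtain ⟨u, hu, hue⟩ := (hg.restrict hNU).mem_img.1 (heq.ge hu₂)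
  refine mem_autInducedBy_iff'.2 ⟨u, hu, fun x hx => ?_⟩
  refine hgQ.inj (autFun_mem _ hx) ((Subgroup.mem_normalizer_iff.1 hu.2 x).1 hx) ?_
  show g (autFun (a' : MulAut Q) x) = g (cj u x)
  rw [← he a' x hx, hu₂e _ (mem_img_self g hx), cj_apply, cj_apply,
    hg.map_conj (hNU hu) (hQN hx), hue]

end Cfsg.Agent.Fusion.CentralLift
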