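/-
The lift of a normal subsystem through a central quotient is saturated and weakly normal.
-/
import Mathlib
import Cfsg.Agent.Lib.Fusion.CentralLift

set_option autoImplicit false
set_option linter.all false

namespace Cfsg.Agent.Fusion.CentralLift

open Cfsg Cfsg.FusionSystem Cfsg.Agent.Fusion.Basic Cfsg.Agent.Fusion.Saturation
  Cfsg.Agent.Fusion.Normal Cfsg.Agent.Fusion.Factor Cfsg.Agent.Fusion.CentralQuot

variable {Ω Ω' : Type*} [Group Ω] [Group Ω'] {S Z : Subgroup Ω} [Finite S]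
  {S' U' : Subgroup Ω'} {F : FusionSystem S} {F' : FusionSystem S'} {θ : S →* Ω'}
  {D : FusionSystem U'} {p : ℕ} [Fact p.Prime] {P Q R X A : Subgroup Ω} {f : Ω → Ω}

variable (h : Setup p F Z θ F' D)
include h

theorem exists_rep (hQ : Q ∈ Fam Z θ D) :
    ∃ R, (sys h).IsConj Q R ∧ R ∈ Fam Z θ D ∧ D.IsFullyNormalized (imageAlong θ R) := by
  have := h.finU'
  obtain ⟨hZQ, hQU, hcen⟩ := id hQ
  obtain ⟨B, hBc, hBn⟩ := exists_fullyNormalized (F := D) (h.image_le_U hQU)
  obtain ⟨f', hf', hf'B⟩ := isConj_iff_map.1 hBc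
  obtain ⟨f, hf, hfe⟩ := sys_up h hZQ hQU hf'
  refine ⟨img f Q, hf.isConj, fam_conj h hQ hf.isConj, ?_⟩
  rw [← image_img (sys_isMap_F h hf) (isMap_of_subset h.invariant.1 hf') hfe, hf'B]
  exact hBn

/-! ### A subgroup whose automorphisms are the expected ones -/

theorem good_of_nice (hQ : Q ∈ Fam Z θ D) (hQn : D.IsFullyNormalized (imageAlong θ Q))
    (hnice : (sys h).autGroup Q ≤ alg p F Z θ D Q) :
    (sys h).IsFullyAutomized p Q ∧ (sys h).IsReceptive Q := by
  have hfinU := h.finU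
  have := h.finU'
  have := h.finS'
  obtain ⟨hZQ, hQU, hcen⟩ := id hQ
  have hQS : Q ≤ S := hQU.trans h.le
  have hfinQ : Finite Q := finite_of_le hQS
  set B := imageAlong θ Q with hB
  have hBU : B ≤ U' := h.image_le_U hQU
  have hfinB : Finite B := finite_of_le hBU
  refine ⟨(fullyAutomized_iff h.pgU).2 ⟨hQU, ?_⟩, isReceptive_iff.2 ⟨hQU, ?_⟩⟩
  · obtain ⟨π, hπs, hπe⟩ := exists_hom h.quot hZQ hQS
    have hle : (sys h).autGroup Q ≤ F.autGroup Q := fun a ha => (mem_autGroup_iff hQS).2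
      (sys_isMap_F h (isMap_of_mem_autGroup hQU ha))
    let ρ : (sys h).autGroup Q →* D.autGroup B :=
      ((F'.autGroup B).subtype.comp (π.comp (Subgroup.inclusion hle))).codRestrict _ fun a => by
        obtain ⟨g', hg', hge⟩ := sys_down h (isMap_of_mem_autGroup hQU a.2)
        refine (mem_autGroup_iff hBU).2 (hg'.congr fun y hy => ?_)
        obtain ⟨x, hx, -, rfl⟩ := mem_imageAlong.1 hy
        rw [hge x hx]
        exact (hπe (Subgroup.inclusion hle a) x hx).symm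
    have hρe : ∀ (a : (sys h).autGroup Q), ∀ x ∈ Q, autFun (ρ a : MulAut B) (along θ x) =
        along θ (autFun (a : MulAut Q) x) := fun a x hx => hπe _ x hx
    have hρs : Function.Surjective ρ := by
      intro b
      obtain ⟨g, hg, hge⟩ := sys_up h hZQ hQU (isMap_of_mem_autGroup hBU b.2)
      have himg : img g Q = Q := by
        refine eq_of_image_eq h.quot (le_img_of_central h.central (sys_isMap_F h hg) hZQ)
          (sys_isMap_F h hg).img_le_S hZQ hQS ?_
        rw [← image_img (sys_isMap_F h hg)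
          (isMap_of_subset h.invariant.1 (isMap_of_mem_autGroup hBU b.2)) hge, ← hB, autFun_img]
      obtain ⟨a, ha, hae⟩ := hg.exists_aut himg
      refine ⟨⟨a, ha⟩, Subtype.ext (autFun_ext fun y hy => ?_)⟩
      obtain ⟨x, hx, -, rfl⟩ := mem_imageAlong.1 hy
      rw [hρe ⟨a, ha⟩ x hx, hge x hx]
      show along θ (autFun a x) = _
      rw [hae x hx]
    obtain ⟨P₀, hP₀⟩ := (fullyNormalized_fullyAutomized h.pgU' h.Dsat hQn).2
    have hle' : (P₀ : Subgroup (D.autGroup B)).comap ρ ≤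
        (autInducedBy (preimageAlong θ U') Q).subgroupOf ((sys h).autGroup Q) := by
      intro a ha
      rw [Subgroup.mem_comap, hP₀, Subgroup.mem_subgroupOf] at ha
      obtain ⟨u', hu', hu'e⟩ := mem_autInducedBy_iff'.1 ha
      obtain ⟨u, huS, rfl⟩ := exists_along_eq h.quot.range_eq (h.closed'.1 hu'.1)
      have huN : u ∈ normalizerIn (preimageAlong θ U') Q := by
        rw [← h.normalizer_U hZQ hQS]
        exact mem_preimageAlong.2 ⟨huS, hu'⟩
      obtain ⟨t, hte⟩ : ∃ t : (sys h).autGroup Q,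
          ∀ x ∈ Q, autFun (t : MulAut Q) x = u * x * u⁻¹ :=
        ⟨⟨conjAut _ Q ⟨u, huN⟩, SaturationCriterion.conjAut_mem_autGroup hQU _⟩,
          fun x hx => conjAut_apply (K := preimageAlong θ U') ⟨u, huN⟩ hx⟩
      have htU : (t : MulAut Q) ∈ autInducedBy (preimageAlong θ U') Q :=
        mem_autInducedBy_iff'.2 ⟨u, huN, hte⟩
      have h1 : ρ (t⁻¹ * a) = 1 := by
        rw [map_mul, map_inv, inv_mul_eq_one]
        refine Subtype.ext (autFun_ext fun y hy => ?_)
        rw [hu'e y hy]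
        obtain ⟨x, hx, hxS, rfl⟩ := mem_imageAlong.1 hy
        rw [hρe t x hx, hte x hx, along_mul θ (S.mul_mem huS hxS) (S.inv_mem huS),
          along_mul θ huS hxS, along_inv θ huS]
        rfl
      have h2 : ((t⁻¹ * a : (sys h).autGroup Q) : MulAut Q) ∈
          autInducedBy (preimageAlong θ U') Q := by
        refine key h hQ hQn (hnice (SetLike.coe_mem _)) fun x hx => ?_
        rw [← hρe (t⁻¹ * a) x hx, h1, Subgroup.coe_one, autFun_one]
        rfl
      refine Subgroup.mem_subgroupOf.2 ?_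
      rw [show (a : MulAut Q) = (t : MulAut Q) * ((t⁻¹ * a : (sys h).autGroup Q) : MulAut Q) by
        rw [← Subgroup.coe_mul, mul_inv_cancel_left]]
      exact Subgroup.mul_mem _ htU h2
    intro hdvd
    have h3 := hdvd.trans (Subgroup.index_dvd_of_le hle')
    rw [Subgroup.index_comap_of_surjective _ hρs] at h3
    exact P₀.not_dvd_index h3
  · intro P f hf hfQ
    have hPF : P ∈ Fam Z θ D := fam_conj h hQ (isConj_symm (hfQ ▸ hf.isConj))
    obtain ⟨hZP, hPU, -⟩ := hPF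
    have hPS : P ≤ S := hPU.trans h.le
    obtain ⟨f', hf', hfe⟩ := sys_down h hf
    have hf'img : img f' (imageAlong θ P) = B := by
      rw [image_img (sys_isMap_F h hf) (isMap_of_subset h.invariant.1 hf') hfe, hfQ]
    obtain ⟨ψ', hψ', hψ'e⟩ := (isReceptive_iff.1
      (fullyNormalized_receptive h.pgU' h.Dsat hQn)).2 _ f' hf' hf'img
    set N := nSub (preimageAlong θ U') P f with hN
    have hNU : N ≤ preimageAlong θ U' := (nSub_le _ _ _).trans normalizerIn_le
    have hPN : P ≤ N := le_nSub hf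
    have hNi : imageAlong θ N ≤ nSub U' (imageAlong θ P) f' := by
      intro y hy
      obtain ⟨x, hx, hxS, rfl⟩ := mem_imageAlong.1 hy
      obtain ⟨hxU, hxN, v, hv, hve⟩ := hx
      have hxN' : x ∈ preimageAlong θ (normalizerIn U' (imageAlong θ P)) := by
        rw [h.normalizer_U hZP hPS]
        exact ⟨hxU, hxN⟩
      obtain ⟨-, hxU', hxN''⟩ := mem_preimageAlong.1 hxN'
      obtain ⟨hvS, hvU⟩ := mem_preimageAlong.1 hv
      refine ⟨hxU', hxN'', along θ v, hvU, fun z hz => ?_⟩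
      obtain ⟨w, hw, hwS, rfl⟩ := mem_imageAlong.1 hz
      have hfw : f w ∈ S := h.le (hf.mem hw)
      have hxw := (Subgroup.mem_normalizer_iff.1 hxN w).1 hw
      rw [← along_inv θ hxS, ← along_mul θ hxS hwS,
        ← along_mul θ (S.mul_mem hxS hwS) (S.inv_mem hxS), hfe _ hxw, hfe w hw, hve w hw,
        along_mul θ (S.mul_mem hvS hfw) (S.inv_mem hvS), along_mul θ hvS hfw, along_inv θ hvS]
    obtain ⟨ψ, hψ, hψe⟩ := sys_up h (hZP.trans hPN) hNU (hψ'.restrict hNi)
    have hψP := hψ.restrict hPN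
    have hψPQ : img ψ P = Q := by
      refine eq_of_image_eq h.quot (le_img_of_central h.central (sys_isMap_F h hψP) hZP)
        (sys_isMap_F h hψP).img_le_S hZQ hQS ?_
      rw [← image_img (sys_isMap_F h hψP)
        (isMap_of_subset h.invariant.1 hf') fun x hx => ?_, hf'img]
      rw [← hψe x (hPN hx), hψ'e _ (mem_image hPS hx)]
    obtain ⟨i, hi, hiimg, hif, -⟩ := hf.exists_inv
    rw [hfQ] at hi hiimg
    have hm : IsMap (sys h) Q fun y => ψ (i y) :=
      hψP.comp hi fun y hy => hiimg.le (mem_img_self i hy)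
    have himg : img (fun y => ψ (i y)) Q = Q := by rw [← hi.img_img, hiimg, hψPQ]
    obtain ⟨a, ha, hae⟩ := hm.exists_aut himg
    have hau : a ∈ autInducedBy (preimageAlong θ U') Q := by
      refine key h hQ hQn (hnice ha) fun y hy => ?_
      obtain ⟨x, hx, rfl⟩ := hf.mem_img.1 (hfQ.ge hy)
      rw [hae _ hy, hif x hx, ← hψe x (hPN hx), hψ'e _ (mem_image hPS hx), hfe x hx]
    obtain ⟨u, hu, hue⟩ := mem_autInducedBy_iff'.1 hau
    refine ⟨fun x => cj u⁻¹ (ψ x), (isMap_cj le_rfl ((preimageAlong θ U').inv_mem hu.1)).comp hψ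
      fun x hx => hψ.mem hx, fun x hx => ?_⟩
    show cj u⁻¹ (ψ x) = f x
    have hfx : f x ∈ Q := hfQ ▸ mem_img_self f hx
    have h1 := hue _ hfx
    rw [hae _ hfx, hif x hx] at h1
    rw [h1, cj_inv_cj]

/-! ### The automorphisms of the lifted system -/

/-- Maps on the normalizers carry the generated automorphisms along. -/
theorem alg_transport (hA : A ∈ Fam Z θ D) {ψ : Ω → Ω}
    (hψ : IsMap (sys h) (normalizerIn (preimageAlong θ U') A) ψ) (himg : img ψ A = Q)
    {a : MulAut A} (ha : a ∈ alg p F Z θ D A) {b : MulAut Q}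
    (hb : ∀ x ∈ A, autFun b (ψ x) = ψ (autFun a x)) : b ∈ alg p F Z θ D Q := by
  obtain ⟨-, hAU, -⟩ := id hA
  have hAN := le_normalizerIn hAU
  have hψA := hψ.restrict hAN
  obtain ⟨e, he⟩ := exists_autEquiv_to hψA himg
  have hQF : Q ∈ Fam Z θ D := fam_conj h hA (himg ▸ hψA.isConj)
  have hle : alg p F Z θ D A ≤
      (((alg p F Z θ D Q).subgroupOf ((sys h).autGroup Q)).comap e.toMonoidHom).map
        ((sys h).autGroup A).subtype := by
    refine sup_le ((Subgroup.closure_le _).2 fun γ hγ => ?_) fun t ht => ?_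
    · have hγm : γ ∈ (sys h).autGroup A := (mem_autGroup_iff hAU).2 (contains_sys h A γ hγ)
      refine ⟨⟨γ, hγm⟩, Subgroup.mem_comap.2 (Subgroup.mem_subgroupOf.2
        (Subgroup.mem_sup_left (Subgroup.subset_closure
          (gen_of_aut h hQF (SetLike.coe_mem _) ?_)))), rfl⟩
      rw [Subgroup.orderOf_coe]
      show (orderOf (e ⟨γ, hγm⟩)).Coprime p
      rw [MulEquiv.orderOf_eq, ← Subgroup.orderOf_coe]
      exact hγ.2.2.2.2.1
    · obtain ⟨u, hu, hue⟩ := mem_autInducedBy_iff'.1 ht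
      refine ⟨⟨t, autInducedBy_le hAU ht⟩, Subgroup.mem_comap.2 (Subgroup.mem_subgroupOf.2
        (Subgroup.mem_sup_right (mem_autInducedBy_iff'.2 ⟨ψ u, ⟨hψ.mem hu, ?_⟩, fun y hy => ?_⟩))),
        rfl⟩
      · rw [← himg]
        exact hψ.mem_normalizer_img hAN hu hu.2
      · rw [← himg] at hy
        obtain ⟨x, hx, rfl⟩ := hψA.mem_img.1 hy
        show autFun (e ⟨t, _⟩ : MulAut Q) (ψ x) = _
        rw [he _ x hx]
        show ψ (autFun t x) = _
        rw [hue x hx, cj_apply, cj_apply, hψ.map_conj hu (hAN hx)]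
  obtain ⟨a', ha', rfl⟩ := hle ha
  have hbe : b = (e a' : MulAut Q) := by
    refine autFun_ext fun y hy => ?_
    rw [← himg] at hy
    obtain ⟨x, hx, rfl⟩ := hψA.mem_img.1 hy
    rw [hb x hx, he a' x hx]
    rfl
  rw [hbe]
  exact Subgroup.mem_subgroupOf.1 (Subgroup.mem_comap.1 ha')

/-- The restriction of an automorphism of a good bigger subgroup. -/
theorem stab_transfer (hQ : Q ∈ Fam Z θ D) {Q' : Subgroup Ω} [Finite X]
    (hX : X ≤ preimageAlong θ U') (hQ'X : Q' ≤ X) (hQ' : (sys h).IsConj Q' Q)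
    (had : SaturationCriterion.Adapted (sys h) p X Q') {η : Ω → Ω}
    (hη : IsMap (sys h) (normalizerIn (preimageAlong θ U') Q') η) (hηQ : img η Q' = Q)
    (s : (sys h).autGroup X) (hs : ∀ y ∈ Q', autFun (s : MulAut X) y ∈ Q') {b : MulAut Q}
    (hb : ∀ y ∈ Q', autFun b (η y) = η (autFun (s : MulAut X) y)) : b ∈ alg p F Z θ D Q := by
  have hfinU := h.finU
  have hQ'U : Q' ≤ preimageAlong θ U' := hQ'X.trans hX
  have hQ'N := le_normalizerIn hQ'U
  have hηQ' := hη.restrict hQ'N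
  have hfinQ' : Finite Q' := finite_of_le hQ'U
  obtain ⟨r, hr⟩ := SaturationCriterion.exists_res (F := sys h) hX hQ'X
  obtain ⟨e, he⟩ := exists_autEquiv_to hηQ' hηQ
  set ρ := e.toMonoidHom.comp r with hρ
  set K := ((alg p F Z θ D Q).subgroupOf ((sys h).autGroup Q)).comap ρ with hK
  obtain ⟨hAp, hAidx⟩ := SaturationCriterion.adapted_sylow h.pgU had
  have hρe : ∀ (m : SaturationCriterion.stab (sys h) X Q'), ∀ y ∈ Q',
      autFun (ρ m : MulAut Q) (η y) = η (autFun ((m : (sys h).autGroup X) : MulAut X) y) := by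
    intro m y hy
    show autFun (e (r m) : MulAut Q) (η y) = _
    rw [he (r m) y hy, hr m y hy]
  have htop : K = ⊤ := by
    refine eq_top_of_coprime (p := p) K _ hAidx (fun a ha => ?_) fun m hm => ?_
    · obtain ⟨u, hu, hue⟩ :=
        mem_autInducedBy_iff'.1 (Subgroup.mem_subgroupOf.1 (Subgroup.mem_subgroupOf.1 ha))
      have huN : u ∈ normalizerIn (preimageAlong θ U') Q' := by
        refine ⟨hu.1, mem_normalizer_of_forall fun y hy => ?_⟩
        have h1 := a.2 y hy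
        rwa [hue y (hQ'X hy)] at h1
      refine Subgroup.mem_comap.2 (Subgroup.mem_subgroupOf.2 (Subgroup.mem_sup_right
        (mem_autInducedBy_iff'.2 ⟨η u, ⟨hη.mem huN, ?_⟩, fun z hz => ?_⟩)))
      · rw [← hηQ]
        exact hη.mem_normalizer_img hQ'N huN huN.2
      · rw [← hηQ] at hz
        obtain ⟨y, hy, rfl⟩ := hηQ'.mem_img.1 hz
        rw [hρe a y hy, hue y (hQ'X hy), cj_apply, cj_apply, hη.map_conj huN (hQ'N hy)]
    · refine Subgroup.mem_comap.2 (Subgroup.mem_subgroupOf.2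
        (Subgroup.mem_sup_left (Subgroup.subset_closure (gen_of_aut h hQ (SetLike.coe_mem _) ?_))))
      rw [Subgroup.orderOf_coe]
      exact Nat.Coprime.coprime_dvd_left (orderOf_map_dvd ρ m) hm
  have hmem : (⟨s, hs⟩ : SaturationCriterion.stab (sys h) X Q') ∈ K := htop ▸ Subgroup.mem_top _
  have hbe : b = (ρ ⟨s, hs⟩ : MulAut Q) := by
    refine autFun_ext fun z hz => ?_
    rw [← hηQ] at hz
    obtain ⟨y, hy, rfl⟩ := hηQ'.mem_img.1 hz
    rw [hb y hy, hρe _ y hy]
  rw [hbe]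
  exact Subgroup.mem_subgroupOf.1 (Subgroup.mem_comap.1 hmem)

/-- An automorphism extending to a bigger subgroup is one of the expected ones. -/
theorem claim (hQ : Q ∈ Fam Z θ D) (hQn : D.IsFullyNormalized (imageAlong θ Q))
    (hgood : ∀ R ∈ Fam Z θ D, D.IsFullyNormalized (imageAlong θ R) → Nat.card Q < Nat.card R →
      (sys h).IsFullyAutomized p R ∧ (sys h).IsReceptive R)
    (hQX : Q < X) (hXN : X ≤ normalizerIn (preimageAlong θ U') Q) {g : Ω → Ω}
    (hg : IsMap (sys h) X g) (a : (sys h).autGroup Q)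
    (ha : ∀ x ∈ Q, g x = autFun (a : MulAut Q) x) : (a : MulAut Q) ∈ alg p F Z θ D Q := by
  have hfinU := h.finU
  induction hd : Nat.card (preimageAlong θ U') - Nat.card X using Nat.strong_induction_on
    generalizing X g a with
  | _ d ih =>
  have hQU := hQ.2.1
  have hQN := le_normalizerIn hQU
  have hfinQ : Finite Q := finite_of_le hQU
  have hXU : X ≤ preimageAlong θ U' := hg.le
  have hfinX : Finite X := finite_of_le hXU
  have hfinN : Finite (normalizerIn (preimageAlong θ U') Q) := finite_of_le normalizerIn_le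
  have hgQ : img g Q = Q := by rw [img_congr ha, autFun_img]
  set X' := img g X with hX'
  have hX'U : X' ≤ preimageAlong θ U' := hg.img_le_S
  have hX'N : X' ≤ normalizerIn (preimageAlong θ U') Q := img_le fun x hx =>
    ⟨hg.mem hx, hgQ ▸ hg.mem_normalizer_img hQX.le hx (hXN hx).2⟩
  have hQX' : Q ≤ X' := hgQ ▸ img_mono g hQX.le
  have hXc : Nat.card Q < Nat.card X := card_lt_card hQX
  have hX'F : X' ∈ Fam Z θ D := fam_mono h hQ hQX' hX'U
  obtain ⟨Xs, hXs, hXsF, hXsn⟩ := exists_rep h hX'F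
  have hXsU := hXsF.2.1
  have hfinXs : Finite Xs := finite_of_le hXsU
  obtain ⟨hFA, hRec⟩ := hgood Xs hXsF hXsn (by rw [isConj_card hXs, hg.card_img]; exact hXc)
  obtain ⟨γ, hγ, hγX⟩ := exists_tgt h hXsF hXsn hXs
  have hX'NX' := le_normalizerIn hX'U
  have hγ' := hγ.restrict hX'NX'
  obtain ⟨c, hc⟩ := SaturationCriterion.exists_adapted hFA (hγX ▸ img_mono γ hQX')
  set φ₂ := fun y => autFun (c : MulAut Xs) (γ y) with hφ₂def
  have hφ₂ : IsMap (sys h) X' φ₂ :=
    (isMap_of_mem_autGroup hXsU c.2).comp hγ' fun x hx => hγX.le (mem_img_self γ hx)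
  have hφ₂X : img φ₂ X' = Xs := by rw [hφ₂def, ← hγ'.img_img, hγX, autFun_img]
  set Q' := img φ₂ Q with hQ'
  have hQ'e : Q' = img (autFun (c : MulAut Xs)) (img γ Q) := by
    rw [hQ', hφ₂def, (hγ'.restrict hQX').img_img]
  rw [← hQ'e] at hc
  clear hQ'e hφ₂def
  clear_value φ₂
  have hQ'Xs : Q' ≤ Xs := hφ₂X ▸ img_mono φ₂ hQX'
  have hQ'Q : (sys h).IsConj Q' Q := isConj_symm (hQ' ▸ (hφ₂.restrict hQX').isConj)
  obtain ⟨η, hη, hηQ⟩ := exists_tgt h hQ hQn hQ'Q
  have hext : ∀ (X₀ : Subgroup Ω) (ψ : Ω → Ω), IsMap (sys h) X₀ ψ → Q ≤ X₀ →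
      X₀ ≤ normalizerIn (preimageAlong θ U') Q → img ψ Q = Q' →
      IsMap (sys h) X₀ (fun x => η (ψ x)) ∧ img (fun x => η (ψ x)) Q = Q := by
    intro X₀ ψ hψ hQX₀ hX₀ hψQ
    refine ⟨hη.comp hψ fun x hx =>
      ⟨hψ.mem hx, hψQ ▸ hψ.mem_normalizer_img hQX₀ hx (hX₀ hx).2⟩, ?_⟩
    rw [← (hψ.restrict hQX₀).img_img, hψQ, hηQ]
  have hQ'N : Q' ≤ normalizerIn (preimageAlong θ U') Q' := le_normalizerIn (hQ'Xs.trans hXsU)
  rcases eq_or_lt_of_le hXN with hXe | hXlt
  · -- `X` is the normalizer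
    have hX'e : X' = X := by
      rw [hXe]
      exact eq_of_le_card hX'N (by rw [hg.card_img, hXe])
    rw [hX'e] at hφ₂ hφ₂X hQX'
    obtain ⟨i, hi, hiimg, hiφ, hφi⟩ := hφ₂.exists_inv
    rw [hφ₂X] at hi hiimg hφi
    have hgX : ∀ x ∈ X, g x ∈ X := fun x hx => hX'e.le (mem_img_self g hx)
    have hsm : IsMap (sys h) Xs fun y => φ₂ (g (i y)) :=
      hφ₂.comp (hg.comp hi fun y hy => hiimg.le (mem_img_self i hy))
        fun y hy => hgX _ (hiimg.le (mem_img_self i hy))
    have hsimg : img (fun y => φ₂ (g (i y))) Xs = Xs := by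
      rw [← hi.img_img (fun y => φ₂ (g y)), hiimg, ← hg.img_img, ← hX', hX'e, hφ₂X]
    obtain ⟨s, hs, hse⟩ := hsm.exists_aut hsimg
    have hsQ : ∀ y ∈ Q', autFun s y ∈ Q' := by
      intro y hy
      obtain ⟨x, hx, rfl⟩ := (hφ₂.restrict hQX').mem_img.1 hy
      rw [hse _ (hQ'Xs hy), hiφ x (hQX' hx), ha x hx]
      exact mem_img_self φ₂ (autFun_mem _ hx)
    obtain ⟨hψ, hψQ⟩ := hext X φ₂ hφ₂ hQX' hXN rfl
    rw [hXe] at hψ
    obtain ⟨ψi, hψi, hψiimg, hψiψ, hψψi⟩ := hψ.exists_inv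
    have hψN : img (fun x => η (φ₂ x)) (normalizerIn (preimageAlong θ U') Q) =
        normalizerIn (preimageAlong θ U') Q := by
      refine eq_of_le_card ?_ hψ.card_img.ge
      have h1 := hψ.img_normalizerIn_le hQN le_rfl
      rwa [hψQ] at h1
    rw [hψN] at hψi hψiimg hψψi
    have hψiQ : img ψi Q = Q := by
      conv_lhs => rw [← hψQ]
      rw [(hψ.restrict hQN).img_img, img_congr (g := id) fun x hx => hψiψ x (hQN hx), img_id]
    -- the automorphism of `Q` at the other end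
    obtain ⟨e, he⟩ := exists_autEquiv_to (hψ.restrict hQN) hψQ
    have hbA : (e a : MulAut Q) ∈ alg p F Z θ D Q := by
      refine stab_transfer h hQ hXsU hQ'Xs hQ'Q hc hη hηQ ⟨s, hs⟩ hsQ fun y hy => ?_
      obtain ⟨x, hx, rfl⟩ := (hφ₂.restrict hQX').mem_img.1 hy
      rw [he a x hx]
      show η (φ₂ (autFun (a : MulAut Q) x)) = η (autFun s (φ₂ x))
      rw [hse _ (hQ'Xs hy), hiφ x (hQX' hx), ha x hx]
    refine alg_transport h hQ hψi hψiQ hbA fun y hy => ?_
    obtain ⟨x, hx, rfl⟩ := (hψ.restrict hQN).mem_img.1 (hψQ.ge hy)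
    rw [he a x hx, hψiψ _ (hQN hx), hψiψ _ (hQN (autFun_mem _ hx))]
  -- the general case
  have hφ₁ : IsMap (sys h) X fun x => φ₂ (g x) := hφ₂.comp hg fun x hx => mem_img_self g hx
  have hφ₁X : img (fun x => φ₂ (g x)) X = Xs := by rw [← hg.img_img, ← hX', hφ₂X]
  have hφ₁Q : img (fun x => φ₂ (g x)) Q = Q' := by
    rw [← (hg.restrict hQX.le).img_img, hgQ]
  have hX'lt : X' < normalizerIn (preimageAlong θ U') Q := by
    refine lt_of_le_of_ne hX'N fun e => ?_
    have h1 := card_lt_card hXlt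
    rw [← e, hg.card_img] at h1
    omega
  have hfix : ∀ (X₀ : Subgroup Ω) (φ : Ω → Ω), IsMap (sys h) X₀ φ → Q ≤ X₀ →
      X₀ < normalizerIn (preimageAlong θ U') Q → Nat.card X₀ = Nat.card X → img φ X₀ = Xs →
      img φ Q = Q' → ∃ δ, IsMap (sys h) X₀ δ ∧ img δ X₀ = Xs ∧ img δ Q = Q' ∧
        ∀ b : (sys h).autGroup Q, (∀ x ∈ Q, η (δ x) = autFun (b : MulAut Q) x) →
          (b : MulAut Q) ∈ alg p F Z θ D Q := by
    intro X₀ φ hφ hQX₀ hX₀ hX₀c hφX hφQ
    have hfinX₀ : Finite X₀ := finite_of_le hφ.le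
    have hfinimg : Finite (img φ X₀) := finite_of_le hφ.img_le_S
    obtain ⟨δ, hδ, hδQ, hδX⟩ := SaturationCriterion.exists_lift h.pgU hφ hQX₀ hφQ
      (hφX.symm ▸ hRec) (by convert hc using 1)
      (W := normalizerIn (preimageAlong θ U') Q ⊓ normalizerIn (preimageAlong θ U') X₀)
      inf_le_right (fun w hw => hw.1.2)
    refine ⟨δ, hδ.restrict le_sup_left, hδX.trans hφX, hδQ, fun b hb => ?_⟩
    have hN₀ : X₀ ⊔ (normalizerIn (preimageAlong θ U') Q ⊓ normalizerIn (preimageAlong θ U') X₀) ≤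
        normalizerIn (preimageAlong θ U') Q := sup_le hX₀.le inf_le_left
    have hlt : X₀ < X₀ ⊔
        (normalizerIn (preimageAlong θ U') Q ⊓ normalizerIn (preimageAlong θ U') X₀) := by
      obtain ⟨w, hw, hwX⟩ := exists_mem_normalizer_not_mem (h.pgU.to_le normalizerIn_le) hX₀
        (S := normalizerIn (preimageAlong θ U') Q)
      exact left_lt_sup.2 fun hle => hwX (hle ⟨hw.1, normalizerIn_le hw.1, hw.2⟩)
    refine ih _ ?_ (lt_of_le_of_lt hQX₀ hlt) hN₀ (hext _ δ hδ (hQX₀.trans le_sup_left) hN₀ hδQ).1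
      b hb rfl
    have hfinbig : Finite (X₀ ⊔ (normalizerIn (preimageAlong θ U') Q ⊓
        normalizerIn (preimageAlong θ U') X₀) : Subgroup Ω) := finite_of_le hδ.le
    have := card_lt_card hlt
    have := card_le_card hδ.le
    omega
  obtain ⟨δ₁, hδ₁, hδ₁X, hδ₁Q, hδ₁a⟩ := hfix X _ hφ₁ hQX.le hXlt rfl hφ₁X hφ₁Q
  obtain ⟨δ₂, hδ₂, hδ₂X, hδ₂Q, hδ₂a⟩ := hfix X' φ₂ hφ₂ hQX' hX'lt hg.card_img hφ₂X rfl
  obtain ⟨hψ₁, hψ₁Q⟩ := hext X δ₁ hδ₁ hQX.le hXN hδ₁Q
  obtain ⟨hψ₂, hψ₂Q⟩ := hext X' δ₂ hδ₂ hQX' hX'N hδ₂Q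
  obtain ⟨a₁, ha₁, ha₁e⟩ := (hψ₁.restrict hQX.le).exists_aut hψ₁Q
  obtain ⟨a₂, ha₂, ha₂e⟩ := (hψ₂.restrict hQX').exists_aut hψ₂Q
  have hA₁ := hδ₁a ⟨a₁, ha₁⟩ fun x hx => (ha₁e x hx).symm
  have hA₂ := hδ₂a ⟨a₂, ha₂⟩ fun x hx => (ha₂e x hx).symm
  obtain ⟨i, hi, hiimg, hiδ, -⟩ := hδ₁.exists_inv
  rw [hδ₁X] at hi hiimg
  have hsm : IsMap (sys h) Xs fun y => δ₂ (g (i y)) :=
    hδ₂.comp (hg.comp hi fun y hy => hiimg.le (mem_img_self i hy))
      fun y hy => mem_img_self g (hiimg.le (mem_img_self i hy))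
  have hsimg : img (fun y => δ₂ (g (i y))) Xs = Xs := by
    rw [← hi.img_img (fun y => δ₂ (g y)), hiimg, ← hg.img_img, ← hX', hδ₂X]
  obtain ⟨s, hs, hse⟩ := hsm.exists_aut hsimg
  have hsQ : ∀ y ∈ Q', autFun s y ∈ Q' := by
    intro y hy
    obtain ⟨x, hx, rfl⟩ := (hδ₁.restrict hQX.le).mem_img.1 (hδ₁Q.ge hy)
    rw [hse _ (hQ'Xs hy), hiδ x (hQX.le hx), ha x hx]
    exact hδ₂Q.le (mem_img_self δ₂ (autFun_mem _ hx))
  have hbA : a₂ * (a : MulAut Q) * a₁⁻¹ ∈ alg p F Z θ D Q := by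
    refine stab_transfer h hQ hXsU hQ'Xs hQ'Q hc hη hηQ ⟨s, hs⟩ hsQ fun y hy => ?_
    obtain ⟨x, hx, rfl⟩ := (hδ₁.restrict hQX.le).mem_img.1 (hδ₁Q.ge hy)
    rw [← ha₁e x hx, autFun_mul, autFun_mul, autFun_inv_apply]
    rw [ha₂e _ (autFun_mem _ hx)]
    show _ = η (autFun s (δ₁ x))
    rw [hse _ (hQ'Xs hy), hiδ x (hQX.le hx), ha x hx]
  have : (a : MulAut Q) = a₂⁻¹ * (a₂ * (a : MulAut Q) * a₁⁻¹) * a₁ := by group
  rw [this]
  exact Subgroup.mul_mem _ (Subgroup.mul_mem _ (Subgroup.inv_mem _ hA₂) hbA) hA₁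

/-! ### The induction over all maps -/

omit h in
/-- The transfers to `Q` of the map `f` on `A` are expected automorphisms. -/
def Phi (p : ℕ) (F : FusionSystem S) (Z : Subgroup Ω) (θ : S →* Ω') (D : FusionSystem U')
    (E : FusionSystem (preimageAlong θ U')) (Q A : Subgroup Ω) (f : Ω → Ω) : Prop :=
  ∀ g₁ g₂ : Ω → Ω, IsMap E (normalizerIn (preimageAlong θ U') A) g₁ →
    IsMap E (normalizerIn (preimageAlong θ U') (img f A)) g₂ → img g₁ A = Q →
    img g₂ (img f A) = Q → ∀ b : E.autGroup Q,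
      (∀ x ∈ A, autFun (b : MulAut Q) (g₁ x) = g₂ (f x)) → (b : MulAut Q) ∈ alg p F Z θ D Q

theorem phi_step (hQ : Q ∈ Fam Z θ D) (hQn : D.IsFullyNormalized (imageAlong θ Q))
    (hgood : ∀ R ∈ Fam Z θ D, D.IsFullyNormalized (imageAlong θ R) → Nat.card Q < Nat.card R →
      (sys h).IsFullyAutomized p R ∧ (sys h).IsReceptive R)
    (hA : (sys h).IsConj Q A) (hAX : A < X) (hXN : X ≤ normalizerIn (preimageAlong θ U') A)
    {ρ : Ω → Ω} (hρ : IsMap (sys h) X ρ) : Phi p F Z θ D (sys h) Q A ρ := by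
  have hfinU := h.finU
  intro g₁ g₂ h₁ h₂ e₁ e₂ b hb
  have hg₁ := h₁.restrict hXN
  obtain ⟨i, hi, himg, hig, -⟩ := hg₁.exists_inv
  have hm : IsMap (sys h) (img g₁ X) fun y => g₂ (ρ (i y)) :=
    h₂.comp (hρ.comp hi fun y hy => himg.le (mem_img_self i hy)) fun y hy =>
      have hx := himg.le (mem_img_self i hy)
      ⟨hρ.mem hx, hρ.mem_normalizer_img hAX.le hx (hXN hx).2⟩
  have hA' : A ≤ normalizerIn (preimageAlong θ U') A := hAX.le.trans hXN
  refine claim h hQ hQn hgood ?_ ?_ hm b fun y hy => ?_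
  · rw [← e₁]
    refine lt_of_le_of_ne (img_mono g₁ hAX.le) fun e => hAX.ne ?_
    have : Finite X := finite_of_le hρ.le
    exact eq_of_le_card hAX.le
      (le_of_eq (by rw [← hg₁.card_img, ← e, (h₁.restrict hA').card_img]))
  · exact img_le fun x hx => ⟨hg₁.mem hx, e₁ ▸ h₁.mem_normalizer_img hA' (hXN hx) (hXN hx).2⟩
  · rw [← e₁] at hy
    obtain ⟨x, hx, rfl⟩ := (h₁.restrict hA').mem_img.1 hy
    show g₂ (ρ (i (g₁ x))) = _
    rw [hig x (hAX.le hx), hb x hx]

theorem phi_congr {E : FusionSystem (preimageAlong θ U')} {g : Ω → Ω}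
    (hfg : ∀ x ∈ A, f x = g x) (hΦ : Phi p F Z θ D E Q A f) : Phi p F Z θ D E Q A g := by
  intro g₁ g₂ h₁ h₂ e₁ e₂ b hb
  rw [← img_congr hfg] at h₂ e₂
  exact hΦ g₁ g₂ h₁ h₂ e₁ e₂ b fun x hx => by rw [hb x hx, hfg x hx]

theorem phi_all (hQ : Q ∈ Fam Z θ D) (hQn : D.IsFullyNormalized (imageAlong θ Q))
    (hgood : ∀ R ∈ Fam Z θ D, D.IsFullyNormalized (imageAlong θ R) → Nat.card Q < Nat.card R →
      (sys h).IsFullyAutomized p R ∧ (sys h).IsReceptive R)
    (hlt : Q < preimageAlong θ U') (hA : (sys h).IsConj Q A) (hf : IsMap (sys h) A f) :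
    Phi p F Z θ D (sys h) Q A f := by
  have hfinU := h.finU
  have hfinQ : Finite Q := finite_of_le hQ.2.1
  have hne : ∀ B, (sys h).IsConj Q B → B < normalizerIn (preimageAlong θ U') B := by
    intro B hB
    refine lt_normalizerIn h.pgU (lt_of_le_of_ne (isConj_le hB).2 fun e => hlt.ne ?_)
    exact eq_of_le_card hlt.le (by rw [← isConj_card hB, e])
  have hcj : ∀ B, (sys h).IsConj Q B → ∀ g ∈ preimageAlong θ U',
      Phi p F Z θ D (sys h) Q B (cj g) := fun B hB g hg =>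
    phi_step h hQ hQn hgood hB (hne B hB) le_rfl (isMap_cj normalizerIn_le hg)
  let E : FusionSystem (preimageAlong θ U') :=
    { Hom := fun R => {φ | φ ∈ (sys h).Hom R ∧ ∀ B, B ≤ R → (sys h).IsConj Q B →
        Phi p F Z θ D (sys h) Q B (ext φ)}
      le_of_mem := fun hφ => (sys h).le_of_mem hφ.1
      injective_of_mem := fun hφ => (sys h).injective_of_mem hφ.1
      conj_mem := by
        intro R g hR hg
        refine ⟨(sys h).conj_mem hR hg, fun B hBR hB => ?_⟩
        exact phi_congr h (fun x hx => by rw [ext_of_mem _ (hBR hx)]; rfl) (hcj B hB g hg)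
      comp_mem := by
        rintro R R' φ ψ ⟨hφ, hφP⟩ ⟨hψ, hψP⟩ hh
        refine ⟨(sys h).comp_mem hφ hψ hh, fun B hBR hB => ?_⟩
        have hm := (IsMap.of_hom hφ).restrict hBR
        have himg : img (ext φ) B ≤ R' := img_le fun x hx => by
          rw [ext_of_mem φ (hBR hx)]; exact hh _
        have hm' := (IsMap.of_hom hψ).restrict himg
        have hB' : (sys h).IsConj Q (img (ext φ) B) := isConj_trans hB hm.isConj
        refine phi_congr h (f := fun x => ext ψ (ext φ x)) (fun x hx => ?_) ?_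
        · rw [ext_of_mem φ (hBR hx), ext_of_mem ψ (hh ⟨x, hBR hx⟩), ext_of_mem _ (hBR hx)]
          rfl
        intro g₁ g₂ h₁ h₂ e₁ e₂ b hb
        rw [← hm.img_img] at h₂ e₂
        obtain ⟨k, hk, hkB⟩ := exists_tgt h hQ hQn (isConj_symm hB')
        obtain ⟨b₁, hb₁⟩ :=
          SaturationCriterion.exists_transfer (isConj_le hB).2 hm h₁ hk e₁ hkB
        obtain ⟨b₂, hb₂⟩ := SaturationCriterion.exists_transfer hm.img_le_S hm' hk h₂ hkB e₂
        have : b = b₂ * b₁ := by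
          refine Subtype.ext (autFun_ext fun y hy => ?_)
          rw [← e₁] at hy
          obtain ⟨x, hx, rfl⟩ :=
            (h₁.restrict (le_normalizerIn (isConj_le hB).2)).mem_img.1 hy
          rw [hb x hx, Subgroup.coe_mul, autFun_mul, hb₁ x hx, hb₂ _ (mem_img_self _ hx)]
        rw [this, Subgroup.coe_mul]
        exact Subgroup.mul_mem _ (hψP _ himg hB' k g₂ hk h₂ hkB e₂ b₂ hb₂)
          (hφP B hBR hB g₁ k h₁ hk e₁ hkB b₁ hb₁)
      inv_mem := by
        rintro R φ ⟨hφ, hφP⟩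
        obtain ⟨ψ, hψ, hψe⟩ := (sys h).inv_mem hφ
        refine ⟨ψ, ⟨hψ, fun B hBR hB => ?_⟩, hψe⟩
        have hleft : ∀ x ∈ R, ext ψ (ext φ x) = x := fun x hx => by
          rw [ext_of_mem φ hx, ext_of_mem ψ ⟨⟨x, hx⟩, rfl⟩]
          exact hψe ⟨x, hx⟩
        have hr : φ.range = img (ext φ) R := range_eq_img φ
        have hm := (IsMap.of_hom hψ).restrict hBR
        have hBR' : img (ext ψ) B ≤ R := img_le fun y hy => by
          obtain ⟨x, hx, rfl⟩ := (IsMap.of_hom hφ).mem_img.1 (hr.le (hBR hy))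
          rw [hleft x hx]
          exact hx
        have hback : ∀ y ∈ B, ext φ (ext ψ y) = y := fun y hy => by
          obtain ⟨x, hx, rfl⟩ := (IsMap.of_hom hφ).mem_img.1 (hr.le (hBR hy))
          rw [hleft x hx]
        have hB' : img (ext φ) (img (ext ψ) B) = B := by
          rw [hm.img_img, img_congr (g := id) hback, img_id]
        intro g₁ g₂ h₁ h₂ e₁ e₂ b hb
        have h1 := hφP _ hBR' (isConj_trans hB hm.isConj) g₂ g₁ h₂ (by rwa [hB']) e₂
          (by rwa [hB']) b⁻¹ fun x hx => by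
            obtain ⟨y, hy, rfl⟩ := hm.mem_img.1 hx
            rw [← hb y hy, Subgroup.coe_inv, autFun_inv_apply, hback y hy]
        rw [Subgroup.coe_inv] at h1
        exact inv_mem_iff.1 h1 }
  have hE : Contains p F Z θ D E := by
    intro Y γ hγ
    have hγm := contains_sys h Y γ hγ
    refine ⟨hγm.hom, ⟨hγm.hom_mem_self, fun B hBY hB => ?_⟩, fun _ => rfl⟩
    refine phi_congr h (f := autFun γ) (fun x hx => by rw [ext_of_mem _ (hBY hx)]; rfl) ?_
    rcases eq_or_lt_of_le hBY with rfl | hBlt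
    · intro g₁ g₂ h₁ h₂ e₁ e₂ b hb
      rw [autFun_img] at h₂ e₂
      have hBU := (isConj_le hB).2
      have hBN := le_normalizerIn hBU
      obtain ⟨e, he⟩ := exists_autEquiv_to (h₁.restrict hBN) e₁
      have hγa : γ ∈ (sys h).autGroup B := (mem_autGroup_iff hBU).2 hγm
      have hγb : (e ⟨γ, hγa⟩ : MulAut Q) ∈ alg p F Z θ D Q := by
        refine Subgroup.mem_sup_left (Subgroup.subset_closure
          (gen_of_aut h hQ (SetLike.coe_mem _) ?_))
        rw [Subgroup.orderOf_coe, MulEquiv.orderOf_eq, ← Subgroup.orderOf_coe]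
        exact hγ.2.2.2.2.1
      have ht := phi_step h hQ hQn hgood hB (hne B hB) le_rfl
        (isMap_id (F := sys h) normalizerIn_le) g₁ g₂ h₁ (by rwa [img_id]) e₁ (by rwa [img_id])
        (b * (e ⟨γ, hγa⟩)⁻¹) fun x hx => by
          rw [Subgroup.coe_mul, Subgroup.coe_inv, autFun_mul]
          have hx' : autFun γ⁻¹ x ∈ B := autFun_mem _ hx
          have h1 := he ⟨γ, hγa⟩ _ hx'
          rw [show autFun ((⟨γ, hγa⟩ : (sys h).autGroup B) : MulAut B) (autFun γ⁻¹ x) = x from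
            autFun_apply_inv γ x] at h1
          rw [← h1, autFun_inv_apply, hb _ hx', autFun_apply_inv]
          rfl
      rw [Subgroup.coe_mul, Subgroup.coe_inv] at ht
      simpa using Subgroup.mul_mem _ ht hγb
    · have hfinY : Finite Y := finite_of_le hγm.le
      obtain ⟨w, hw, hwB⟩ := exists_mem_normalizer_not_mem (h.pgU.to_le hγm.le) hBlt
      refine phi_step h hQ hQn hgood hB (X := normalizerIn Y B) ?_
        (fun x hx => ⟨hγm.le hx.1, hx.2⟩) (hγm.restrict inf_le_left)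
      exact lt_of_le_of_ne (le_normalizerIn hBY) fun e => hwB (e ▸ hw)
  obtain ⟨φ, hφ, hφe⟩ := hf
  exact phi_congr h (fun x hx => by rw [ext_of_mem φ hx]; exact hφe ⟨x, hx⟩)
    ((sys_le h hE A hφ).2 A le_rfl hA)

/-- The automorphisms at the top. -/
theorem nice_top : (sys h).autGroup (preimageAlong θ U') ≤ alg p F Z θ D (preimageAlong θ U') := by
  have hfinU := h.finU
  let E : FusionSystem (preimageAlong θ U') :=
    { Hom := fun R => {φ | φ ∈ (sys h).Hom R ∧ (R = preimageAlong θ U' →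
        ∃ a ∈ alg p F Z θ D (preimageAlong θ U'), ∀ x ∈ R, ext φ x = autFun a x)}
      le_of_mem := fun hφ => (sys h).le_of_mem hφ.1
      injective_of_mem := fun hφ => (sys h).injective_of_mem hφ.1
      conj_mem := by
        intro R g hR hg
        refine ⟨(sys h).conj_mem hR hg, fun hRe => ?_⟩
        subst hRe
        refine ⟨conjAut _ _ ⟨g, hg, Subgroup.le_normalizer hg⟩, Subgroup.mem_sup_right
          (conjAut_range (preimageAlong θ U') (preimageAlong θ U') ▸ ⟨_, rfl⟩), fun x hx => ?_⟩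
        rw [conjAut_apply _ hx, ext_of_mem _ hx]
        rfl
      comp_mem := by
        rintro R R' φ ψ ⟨hφ, hφP⟩ ⟨hψ, hψP⟩ hh
        refine ⟨(sys h).comp_mem hφ hψ hh, fun hRe => ?_⟩
        obtain ⟨a, ha, hae⟩ := hφP hRe
        subst hRe
        have hR' : R' = preimageAlong θ U' := by
          refine le_antisymm ((sys h).le_of_mem hψ).1 fun y hy => ?_
          have h2 := hh ⟨autFun a⁻¹ y, autFun_mem _ hy⟩
          rwa [← ext_apply φ, hae _ (autFun_mem _ hy), autFun_apply_inv] at h2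
        obtain ⟨b, hb, hbe⟩ := hψP hR'
        refine ⟨b * a, Subgroup.mul_mem _ hb ha, fun x hx => ?_⟩
        rw [ext_of_mem _ hx, autFun_mul, ← hae x hx, ext_of_mem φ hx, ← hbe _ (hh ⟨x, hx⟩),
          ext_of_mem ψ (hh ⟨x, hx⟩)]
        rfl
      inv_mem := by
        rintro R φ ⟨hφ, hφP⟩
        obtain ⟨ψ, hψ, hψe⟩ := (sys h).inv_mem hφ
        refine ⟨ψ, ⟨hψ, fun hre => ?_⟩, hψe⟩
        have hm := IsMap.of_hom hφ
        have hRe : R = preimageAlong θ U' := by
          refine eq_of_le_card hm.le (le_of_eq ?_)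
          rw [← hre, range_eq_img, hm.card_img]
        obtain ⟨a, ha, hae⟩ := hφP hRe
        subst hRe
        refine ⟨a⁻¹, Subgroup.inv_mem _ ha, fun y hy => ?_⟩
        obtain ⟨x, rfl⟩ := hy
        rw [ext_of_mem ψ ⟨x, rfl⟩, hψe, ← ext_apply φ x, hae x x.2, autFun_inv_apply] }
  have hE : Contains p F Z θ D E := by
    intro Y γ hγ
    have hγm := contains_sys h Y γ hγ
    refine ⟨hγm.hom, ⟨hγm.hom_mem_self, fun hYe => ?_⟩, fun _ => rfl⟩
    subst hYe
    exact ⟨γ, Subgroup.mem_sup_left (Subgroup.subset_closure hγ),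
      fun x hx => by rw [ext_of_mem _ hx]; rfl⟩
  intro a ha
  obtain ⟨φ, hφ, hφe⟩ := isMap_of_mem_autGroup le_rfl ha
  obtain ⟨b, hb, hbe⟩ := (sys_le h hE _ hφ).2 rfl
  have : a = b := autFun_ext fun x hx => by
    rw [← hbe x hx, ext_of_mem φ hx, hφe ⟨x, hx⟩]
  exact this ▸ hb

theorem nice (hQ : Q ∈ Fam Z θ D) (hQn : D.IsFullyNormalized (imageAlong θ Q)) :
    (sys h).autGroup Q ≤ alg p F Z θ D Q := by
  have hfinU := h.finU
  induction hn : Nat.card (preimageAlong θ U') - Nat.card Q using Nat.strong_induction_on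
    generalizing Q with
  | _ n ih =>
  rcases eq_or_lt_of_le hQ.2.1 with hQe | hlt
  · subst hQe
    exact nice_top h
  have hgood : ∀ R ∈ Fam Z θ D, D.IsFullyNormalized (imageAlong θ R) →
      Nat.card Q < Nat.card R → (sys h).IsFullyAutomized p R ∧ (sys h).IsReceptive R := by
    intro R hR hRn hcard
    refine good_of_nice h hR hRn (ih (Nat.card (preimageAlong θ U') - Nat.card R) ?_ hR hRn rfl)
    have := card_le_card hR.2.1
    omega
  intro a ha
  have hm := isMap_of_mem_autGroup hQ.2.1 ha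
  have hΦ := phi_all h hQ hQn hgood hlt (isConj_refl hQ.2.1) hm id id
    (isMap_id normalizerIn_le) (by rw [autFun_img]; exact isMap_id normalizerIn_le) (img_id Q)
    (by rw [autFun_img, img_id]) ⟨a, ha⟩ fun x _ => rfl
  exact hΦ

/-- The lifted system is saturated. -/
theorem saturated : (sys h).IsSaturated p := by
  have hfinU := h.finU
  have := h.finU'
  refine SaturationCriterion.saturated_of_family (ℋ := Fam Z θ D) h.pgU
    (fun P hP Q hQ => fam_conj h hP hQ) (fun P hP => ?_) (fun E hE => ?_) fun P hPc hP => ?_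
  · obtain ⟨R, hR, hRF, hRn⟩ := exists_rep h hP
    exact ⟨R, hR, good_of_nice h hRF hRn (nice h hRF hRn)⟩
  · refine sys_le h fun Q γ hγ => ?_
    have hm := contains_sys h Q γ hγ
    exact IsMap.hom_mem_self hm |> fun hh => ⟨hm.hom, hE Q ⟨hγ.1, hγ.2.1, hγ.2.2.1⟩ hh, fun _ => rfl⟩
  · have hPU := hPc.1
    have hZP : Z ≤ P := fun z hz => centric_centralizerIn_le hPc
      ⟨h.le_U hz, fun x hx => (commute_of_central h.central hz (h.le (hPU hx))).symm⟩
    have hBU := h.image_le_U hPU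
    obtain ⟨B', hB', hne⟩ : ∃ B', D.IsConj (imageAlong θ P) B' ∧ ¬ centralizerIn U' B' ≤ B' := by
      by_contra hcon
      push Not at hcon
      exact hP ⟨hZP, hPU, hBU, hcon⟩
    obtain ⟨f', hf', rfl⟩ := isConj_iff_map.1 hB'
    obtain ⟨f, hf, hfe⟩ := sys_up h hZP hPU hf'
    have hfF := sys_isMap_F h hf
    have himg := image_img hfF (isMap_of_subset h.invariant.1 hf') hfe
    set Q := img f P with hQdef
    have hQU : Q ≤ preimageAlong θ U' := hf.img_le_S
    have hQS : Q ≤ S := hQU.trans h.le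
    have hZQ : Z ≤ Q := le_img_of_central h.central hfF hZP
    have hfinQ : Finite Q := finite_of_le hQU
    obtain ⟨w, hw, hwB⟩ := SetLike.not_le_iff_exists.1 hne
    obtain ⟨u, huS, rfl⟩ := exists_along_eq h.quot.range_eq (h.closed'.1 hw.1)
    rw [himg] at hw hwB
    have huU : u ∈ preimageAlong θ U' := mem_preimageAlong.2 ⟨huS, hw.1⟩
    have huN : u ∈ normalizerIn (preimageAlong θ U') Q := by
      rw [← h.normalizer_U hZQ hQS]
      exact mem_preimageAlong.2
        ⟨huS, hw.1, Subgroup.centralizer_le_normalizer _ hw.2⟩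
    have huQ : u ∉ Q := fun hh => hwB (mem_image hQS hh)
    refine ⟨Q, hf.isConj, fun hle => huQ ?_⟩
    let a : (sys h).autGroup Q :=
      ⟨conjAut _ Q ⟨u, huN⟩, SaturationCriterion.conjAut_mem_autGroup hQU _⟩
    have hae : ∀ x ∈ Q, autFun (a : MulAut Q) x = u * x * u⁻¹ := fun x hx =>
      conjAut_apply (K := preimageAlong θ U') ⟨u, huN⟩ hx
    have hleF : (sys h).autGroup Q ≤ F.autGroup Q := fun b hb => (mem_autGroup_iff hQS).2
      (sys_isMap_F h (isMap_of_mem_autGroup hQU hb))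
    set K := (kerMod F h.central hQS).comap (Subgroup.inclusion hleF) with hK
    have hKn : K.Normal := (kerMod_normal h.central hQS).comap _
    have hKp : IsPGroup p K := (kerMod_pGroup h.pg h.central hQS).comap_of_injective _
      (Subgroup.inclusion_injective hleF)
    have haK : a ∈ K := Subgroup.mem_comap.2 fun x hx => by
      show x⁻¹ * autFun (a : MulAut Q) x ∈ Z
      rw [hae x hx]
      have hxS := hQS hx
      refine (along_eq_iff h.quot.ker_iff hxS (S.mul_mem (S.mul_mem huS hxS) (S.inv_mem huS))).1 ?_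
      rw [along_mul θ (S.mul_mem huS hxS) (S.inv_mem huS), along_mul θ huS hxS,
        along_inv θ huS, ← hw.2 _ (mem_image hQS hx), mul_inv_cancel_right]
    have hmem : (a : MulAut Q) ∈ autInducedBy (preimageAlong θ U') Q ⊓
        (pCore p ((sys h).autGroup Q)).map ((sys h).autGroup Q).subtype :=
      ⟨mem_autInducedBy_iff'.2 ⟨u, huN, hae⟩, a, PLocal.Cores.le_pCore hKp haK, rfl⟩
    obtain ⟨v, hv, hve⟩ := mem_inn_iff.1 (hle hmem)
    have hc : v⁻¹ * u ∈ centralizerIn (preimageAlong θ U') Q := by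
      refine ⟨Subgroup.mul_mem _ (Subgroup.inv_mem _ (hQU hv)) huU, fun x hx => ?_⟩
      have h2 := hve x hx
      rw [hae x hx, cj_apply] at h2
      calc x * (v⁻¹ * u) = v⁻¹ * (v * x * v⁻¹) * u := by group
        _ = v⁻¹ * (u * x * u⁻¹) * u := by rw [h2]
        _ = v⁻¹ * u * x := by group
    have h3 := centric_centralizerIn_le (centric_conj hPc hf.isConj) hc
    simpa using Q.mul_mem hv h3

/-! ### Weak normality -/

theorem contains_conj {α : MulAut (preimageAlong θ U')}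
    (hα : α ∈ F.autGroup (preimageAlong θ U')) :
    Contains p F Z θ D (PPowerNormal.conjSystem F (sys h) h.le α) := by
  intro Q γ hγ
  obtain ⟨hZQ, hQU, hcen, hγF, hγc, δ, hδ, hδe⟩ := id hγ
  have := h.finU'
  have hfinU := h.finU
  have hQS : Q ≤ S := hQU.trans h.le
  have hm := isMap_of_mem_autGroup hQS hγF
  refine ⟨hm.hom, ⟨hm.hom_mem_self, hQU, fun x => hQU (autFun_mem _ x.2), ?_⟩, fun _ => rfl⟩
  have hαm : IsMap F Q (autFun α) := (isMap_of_mem_autGroup h.le hα).restrict hQU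
  set Q₂ := img (autFun α) Q with hQ₂
  obtain ⟨e, he⟩ : ∃ e : F.autGroup Q ≃* F.autGroup Q₂, ∀ (a : F.autGroup Q), ∀ x ∈ Q,
      autFun (e a : MulAut Q₂) (autFun α x) = autFun α (autFun (a : MulAut Q) x) :=
    hαm.exists_autEquiv
  have := h.finS'
  have hQ₂U : Q₂ ≤ preimageAlong θ U' := img_le fun x hx => autFun_mem α (hQU hx)
  have hZQ₂ : Z ≤ Q₂ := le_img_of_central h.central hαm hZQ
  obtain ⟨α', hα', hα'e⟩ := exists_down h.quot hZQ hαm
  have himg : img α' (imageAlong θ Q) = imageAlong θ Q₂ := image_img hαm hα' hα'e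
  have hcen₂ : D.IsCentric (imageAlong θ Q₂) :=
    GoodExtension.centric_conj_invariant h.invariant hcen (himg ▸ hα'.isConj)
  have hgen : IsGen p F Z θ D Q₂ (e ⟨γ, hγF⟩ : MulAut Q₂) := by
    refine ⟨hZQ₂, hQ₂U, hcen₂, SetLike.coe_mem _, ?_, ?_⟩
    · rw [Subgroup.orderOf_coe, MulEquiv.orderOf_eq, ← Subgroup.orderOf_coe]
      exact hγc
    have hBU := h.image_le_U hQU
    obtain ⟨χ, hχ, hχe⟩ := WeaklyNormalTop.conj_transport h.invariant hα' hBU
      (isMap_of_mem_autGroup hBU hδ) le_rfl fun y hy => autFun_mem _ hy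
    have hfinB₂ : Finite (img α' (imageAlong θ Q)) :=
      finite_of_le (himg ▸ h.image_le_U hQ₂U)
    have himgχ : img χ (img α' (imageAlong θ Q)) = img α' (imageAlong θ Q) := by
      refine eq_of_le_card (img_le fun y hy => ?_) hχ.card_img.ge
      obtain ⟨x, hx, rfl⟩ := hα'.mem_img.1 hy
      rw [hχe x hx]
      exact mem_img_self α' (autFun_mem _ hx)
    obtain ⟨δ₂, hδ₂, hδ₂e⟩ := hχ.exists_aut himgχ
    have key2 : ∀ (B' : Subgroup Ω') (_ : img α' (imageAlong θ Q) = B'), ∃ δ' ∈ D.autGroup B',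
        ∀ y ∈ B', autFun δ' y = χ y := by
      rintro B' rfl
      exact ⟨δ₂, hδ₂, hδ₂e⟩
    obtain ⟨δ', hδ', hδ'e⟩ := key2 _ himg
    refine ⟨δ', hδ', fun y hy => ?_⟩
    obtain ⟨x, hx, rfl⟩ := hαm.mem_img.1 hy
    have hxB : along θ x ∈ imageAlong θ Q := mem_image hQS hx
    rw [hδ'e _ (mem_image (hQ₂U.trans h.le) hy), ← hα'e x hx, hχe _ hxB, hδe x hx,
      he ⟨γ, hγF⟩ x hx, ← hα'e _ (autFun_mem _ hx)]
  refine (contains_sys h Q₂ _ hgen).congr fun y hy => ?_
  obtain ⟨x, hx, rfl⟩ := hαm.mem_img.1 hy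
  rw [he ⟨γ, hγF⟩ x hx, autFun_inv_apply, ext_of_mem _ hx]
  rfl

/-- Conjugation of maps of the lift by automorphisms of `U`. -/
theorem transport {α : MulAut (preimageAlong θ U')} (hα : α ∈ F.autGroup (preimageAlong θ U'))
    (hf : IsMap (sys h) P f) :
    IsMap (sys h) (img (autFun α) P) fun y => autFun α (f (autFun α⁻¹ y)) :=
  PPowerNormal.isMap_conjSystem (isMap_mono (sys_le h (contains_conj h hα)) hf)

omit h in
/-- A map that is an automorphism of `U` after a map of `E`. -/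
def FacU (F : FusionSystem S) {U : Subgroup Ω} (E : FusionSystem U) (P : Subgroup Ω)
    (f : Ω → Ω) : Prop :=
  ∃ α ∈ F.autGroup U, ∃ f₀, IsMap E P f₀ ∧ ∀ x ∈ P, f x = autFun α (f₀ x)

theorem facU_comp {g : Ω → Ω} (hf : FacU F (sys h) P f) (hg : FacU F (sys h) Q g)
    (hPQ : ∀ x ∈ P, f x ∈ Q) : FacU F (sys h) P fun x => g (f x) := by
  obtain ⟨β, hβ, f₀, hf₀, hfe⟩ := hf
  obtain ⟨α, hα, g₀, hg₀, hge⟩ := hg
  have hk := transport h (Subgroup.inv_mem _ hβ) hg₀
  have hmem : ∀ x ∈ P, f₀ x ∈ img (autFun β⁻¹) Q := fun x hx => by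
    have := mem_img_self (autFun β⁻¹) (hPQ x hx)
    rwa [hfe x hx, autFun_inv_apply] at this
  refine ⟨α * β, Subgroup.mul_mem _ hα hβ, _, hk.comp hf₀ hmem, fun x hx => ?_⟩
  show g (f x) = _
  simp only [inv_inv]
  rw [autFun_mul, autFun_apply_inv, ← hge _ (hfe x hx ▸ hPQ x hx), hfe x hx]

theorem facU_inv (hf : FacU F (sys h) P f) {i : Ω → Ω} (hi : ∀ x ∈ P, i (f x) = x)
    (hfm : IsMap F P f) : FacU F (sys h) (img f P) i := by
  obtain ⟨α, hα, f₀, hf₀, hfe⟩ := hf
  obtain ⟨j, hj, -, hjf, -⟩ := hf₀.exists_inv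
  have hk := transport h hα hj
  have heq : img (autFun α) (img f₀ P) = img f P := by
    rw [hf₀.img_img]
    exact (img_congr hfe).symm
  refine ⟨α⁻¹, Subgroup.inv_mem _ hα, _, heq ▸ hk, fun y hy => ?_⟩
  obtain ⟨x, hx, rfl⟩ := hfm.mem_img.1 hy
  show i (f x) = autFun α⁻¹ (autFun α (j (autFun α⁻¹ (f x))))
  rw [hi x hx]
  simp only [hfe x hx, autFun_inv_apply, hjf x hx]

theorem facU_all (hZP : Z ≤ P) (hPU : P ≤ preimageAlong θ U') (hf : IsMap F P f) :
    FacU F (sys h) P f := by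
  have hfinU := h.finU
  have := h.finU'
  induction hn : Nat.card (preimageAlong θ U') - Nat.card P using Nat.strong_induction_on
    generalizing P f with
  | _ n ih =>
  have hfinP : Finite P := finite_of_le hPU
  have hPS : P ≤ S := hPU.trans h.le
  rcases eq_or_lt_of_le hPU with hPe | hlt
  · subst hPe
    obtain ⟨α, hα, hae⟩ := hf.exists_aut (eq_of_le_card
      (img_le fun x hx => stronglyClosed_mem h.closed hf hx hx) hf.card_img.ge)
    exact ⟨α, hα, id, isMap_id le_rfl, fun x hx => (hae x hx).symm⟩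
  -- a map inducing the same map of the quotient
  obtain ⟨f', hf', hfe⟩ := exists_down h.quot hZP hf
  have hBU := h.image_le_U hPU
  obtain ⟨α', hα', d', hd', hde⟩ := Subsystems.invariant_frattini h.invariant hBU hf'
  obtain ⟨d, hd, hdle⟩ := sys_up h hZP hPU hd'
  obtain ⟨π, hπs, hπe⟩ := Hyperfocal.exists_proj h.quot h.closed'.1
  obtain ⟨α, hα⟩ := hπs ⟨α', hα'⟩
  have hαU : ∀ x ∈ preimageAlong θ U', along θ (autFun (α : MulAut (preimageAlong θ U')) x) =
      autFun α' (along θ x) := fun x hx => by rw [← hπe α x hx, hα]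
  have hαm := isMap_of_mem_autGroup h.le α.2
  have hdU : img d P ≤ preimageAlong θ U' := hd.img_le_S
  have hdF := sys_isMap_F h hd
  set g₁ := fun x => autFun (α : MulAut (preimageAlong θ U')) (d x) with hg₁def
  have hg₁ : IsMap F P g₁ := (hαm.restrict hdU).comp hdF fun x hx => mem_img_self d hx
  have hg₁e : ∀ x ∈ P, along θ (g₁ x) = along θ (f x) := fun x hx => by
    rw [hg₁def]
    show along θ (autFun _ (d x)) = _
    rw [hαU _ (hd.mem hx), ← hdle x hx, ← hde _ (mem_image hPS hx), hfe x hx]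
  have hf₁ : FacU F (sys h) P g₁ := ⟨_, α.2, d, hd, fun x _ => rfl⟩
  -- the difference
  obtain ⟨i, hi, hiimg, hig, hgi⟩ := hg₁.exists_inv
  have himeq : img f P = img g₁ P := by
    refine eq_of_image_eq h.quot (le_img_of_central h.central hf hZP) hf.img_le_S
      (le_img_of_central h.central hg₁ hZP) hg₁.img_le_S ?_
    rw [← image_img hf hf' hfe, ← image_img hg₁ hf' fun x hx => by rw [hfe x hx, hg₁e x hx]]
  have hκ : IsMap F P fun x => i (f x) := hi.comp hf fun x hx => himeq.le (mem_img_self f hx)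
  have hκimg : img (fun x => i (f x)) P = P := by rw [← hf.img_img, himeq, hiimg]
  obtain ⟨κ, hκm, hκe⟩ := hκ.exists_aut hκimg
  have hκK : (⟨κ, hκm⟩ : F.autGroup P) ∈ kerMod F h.central hPS := by
    refine mem_kerMod_of_along h.quot fun x hx => ?_
    show along θ (autFun κ x) = _
    have hκx : autFun κ x ∈ P := autFun_mem _ hx
    have h1 : along θ (g₁ (autFun κ x)) = along θ (g₁ x) := by
      rw [hκe x hx, hgi _ (himeq.le (mem_img_self f hx)), hg₁e x hx]
    rw [hg₁e _ hκx, hg₁e x hx, ← hfe _ hκx, ← hfe x hx] at h1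
    exact hf'.inj (mem_image hPS hκx) (mem_image hPS hx) h1
  -- the difference factors
  obtain ⟨P', hPP', hP'n⟩ := exists_fullyNormalized (F := F) hPS
  obtain ⟨g, hg, hgP⟩ := exists_map_to_fullyNormalized h.pg h.sat hP'n hPP'
  subst hgP
  have hPN := le_normalizerIn hPS
  have hgP := hg.restrict hPN
  have hNU : normalizerIn (preimageAlong θ U') P ≤ normalizerIn S P := inf_le_inf_right _ h.le
  have hgF : FacU F (sys h) P g := by
    have hlt' := lt_normalizerIn h.pgU hlt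
    have hfinN : Finite (normalizerIn (preimageAlong θ U') P) := finite_of_le normalizerIn_le
    obtain ⟨a₀, ha₀, f₀, hf₀, he₀⟩ := ih
      (Nat.card (preimageAlong θ U') - Nat.card (normalizerIn (preimageAlong θ U') P))
      (by have := card_lt_card hlt'
          have := card_le_card (normalizerIn_le (S := preimageAlong θ U') (P := P))
          omega)
      (hZP.trans hlt'.le) normalizerIn_le (hg.restrict hNU) rfl
    exact ⟨a₀, ha₀, f₀, hf₀.restrict hlt'.le, fun x hx => he₀ x (hlt'.le hx)⟩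
  have hgPU : img g P ≤ preimageAlong θ U' :=
    img_le fun x hx => stronglyClosed_mem h.closed hgP hx (hPU hx)
  obtain ⟨e, he⟩ := hgP.exists_autEquiv
  have hκ' : e ⟨κ, hκm⟩ ∈ kerMod F h.central (hgPU.trans h.le) := by
    refine mem_kerMod.2 fun y hy => ?_
    obtain ⟨x, hx, rfl⟩ := hgP.mem_img.1 hy
    have hz := (mem_kerMod (a := (⟨κ, hκm⟩ : F.autGroup P))).1 hκK x hx
    rw [he _ x hx, ← hgP.map_inv hx, ← hgP.map_mul (P.inv_mem hx) (autFun_mem _ hx),
      fix_of_central h.central hgP (P.mul_mem (P.inv_mem hx) (autFun_mem _ hx)) hz]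
    exact hz
  obtain ⟨t, ht, hte⟩ :=
    mem_autInducedBy_iff'.1 (kerMod_le_autInducedBy h.pg h.sat h.central hP'n hκ')
  have hct : FacU F (sys h) (img g P) (cj t) := by
    obtain ⟨β, hβ, hβe⟩ := (isMap_cj (F := F) h.le ht.1).exists_aut
      (img_cj_eq_of_mem_normalizer (le_normalizer_of_stronglyClosed h.closed ht.1))
    exact ⟨β, hβ, id, isMap_id hgPU, fun x hx => (hβe x (hgPU hx)).symm⟩
  obtain ⟨gi, hgi', hgiimg, hgig, -⟩ := hgP.exists_inv
  have hgiF := facU_inv h hgF hgig hgP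
  have htN : ∀ y ∈ img g P, cj t y ∈ img g P :=
    fun y hy => (Subgroup.mem_normalizer_iff.1 ht.2 y).1 hy
  have hall := facU_comp h
    (facU_comp h (facU_comp h hgF hct fun x hx => mem_img_self g hx) hgiF
      fun x hx => htN _ (mem_img_self g hx))
    hf₁ fun x hx => hgiimg.le (mem_img_self gi (htN _ (mem_img_self g hx)))
  obtain ⟨a, ha, f₀, hf₀, he₀⟩ := hall
  refine ⟨a, ha, f₀, hf₀, fun x hx => ?_⟩
  rw [← he₀ x hx]
  show f x = g₁ (gi (cj t (g x)))
  rw [← hte _ (mem_img_self g hx), he ⟨κ, hκm⟩ x hx]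
  show f x = g₁ (gi (g (autFun κ x)))
  rw [hgig _ (autFun_mem _ hx), hκe x hx, hgi _ (himeq.le (mem_img_self f hx))]

/-- The lift is weakly normal. -/
theorem weaklyNormal : (sys h).IsWeaklyNormalIn F p := by
  refine ⟨saturated h, h.sat, sys_sub h, h.closed, fun P hP φ hφ α hα => ?_, fun P hP φ hφ => ?_⟩
  · have hm := transport h hα (IsMap.of_hom hφ)
    have hdom : (P.subgroupOf (preimageAlong θ U')).map
        ((preimageAlong θ U').subtype.comp α.toMonoidHom) = img (autFun α) P :=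
      map_subgroupOf_eq_img (fun x => (autFun_apply α x).symm) hP
    rw [hdom]
    refine ⟨hm.hom, hm.hom_mem_self, fun x hφx hαx => ?_⟩
    rw [IsMap.hom_apply]
    show autFun α (ext φ (autFun α⁻¹ ((α ⟨x, hP x.2⟩ : preimageAlong θ U') : Ω))) = _
    rw [← autFun_of_mem α (hP x.2), autFun_inv_apply, ext_apply, autFun_of_mem α hφx]
  · obtain ⟨g, hg, hge, -⟩ := (isCentral_iff.1 h.central).2 P _ (IsMap.of_hom hφ)
    obtain ⟨α, hα, f₀, hf₀, he⟩ := facU_all h le_sup_right (sup_le hP h.le_U) hg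
    have hf₀P := hf₀.restrict le_sup_left
    refine ⟨α, hα, hf₀P.hom, hf₀P.hom_mem_self, fun x hx => ?_⟩
    rw [← autFun_of_mem α hx, IsMap.hom_apply, ← he _ (Subgroup.mem_sup_left x.2), hge x x.2,
      ext_apply]

end Cfsg.Agent.Fusion.CentralLift
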