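/-
`O^{p'}` of a weakly normal subsystem satisfies the extension condition and is invariant.
-/
import Mathlib
import Cfsg.Agent.Lib.Fusion.PPrimeResidual
import Cfsg.Agent.Lib.Fusion.Normal
import Cfsg.Agent.Lib.Fusion.WeaklyNormalTop

set_option autoImplicit false
set_option linter.unusedSectionVars false

namespace Cfsg.Agent.Fusion.PPrimeNormal

open Cfsg Cfsg.FusionSystem Cfsg.Agent.Fusion.Basic Cfsg.Agent.Fusion.Saturation
  Cfsg.Agent.Fusion.CentricExt Cfsg.Agent.Fusion.PPrimeGen Cfsg.Agent.Fusion.PPrimeResidual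
  Cfsg.Agent.Fusion.Subsystems Cfsg.Agent.Fusion.WeaklyNormalTop

variable {Ω : Type*} [Group Ω] {S T P Q R U : Subgroup Ω} {F : FusionSystem S}
  {E : FusionSystem T} {p : ℕ} {f θ : Ω → Ω}

variable [Finite S] (hE : E.IsInvariantIn F)
include hE

/-- An image of a centric subgroup of `E` under a map of `F` is self-centralizing in `T`. -/
theorem cent_le (hU : E.IsCentric U) (hθ : IsMap F U θ) :
    centralizerIn T (img θ U) ≤ img θ U := by
  obtain ⟨α, hα, θ₀, hθ₀, he⟩ := invariant_frattini hE hU.1 hθ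
  intro y hy
  have hαT : IsMap F T (autFun α) := isMap_of_mem_autGroup (subsystem_le hE.1) hα
  have himg : img θ U = img (autFun α) (img θ₀ U) := by
    rw [hθ₀.img_img]; exact img_congr he
  have hy' : autFun α⁻¹ y ∈ img θ₀ U := by
    refine hU.2 _ hθ₀.isConj ⟨autFun_mem _ hy.1, fun z hz => ?_⟩
    have h1 := hy.2 (autFun α z) (himg ▸ mem_img_self _ hz)
    have h2 := autFun_isHom α⁻¹
    have hzT : z ∈ T := hθ₀.img_le_S hz
    have h3 := congrArg (autFun α⁻¹) h1
    rwa [h2 _ (autFun_mem _ hzT) _ hy.1, h2 _ hy.1 _ (autFun_mem _ hzT), autFun_inv_apply] at h3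
  have h4 := mem_img_self (autFun α) hy'
  rwa [autFun_apply_inv, ← himg] at h4

theorem img_le_T (hU : U ≤ T) (hθ : IsMap F U θ) : img θ U ≤ T :=
  img_le fun _ hx => Normal.stronglyClosed_mem hE.2.1 hθ hx (hU hx)

/-- Maps of `F` carry centric subgroups of `E` to centric subgroups of `E`. -/
theorem centric_map (hU : E.IsCentric U) (hθ : IsMap F U θ) : E.IsCentric (img θ U) := by
  refine ⟨img_le_T hE hU.1 hθ, fun Q hQ => ?_⟩
  obtain ⟨q, hq, rfl⟩ := isConj_iff_map.1 hQ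
  have := cent_le hE hU ((isMap_of_subset hE.1 hq).comp hθ fun x hx => mem_img_self θ hx)
  rwa [← hθ.img_img] at this

variable [hp : Fact p.Prime] (hS : IsPGroup p S) (hF : F.IsSaturated p) (hEs : E.IsSaturated p)
include hS hF hEs

omit hEs in
theorem tp : IsPGroup p T := hS.to_le (subsystem_le hE.1)

/-- An automorphism of `p`-power order in `E` becomes conjugation by an element of `T` after a
map of `F` onto a fully normalized subgroup. -/
theorem exists_conjElt (hUT : U ≤ T) (β : E.autGroup U) {k : ℕ} (hk : β ^ p ^ k = 1) :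
    ∃ (θ : Ω → Ω) (t : Ω), IsMap F U θ ∧ F.IsFullyNormalized (img θ U) ∧
      t ∈ T ⊓ Subgroup.normalizer (img θ U : Set Ω) ∧
      ∀ x ∈ U, θ (autFun (β : MulAut U) x) = t * θ x * t⁻¹ := by
  have hTS : T ≤ S := subsystem_le hE.1
  have : Finite T := finite_of_le hTS
  have hUS : U ≤ S := hUT.trans hTS
  obtain ⟨U₀, hUU₀, hU₀⟩ := exists_fullyNormalized (F := F) hUS
  obtain ⟨θ₀, hθ₀, rfl⟩ := isConj_iff_map.1 hUU₀
  have hU₀T : img θ₀ U ≤ T := img_le_T hE hUT hθ₀
  have : Finite (img θ₀ U) := finite_of_le hU₀T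
  -- fully normalized in `E`
  have hfnE : E.IsFullyNormalized (img θ₀ U) := by
    refine ⟨hU₀T, fun Q hQ => ?_⟩
    obtain ⟨q, hq, rfl⟩ := isConj_iff_map.1 hQ
    obtain ⟨g, hg, hgimg⟩ := exists_map_to_fullyNormalized hS hF hU₀
      (isConj_symm (isMap_of_subset hE.1 hq).isConj)
    have hle : normalizerIn T (img q (img θ₀ U)) ≤ normalizerIn S (img q (img θ₀ U)) :=
      inf_le_inf_right _ hTS
    have hqS : img q (img θ₀ U) ≤ S := hq.img_le_S.trans hTS
    have : Finite (normalizerIn T (img θ₀ U)) := finite_of_le normalizerIn_le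
    rw [← (hg.restrict hle).card_img]
    refine card_le_card (img_le fun x hx => ⟨Normal.stronglyClosed_mem hE.2.1 hg (hle hx) hx.1, ?_⟩)
    rw [← hgimg]
    exact hg.mem_normalizer_img (le_normalizerIn hqS) (hle hx) hx.2
  obtain ⟨Sy, hSy⟩ := (fullyNormalized_fullyAutomized (hS.to_le hTS) hEs hfnE).2
  -- the transported automorphism
  obtain ⟨e, he⟩ := hθ₀.exists_autEquiv
  have hβF : (β : MulAut U) ∈ F.autGroup U :=
    (mem_autGroup_iff hUS).2 (isMap_of_subset hE.1 (isMap_of_mem_autGroup hUT β.2))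
  set β' : F.autGroup U := ⟨β, hβF⟩ with hβ'
  obtain ⟨g, hg, hge⟩ := conj_transport hE hθ₀ hUT (isMap_of_mem_autGroup hUT β.2) le_rfl
    fun x hx => autFun_mem _ hx
  have hmem : (e β' : MulAut (img θ₀ U)) ∈ E.autGroup (img θ₀ U) := by
    refine (mem_autGroup_iff hU₀T).2 (hg.congr fun y hy => ?_)
    obtain ⟨x, hx, rfl⟩ := hθ₀.mem_img.1 hy
    rw [hge x hx, he β' x hx]
  set b : E.autGroup (img θ₀ U) := ⟨e β', hmem⟩ with hb
  have hbk : b ^ p ^ k = 1 := by
    refine Subtype.ext ?_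
    have h1 : β' ^ p ^ k = 1 := Subtype.ext (congrArg Subtype.val hk :)
    have h2 := congrArg Subtype.val (congrArg e h1)
    rw [map_pow, map_one] at h2
    exact h2
  have hzp : IsPGroup p (Subgroup.zpowers b) := fun x => by
    obtain ⟨x, i, rfl⟩ := x
    refine ⟨k, Subtype.ext ?_⟩
    change (b ^ i) ^ (p ^ k : ℕ) = 1
    rw [← zpow_natCast, ← zpow_mul, mul_comm, zpow_mul, zpow_natCast, hbk, one_zpow]
  obtain ⟨c, hc⟩ := exists_conj_le_sylow Sy hzp
  have h1 := hc _ (Subgroup.mem_zpowers _)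
  rw [hSy] at h1
  obtain ⟨t, ht, hte⟩ := mem_autInducedBy_iff'.1 (Subgroup.mem_subgroupOf.1 h1)
  set θ : Ω → Ω := fun x => autFun (c : MulAut (img θ₀ U)) (θ₀ x) with hθdef
  have hθ : IsMap F U θ :=
    (isMap_of_subset hE.1 (isMap_of_mem_autGroup hU₀T c.2)).comp hθ₀ fun x hx =>
      mem_img_self θ₀ hx
  have hkey : ∀ x ∈ U, θ (autFun (β : MulAut U) x) = t * θ x * t⁻¹ := fun x hx => by
    have h2 := hte _ (autFun_mem (c : MulAut (img θ₀ U)) (mem_img_self θ₀ hx))
    rw [Subgroup.coe_mul, Subgroup.coe_mul, Subgroup.coe_inv, autFun_mul, autFun_mul,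
      autFun_inv_apply] at h2
    show autFun _ (θ₀ (autFun (β' : MulAut U) x)) = _
    rw [← he β' x hx]
    exact h2
  have himgθ : img θ U = img θ₀ U := by rw [← hθ₀.img_img, autFun_img]
  exact ⟨θ, t, hθ, himgθ ▸ hU₀, himgθ ▸ ht, hkey⟩

/-- An automorphism of `p`-power order of a centric subgroup of `E` extends over `C_S(T)`, acting
trivially modulo `T`. -/
theorem exists_pext (hU : E.IsCentric U) (β : E.autGroup U) {k : ℕ} (hk : β ^ p ^ k = 1) :
    ∃ h, IsMap F (U ⊔ centralizerIn S T) h ∧ (∀ x ∈ U, h x = autFun (β : MulAut U) x) ∧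
      ∀ x ∈ centralizerIn S T, h x * x⁻¹ ∈ T := by
  have hTS : T ≤ S := subsystem_le hE.1
  have hTn : S ≤ Subgroup.normalizer (T : Set Ω) := Normal.le_normalizer_of_stronglyClosed hE.2.1
  have : Finite T := finite_of_le hTS
  have hUS : U ≤ S := hU.1.trans hTS
  obtain ⟨θ, t, hθ, hU₀, ht, hkey⟩ := exists_conjElt hE hS hF hEs hU.1 β hk
  obtain ⟨θ', hθ', hθ'e⟩ := exists_extension hS hF hθ
    (fullyNormalized_fullyCentralized hS hF hU₀)
  set X := centralizerIn S T with hX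
  have hXU : X ≤ centralizerIn S U := fun x hx => ⟨hx.1, fun u hu => hx.2 u (hU.1 hu)⟩
  have hUX : U ⊔ X ≤ nSub S U θ := sup_le (le_nSub hθ) (hXU.trans centralizerIn_le_nSub)
  have hθX : IsMap F (U ⊔ X) θ' := hθ'.restrict hUX
  obtain ⟨i, hi, hiimg, hiθ, hθi⟩ := hθX.exists_inv
  have htS : t ∈ S := hTS ht.1
  have hz : ∀ x ∈ X, ∃ z ∈ U, cj t (θ' x) = θ' z * θ' x := by
    intro x hx
    have hxS : θ' x ∈ S := hθX.mem (Subgroup.mem_sup_right hx)
    have hxc : θ' x ∈ Subgroup.centralizer (img θ U : Set Ω) := by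
      rw [← img_congr hθ'e]
      exact hθX.mem_centralizer_img le_sup_left (Subgroup.mem_sup_right hx) (hXU hx).2
    have hmem : cj t (θ' x) * (θ' x)⁻¹ ∈ centralizerIn T (img θ U) := by
      refine ⟨?_, mul_mem ?_ (Subgroup.inv_mem _ hxc)⟩
      · have : θ' x * t⁻¹ * (θ' x)⁻¹ ∈ T :=
          (Subgroup.mem_normalizer_iff.1 (hTn hxS) _).1 (Subgroup.inv_mem _ ht.1)
        have h0 := T.mul_mem ht.1 this
        rw [cj_apply]
        simpa [mul_assoc] using h0
      · intro y hy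
        have hy' : t⁻¹ * y * t⁻¹⁻¹ ∈ img θ U :=
          (Subgroup.mem_normalizer_iff.1 (Subgroup.inv_mem _ ht.2) _).1 hy
        have := hxc _ hy'
        rw [cj_apply]
        calc y * (t * θ' x * t⁻¹) = t * (t⁻¹ * y * t⁻¹⁻¹ * θ' x) * t⁻¹ := by group
          _ = t * (θ' x * (t⁻¹ * y * t⁻¹⁻¹)) * t⁻¹ := by rw [this]
          _ = t * θ' x * t⁻¹ * y := by group
    have hmem' := cent_le hE hU hθ hmem
    obtain ⟨z, hz, hze⟩ := hθ.mem_img.1 hmem'
    exact ⟨z, hz, by rw [hθ'e z hz, hze, inv_mul_cancel_right]⟩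
  have hcjθ : IsMap F (U ⊔ X) (fun x => cj t (θ' x)) :=
    (isMap_cj hθX.img_le_S htS).comp hθX fun x hx => mem_img_self θ' hx
  have hmapsM : ∀ x ∈ U ⊔ X, cj t (θ' x) ∈ img θ' (U ⊔ X) := by
    suffices img (fun x => cj t (θ' x)) (U ⊔ X) ≤ img θ' (U ⊔ X) from
      fun x hx => this (mem_img_self _ hx)
    rw [hcjθ.img_sup]
    refine sup_le (img_le fun x hx => ?_) (img_le fun x hx => ?_)
    · have hb : autFun (β : MulAut U) x ∈ U := autFun_mem _ hx
      rw [cj_apply, hθ'e x hx, ← hkey x hx, ← hθ'e _ hb]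
      exact mem_img_self θ' (Subgroup.mem_sup_left hb)
    · obtain ⟨z, hz, hze⟩ := hz x hx
      rw [hze]
      exact mul_mem (mem_img_self θ' (Subgroup.mem_sup_left hz))
        (mem_img_self θ' (Subgroup.mem_sup_right hx))
  refine ⟨fun x => i (cj t (θ' x)), hi.comp hcjθ hmapsM, fun x hx => ?_, fun x hx => ?_⟩
  · have hb : autFun (β : MulAut U) x ∈ U := autFun_mem _ hx
    show i (cj t (θ' x)) = _
    rw [cj_apply, hθ'e x hx, ← hkey x hx, ← hθ'e _ hb, hiθ _ (Subgroup.mem_sup_left hb)]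
  · obtain ⟨z, hz, hze⟩ := hz x hx
    show i (cj t (θ' x)) * x⁻¹ ∈ T
    rw [hze, ← hθX.map_mul (Subgroup.mem_sup_left hz) (Subgroup.mem_sup_right hx),
      hiθ _ (mul_mem (Subgroup.mem_sup_left hz) (Subgroup.mem_sup_right hx)),
      mul_inv_cancel_right]
    exact hU.1 hz

/-- A generated map on a centric subgroup of `E` extends over `C_S(T)`, acting trivially modulo
the image. -/
theorem exists_gext (hR : E.IsCentric R) (hf : Gen E p R f) :
    ∃ h, IsMap F (R ⊔ centralizerIn S T) h ∧ (∀ x ∈ R, h x = f x) ∧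
      ∀ x ∈ centralizerIn S T, h x * x⁻¹ ∈ img f R := by
  have hTS : T ≤ S := subsystem_le hE.1
  have : Finite T := finite_of_le hTS
  suffices ∃ h, IsMap F (R ⊔ centralizerIn S T) h ∧ (∀ x ∈ R, h x = f x) ∧
      ∀ x ∈ centralizerIn S T, h x * x⁻¹ ∈ T by
    obtain ⟨h, hh, hhf, hx⟩ := this
    refine ⟨h, hh, hhf, fun x hx' => hR.2 _ hf.isMap.isConj ⟨hx x hx', ?_⟩⟩
    refine mul_mem ?_ (Subgroup.inv_mem _ fun y hy => hx'.2 y (hf.isMap.img_le_S hy))
    rw [← img_congr hhf]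
    exact hh.mem_centralizer_img le_sup_left (Subgroup.mem_sup_right hx')
      fun y hy => hx'.2 y (hR.1 hy)
  induction hf with
  | @base P V α k hV hα hP =>
    obtain ⟨h, hh, he, hx⟩ := exists_pext hE hS hF hEs hV α hα
    exact ⟨h, hh.restrict (sup_le_sup_right hP _), fun x hx' => he x (hP hx'), hx⟩
  | @ident P hP =>
    exact ⟨id, isMap_id (sup_le (hR.1.trans hTS) centralizerIn_le), fun _ _ => rfl,
      fun x _ => by simp⟩
  | @comp P Q f g hf hg hPQ ihf ihg =>
    obtain ⟨h₁, hh₁, he₁, hx₁⟩ := ihf hR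
    have hQc : E.IsCentric Q := centric_mono (centric_conj hR hf.isMap.isConj) (img_le hPQ)
      hg.isMap.le
    obtain ⟨h₂, hh₂, he₂, hx₂⟩ := ihg hQc
    have hmaps : ∀ x ∈ centralizerIn S T, h₁ x * x⁻¹ ∈ Q := fun x hx => by
      refine img_le hPQ (hR.2 _ hf.isMap.isConj ⟨hx₁ x hx, ?_⟩)
      refine mul_mem ?_ (Subgroup.inv_mem _ fun y hy => hx.2 y (hf.isMap.img_le_S hy))
      rw [← img_congr he₁]
      exact hh₁.mem_centralizer_img le_sup_left (Subgroup.mem_sup_right hx)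
        fun y hy => hx.2 y (hR.1 hy)
    have hle : ∀ x ∈ P ⊔ centralizerIn S T, h₁ x ∈ Q ⊔ centralizerIn S T := by
      suffices img h₁ (P ⊔ centralizerIn S T) ≤ Q ⊔ centralizerIn S T from
        fun x hx => this (mem_img_self h₁ hx)
      rw [hh₁.img_sup]
      refine sup_le (img_le fun x hx => ?_) (img_le fun x hx => ?_)
      · rw [he₁ x hx]; exact Subgroup.mem_sup_left (hPQ x hx)
      · have := mul_mem (Subgroup.mem_sup_left (T := centralizerIn S T) (hmaps x hx))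
          (Subgroup.mem_sup_right (S := Q) hx)
        rwa [inv_mul_cancel_right] at this
    refine ⟨fun x => h₂ (h₁ x), hh₂.comp hh₁ hle, fun x hx => ?_, fun x hx => ?_⟩
    · show h₂ (h₁ x) = g (f x)
      rw [he₁ x hx, he₂ _ (hPQ x hx)]
    · show h₂ (h₁ x) * x⁻¹ ∈ T
      rw [show h₁ x = h₁ x * x⁻¹ * x from (inv_mul_cancel_right _ _).symm,
        hh₂.map_mul (Subgroup.mem_sup_left (hmaps x hx)) (Subgroup.mem_sup_right hx),
        he₂ _ (hmaps x hx), mul_assoc]
      exact mul_mem (hg.isMap.mem (hmaps x hx)) (hx₂ x hx)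
  | @congr P f g hf he ih =>
    obtain ⟨h, hh, hhe, hx⟩ := ih hR
    exact ⟨h, hh, fun x hx' => (hhe x hx').trans (he x hx'), hx⟩

omit hE hS hF hEs in
theorem decomp (hU : U ≤ T) {y : Ω} (hy : y ∈ U ⊔ centralizerIn S T) :
    ∃ u ∈ U, ∃ x ∈ centralizerIn S T, u * x = y := by
  have hn : U ≤ Subgroup.normalizer (centralizerIn S T : Set Ω) := fun u hu =>
    Subgroup.centralizer_le_normalizer _ fun x hx => (hx.2 u (hU hu)).symm
  have hy' : y ∈ ((U ⊔ centralizerIn S T : Subgroup Ω) : Set Ω) := hy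
  rw [Subgroup.coe_mul_of_left_le_normalizer_right U _ hn] at hy'
  exact Set.mem_mul.1 hy'

/-- One step up: a map on `U C_S(T)` fixing `U` extends to `N_T(U) C_S(T)`. -/
theorem exists_step (hU : E.IsCentric U) {δ : Ω → Ω}
    (hδ : IsMap F (U ⊔ centralizerIn S T) δ)
    (hmaps : ∀ x ∈ U ⊔ centralizerIn S T, δ x ∈ U ⊔ centralizerIn S T)
    (hfix : ∀ x ∈ U, δ x = x) :
    ∃ δ₁, IsMap F (normalizerIn T U ⊔ centralizerIn S T) δ₁ ∧
      (∀ x ∈ normalizerIn T U ⊔ centralizerIn S T,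
        δ₁ x ∈ normalizerIn T U ⊔ centralizerIn S T) ∧
      (∀ x ∈ U ⊔ centralizerIn S T, δ₁ x = δ x) ∧
      ∀ g ∈ normalizerIn T U, δ₁ g * g⁻¹ ∈ U := by
  have hTS : T ≤ S := subsystem_le hE.1
  have : Finite T := finite_of_le hTS
  set X := centralizerIn S T with hX
  set W := U ⊔ X with hW
  set U₁ := normalizerIn T U with hU₁
  have hWS : W ≤ S := sup_le (hU.1.trans hTS) centralizerIn_le
  have : Finite W := finite_of_le hWS
  have : Finite U := finite_of_le hU.1
  -- automorphisms acting on `U` as `N_T(U)` and trivially on `W / U`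
  let Q' : Subgroup (F.autGroup W) :=
    { carrier := {q | ∃ g ∈ U₁, (∀ u ∈ U, autFun (q : MulAut W) u = g * u * g⁻¹) ∧
        ∀ x ∈ X, autFun (q : MulAut W) x * x⁻¹ ∈ U}
      one_mem' := ⟨1, one_mem _, fun u _ => by simp [autFun_one], fun x _ => by
        simp [autFun_one]⟩
      mul_mem' := by
        rintro a b ⟨g, hg, hga, hxa⟩ ⟨g', hg', hgb, hxb⟩
        refine ⟨g * g', mul_mem hg hg', fun u hu => ?_, fun x hx => ?_⟩
        · rw [Subgroup.coe_mul, autFun_mul, hgb u hu,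
            hga _ ((Subgroup.mem_normalizer_iff.1 hg'.2 u).1 hu)]
          group
        · have h1 := hxb x hx
          rw [Subgroup.coe_mul, autFun_mul,
            show autFun (b : MulAut W) x = autFun (b : MulAut W) x * x⁻¹ * x from
              (inv_mul_cancel_right _ _).symm,
            autFun_isHom (a : MulAut W) _ (Subgroup.mem_sup_left h1) _
              (Subgroup.mem_sup_right hx), mul_assoc]
          refine mul_mem ?_ (hxa x hx)
          rw [hga _ h1]
          exact (Subgroup.mem_normalizer_iff.1 hg.2 _).1 h1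
      inv_mem' := by
        rintro a ⟨g, hg, hga, hxa⟩
        have hu' : ∀ u ∈ U, autFun ((a⁻¹ : F.autGroup W) : MulAut W) u = g⁻¹ * u * g⁻¹⁻¹ := by
          intro u hu
          have h1 : g⁻¹ * u * g⁻¹⁻¹ ∈ U :=
            (Subgroup.mem_normalizer_iff.1 (Subgroup.inv_mem _ hg.2) u).1 hu
          rw [Subgroup.coe_inv]
          conv_lhs => rw [show u = autFun (a : MulAut W) (g⁻¹ * u * g⁻¹⁻¹) by
            rw [hga _ h1]; group]
          exact autFun_inv_apply _ _
        refine ⟨g⁻¹, Subgroup.inv_mem _ hg, hu', fun x hx => ?_⟩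
        have h1 := hxa x hx
        have h2 : autFun ((a⁻¹ : F.autGroup W) : MulAut W) (autFun (a : MulAut W) x * x⁻¹) *
            autFun ((a⁻¹ : F.autGroup W) : MulAut W) x = x := by
          rw [← autFun_isHom _ _ (Subgroup.mem_sup_left h1) _ (Subgroup.mem_sup_right hx),
            inv_mul_cancel_right, Subgroup.coe_inv, autFun_inv_apply]
        have h3 : autFun ((a⁻¹ : F.autGroup W) : MulAut W) x * x⁻¹ =
            (autFun ((a⁻¹ : F.autGroup W) : MulAut W) (autFun (a : MulAut W) x * x⁻¹))⁻¹ := by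
          refine eq_inv_of_mul_eq_one_right ?_
          rw [← mul_assoc, h2, mul_inv_cancel]
        rw [h3, hu' _ h1]
        exact Subgroup.inv_mem _ ((Subgroup.mem_normalizer_iff.1 (Subgroup.inv_mem _ hg.2) _).1 h1) }
  have hTp : IsPGroup p T := hS.to_le hTS
  obtain ⟨m, hm⟩ := IsPGroup.iff_card.1 (hTp.to_le hU.1)
  have hQp : IsPGroup p Q' := by
    rintro ⟨q, g, hg, hgq, hxq⟩
    obtain ⟨a, ha⟩ := hTp ⟨g, hg.1⟩
    have ha' : g ^ p ^ a = 1 := by simpa using congrArg Subtype.val ha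
    have hpow : ∀ n : ℕ, ∀ u ∈ U, autFun ((q : MulAut W) ^ n) u = g ^ n * u * (g ^ n)⁻¹ := by
      intro n
      induction n with
      | zero => intro u _; simp [autFun_one]
      | succ n ih =>
        intro u hu
        rw [pow_succ', autFun_mul, ih u hu,
          hgq _ ((Subgroup.mem_normalizer_iff.1 (Subgroup.pow_mem _ hg.2 n) u).1 hu), pow_succ']
        group
    set r : MulAut W := (q : MulAut W) ^ p ^ a with hr
    have hru : ∀ u ∈ U, autFun r u = u := fun u hu => by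
      rw [hr, hpow _ u hu, ha']; group
    refine ⟨a + m, Subtype.ext (Subtype.ext ?_)⟩
    rw [SubmonoidClass.coe_pow, SubmonoidClass.coe_pow]
    show (q : MulAut W) ^ p ^ (a + m) = 1
    rw [pow_add, pow_mul, ← hr]
    have hrF : r ∈ F.autGroup W := pow_mem q.2 _
    have hrX : ∀ x ∈ X, autFun r x * x⁻¹ ∈ U := by
      have : ∀ n : ℕ, ∀ x ∈ X, autFun ((q : MulAut W) ^ n) x * x⁻¹ ∈ U := by
        intro n
        induction n with
        | zero => intro x _; simp [autFun_one]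
        | succ n ih =>
          intro x hx
          have h1 := ih x hx
          rw [pow_succ', autFun_mul, show autFun ((q : MulAut W) ^ n) x =
              autFun ((q : MulAut W) ^ n) x * x⁻¹ * x from (inv_mul_cancel_right _ _).symm,
            autFun_isHom (q : MulAut W) _ (Subgroup.mem_sup_left h1) _
              (Subgroup.mem_sup_right hx), mul_assoc]
          refine mul_mem ?_ (hxq x hx)
          rw [hgq _ h1]
          exact (Subgroup.mem_normalizer_iff.1 hg.2 _).1 h1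
      exact this _
    have hpr : ∀ n : ℕ, ∀ x ∈ X, autFun (r ^ n) x = (autFun r x * x⁻¹) ^ n * x := by
      intro n
      induction n with
      | zero => intro x _; simp [autFun_one]
      | succ n ih =>
        intro x hx
        have h1 := Subgroup.pow_mem _ (hrX x hx) n
        rw [pow_succ', autFun_mul, ih x hx, autFun_isHom r _ (Subgroup.mem_sup_left h1) _
          (Subgroup.mem_sup_right hx), hru _ h1, pow_succ, mul_assoc, inv_mul_cancel_right]
    refine autFun_ext fun x hx => ?_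
    rw [autFun_one]
    refine Normal.IsMap.fix_sup (P := U) (Q := X)
      (isMap_of_mem_autGroup hWS (pow_mem hrF (p ^ m))) (fun u hu => ?_) (fun y hy => ?_) hx
    · have : ∀ n : ℕ, autFun (r ^ n) u = u := fun n => by
        induction n with
        | zero => simp [autFun_one]
        | succ n ih => rw [pow_succ', autFun_mul, ih, hru u hu]
      exact this _
    · rw [hpr _ y hy]
      have : (autFun r y * y⁻¹) ^ p ^ m = 1 := by
        have h : (⟨_, hrX y hy⟩ : U) ^ Nat.card U = 1 := pow_card_eq_one'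
        rw [hm] at h
        simpa using congrArg Subtype.val h
      rw [this, one_mul]
  -- the elements of `Q'`
  obtain ⟨d, hd, hde⟩ := hδ.exists_aut
    (eq_of_le_card (img_le hmaps) (by rw [hδ.card_img]))
  have hnW : ∀ g ∈ U₁, g ∈ normalizerIn S W := by
    intro g hg
    refine ⟨hTS hg.1, ?_⟩
    refine mem_normalizer_of_forall fun y hy => ?_
    obtain ⟨u, hu, x, hx, rfl⟩ := decomp hU.1 hy
    rw [show g * (u * x) * g⁻¹ = g * u * g⁻¹ * (g * x * g⁻¹) by group,
      show g * x * g⁻¹ = x by rw [hx.2 g hg.1, mul_inv_cancel_right]]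
    exact mul_mem (Subgroup.mem_sup_left ((Subgroup.mem_normalizer_iff.1 hg.2 u).1 hu))
      (Subgroup.mem_sup_right hx)
  let cg : ∀ g ∈ U₁, F.autGroup W := fun g hg =>
    ⟨conjAut S W ⟨g, hnW g hg⟩, autInducedBy_le hWS (conjAut_range S W ▸ ⟨_, rfl⟩)⟩
  have hcg : ∀ g (hg : g ∈ U₁), ∀ y ∈ W, autFun (cg g hg : MulAut W) y = g * y * g⁻¹ :=
    fun g hg y hy => conjAut_apply _ hy
  have hcgx : ∀ g (hg : g ∈ U₁), ∀ x ∈ X, autFun (cg g hg : MulAut W) x = x := fun g hg x hx => by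
    rw [hcg g hg x (Subgroup.mem_sup_right hx), hx.2 g hg.1, mul_inv_cancel_right]
  set dd : F.autGroup W := ⟨d, hd⟩ with hdd
  have hdu : ∀ u ∈ U, autFun d u = u := fun u hu => by
    rw [hde u (Subgroup.mem_sup_left hu), hfix u hu]
  have hdiu : ∀ u ∈ U, autFun d⁻¹ u = u := fun u hu => by
    conv_lhs => rw [← hdu u hu]
    exact autFun_inv_apply _ _
  have hQ1 : ∀ g (hg : g ∈ U₁), cg g hg ∈ Q' := fun g hg =>
    ⟨g, hg, fun u hu => hcg g hg u (Subgroup.mem_sup_left hu), fun x hx => by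
      rw [hcgx g hg x hx, mul_inv_cancel]; exact one_mem _⟩
  have hQ2 : ∀ g (hg : g ∈ U₁), dd * cg g hg * dd⁻¹ ∈ Q' := by
    intro g hg
    have hgu : ∀ u ∈ U, g * u * g⁻¹ ∈ U := fun u hu =>
      (Subgroup.mem_normalizer_iff.1 hg.2 u).1 hu
    refine ⟨g, hg, fun u hu => ?_, fun x hx => ?_⟩
    · rw [Subgroup.coe_mul, Subgroup.coe_mul, Subgroup.coe_inv, autFun_mul, autFun_mul,
        hdd, hdiu u hu, hcg g hg u (Subgroup.mem_sup_left hu), hdu _ (hgu u hu)]
    · rw [Subgroup.coe_mul, Subgroup.coe_mul, Subgroup.coe_inv, autFun_mul, autFun_mul, hdd]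
      obtain ⟨u, hu, x', hx', hux⟩ :=
        decomp hU.1 (autFun_mem d⁻¹ (show x ∈ W from Subgroup.mem_sup_right hx))
      rw [← hux, hcg g hg _ (mul_mem (Subgroup.mem_sup_left hu) (Subgroup.mem_sup_right hx'))]
      rw [show g * (u * x') * g⁻¹ = g * u * g⁻¹ * (g * x' * g⁻¹) by group,
        show g * x' * g⁻¹ = x' by rw [hx'.2 g hg.1, mul_inv_cancel_right],
        autFun_isHom d _ (Subgroup.mem_sup_left (hgu u hu)) _ (Subgroup.mem_sup_right hx'),
        hdu _ (hgu u hu)]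
      have h1 : x = u * autFun d x' := by
        rw [← hdu u hu, ← autFun_isHom d _ (Subgroup.mem_sup_left hu) _
          (Subgroup.mem_sup_right hx'), hux, autFun_apply_inv]
      rw [h1]
      rw [mul_inv_rev, mul_assoc, mul_inv_cancel_left]
      exact mul_mem (hgu u hu) (Subgroup.inv_mem _ hu)
  -- move to a fully normalized subgroup
  obtain ⟨W₀, hWW₀, hW₀⟩ := exists_fullyNormalized (F := F) hWS
  obtain ⟨χ, hχ, rfl⟩ := isConj_iff_map.1 hWW₀
  have : Finite (img χ W) := finite_of_le hW₀.1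
  obtain ⟨e, he⟩ := hχ.exists_autEquiv
  obtain ⟨Sy, hSy⟩ := (fullyNormalized_fullyAutomized hS hF hW₀).2
  obtain ⟨c, hc⟩ := exists_conj_le_sylow Sy (hQp.map e.toMonoidHom)
  set θ : Ω → Ω := fun x => autFun (c : MulAut (img χ W)) (χ x) with hθdef
  have hθ : IsMap F W θ :=
    (isMap_of_mem_autGroup hW₀.1 c.2).comp hχ fun x hx => mem_img_self χ hx
  have hind : ∀ q ∈ Q', ∃ h ∈ S,
      ∀ y ∈ W, θ (autFun (q : MulAut W) y) = h * θ y * h⁻¹ := by
    intro q hq
    have h1 := hc _ ⟨q, hq, rfl⟩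
    rw [hSy] at h1
    obtain ⟨h, hh, hhe⟩ := mem_autInducedBy_iff'.1 (Subgroup.mem_subgroupOf.1 h1)
    refine ⟨h, hh.1, fun y hy => ?_⟩
    have h2 := hhe _ (autFun_mem (c : MulAut (img χ W)) (mem_img_self χ hy))
    rw [Subgroup.coe_mul, Subgroup.coe_mul, Subgroup.coe_inv, autFun_mul, autFun_mul,
      autFun_inv_apply] at h2
    show autFun _ (χ (autFun (q : MulAut W) y)) = _
    rw [← he q y hy]
    exact h2
  have hθimg : img θ W = img χ W := by rw [← hχ.img_img, autFun_img]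
  have hW₀c := fullyNormalized_fullyCentralized hS hF hW₀
  have hψ : IsMap F W (fun x => θ (δ x)) := hθ.comp hδ hmaps
  have hψimg : img (fun x => θ (δ x)) W = img χ W := by
    rw [← hδ.img_img, eq_of_le_card (img_le hmaps) (by rw [hδ.card_img]), hθimg]
  have hθN : U₁ ⊔ X ≤ nSub S W θ := by
    refine sup_le (fun g hg => ?_) (le_sup_right.trans (le_nSub hθ))
    obtain ⟨h, hh, hhe⟩ := hind _ (hQ1 g hg)
    exact mem_nSub.2 ⟨(hnW g hg).1, (hnW g hg).2, h, hh, fun y hy => by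
      rw [← hhe y hy, hcg g hg y hy]⟩
  have hψN : U₁ ⊔ X ≤ nSub S W (fun x => θ (δ x)) := by
    refine sup_le (fun g hg => ?_) (le_sup_right.trans (le_nSub hψ))
    obtain ⟨h, hh, hhe⟩ := hind _ (hQ2 g hg)
    refine mem_nSub.2 ⟨(hnW g hg).1, (hnW g hg).2, h, hh, fun y hy => ?_⟩
    show θ (δ (g * y * g⁻¹)) = h * θ (δ y) * h⁻¹
    rw [← hhe _ (hmaps y hy), Subgroup.coe_mul, Subgroup.coe_mul, Subgroup.coe_inv, autFun_mul,
      autFun_mul, hdd, ← hde y hy, autFun_inv_apply, hcg g hg y hy,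
      hde _ ((Subgroup.mem_normalizer_iff.1 (hnW g hg).2 y).1 hy)]
  obtain ⟨θ₁', hθ₁', hθ₁e⟩ := exists_extension hS hF hθ (hθimg.symm ▸ hW₀c)
  obtain ⟨ψ₁', hψ₁', hψ₁e⟩ := exists_extension hS hF hψ (hψimg.symm ▸ hW₀c)
  have hθ₁ : IsMap F (U₁ ⊔ X) θ₁' := hθ₁'.restrict hθN
  have hψ₁ : IsMap F (U₁ ⊔ X) ψ₁' := hψ₁'.restrict hψN
  have hUU₁ : U ≤ U₁ := le_normalizerIn hU.1
  have hWU₁ : W ≤ U₁ ⊔ X := sup_le_sup_right hUU₁ X
  have hθU : IsMap F U θ := hθ.restrict le_sup_left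
  have hg1 : ∀ g ∈ U₁, ∃ u ∈ U, ψ₁' g = θ₁' (u * g) := by
    intro g hg
    have hgW : g ∈ U₁ ⊔ X := Subgroup.mem_sup_left hg
    have hmem : ψ₁' g * (θ₁' g)⁻¹ ∈ centralizerIn T (img θ U) := by
      refine ⟨mul_mem (Normal.stronglyClosed_mem hE.2.1 hψ₁ hgW hg.1)
        (Subgroup.inv_mem _ (Normal.stronglyClosed_mem hE.2.1 hθ₁ hgW hg.1)), fun y hy => ?_⟩
      obtain ⟨u, hu, rfl⟩ := hθU.mem_img.1 hy
      have hu' : g⁻¹ * u * g ∈ U := by
        simpa using (Subgroup.mem_normalizer_iff.1 (Subgroup.inv_mem _ hg.2) u).1 hu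
      have huW : g⁻¹ * u * g ∈ U₁ ⊔ X := hWU₁ (Subgroup.mem_sup_left hu')
      have h1 := hψ₁.map_conj hgW huW
      have h2 := hθ₁.map_conj hgW huW
      rw [show g * (g⁻¹ * u * g) * g⁻¹ = u by group] at h1 h2
      rw [hψ₁e u (Subgroup.mem_sup_left hu), hψ₁e _ (Subgroup.mem_sup_left hu'), hfix u hu,
        hfix _ hu'] at h1
      rw [hθ₁e u (Subgroup.mem_sup_left hu), hθ₁e _ (Subgroup.mem_sup_left hu')] at h2
      calc θ u * (ψ₁' g * (θ₁' g)⁻¹)
          = ψ₁' g * θ (g⁻¹ * u * g) * (ψ₁' g)⁻¹ * (ψ₁' g * (θ₁' g)⁻¹) := by rw [← h1]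
        _ = ψ₁' g * (θ₁' g)⁻¹ * (θ₁' g * θ (g⁻¹ * u * g) * (θ₁' g)⁻¹) := by group
        _ = ψ₁' g * (θ₁' g)⁻¹ * θ u := by rw [← h2]
    obtain ⟨u, hu, hue⟩ := hθU.mem_img.1 (cent_le hE hU hθU hmem)
    refine ⟨u, hu, ?_⟩
    rw [hθ₁.map_mul (hWU₁ (Subgroup.mem_sup_left hu)) hgW, hθ₁e u (Subgroup.mem_sup_left hu),
      hue, inv_mul_cancel_right]
  have hle : ∀ y ∈ U₁ ⊔ X, ψ₁' y ∈ img θ₁' (U₁ ⊔ X) := by
    suffices img ψ₁' (U₁ ⊔ X) ≤ img θ₁' (U₁ ⊔ X) from fun y hy => this (mem_img_self _ hy)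
    rw [hψ₁.img_sup]
    refine sup_le (img_le fun g hg => ?_) (img_le fun x hx => ?_)
    · obtain ⟨u, hu, hue⟩ := hg1 g hg
      rw [hue]
      exact mem_img_self _ (mul_mem (hWU₁ (Subgroup.mem_sup_left hu)) (Subgroup.mem_sup_left hg))
    · have hxW : x ∈ W := Subgroup.mem_sup_right hx
      rw [hψ₁e x hxW, ← hθ₁e _ (hmaps x hxW)]
      exact mem_img_self _ (hWU₁ (hmaps x hxW))
  obtain ⟨i, hi, hiimg, hiθ, -⟩ := hθ₁.exists_inv
  refine ⟨fun y => i (ψ₁' y), hi.comp hψ₁ hle, fun y hy => ?_, fun y hy => ?_, fun g hg => ?_⟩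
  · exact hiimg.le (mem_img_self i (hle y hy))
  · show i (ψ₁' y) = δ y
    rw [hψ₁e y hy, ← hθ₁e _ (hmaps y hy), hiθ _ (hWU₁ (hmaps y hy))]
  · obtain ⟨u, hu, hue⟩ := hg1 g hg
    show i (ψ₁' g) * g⁻¹ ∈ U
    rw [hue, hiθ _ (mul_mem (hWU₁ (Subgroup.mem_sup_left hu)) (Subgroup.mem_sup_left hg)),
      mul_inv_cancel_right]
    exact hu

omit hE hS hF hEs hp in
theorem isMap_iterate {δ : Ω → Ω} (hδ : IsMap F P δ) (hmaps : ∀ x ∈ P, δ x ∈ P) (n : ℕ) :
    IsMap F P δ^[n] ∧ ∀ x ∈ P, δ^[n] x ∈ P := by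
  induction n with
  | zero => exact ⟨isMap_id hδ.le, fun x hx => hx⟩
  | succ n ih =>
    rw [Function.iterate_succ']
    exact ⟨hδ.comp ih.1 ih.2, fun x hx => hmaps _ (ih.2 x hx)⟩

/-- A map on `U C_S(T)` fixing `U` agrees, modulo `T` and after a `p`-power, with one on
`T C_S(T)` fixing `T`. -/
theorem climb (hU : E.IsCentric U) {δ : Ω → Ω} (hδ : IsMap F (U ⊔ centralizerIn S T) δ)
    (hmaps : ∀ x ∈ U ⊔ centralizerIn S T, δ x ∈ U ⊔ centralizerIn S T)
    (hfix : ∀ x ∈ U, δ x = x) :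
    ∃ (k : ℕ) (γ : Ω → Ω), IsMap F (T ⊔ centralizerIn S T) γ ∧ (∀ x ∈ T, γ x = x) ∧
      ∀ x ∈ centralizerIn S T, (γ x)⁻¹ * δ^[p ^ k] x ∈ T := by
  have hTS : T ≤ S := subsystem_le hE.1
  have : Finite T := finite_of_le hTS
  induction hn : Nat.card T - Nat.card U using Nat.strong_induction_on generalizing U δ with
  | _ n ih =>
  rcases eq_or_lt_of_le hU.1 with rfl | hlt
  · exact ⟨0, δ, hδ, hfix, fun x _ => by simp⟩
  obtain ⟨δ₁, hδ₁, hm₁, he₁, hz₁⟩ := exists_step hE hS hF hEs hU hδ hmaps hfix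
  set U₁ := normalizerIn T U with hU₁
  have hUU₁ : U < U₁ := lt_normalizerIn (hS.to_le hTS) hlt
  have hU₁T : U₁ ≤ T := normalizerIn_le
  have : Finite U := finite_of_le hU.1
  obtain ⟨m, hm⟩ := IsPGroup.iff_card.1 ((hS.to_le hTS).to_le hU.1)
  obtain ⟨hit, hitm⟩ := isMap_iterate hδ₁ hm₁ (p ^ m)
  have hfix₁ : ∀ g ∈ U₁, δ₁^[p ^ m] g = g := by
    intro g hg
    have hpw : ∀ j : ℕ, δ₁^[j] g = (δ₁ g * g⁻¹) ^ j * g := by
      intro j
      induction j with
      | zero => simp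
      | succ j ih =>
        have hzj := Subgroup.pow_mem U (hz₁ g hg) j
        rw [Function.iterate_succ', Function.comp_apply, ih,
          hδ₁.map_mul (Subgroup.mem_sup_left (hUU₁.le hzj)) (Subgroup.mem_sup_left hg),
          he₁ _ (Subgroup.mem_sup_left hzj), hfix _ hzj, pow_succ, mul_assoc,
          inv_mul_cancel_right]
    have : (δ₁ g * g⁻¹) ^ p ^ m = 1 := by
      have h : (⟨_, hz₁ g hg⟩ : U) ^ Nat.card U = 1 := pow_card_eq_one'
      rw [hm] at h
      simpa using congrArg Subtype.val h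
    rw [hpw, this, one_mul]
  have : Finite U₁ := finite_of_le hU₁T
  obtain ⟨k, γ, hγ, hγf, hγx⟩ := ih _ (by
    have := card_lt_card hUU₁
    have := card_le_card hU₁T
    omega) (centric_mono hU hUU₁.le hU₁T) hit hitm hfix₁ rfl
  refine ⟨m + k, γ, hγ, hγf, fun x hx => ?_⟩
  have hagree : ∀ j : ℕ, δ₁^[j] x = δ^[j] x ∧ δ^[j] x ∈ U ⊔ centralizerIn S T := by
    intro j
    induction j with
    | zero => exact ⟨rfl, Subgroup.mem_sup_right hx⟩
    | succ j ih =>
      rw [Function.iterate_succ', Function.iterate_succ', Function.comp_apply,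
        Function.comp_apply, ih.1, he₁ _ ih.2]
      exact ⟨rfl, hmaps _ ih.2⟩
  rw [pow_add, ← (hagree _).1, Function.iterate_mul]
  exact hγx x hx

omit hS hF hEs hp in
/-- The automorphisms of `T` extending to `T C_S(T)` trivially modulo `T`. -/
def good : Subgroup (MulAut T) where
  carrier := {α | ∃ β ∈ F.autGroup (cen S T), (∀ x ∈ T, autFun β x = autFun α x) ∧
    ∀ x ∈ centralizerIn S T, x⁻¹ * autFun β x ∈ T}
  one_mem' := ⟨1, one_mem _, fun x _ => by simp [autFun_one], fun x _ => by simp [autFun_one]⟩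
  mul_mem' := by
    rintro a b ⟨β, hβ, hβa, hβx⟩ ⟨γ, hγ, hγb, hγx⟩
    refine ⟨β * γ, mul_mem hβ hγ, fun x hx => ?_, fun x hx => ?_⟩
    · rw [autFun_mul, autFun_mul, hγb x hx, hβa _ (autFun_mem _ hx)]
    · have h1 := hγx x hx
      rw [autFun_mul, show autFun γ x = x * (x⁻¹ * autFun γ x) from (mul_inv_cancel_left _ _).symm,
        autFun_isHom β _ (Subgroup.mem_sup_right hx) _ (Subgroup.mem_sup_left h1), ← mul_assoc]
      exact mul_mem (hβx x hx) (hβa _ h1 ▸ autFun_mem _ h1)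
  inv_mem' := by
    rintro a ⟨β, hβ, hβa, hβx⟩
    have hT : ∀ x ∈ T, autFun β⁻¹ x = autFun a⁻¹ x := fun x hx => by
      conv_lhs => rw [← autFun_apply_inv a x, ← hβa _ (autFun_mem _ hx)]
      exact autFun_inv_apply _ _
    refine ⟨β⁻¹, Subgroup.inv_mem _ hβ, hT, fun x hx => ?_⟩
    have h1 := hβx x hx
    have h2 : autFun β⁻¹ x * autFun β⁻¹ (x⁻¹ * autFun β x) = x := by
      rw [← autFun_isHom β⁻¹ _ (Subgroup.mem_sup_right hx) _ (Subgroup.mem_sup_left h1),
        mul_inv_cancel_left, autFun_inv_apply]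
    have h3 : x⁻¹ * autFun β⁻¹ x = (autFun β⁻¹ (x⁻¹ * autFun β x))⁻¹ :=
      eq_inv_of_mul_eq_one_left (by rw [mul_assoc, h2, inv_mul_cancel])
    rw [h3, hT _ h1]
    exact Subgroup.inv_mem _ (autFun_mem _ h1)

omit hEs in
theorem inn_good {α : MulAut T} (hα : α ∈ autInducedBy T T) : α ∈ good (F := F) (T := T) := by
  have hTS : T ≤ S := subsystem_le hE.1
  obtain ⟨t, ht, hte⟩ := mem_autInducedBy_iff'.1 hα
  have hcS : cen S T ≤ S := cen_le hTS
  have htN : t ∈ normalizerIn S (cen S T) :=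
    ⟨hTS ht.1, Subgroup.le_normalizer (Subgroup.mem_sup_left ht.1)⟩
  refine ⟨conjAut S (cen S T) ⟨t, htN⟩,
    autInducedBy_le hcS (conjAut_range S (cen S T) ▸ ⟨_, rfl⟩), fun x hx => ?_, fun x hx => ?_⟩
  · rw [conjAut_apply ⟨t, htN⟩ (Subgroup.mem_sup_left hx), hte x hx]
  · rw [conjAut_apply ⟨t, htN⟩ (Subgroup.mem_sup_right hx)]
    show x⁻¹ * (t * x * t⁻¹) ∈ T
    rw [hx.2 t ht.1, mul_inv_cancel_right, inv_mul_cancel]
    exact one_mem _

/-- The seeds of `O^{p'}(E)` are good. -/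
theorem seed_good {a : E.autGroup T} (ha : a ∈ seed E p) : (a : MulAut T) ∈ good (F := F) (T := T) := by
  obtain ⟨R, hR, hgen⟩ := ha
  have hTS : T ≤ S := subsystem_le hE.1
  have : Finite T := finite_of_le hTS
  set X := centralizerIn S T with hX
  obtain ⟨h, hh, hhe, hhx⟩ := exists_gext hE hS hF hEs hR hgen
  -- an extension to `T C_S(T)`
  have haT : IsMap F T (autFun (a : MulAut T)) :=
    isMap_of_subset hE.1 (isMap_of_mem_autGroup le_rfl a.2)
  have hTfn : F.IsFullyNormalized T := by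
    refine ⟨hTS, fun Q hQ => ?_⟩
    obtain ⟨q, hq, rfl⟩ := isConj_iff_map.1 hQ
    rw [Normal.stronglyClosed_img hE.2.1 hq le_rfl]
  obtain ⟨θ, hθ, hθe⟩ := exists_extension hS hF haT
    ((autFun_img (a : MulAut T)).symm ▸ fullyNormalized_fullyCentralized hS hF hTfn)
  have hβ0 : IsMap F (cen S T) θ :=
    hθ.restrict (sup_le (le_nSub haT) centralizerIn_le_nSub)
  obtain ⟨β, hβ, hβe⟩ := hβ0.exists_aut (img_cen hβ0 (Normal.stronglyClosed_img hE.2.1 hβ0 le_sup_left))
  have hβT : ∀ x ∈ T, autFun β x = autFun (a : MulAut T) x := fun x hx => by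
    rw [hβe x (Subgroup.mem_sup_left hx), hθe x hx]
  have hXX : ∀ γ ∈ F.autGroup (cen S T), ∀ x ∈ X, autFun γ x ∈ X := fun γ hγ x hx => by
    have hm := isMap_of_mem_autGroup (cen_le hTS) hγ
    have h1 := hm.mem_centralizer_img le_sup_left (Subgroup.mem_sup_right hx) hx.2
    rw [Normal.stronglyClosed_img hE.2.1 hm le_sup_left] at h1
    exact ⟨hm.mem (Subgroup.mem_sup_right hx), h1⟩
  -- `δ = β⁻¹ h` on `R C_S(T)`
  have hhc : ∀ y ∈ R ⊔ X, h y ∈ cen S T := by
    suffices img h (R ⊔ X) ≤ cen S T from fun y hy => this (mem_img_self h hy)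
    rw [hh.img_sup]
    refine sup_le (img_le fun x hx => ?_) (img_le fun x hx => ?_)
    · rw [hhe x hx]; exact Subgroup.mem_sup_left (autFun_mem _ (hR.1 hx))
    · have := mul_mem (Subgroup.mem_sup_left (T := X) (hgen.isMap.img_le_S (hhx x hx)))
        (Subgroup.mem_sup_right (S := T) hx)
      rwa [inv_mul_cancel_right] at this
  set δ : Ω → Ω := fun y => autFun β⁻¹ (h y) with hδdef
  have hδ : IsMap F (R ⊔ X) δ :=
    (isMap_of_mem_autGroup (cen_le hTS) (Subgroup.inv_mem _ hβ)).comp hh hhc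
  have hfix : ∀ x ∈ R, δ x = x := fun x hx => by
    show autFun β⁻¹ (h x) = x
    rw [hhe x hx, ← hβT x (hR.1 hx), autFun_inv_apply]
  have hδX : ∀ x ∈ X, ∃ r ∈ R, δ x = r * autFun β⁻¹ x := by
    intro x hx
    obtain ⟨r, hr, hre⟩ := hgen.isMap.mem_img.1 (hhx x hx)
    refine ⟨r, hr, ?_⟩
    show autFun β⁻¹ (h x) = _
    rw [show h x = h x * x⁻¹ * x from (inv_mul_cancel_right _ _).symm, ← hre,
      autFun_isHom β⁻¹ _ (Subgroup.mem_sup_left (autFun_mem _ (hR.1 hr))) _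
        (Subgroup.mem_sup_right hx), ← hβT r (hR.1 hr), autFun_inv_apply]
  have hmaps : ∀ y ∈ R ⊔ X, δ y ∈ R ⊔ X := by
    suffices img δ (R ⊔ X) ≤ R ⊔ X from fun y hy => this (mem_img_self δ hy)
    rw [hδ.img_sup]
    refine sup_le (img_le fun x hx => ?_) (img_le fun x hx => ?_)
    · rw [hfix x hx]; exact Subgroup.mem_sup_left hx
    · obtain ⟨r, hr, hre⟩ := hδX x hx
      rw [hre]
      exact mul_mem (Subgroup.mem_sup_left hr) (Subgroup.mem_sup_right (hXX _ (Subgroup.inv_mem _ hβ) x hx))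
  obtain ⟨k, γ, hγ, hγf, hγx⟩ := climb hE hS hF hEs hR hδ hmaps hfix
  obtain ⟨γ', hγ', hγ'e⟩ := hγ.exists_aut (maps_cen hγ hγf)
  set n := p ^ k with hn
  have hit : ∀ j : ℕ, ∀ x ∈ X, ∃ r ∈ R,
      δ^[j] x = r * autFun (β⁻¹ ^ j) x ∧ autFun (β⁻¹ ^ j) x ∈ X := by
    intro j
    induction j with
    | zero => intro x hx; exact ⟨1, one_mem _, by simp [autFun_one], by simp [autFun_one, hx]⟩
    | succ j ih =>
      intro x hx
      obtain ⟨r, hr, hre, hw⟩ := ih x hx
      obtain ⟨r', hr', hre'⟩ := hδX _ hw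
      refine ⟨r * r', mul_mem hr hr', ?_, ?_⟩
      · rw [Function.iterate_succ', Function.comp_apply, hre,
          hδ.map_mul (Subgroup.mem_sup_left hr) (Subgroup.mem_sup_right hw), hfix r hr, hre',
          pow_succ', autFun_mul, mul_assoc]
      · rw [pow_succ', autFun_mul]
        exact hXX _ (Subgroup.inv_mem _ hβ) _ hw
  have hgoodn : ((a : MulAut T) ^ n) ∈ good (F := F) (T := T) := by
    refine ⟨β ^ n * γ', mul_mem (pow_mem hβ n) hγ', fun x hx => ?_, fun x hx => ?_⟩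
    · rw [autFun_mul, hγ'e x (Subgroup.mem_sup_left hx), hγf x hx]
      have : ∀ j : ℕ, autFun (β ^ j) x = autFun ((a : MulAut T) ^ j) x := fun j => by
        induction j with
        | zero => simp [autFun_one]
        | succ j ih => rw [pow_succ', pow_succ', autFun_mul, autFun_mul, ih, hβT _ (autFun_mem _ hx)]
      exact this n
    · have hγX : γ x ∈ X := by
        rw [← hγ'e x (Subgroup.mem_sup_right hx)]; exact hXX _ hγ' x hx
      obtain ⟨r, hr, hre, hw⟩ := hit n x hx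
      have h1 := hγx x hx
      rw [hre, ← mul_assoc, ← show r * (γ x)⁻¹ = (γ x)⁻¹ * r from
        (Subgroup.inv_mem _ hγX).2 r (hR.1 hr), mul_assoc] at h1
      have h2 : (γ x)⁻¹ * autFun (β⁻¹ ^ n) x ∈ T := by
        have := mul_mem (Subgroup.inv_mem _ (hR.1 hr)) h1
        rwa [inv_mul_cancel_left] at this
      set t := (γ x)⁻¹ * autFun (β⁻¹ ^ n) x with ht
      have hγeq : γ x = autFun (β⁻¹ ^ n) x * t⁻¹ := by rw [ht]; group
      rw [autFun_mul, hγ'e x (Subgroup.mem_sup_right hx), hγeq,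
        autFun_isHom (β ^ n) _ (Subgroup.mem_sup_right hw) _ (Subgroup.mem_sup_left (Subgroup.inv_mem _ h2)),
        inv_pow, autFun_apply_inv, inv_mul_cancel_left]
      have hm := isMap_of_mem_autGroup (cen_le hTS) (pow_mem hβ n)
      exact Normal.stronglyClosed_mem hE.2.1 hm (Subgroup.mem_sup_left (Subgroup.inv_mem _ h2)) (Subgroup.inv_mem _ h2)
  -- descend from `a ^ n`
  set N : Subgroup (E.autGroup T) := (autInducedBy T T).subgroupOf (E.autGroup T) with hN
  have hfnT : E.IsFullyNormalized T := by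
    refine ⟨le_rfl, fun Q hQ => ?_⟩
    rw [Alperin.eq_top_of_card le_rfl hQ rfl]
  obtain ⟨Sy, hSy⟩ := (fullyNormalized_fullyAutomized (hS.to_le hTS) hEs hfnT).2
  have hinn : autInducedBy T T = Inn T := le_antisymm
    (fun α hα => by
      obtain ⟨t, ht, hte⟩ := mem_autInducedBy_iff'.1 hα
      exact mem_inn_iff.2 ⟨t, ht.1, hte⟩) (inn_le_autInducedBy le_rfl)
  have hNn : N.Normal := by rw [hN, hinn]; exact Alperin.inn_normal E T
  have hcop : N.index.Coprime p := by
    rw [hN, ← hSy]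
    exact ((Fact.out : p.Prime).coprime_iff_not_dvd.2 Sy.not_dvd_index).symm
  set am := QuotientGroup.mk' N a with ham
  have hord : n.Coprime (orderOf am) :=
    (Nat.Coprime.pow_right k (hcop.coprime_dvd_left (orderOf_dvd_natCard am))).symm
  obtain ⟨j, hj⟩ := exists_pow_eq_self_of_coprime hord
  have h3 : ((a ^ n) ^ j)⁻¹ * a ∈ N := by
    rw [← QuotientGroup.eq]
    exact hj
  have h4 : (((a ^ n) ^ j)⁻¹ * a : E.autGroup T).1 ∈ good (F := F) (T := T) :=
    inn_good hE hS hF (Subgroup.mem_subgroupOf.1 h3)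
  have h5 : (((a ^ n) ^ j : E.autGroup T) : MulAut T) ∈ good (F := F) (T := T) := by
    rw [SubmonoidClass.coe_pow, SubmonoidClass.coe_pow]
    exact pow_mem hgoodn j
  have := mul_mem h5 h4
  rwa [← Subgroup.coe_mul, mul_inv_cancel_left] at this

/-- Transport of generated maps along an automorphism of `T` in `F`. -/
theorem gen_transport {α : MulAut T} (hα : α ∈ F.autGroup T) (hf : Gen E p P f) :
    Gen E p (img (autFun α) P) (fun y => autFun α (f (autFun α⁻¹ y))) := by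
  have hTS : T ≤ S := subsystem_le hE.1
  have : Finite T := finite_of_le hTS
  have hm : IsMap F T (autFun α) := isMap_of_mem_autGroup hTS hα
  induction hf with
  | @base P V b k hV hb hP =>
    have hmV := hm.restrict hV.1
    obtain ⟨e, he⟩ := hmV.exists_autEquiv
    have hbF : (b : MulAut V) ∈ F.autGroup V :=
      (mem_autGroup_iff (hV.1.trans hTS)).2
        (isMap_of_subset hE.1 (isMap_of_mem_autGroup hV.1 b.2))
    obtain ⟨g, hg, hge⟩ := invariant_transport hE hV.1 (isMap_of_mem_autGroup hV.1 b.2) hα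
    have hV' : img (autFun α) V ≤ T := img_le fun x hx => autFun_mem _ (hV.1 hx)
    have hmem : (e ⟨b, hbF⟩ : MulAut (img (autFun α) V)) ∈ E.autGroup (img (autFun α) V) := by
      refine (mem_autGroup_iff hV').2 (hg.congr fun y hy => ?_)
      obtain ⟨x, hx, rfl⟩ := hmV.mem_img.1 hy
      rw [hge x hx, he ⟨b, hbF⟩ x hx]
    refine (Gen.base (⟨_, hmem⟩ : E.autGroup _) k (centric_map hE hV hmV) ?_
      (img_mono _ hP)).congr fun y hy => ?_
    · refine Subtype.ext ?_
      have h1 : (⟨b, hbF⟩ : F.autGroup V) ^ p ^ k = 1 := Subtype.ext (congrArg Subtype.val hb :)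
      have h2 := congrArg Subtype.val (congrArg e h1)
      rw [map_pow, map_one] at h2
      exact h2
    · obtain ⟨x, hx, rfl⟩ := (hmV.restrict hP).mem_img.1 hy
      rw [autFun_inv_apply]
      exact he ⟨b, hbF⟩ x (hP hx)
  | @ident P hP =>
    refine (Gen.ident (img_le fun x hx => autFun_mem _ (hP hx))).congr fun y _ => ?_
    exact (autFun_apply_inv α y).symm
  | @comp P Q f g hf hg hPQ ihf ihg =>
    refine (ihf.comp ihg fun y hy => ?_).congr fun y hy => ?_
    · obtain ⟨x, hx, rfl⟩ := (hm.restrict hf.isMap.le).mem_img.1 hy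
      rw [autFun_inv_apply]
      exact mem_img_self _ (hPQ x hx)
    · show autFun α (g (autFun α⁻¹ (autFun α (f (autFun α⁻¹ y))))) = _
      rw [autFun_inv_apply]
  | @congr P f g hf he ih =>
    refine ih.congr fun y hy => ?_
    obtain ⟨x, hx, rfl⟩ := (hm.restrict hf.isMap.le).mem_img.1 hy
    rw [autFun_inv_apply, he x hx]

theorem a0_transport {α : MulAut T} (hα : α ∈ F.autGroup T) {a : E.autGroup T}
    (ha : a ∈ A0 E p) : ∃ b ∈ A0 E p, (b : MulAut T) = α * a * α⁻¹ := by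
  have hTS : T ≤ S := subsystem_le hE.1
  have hn := autGroup_normal hE (le_refl T)
  have hconj : ∀ c : E.autGroup T, α * c * α⁻¹ ∈ E.autGroup T := fun c => by
    have hcF : (c : MulAut T) ∈ F.autGroup T :=
      (mem_autGroup_iff hTS).2 (isMap_of_subset hE.1 (isMap_of_mem_autGroup le_rfl c.2))
    exact Subgroup.mem_subgroupOf.1
      (hn.conj_mem ⟨c, hcF⟩ (Subgroup.mem_subgroupOf.2 c.2) ⟨α, hα⟩)
  refine ⟨⟨_, hconj a⟩, ?_, rfl⟩
  let φ : E.autGroup T →* E.autGroup T :=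
    MonoidHom.mk' (fun c => ⟨_, hconj c⟩) fun c d => Subtype.ext (by simp [mul_assoc])
  suffices A0 E p ≤ (A0 E p).comap φ from this ha
  refine (Subgroup.closure_le _).2 fun c hc => Subgroup.subset_closure ?_
  obtain ⟨R, hR, hg⟩ := hc
  have hm : IsMap F T (autFun α) := isMap_of_mem_autGroup hTS hα
  refine ⟨img (autFun α) R, centric_map hE hR (hm.restrict hR.1),
    (gen_transport hE hS hF hEs hα hg).congr fun y _ => ?_⟩
  show _ = autFun (α * (c : MulAut T) * α⁻¹) y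
  rw [autFun_mul, autFun_mul]

/-- The value-one system of a weakly normal subsystem is normal. -/
theorem normal_of_val [Finite T] {D : FusionSystem T} (hDs : D.IsSaturated p)
    (hD : ∀ (P : Subgroup Ω) (f : Ω → Ω), IsMap D P f ↔ Val E p P f 1) : D.IsNormalIn F p := by
  have hTS : T ≤ S := subsystem_le hE.1
  have : Finite T := finite_of_le hTS
  have hTp : IsPGroup p T := hS.to_le hTS
  refine ⟨⟨hDs, hF, ⟨fun P => subset_of_isMap fun f hf => isMap_of_subset hE.1
    ((hD P f).1 hf).isMap, hE.2.1, fun P hPT φ hφ α hα => ?_, fun P hPT φ hφ => ?_⟩⟩,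
    fun α hα => ?_⟩
  · obtain ⟨a, ha, e, he, hfe⟩ := (hD P _).1 (IsMap.of_hom hφ)
    obtain ⟨b, hb, hbe⟩ := a0_transport hE hS hF hEs hα ((QuotientGroup.eq_one_iff a).1 ha)
    have hdom : (P.subgroupOf T).map (T.subtype.comp α.toMonoidHom) = img (autFun α) P :=
      map_subgroupOf_eq_img (fun x => (autFun_apply α x).symm) hPT
    have hm : IsMap F T (autFun α) := isMap_of_mem_autGroup hTS hα
    set g : Ω → Ω := fun y => autFun (b : MulAut T) (autFun α (e (autFun α⁻¹ y))) with hgdef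
    have hval : IsMap D ((P.subgroupOf T).map (T.subtype.comp α.toMonoidHom)) g := by
      rw [hdom, hD]
      exact ⟨b, (QuotientGroup.eq_one_iff b).2 hb, _, gen_transport hE hS hF hEs hα he,
        fun y _ => rfl⟩
    refine ⟨hval.hom, hval.hom_mem_self, fun x hφx hαx => ?_⟩
    rw [IsMap.hom_apply]
    show g ((α ⟨x, hPT x.2⟩ : T) : Ω) = _
    rw [← autFun_of_mem α (hPT x.2), ← autFun_of_mem α hφx, ← ext_apply φ x, hfe x x.2]
    simp only [hgdef, hbe, autFun_mul, autFun_inv_apply]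
  · obtain ⟨α, hα, f₀, hf₀, he⟩ := invariant_frattini hE hPT (IsMap.of_hom hφ)
    obtain ⟨a, e, hge, hae⟩ := frattini hTp hEs hf₀
    have haF : (a : MulAut T) ∈ F.autGroup T :=
      (mem_autGroup_iff hTS).2 (isMap_of_subset hE.1 (isMap_of_mem_autGroup le_rfl a.2))
    have hm : IsMap D P e := (hD P e).2 (val_gen hge)
    refine ⟨α * a, mul_mem hα haF, hm.hom, hm.hom_mem_self, fun x hx => ?_⟩
    rw [← autFun_of_mem _ hx, IsMap.hom_apply, ← ext_apply φ x, he x x.2, hae x x.2, autFun_mul]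
  · have hαD := (hD T _).1 (isMap_of_mem_autGroup le_rfl hα)
    have hαE : α ∈ E.autGroup T := (mem_autGroup_iff le_rfl).2 hαD.isMap
    have h1 := hαD.unique centric_top (val_aut le_rfl (⟨α, hαE⟩ : E.autGroup T))
    have hA : A0 E p ≤ (good (F := F) (T := T)).subgroupOf (E.autGroup T) :=
      (Subgroup.closure_le _).2 fun c hc => Subgroup.mem_subgroupOf.2 (seed_good hE hS hF hEs hc)
    obtain ⟨β, hβ, hβT, hβX⟩ :=
      Subgroup.mem_subgroupOf.1 (hA ((QuotientGroup.eq_one_iff _).1 h1.symm))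
    refine ⟨β, hβ, fun x => ?_, fun c hc => ⟨?_, ?_⟩⟩
    · rw [← autFun_apply β, ← autFun_apply α]; exact hβT x x.2
    · rw [← autFun_apply β]; exact hβX c hc
    · refine mul_mem (Subgroup.inv_mem _ hc.2) ?_
      rw [← autFun_apply β]
      have hm := isMap_of_mem_autGroup (cen_le hTS) hβ
      have h2 := hm.mem_centralizer_img le_sup_left (Subgroup.mem_sup_right hc) hc.2
      rwa [Normal.stronglyClosed_img hE.2.1 hm le_sup_left] at h2

end Cfsg.Agent.Fusion.PPrimeNormal
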