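/-
A saturated fusion system is constrained if and only if it has no component.
-/
import Mathlib
import Cfsg.Agent.Lib.Fusion.CentralLiftSaturated
import Cfsg.Agent.Lib.Fusion.NormalCentralizer
import Cfsg.Agent.Lib.Fusion.Constrained
import Cfsg.Agent.Lib.Fusion.PPrimeNormal
import Cfsg.Agent.Lib.Fusion.FactorExists

set_option autoImplicit false
set_option linter.all false

namespace Cfsg.Agent.Fusion.ComponentExists

open Cfsg Cfsg.FusionSystem Cfsg.Agent.Fusion.Basic Cfsg.Agent.Fusion.Saturation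
  Cfsg.Agent.Fusion.Normal Cfsg.Agent.Fusion.Factor Cfsg.Agent.Fusion.Subsystems
  Cfsg.Agent.Fusion.NormalCentralizer

variable {Ω : Type*} [Group Ω] {S T U : Subgroup Ω} {F : FusionSystem S} {E : FusionSystem T}
  {D : FusionSystem U} {p : ℕ}

/-! ### Subnormal subsystems -/

theorem subnormal_trans (hDE : D.IsSubnormalIn E p) (hEF : E.IsSubnormalIn F p) :
    D.IsSubnormalIn F p := by
  induction hEF with
  | refl => exact hDE
  | step _ hN ih => exact FusionSystem.IsSubnormalIn.step (ih hDE) hN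

theorem subnormal_facts (hE : E.IsSubnormalIn F p) :
    F.IsSaturated p → T ≤ S ∧ E.IsSaturated p := by
  induction hE with
  | refl => exact fun h => ⟨le_rfl, h⟩
  | step _ hN ih =>
    intro h
    exact ⟨(ih hN.1.1).1.trans (subsystem_le hN.1.2.2.1), (ih hN.1.1).2⟩

theorem normal_subnormal (hD : D.IsNormalIn E p) : D.IsSubnormalIn E p :=
  FusionSystem.IsSubnormalIn.step (FusionSystem.IsSubnormalIn.refl D p) hD

open Classical in
/-- The self-map of the ambient group given by a self-map of `T`. -/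
noncomputable def extFun (s : T → T) (y : Ω) : Ω :=
  if h : y ∈ T then (s ⟨y, h⟩ : Ω) else 1

theorem extFun_of_mem (s : T → T) {y : Ω} (h : y ∈ T) : extFun s y = s ⟨y, h⟩ := by
  unfold extFun
  rw [dif_pos h]

/-- The number of maps of a system, counted inside `T`. -/
noncomputable def size (E : FusionSystem T) : ℕ :=
  {q : Subgroup T × (T → T) | IsMap E (q.1.map T.subtype) (extFun q.2)}.ncard

theorem size_lt [Finite T] {D : FusionSystem T} (hD : D.IsSubsystemOf E)
    (hne : ¬ ∀ P : Subgroup Ω, D.Hom P = E.Hom P) : size D < size E := by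
  classical
  obtain ⟨P, hP⟩ := not_forall.1 hne
  obtain ⟨φ, hφE, hφD⟩ : ∃ φ ∈ E.Hom P, φ ∉ D.Hom P := by
    by_contra hcon
    push Not at hcon
    exact hP (Set.Subset.antisymm (hD P) hcon)
  have hPT : P ≤ T := (E.le_of_mem hφE).1
  have hval : ∀ x : T, (x : Ω) ∈ P → ext φ x ∈ T := fun x hx => (IsMap.of_hom hφE).mem hx
  let s : T → T := fun x => if h : (x : Ω) ∈ P then ⟨ext φ x, hval x h⟩ else 1
  have hmap : (P.subgroupOf T).map T.subtype = P := by
    rw [Subgroup.subgroupOf_map_subtype, inf_eq_left.2 hPT]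
  have hs : ∀ y ∈ P, extFun s y = ext φ y := by
    intro y hy
    rw [extFun_of_mem s (hPT hy)]
    simp [s, hy]
  refine Set.ncard_lt_ncard ⟨fun q hq => ?_, fun hle => ?_⟩
  · simp only [Set.mem_setOf_eq] at hq ⊢
    exact isMap_of_subset hD hq
  have h1 : ((P.subgroupOf T, s) : Subgroup T × (T → T)) ∈
      {q : Subgroup T × (T → T) | IsMap E (q.1.map T.subtype) (extFun q.2)} := by
    simp only [Set.mem_setOf_eq]
    rw [hmap]
    exact (IsMap.of_hom hφE).congr fun y hy => (hs y hy).symm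
  have h2 := hle h1
  simp only [Set.mem_setOf_eq] at h2
  rw [hmap] at h2
  exact hφD (hom_mem_iff.2 (h2.congr hs))

/-! ### The least subsystem of index prime to `p` -/

variable [Finite S] [Fact p.Prime]

theorem invariant_refl (F : FusionSystem S) : F.IsInvariantIn F := by
  refine ⟨fun P => subset_rfl, ⟨le_rfl, fun R _ φ hφ x => (F.le_of_mem hφ).2 x⟩,
    fun P hPT φ hφ α hα => ?_, fun P hP φ hφ => ?_⟩
  · have hm := (isMap_of_mem_autGroup le_rfl hα).restrict hPT
    obtain ⟨i, hi, hiimg, hiα, -⟩ := hm.exists_inv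
    have hdom : (P.subgroupOf S).map (S.subtype.comp α.toMonoidHom) = img (autFun α) P :=
      map_subgroupOf_eq_img (fun x => (autFun_apply α x).symm) hPT
    have hm' : IsMap F (img (autFun α) P) fun y => autFun α (ext φ (i y)) :=
      (isMap_of_mem_autGroup le_rfl hα).comp ((IsMap.of_hom hφ).comp hi
        fun y hy => hiimg.le (mem_img_self i hy))
        fun y hy => (IsMap.of_hom hφ).mem (hiimg.le (mem_img_self i hy))
    rw [hdom]
    refine ⟨hm'.hom, hm'.hom_mem_self, fun x hφx hαx => ?_⟩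
    rw [IsMap.hom_apply]
    show autFun α (ext φ (i ((α ⟨x, hPT x.2⟩ : S) : Ω))) = _
    rw [← autFun_of_mem α (hPT x.2), hiα _ x.2, ext_apply, autFun_of_mem α hφx]
  · refine ⟨1, Subgroup.one_mem _, φ, hφ, fun x hx => ?_⟩
    rfl

theorem weaklyNormal_refl (hF : F.IsSaturated p) : F.IsWeaklyNormalIn F p :=
  ⟨hF, hF, invariant_refl F⟩

theorem residual_isNormal (hS : IsPGroup p S) (hF : F.IsSaturated p) (hE : E.IsWeaklyNormalIn F p)
    {D : FusionSystem T} (hD : E.IsPPrimeResidual p D) : D.IsNormalIn F p := by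
  have hTS : T ≤ S := subsystem_le hE.2.2.1
  have : Finite T := finite_of_le hTS
  have hTp : IsPGroup p T := hS.to_le hTS
  obtain ⟨V, hV⟩ := PPrimeResidual.exists_sys (F := E) (p := p) hTp
  have h1 := PPrimeResidual.least hTp hE.1 hV hD.1 hD.2.1
  have h2 := hD.2.2 V (PPrimeResidual.saturated hTp hE.1 hV)
    (PPrimeResidual.hasPrimeToPIndex hTp hE.1 hV)
  refine PPrimeNormal.normal_of_val hE.2.2 hS hF hE.1 hD.1 fun P f => ?_
  exact ⟨fun h => (hV P f).1 (isMap_of_subset h2 h), fun h => isMap_of_subset h1 ((hV P f).2 h)⟩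

/-- A weakly normal subsystem has a normal subsystem over the same subgroup, whose constraint
implies its own. -/
theorem exists_normal_below (hS : IsPGroup p S) (hF : F.IsSaturated p)
    (hE : E.IsWeaklyNormalIn F p) :
    ∃ D : FusionSystem T, D.IsNormalIn F p ∧ D.IsSubsystemOf E ∧
      (D.IsConstrained p → E.IsConstrained p) := by
  have hTS : T ≤ S := subsystem_le hE.2.2.1
  have : Finite T := finite_of_le hTS
  have hTp : IsPGroup p T := hS.to_le hTS
  obtain ⟨D, hD⟩ := PPrimeResidual.exists_residual (F := E) hTp hE.1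
  refine ⟨D, residual_isNormal hS hF hE hD, hD.2.1.1, fun hc => ?_⟩
  exact constrained_of_invariant hTp hE.1
    (residual_isNormal hTp hE.1 (weaklyNormal_refl hE.1) hD).1.2.2 hc

/-! ### A minimal nonconstrained subnormal subsystem -/

/-- A system in which every nonconstrained normal subsystem is the whole. -/
def IsMin (F : FusionSystem S) (p : ℕ) : Prop :=
  ∀ (U : Subgroup Ω) (D : FusionSystem U), D.IsNormalIn F p → ¬ D.IsConstrained p →
    U = S ∧ ∀ P : Subgroup Ω, D.Hom P = F.Hom P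

theorem min_hyp (hS : IsPGroup p S) (hF : F.IsSaturated p) (hnc : ¬ F.IsConstrained p)
    (hmin : IsMin F p) : F.hyperfocalSubgroup p = S := by
  by_contra hne
  set H := F.hyperfocalSubgroup p with hH
  have hHS : H ≤ S := Focal.hyp_le
  have hfinH : Finite H := finite_of_le hHS
  obtain ⟨D, hDs, hDi⟩ := PPowerIndex.exists_pPowerIndex hS hF hHS le_rfl
  have hDn := PPowerNormal.isNormalIn_of_pPowerIndex hS hF hHS
    (fun a ha x hx => Focal.conj_mem_hyp ha hx) hDs hDi
  have hDc : D.IsConstrained p := by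
    by_contra hc
    exact hne (hmin H D hDn hc).1
  have hQ : F.IsNormal D.core := core_normal hS hF hDn.1.2.2
  have hQc := core_centric hDc
  set Q := D.core with hQdef
  have hfinQ : Finite Q := finite_of_le hQ.1
  obtain ⟨C, hC⟩ := KNormalizer.exists_centralizerSystem (F := F) hQ.1
  have hCs := KNormalizer.centralizerSystem_saturated hS hF (normal_fullyCentralized hQ) hC
  have hfinC : Finite (centralizerIn S Q) := finite_of_le centralizerIn_le
  refine hnc (constrained_of_centralizer hS hF hQ hC (constrained_of_pAut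
    (hS.to_le centralizerIn_le) hCs fun P hP α hα hc => ?_))
  refine autFun_ext fun x hx => ?_
  rw [autFun_one]
  have hPS : P ≤ S := hP.trans centralizerIn_le
  have hfinP : Finite P := finite_of_le hPS
  obtain ⟨-, -, g, hg, hge, hgfix⟩ :=
    (isMap_cent_iff hC).1 (isMap_of_mem_autGroup hP hα)
  have hαF : α ∈ F.autGroup P :=
    (mem_autGroup_iff hPS).2 ((hg.restrict le_sup_left).congr hge)
  set y := x⁻¹ * autFun α x with hy
  have hyP : y ∈ P := P.mul_mem (P.inv_mem hx) (autFun_mem _ hx)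
  have hyH : y ∈ H := Focal.mem_hyp hPS
    ⟨⟨α, hαF⟩, Subgroup.subset_closure
      (show (orderOf (⟨α, hαF⟩ : F.autGroup P)).Coprime p by rwa [Subgroup.orderOf_mk]), rfl⟩ hx
  have hyQ : y ∈ Q := centric_centralizerIn_le hQc ⟨hyH, (hP hyP).2⟩
  have hαy : autFun α y = y := by rw [← hge y hyP, hgfix y hyQ]
  have hfixpow : ∀ n : ℕ, autFun α (y ^ n) = y ^ n := by
    intro n
    induction n with
    | zero => rw [pow_zero, (autFun_isHom α).map_one]
    | succ m ih => rw [pow_succ, autFun_isHom α _ (P.pow_mem hyP m) _ hyP, hαy, ih]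
  have hpow : ∀ n : ℕ, autFun (α ^ n) x = x * y ^ n := by
    intro n
    induction n with
    | zero => rw [pow_zero, autFun_one, pow_zero, mul_one]; rfl
    | succ n ih =>
      have hyn : autFun α (y ^ n) = y ^ n := hfixpow n
      rw [pow_succ', autFun_mul, ih, autFun_isHom α _ hx _ (P.pow_mem hyP n), hyn, pow_succ',
        ← mul_assoc x, hy, mul_inv_cancel_left]
  have h1 : y ^ orderOf α = 1 := by
    have h2 := hpow (orderOf α)
    rw [pow_orderOf_eq_one, autFun_one] at h2
    exact mul_eq_left.1 h2.symm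
  obtain ⟨k, hk⟩ := hS ⟨y, hPS hyP⟩
  have h3 : y = 1 :=
    Elementwise.eq_one_of_coprime_pow ⟨k, congrArg Subtype.val hk⟩ hc h1
  exact (inv_mul_eq_one.1 h3).symm

theorem min_normal_central (hS : IsPGroup p S) (hF : F.IsSaturated p) (hnc : ¬ F.IsConstrained p)
    (hmin : IsMin F p) {Q : Subgroup Ω} (hQ : F.IsNormal Q) : F.IsCentral Q := by
  obtain ⟨C, hC⟩ := KNormalizer.exists_centralizerSystem (F := F) hQ.1
  have hCs := KNormalizer.centralizerSystem_saturated hS hF (normal_fullyCentralized hQ) hC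
  have hCw : C.IsWeaklyNormalIn F p := ⟨hCs, hF, centralizer_invariant hS hF hQ hC⟩
  obtain ⟨D, hDn, hDC, hDc⟩ := exists_normal_below hS hF hCw
  obtain ⟨-, hEq⟩ := hmin _ D hDn fun hc =>
    hnc (constrained_of_centralizer hS hF hQ hC (hDc hc))
  refine isCentral_iff.2 ⟨hQ.1, fun P f hf => ?_⟩
  have hmC : IsMap C P f := by
    obtain ⟨φ, hφ, he⟩ := hf
    exact ⟨φ, hDC P ((hEq P).ge hφ), he⟩
  exact ((isMap_cent_iff hC).1 hmC).2.2

theorem min_quasisimple (hS : IsPGroup p S) (hF : F.IsSaturated p) (hnc : ¬ F.IsConstrained p)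
    (hmin : IsMin F p) : F.Quasisimple p := by
  refine ⟨hF, min_hyp hS hF hnc hmin, fun F' hF' => ?_⟩
  set Z := F.center with hZdef
  have hZ : F.IsCentral Z := center_isCentral
  have hq : IsQuot F Z (QuotientGroup.mk' (Z.subgroupOf S)) F' :=
    isQuot_of_factorSystem (normal_stronglyClosed (central_normal hZ)) hF'
  set θ := QuotientGroup.mk' (Z.subgroupOf S) with hθ
  refine ⟨hq.saturated hS hF, fun htop => hnc ?_, fun U' D hD => ?_⟩
  · have hSZ : S ≤ Z := by
      intro x hx
      have h1 : θ ⟨x, hx⟩ ∈ (⊥ : Subgroup (S ⧸ Z.subgroupOf S)) := htop ▸ Subgroup.mem_top _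
      exact (hq.ker_iff ⟨x, hx⟩).1 (Subgroup.mem_bot.1 h1)
    have hSn : F.IsNormal S := by
      have e : Z = S := le_antisymm hZ.1 hSZ
      exact (congrArg F.IsNormal e).mp (central_normal hZ)
    exact ⟨hF, S, hSn, centric_of_normal hSn centralizerIn_le⟩
  have h : CentralLift.Setup p F Z θ F' D := ⟨hS, hF, hZ, hq, hD⟩
  have hfinU := h.finU
  obtain ⟨D₁, hD₁n, hD₁s, hD₁c⟩ := exists_normal_below hS hF (CentralLift.weaklyNormal h)
  by_cases hc : D₁.IsConstrained p
  · left
    have hsc := hD₁c hc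
    have hW : F.IsNormal (CentralLift.sys h).core :=
      core_normal hS hF (CentralLift.weaklyNormal h).2.2
    have hWZ : (CentralLift.sys h).core ≤ Z := le_center (min_normal_central hS hF hnc hmin hW)
    have hUW : preimageAlong θ U' ≤ (CentralLift.sys h).core := fun x hx =>
      centric_centralizerIn_le (core_centric hsc) ⟨hx, fun w hw =>
        CentralQuot.commute_of_central hZ (hWZ hw) (h.le hx)⟩
    rw [Subgroup.eq_bot_iff_forall]
    intro y hy
    obtain ⟨x, hxS, rfl⟩ := exists_along_eq hq.range_eq (h.closed'.1 hy)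
    rw [along_of_mem θ hxS]
    exact (hq.ker_iff ⟨x, hxS⟩).2 (hWZ (hUW (mem_preimageAlong.2 ⟨hxS, hy⟩)))
  · right
    obtain ⟨hUS, hEq⟩ := hmin _ D₁ hD₁n hc
    have htop : U' = ⊤ := by
      rw [eq_top_iff]
      intro y _
      obtain ⟨x, hxS, rfl⟩ := exists_along_eq hq.range_eq (Subgroup.mem_top y)
      exact (mem_preimageAlong.1 (hUS.ge hxS)).2
    refine ⟨htop, fun P' => Set.Subset.antisymm (h.invariant.1 P') fun φ hφ => ?_⟩
    obtain ⟨f, hf, hfe⟩ := hq.lift P' _ (IsMap.of_hom hφ)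
    have hfs : IsMap (CentralLift.sys h) (preimageAlong θ P') f := by
      obtain ⟨ψ, hψ, he⟩ := hf
      exact ⟨ψ, hD₁s _ ((hEq _).ge hψ), he⟩
    obtain ⟨g', hg', hge⟩ := CentralLift.sys_down h hfs
    rw [imageAlong_preimageAlong hq.range_eq le_top] at hg'
    refine hom_mem_iff.2 (hg'.congr fun y hy => ?_)
    obtain ⟨x, hxS, rfl⟩ := exists_along_eq hq.range_eq (Subgroup.mem_top y)
    have hx : x ∈ preimageAlong θ P' := mem_preimageAlong.2 ⟨hxS, hy⟩
    rw [hge x hx, hfe x hx]

/-- A saturated system that is not constrained has a component. -/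
theorem exists_component (hS : IsPGroup p S) (hF : F.IsSaturated p) (hnc : ¬ F.IsConstrained p) :
    ∃ (T : Subgroup Ω) (C : FusionSystem T), C.IsComponentIn F p := by
  suffices ∀ n m, ∀ (T : Subgroup Ω) (E : FusionSystem T), Nat.card T = n → size E = m →
      E.IsSubnormalIn F p → ¬ E.IsConstrained p →
      ∃ (T : Subgroup Ω) (C : FusionSystem T), C.IsComponentIn F p from
    this _ _ S F rfl rfl (FusionSystem.IsSubnormalIn.refl F p) hnc
  intro n
  induction n using Nat.strong_induction_on with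
  | _ n ihn =>
  intro m
  induction m using Nat.strong_induction_on with
  | _ m ihm =>
  intro T E hn hm hE hEnc
  obtain ⟨hTS, hEs⟩ := subnormal_facts hE hF
  have hfinT : Finite T := finite_of_le hTS
  by_cases hmin : IsMin E p
  · exact ⟨T, E, hE, min_quasisimple (hS.to_le hTS) hEs hEnc hmin⟩
  obtain ⟨U, D, hDn, hDnc, hne⟩ : ∃ (U : Subgroup Ω) (D : FusionSystem U), D.IsNormalIn E p ∧
      ¬ D.IsConstrained p ∧ ¬ (U = T ∧ ∀ P : Subgroup Ω, D.Hom P = E.Hom P) := by
    by_contra hcon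
    push Not at hcon
    exact hmin fun U D h1 h2 => hcon U D h1 h2
  have hUT : U ≤ T := subsystem_le hDn.1.2.2.1
  have hDF := subnormal_trans (normal_subnormal hDn) hE
  rcases eq_or_lt_of_le hUT with rfl | hlt
  · exact ihm (size D) (hm ▸ size_lt hDn.1.2.2.1 fun h => hne ⟨rfl, h⟩) U D hn rfl hDF hDnc
  · exact ihn (Nat.card U) (hn ▸ card_lt_card hlt) (size D) U D rfl rfl hDF hDnc

/-! ### Constrained systems are not quasisimple -/

theorem inner_isNormalIn {Q : Subgroup Ω} (hS : IsPGroup p S) (hF : F.IsSaturated p)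
    (hQ : F.IsNormal Q) : (innerFusionSystem Q).IsNormalIn F p := by
  have hfinQ : Finite Q := finite_of_le hQ.1
  have hsc := normal_stronglyClosed hQ
  refine ⟨⟨inner_saturated (hS.to_le hQ.1), hF, fun P => subset_of_isMap fun f hf => ?_, hsc,
    fun P hPQ φ hφ α hα => ?_, fun P hPQ φ hφ => ?_⟩, fun α hα => ?_⟩
  · obtain ⟨hP, g, hg, he⟩ := isMap_inner_iff.1 hf
    exact (isMap_cj (hP.trans hQ.1) (hQ.1 hg)).congr fun x hx => (he x hx).symm
  · obtain ⟨-, g, hg, he⟩ := hφ
    have hdom : (P.subgroupOf Q).map (Q.subtype.comp α.toMonoidHom) = img (autFun α) P :=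
      map_subgroupOf_eq_img (fun x => (autFun_apply α x).symm) hPQ
    rw [hdom]
    have hm : IsMap (innerFusionSystem Q) (img (autFun α) P) (cj (autFun α g)) :=
      isMap_cj (img_le fun x hx => autFun_mem α (hPQ hx)) (autFun_mem α hg)
    refine ⟨hm.hom, hm.hom_mem_self, fun x hφx hαx => ?_⟩
    rw [IsMap.hom_apply]
    show cj (autFun α g) ((α ⟨x, hPQ x.2⟩ : Q) : Ω) = _
    rw [← autFun_of_mem α (hPQ x.2), ← autFun_of_mem α hφx, he x,
      (autFun_isHom α).map_conj hg (hPQ x.2), cj_apply]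
  · obtain ⟨g, hg, hge, hgQ⟩ := (isNormal_iff.1 hQ).2 P _ (IsMap.of_hom hφ)
    obtain ⟨α, hα, hαe⟩ := (hg.restrict le_sup_right).exists_aut hgQ
    refine ⟨α, hα, (isMap_id (F := innerFusionSystem Q) hPQ).hom, IsMap.hom_mem_self _,
      fun x hx => ?_⟩
    rw [← autFun_of_mem α hx, IsMap.hom_apply, id, hαe _ (hPQ x.2), hge x x.2, ext_apply]
  · obtain ⟨g, hg, he⟩ : ∃ g ∈ Q, ∀ x ∈ Q, autFun α x = cj g x := by
      obtain ⟨-, g, hg, he⟩ := isMap_inner_iff.1 (isMap_of_mem_autGroup le_rfl hα)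
      exact ⟨g, hg, he⟩
    have hC : Q ⊔ centralizerIn S Q ≤ S := sup_le hQ.1 centralizerIn_le
    have hgC : g ∈ normalizerIn S (Q ⊔ centralizerIn S Q) :=
      ⟨hQ.1 hg, Subgroup.le_normalizer (Subgroup.mem_sup_left hg)⟩
    refine ⟨conjAut S _ ⟨g, hgC⟩, SaturationCriterion.conjAut_mem_autGroup hC _, fun x => ?_,
      fun c hc => ?_⟩
    · rw [← autFun_apply α, ← autFun_apply, Subgroup.coe_inclusion,
        conjAut_apply (K := S) ⟨g, hgC⟩ (Subgroup.mem_sup_left x.2), he x x.2]
    · rw [← autFun_apply, conjAut_apply (K := S) ⟨g, hgC⟩ c.2, cj_apply]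
      show (c : Ω)⁻¹ * (g * (c : Ω) * g⁻¹) ∈ Q ⊓ Subgroup.centralizer (Q : Set Ω)
      rw [hc.2 g hg, mul_inv_cancel_right, inv_mul_cancel]
      exact Subgroup.one_mem _

/-- A system of inner maps has trivial hyperfocal subgroup. -/
theorem hyp_eq_bot_of_inner {Q : Subgroup Ω} (hQ : IsPGroup p Q)
    (h : ∀ (P : Subgroup Ω) (f : Ω → Ω), IsMap F P f → ∃ g ∈ Q, ∀ x ∈ P, f x = cj g x) :
    F.hyperfocalSubgroup p = ⊥ := by
  rw [eq_bot_iff]
  refine Hyperfocal.hyp_le_of fun P hP α hc x hx => ?_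
  obtain ⟨g, hg, he⟩ := h P _ (isMap_of_mem_autGroup hP α.2)
  have hpow : ∀ n : ℕ, ∀ y ∈ P, autFun ((α : MulAut P) ^ n) y = cj (g ^ n) y := by
    intro n
    induction n with
    | zero => intro y _; rw [pow_zero, autFun_one, pow_zero, cj_one]
    | succ n ih =>
      intro y hy
      rw [pow_succ', autFun_mul, he _ (autFun_mem _ hy), ih y hy, pow_succ', cj_mul]
  obtain ⟨k, hk⟩ := hQ ⟨g, hg⟩
  have hgk : g ^ p ^ k = 1 := congrArg Subtype.val hk
  have h1 : (α : MulAut P) ^ p ^ k = 1 := autFun_ext fun y hy => by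
    rw [hpow _ y hy, hgk, cj_one, autFun_one]
  have h2 : (α : MulAut P) = 1 := by
    refine orderOf_eq_one_iff.1 (Nat.eq_one_of_dvd_coprimes (hc.pow_right k) ?_
      (orderOf_dvd_of_pow_eq_one h1))
    rw [Subgroup.orderOf_coe]
  rw [h2, autFun_one, id, inv_mul_cancel]
  exact Subgroup.one_mem _

theorem not_quasisimple_of_constrained (hS : IsPGroup p S) (hc : F.IsConstrained p) :
    ¬ F.Quasisimple p := by
  intro hqs
  obtain ⟨hF, hhyp, hsimple⟩ := hqs
  obtain ⟨-, Q, hQn, hQc⟩ := hc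
  have hZ : F.IsCentral F.center := center_isCentral
  have hZsc := normal_stronglyClosed (central_normal hZ)
  obtain ⟨F', hF'⟩ := FactorExists.exists_factorSystem (F := F) (S' := ⊤)
    (θ := QuotientGroup.mk' ((F.center).subgroupOf S)) hZsc
    (fun s => by rw [QuotientGroup.mk'_apply, QuotientGroup.eq_one_iff]; rfl)
    (MonoidHom.range_eq_top.2 (QuotientGroup.mk'_surjective _))
  have hsim := hsimple F' hF'
  have hq := isQuot_of_factorSystem hZsc hF'
  set θ := QuotientGroup.mk' ((F.center).subgroupOf S) with hθ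
  have hfin' : Finite (⊤ : Subgroup (S ⧸ (F.center).subgroupOf S)) := hq.finite
  have hZQ : F.center ≤ Q := fun z hz => centric_centralizerIn_le hQc
    ⟨hZ.1 hz, fun x hx => (CentralQuot.commute_of_central hZ hz (hQn.1 hx)).symm⟩
  set B := imageAlong θ Q with hB
  have hBn : F'.IsNormal B := by
    refine isNormal_iff.2 ⟨le_top, fun P' f' hf' => ?_⟩
    obtain ⟨f, hf, hfe⟩ := hq.lift P' f' hf'
    obtain ⟨g, hg, hge, hgQ⟩ := (isNormal_iff.1 hQn).2 _ f hf
    obtain ⟨g', hg', hg'e⟩ :=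
      CentralQuot.exists_down hq ((hq.le_preimage P').trans le_sup_left) hg
    have hle : P' ⊔ B ≤ imageAlong θ (preimageAlong θ P' ⊔ Q) := by
      refine sup_le ?_ (CentralQuot.image_mono le_sup_right)
      conv_lhs => rw [← imageAlong_preimageAlong hq.range_eq (P' := P') le_top]
      exact CentralQuot.image_mono le_sup_left
    refine ⟨g', hg'.restrict hle, fun y hy => ?_, ?_⟩
    · obtain ⟨x, hxS, rfl⟩ := exists_along_eq hq.range_eq (Subgroup.mem_top y)
      have hx : x ∈ preimageAlong θ P' := mem_preimageAlong.2 ⟨hxS, hy⟩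
      rw [hg'e x (Subgroup.mem_sup_left hx), hge x hx, hfe x hx]
    · have hgR := hg.restrict (le_sup_right : Q ≤ preimageAlong θ P' ⊔ Q)
      rw [hB, CentralQuot.image_img hgR (hg'.restrict (CentralQuot.image_mono le_sup_right))
        fun x hx => hg'e x (Subgroup.mem_sup_right hx), hgQ]
  rcases hsim.2.2 B _ (inner_isNormalIn (hq.isPGroup hS) (hq.saturated hS hF) hBn) with hbot | htop
  · refine hsim.2.1 ?_
    have hSZ : S ≤ F.center := by
      have hQZ : Q ≤ F.center := fun x hx => by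
        have h1 := CentralQuot.mem_image (θ := θ) hQn.1 hx
        rw [← hB, hbot, Subgroup.mem_bot, along_of_mem θ (hQn.1 hx)] at h1
        exact (hq.ker_iff ⟨x, hQn.1 hx⟩).1 h1
      intro s hs
      exact hQZ (centric_centralizerIn_le hQc
        ⟨hs, fun x hx => CentralQuot.commute_of_central hZ (hQZ hx) hs⟩)
    rw [eq_bot_iff]
    intro y _
    obtain ⟨x, hxS, rfl⟩ := exists_along_eq hq.range_eq (Subgroup.mem_top y)
    rw [Subgroup.mem_bot, along_of_mem θ hxS]
    exact (hq.ker_iff ⟨x, hxS⟩).2 (hSZ hxS)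
  · obtain ⟨-, hmaps⟩ := htop
    have h0 : F'.hyperfocalSubgroup p = ⊥ := by
      refine hyp_eq_bot_of_inner (Q := B) ((hq.isPGroup hS).to_le le_top) fun P f hf => ?_
      obtain ⟨φ, hφ, he⟩ := hf
      obtain ⟨-, g, hg, hge⟩ := (hmaps P).ge hφ
      exact ⟨g, hg, fun x hx => by rw [← he ⟨x, hx⟩]; exact hge ⟨x, hx⟩⟩
    rw [Hyperfocal.hyp_quot hS hF hq, hhyp] at h0
    refine hsim.2.1 ?_
    rw [eq_bot_iff, ← h0]
    intro y _
    obtain ⟨x, hxS, rfl⟩ := exists_along_eq hq.range_eq (Subgroup.mem_top y)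
    exact CentralQuot.mem_image le_rfl hxS

/-- Constrained systems have no component. -/
theorem no_component (hS : IsPGroup p S) (hc : F.IsConstrained p) :
    ¬ ∃ (T : Subgroup Ω) (C : FusionSystem T), C.IsComponentIn F p := by
  rintro ⟨T, C, hsub, hqs⟩
  obtain ⟨hTS, -⟩ := subnormal_facts hsub hc.1
  have : Finite T := finite_of_le hTS
  exact not_quasisimple_of_constrained (hS.to_le hTS)
    (Constrained.subnormal_constrained hsub inferInstance inferInstance hS hc) hqs

theorem constrained_iff (hS : IsPGroup p S) (hF : F.IsSaturated p) :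
    F.IsConstrained p ↔ ¬ ∃ (T : Subgroup Ω) (C : FusionSystem T), C.IsComponentIn F p :=
  ⟨no_component hS, fun h => by_contra fun hc => h (exists_component hS hF hc)⟩

end Cfsg.Agent.Fusion.ComponentExists
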