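/-
Direct products of fusion systems.
-/
import Mathlib
import Cfsg.Prelude.Def_FusionComponents
import Cfsg.Agent.Lib.Fusion.Saturation

set_option autoImplicit false

namespace Cfsg.Agent.Fusion.Product

open Cfsg Cfsg.FusionSystem Cfsg.Agent.Fusion.Basic Cfsg.Agent.Fusion.Saturation

variable {Ω₁ Ω₂ : Type*} [Group Ω₁] [Group Ω₂] {S₁ : Subgroup Ω₁} {S₂ : Subgroup Ω₂}
  {F₁ : FusionSystem S₁} {F₂ : FusionSystem S₂} {E : FusionSystem (S₁.prod S₂)}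
  {P : Subgroup (Ω₁ × Ω₂)}

/-- The first projection of a subgroup of a product. -/
abbrev fstOf (P : Subgroup (Ω₁ × Ω₂)) : Subgroup Ω₁ := P.map (MonoidHom.fst Ω₁ Ω₂)

/-- The second projection of a subgroup of a product. -/
abbrev sndOf (P : Subgroup (Ω₁ × Ω₂)) : Subgroup Ω₂ := P.map (MonoidHom.snd Ω₁ Ω₂)

theorem mem_fstOf {x : Ω₁ × Ω₂} (hx : x ∈ P) : x.1 ∈ fstOf P := ⟨x, hx, rfl⟩

theorem mem_sndOf {x : Ω₁ × Ω₂} (hx : x ∈ P) : x.2 ∈ sndOf P := ⟨x, hx, rfl⟩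

theorem fstOf_le (hP : P ≤ S₁.prod S₂) : fstOf P ≤ S₁ := by
  rintro _ ⟨x, hx, rfl⟩; exact (hP hx).1

theorem sndOf_le (hP : P ≤ S₁.prod S₂) : sndOf P ≤ S₂ := by
  rintro _ ⟨x, hx, rfl⟩; exact (hP hx).2

theorem fstOf_img {f : Ω₁ × Ω₂ → Ω₁ × Ω₂} {f₁ : Ω₁ → Ω₁}
    (h : ∀ x ∈ P, (f x).1 = f₁ x.1) : fstOf (img f P) = img f₁ (fstOf P) := by
  rw [fstOf, img, MonoidHom.map_closure, img, fstOf, Subgroup.coe_map, Set.image_image,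
    Set.image_image]
  exact congrArg _ (Set.image_congr h)

theorem sndOf_img {f : Ω₁ × Ω₂ → Ω₁ × Ω₂} {f₂ : Ω₂ → Ω₂}
    (h : ∀ x ∈ P, (f x).2 = f₂ x.2) : sndOf (img f P) = img f₂ (sndOf P) := by
  rw [sndOf, img, MonoidHom.map_closure, img, sndOf, Subgroup.coe_map, Set.image_image,
    Set.image_image]
  exact congrArg _ (Set.image_congr h)

/-- The maps of the product system, in terms of functions. -/
def PMap (F₁ : FusionSystem S₁) (F₂ : FusionSystem S₂) (P : Subgroup (Ω₁ × Ω₂))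
    (f : Ω₁ × Ω₂ → Ω₁ × Ω₂) : Prop :=
  P ≤ S₁.prod S₂ ∧ ∃ f₁ f₂, IsMap F₁ (fstOf P) f₁ ∧ IsMap F₂ (sndOf P) f₂ ∧
    ∀ x ∈ P, f x = (f₁ x.1, f₂ x.2)

theorem prodHom_iff {φ : P →* Ω₁ × Ω₂} :
    (P ≤ S₁.prod S₂ ∧ ∃ φ₁ ∈ F₁.Hom (P.map (MonoidHom.fst Ω₁ Ω₂)),
      ∃ φ₂ ∈ F₂.Hom (P.map (MonoidHom.snd Ω₁ Ω₂)),
        ∀ (x : P) (h₁ : (x : Ω₁ × Ω₂).1 ∈ P.map (MonoidHom.fst Ω₁ Ω₂))
          (h₂ : (x : Ω₁ × Ω₂).2 ∈ P.map (MonoidHom.snd Ω₁ Ω₂)),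
          φ x = (φ₁ ⟨(x : Ω₁ × Ω₂).1, h₁⟩, φ₂ ⟨(x : Ω₁ × Ω₂).2, h₂⟩)) ↔
      PMap F₁ F₂ P (ext φ) := by
  refine and_congr_right fun _ => ⟨?_, ?_⟩
  · rintro ⟨φ₁, h₁, φ₂, h₂, he⟩
    refine ⟨ext φ₁, ext φ₂, IsMap.of_hom h₁, IsMap.of_hom h₂, fun x hx => ?_⟩
    rw [ext_of_mem φ hx, ext_of_mem φ₁ (show x.1 ∈ fstOf P from ⟨x, hx, rfl⟩),
      ext_of_mem φ₂ (show x.2 ∈ sndOf P from ⟨x, hx, rfl⟩)]
    exact he ⟨x, hx⟩ _ _
  · rintro ⟨f₁, f₂, h₁, h₂, he⟩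
    refine ⟨h₁.hom, h₁.hom_mem_self, h₂.hom, h₂.hom_mem_self, fun x _ _ => ?_⟩
    rw [← ext_apply φ x, he x x.2]
    rfl

theorem isMap_prod_iff (hE : IsProductSystem F₁ F₂ E) {f : Ω₁ × Ω₂ → Ω₁ × Ω₂} :
    IsMap E P f ↔ PMap F₁ F₂ P f := by
  constructor
  · rintro ⟨φ, hφ, he⟩
    obtain ⟨hP, f₁, f₂, h₁, h₂, hh⟩ := prodHom_iff.1 ((hE P φ).1 hφ)
    exact ⟨hP, f₁, f₂, h₁, h₂, fun x hx => by rw [← hh x hx, ext_of_mem φ hx, he ⟨x, hx⟩]⟩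
  · rintro ⟨hP, f₁, f₂, h₁, h₂, hh⟩
    let φ : P →* Ω₁ × Ω₂ := MonoidHom.mk' (fun x => f x) fun x y => by
      show f ((x : Ω₁ × Ω₂) * y) = f x * f y
      rw [hh _ (P.mul_mem x.2 y.2), hh _ x.2, hh _ y.2, Prod.fst_mul, Prod.snd_mul,
        h₁.map_mul (mem_fstOf x.2) (mem_fstOf y.2), h₂.map_mul (mem_sndOf x.2) (mem_sndOf y.2)]
      rfl
    refine ⟨φ, (hE P φ).2 (prodHom_iff.2 ⟨hP, f₁, f₂, h₁, h₂, fun x hx => ?_⟩), fun _ => rfl⟩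
    rw [ext_of_mem φ hx]
    exact hh x hx

/-- The direct product of two fusion systems. -/
def prodSystem (F₁ : FusionSystem S₁) (F₂ : FusionSystem S₂) : FusionSystem (S₁.prod S₂) where
  Hom P := {φ | PMap F₁ F₂ P (ext φ)}
  le_of_mem := by
    rintro P φ ⟨hP, f₁, f₂, h₁, h₂, he⟩
    refine ⟨hP, fun x => ?_⟩
    rw [← ext_apply φ x, he x x.2]
    exact ⟨h₁.mem ⟨_, x.2, rfl⟩, h₂.mem ⟨_, x.2, rfl⟩⟩
  injective_of_mem := by
    rintro P φ ⟨hP, f₁, f₂, h₁, h₂, he⟩ x y hxy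
    rw [← ext_apply φ x, he x x.2, ← ext_apply φ y, he y y.2, Prod.mk.injEq] at hxy
    exact Subtype.ext (Prod.ext (h₁.inj ⟨_, x.2, rfl⟩ ⟨_, y.2, rfl⟩ hxy.1)
      (h₂.inj ⟨_, x.2, rfl⟩ ⟨_, y.2, rfl⟩ hxy.2))
  conj_mem := by
    intro P g hP hg
    refine ⟨hP, cj g.1, cj g.2, isMap_cj (fstOf_le hP) hg.1, isMap_cj (sndOf_le hP) hg.2,
      fun x hx => ?_⟩
    rw [ext_of_mem _ hx]
    rfl
  comp_mem := by
    rintro P Q φ ψ ⟨hP, f₁, f₂, h₁, h₂, he⟩ ⟨hQ, g₁, g₂, k₁, k₂, ke⟩ h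
    refine ⟨hP, fun y => g₁ (f₁ y), fun y => g₂ (f₂ y), k₁.comp h₁ ?_, k₂.comp h₂ ?_,
      fun x hx => ?_⟩
    · rintro _ ⟨x, hx, rfl⟩
      refine ⟨φ ⟨x, hx⟩, h _, ?_⟩
      rw [← ext_apply φ ⟨x, hx⟩, he x hx]
      rfl
    · rintro _ ⟨x, hx, rfl⟩
      refine ⟨φ ⟨x, hx⟩, h _, ?_⟩
      rw [← ext_apply φ ⟨x, hx⟩, he x hx]
      rfl
    · have h1 : φ ⟨x, hx⟩ = (f₁ x.1, f₂ x.2) := by rw [← ext_apply φ ⟨x, hx⟩, he x hx]
      rw [ext_of_mem _ hx]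
      show ψ ⟨φ ⟨x, hx⟩, h _⟩ = _
      rw [← ext_apply ψ]
      show ext ψ (φ ⟨x, hx⟩) = _
      rw [ke _ (h ⟨x, hx⟩), h1]
  inv_mem := by
    rintro P φ ⟨hP, f₁, f₂, h₁, h₂, he⟩
    obtain ⟨g₁, k₁, -, e₁, -⟩ := h₁.exists_inv
    obtain ⟨g₂, k₂, -, e₂, -⟩ := h₂.exists_inv
    have hr : φ.range = img (ext φ) P := range_eq_img φ
    have hr₁ : fstOf φ.range = img f₁ (fstOf P) := by
      rw [hr]; exact fstOf_img fun x hx => by rw [he x hx]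
    have hr₂ : sndOf φ.range = img f₂ (sndOf P) := by
      rw [hr]; exact sndOf_img fun x hx => by rw [he x hx]
    let ψ : φ.range →* Ω₁ × Ω₂ := MonoidHom.mk'
      (fun y => (g₁ (y : Ω₁ × Ω₂).1, g₂ (y : Ω₁ × Ω₂).2)) fun a b => by
        show (g₁ ((a : Ω₁ × Ω₂).1 * (b : Ω₁ × Ω₂).1), g₂ ((a : Ω₁ × Ω₂).2 * (b : Ω₁ × Ω₂).2)) = _
        rw [k₁.map_mul (hr₁.le (mem_fstOf a.2)) (hr₁.le (mem_fstOf b.2)),
          k₂.map_mul (hr₂.le (mem_sndOf a.2)) (hr₂.le (mem_sndOf b.2))]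
        rfl
    refine ⟨ψ, ⟨?_, g₁, g₂, ?_, ?_, fun y hy => ?_⟩, fun x => ?_⟩
    · rintro _ ⟨x, rfl⟩
      rw [← ext_apply φ x, he x x.2]
      exact ⟨h₁.mem ⟨_, x.2, rfl⟩, h₂.mem ⟨_, x.2, rfl⟩⟩
    · exact k₁.restrict hr₁.le
    · exact k₂.restrict hr₂.le
    · rw [ext_of_mem ψ hy]
      rfl
    · show (g₁ (φ x).1, g₂ (φ x).2) = _
      rw [← ext_apply φ x, he x x.2]
      exact Prod.ext (e₁ _ ⟨_, x.2, rfl⟩) (e₂ _ ⟨_, x.2, rfl⟩)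

theorem isProductSystem_prodSystem (F₁ : FusionSystem S₁) (F₂ : FusionSystem S₂) :
    IsProductSystem F₁ F₂ (prodSystem F₁ F₂) := fun _ _ => prodHom_iff.symm

/-! ### Saturation -/

variable [Finite S₁] [Finite S₂]

theorem finite_prod (S₁ : Subgroup Ω₁) (S₂ : Subgroup Ω₂) [Finite S₁] [Finite S₂] :
    Finite (S₁.prod S₂) :=
  Finite.of_equiv _ (Subgroup.prodEquiv S₁ S₂).toEquiv.symm

variable {p : ℕ} [Fact p.Prime]

omit [Finite S₁] [Finite S₂] [Fact p.Prime] in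
theorem isPGroup_prod (h₁ : IsPGroup p S₁) (h₂ : IsPGroup p S₂) : IsPGroup p (S₁.prod S₂) := by
  intro x
  obtain ⟨k, hk⟩ := h₁ ⟨_, x.2.1⟩
  obtain ⟨l, hl⟩ := h₂ ⟨_, x.2.2⟩
  refine ⟨k + l, Subtype.ext ?_⟩
  have hk' := congrArg Subtype.val hk
  have hl' := congrArg Subtype.val hl
  simp only [Subgroup.coe_pow, Subgroup.coe_one] at hk' hl'
  rw [Subgroup.coe_pow, Subgroup.coe_one]
  exact Prod.ext (by rw [Prod.pow_fst, pow_add, pow_mul, hk', one_pow, Prod.fst_one])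
    (by rw [Prod.pow_snd, pow_add, mul_comm, pow_mul, hl', one_pow, Prod.snd_one])

section proj

variable {Ω Ω' : Type*} [Group Ω] [Group Ω'] {S' : Subgroup Ω'} {F : FusionSystem S'}
  {A : Subgroup Ω'} {B : Subgroup Ω}

/-- The automorphisms of `A` induced through the projection `π` by a group of automorphisms. -/
def projGroup (π : Ω → Ω') (T : Subgroup (MulAut B)) : Subgroup (MulAut A) where
  carrier := {β | ∃ t ∈ T, ∀ x ∈ B, π (autFun t x) = autFun β (π x)}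
  one_mem' := ⟨1, T.one_mem, fun x _ => by rw [autFun_one, autFun_one]; rfl⟩
  mul_mem' := by
    rintro a b ⟨s, hs, hse⟩ ⟨t, ht, hte⟩
    exact ⟨s * t, T.mul_mem hs ht, fun x hx => by
      rw [autFun_mul, autFun_mul, hse _ (autFun_mem t hx), hte x hx]⟩
  inv_mem' := by
    rintro a ⟨s, hs, hse⟩
    refine ⟨s⁻¹, T.inv_mem hs, fun x hx => ?_⟩
    have h1 := hse _ (autFun_mem s⁻¹ hx)
    rw [autFun_apply_inv] at h1
    rw [h1, autFun_inv_apply]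

theorem isPGroup_projGroup {π : Ω → Ω'} (hπ : ∀ y ∈ A, ∃ x ∈ B, π x = y)
    {T : Subgroup (MulAut B)} (hT : IsPGroup p T) : IsPGroup p (projGroup (A := A) π T) := by
  rintro ⟨β, t, ht, hte⟩
  obtain ⟨k, hk⟩ := hT ⟨t, ht⟩
  have hk' : t ^ p ^ k = 1 := congrArg Subtype.val hk
  have hpow : ∀ n : ℕ, ∀ x ∈ B, π (autFun (t ^ n) x) = autFun (β ^ n) (π x) := by
    intro n
    induction n with
    | zero => intro x _; rw [pow_zero, pow_zero, autFun_one, autFun_one]; rfl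
    | succ n ih =>
      intro x hx
      rw [pow_succ, pow_succ, autFun_mul, autFun_mul, ih _ (autFun_mem t hx), hte x hx]
  refine ⟨k, Subtype.ext (autFun_ext fun y hy => ?_)⟩
  obtain ⟨x, hx, rfl⟩ := hπ y hy
  rw [Subgroup.coe_pow, Subgroup.coe_one, ← hpow _ x hx, hk', autFun_one, autFun_one]
  rfl

/-- A `p`-group of induced automorphisms is conjugate into `Aut_S(A)`. -/
theorem exists_conj_proj [Finite S'] (hA : F.IsFullyAutomized p A) {π : Ω → Ω'}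
    (hπ : ∀ y ∈ A, ∃ x ∈ B, π x = y) (hmem : ∀ x ∈ B, π x ∈ A)
    {T : Subgroup (MulAut B)} (hT : IsPGroup p T)
    (hTF : ∀ t ∈ T, ∃ β ∈ F.autGroup A, ∀ x ∈ B, π (autFun t x) = autFun β (π x)) :
    ∃ c ∈ F.autGroup A, ∀ t ∈ T, ∃ g ∈ normalizerIn S' A,
      ∀ x ∈ B, cj g (autFun c (π x)) = autFun c (π (autFun t x)) := by
  have hfin : Finite A := finite_of_le hA.1
  obtain ⟨R, hR⟩ := hA.2
  obtain ⟨c, hc⟩ := exists_conj_le_sylow R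
    ((isPGroup_projGroup hπ hT).comap_of_injective (F.autGroup A).subtype Subtype.val_injective)
  refine ⟨c, c.2, fun t ht => ?_⟩
  obtain ⟨β, hβ, hβe⟩ := hTF t ht
  have h1 := hc ⟨β, hβ⟩ ⟨t, ht, hβe⟩
  rw [hR] at h1
  obtain ⟨g, hg, hge⟩ := mem_autInducedBy_iff'.1 (Subgroup.mem_subgroupOf.1 h1)
  refine ⟨g, hg, fun x hx => ?_⟩
  have h2 := hge _ (autFun_mem (c : MulAut A) (hmem x hx))
  rw [Subgroup.coe_mul, Subgroup.coe_mul, Subgroup.coe_inv, autFun_mul, autFun_mul,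
    autFun_inv_apply] at h2
  rw [← h2, hβe x hx]

end proj

theorem saturated_prod (hS₁ : IsPGroup p S₁) (hS₂ : IsPGroup p S₂) (hF₁ : F₁.IsSaturated p)
    (hF₂ : F₂.IsSaturated p) (hE : IsProductSystem F₁ F₂ E) : E.IsSaturated p := by
  intro P₀ hP₀
  have hfin := finite_prod S₁ S₂
  obtain ⟨u₁, hu₁, hu₁'⟩ : ∃ u, IsMap F₁ (fstOf P₀) u ∧
      F₁.IsFullyNormalized (img u (fstOf P₀)) := by
    obtain ⟨Q, hQ, hQ'⟩ := exists_fullyNormalized (F := F₁) (fstOf_le hP₀)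
    obtain ⟨u, hu, rfl⟩ := isConj_iff_map.1 hQ
    exact ⟨u, hu, hQ'⟩
  obtain ⟨u₂, hu₂, hu₂'⟩ : ∃ u, IsMap F₂ (sndOf P₀) u ∧
      F₂.IsFullyNormalized (img u (sndOf P₀)) := by
    obtain ⟨Q, hQ, hQ'⟩ := exists_fullyNormalized (F := F₂) (sndOf_le hP₀)
    obtain ⟨u, hu, rfl⟩ := isConj_iff_map.1 hQ
    exact ⟨u, hu, hQ'⟩
  let u : Ω₁ × Ω₂ → Ω₁ × Ω₂ := fun x => (u₁ x.1, u₂ x.2)
  have hu : IsMap E P₀ u :=
    (isMap_prod_iff hE).2 ⟨hP₀, u₁, u₂, hu₁, hu₂, fun _ _ => rfl⟩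
  set P := img u P₀ with hPdef
  rw [← fstOf_img (P := P₀) (f := u) fun _ _ => rfl, ← hPdef] at hu₁'
  rw [← sndOf_img (P := P₀) (f := u) fun _ _ => rfl, ← hPdef] at hu₂'
  have hP : P ≤ S₁.prod S₂ := hu.img_le_S
  have hfinP : Finite P := finite_of_le hP
  have hA₁ := fullyNormalized_fullyAutomized hS₁ hF₁ hu₁'
  have hA₂ := fullyNormalized_fullyAutomized hS₂ hF₂ hu₂'
  let T : Sylow p (E.autGroup P) := Classical.arbitrary _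
  let T' : Subgroup (MulAut P) := (T : Subgroup (E.autGroup P)).map (E.autGroup P).subtype
  have hT' : IsPGroup p T' := T.2.map _
  have hTmap : ∀ t ∈ T', PMap F₁ F₂ P (autFun t) := by
    rintro _ ⟨t, -, rfl⟩
    exact (isMap_prod_iff hE).1 (isMap_of_mem_autGroup hP t.2)
  obtain ⟨c₁, hc₁, hg₁⟩ := exists_conj_proj (F := F₁) hA₁ (π := Prod.fst) (B := P)
    (fun y hy => let ⟨x, hx, e⟩ := hy; ⟨x, hx, e⟩) (fun x hx => ⟨x, hx, rfl⟩) hT' fun t ht => by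
      obtain ⟨-, f₁, f₂, h₁, h₂, he⟩ := hTmap t ht
      have him : img f₁ (fstOf P) = fstOf P :=
        (fstOf_img (f := autFun t) (f₁ := f₁) fun x hx => by rw [he x hx]).symm.trans (by rw [autFun_img])
      obtain ⟨β, hβ, hβe⟩ := h₁.exists_aut him
      exact ⟨β, hβ, fun x hx => by rw [hβe _ (mem_fstOf hx), he x hx]⟩
  obtain ⟨c₂, hc₂, hg₂⟩ := exists_conj_proj (F := F₂) hA₂ (π := Prod.snd) (B := P)
    (fun y hy => let ⟨x, hx, e⟩ := hy; ⟨x, hx, e⟩) (fun x hx => ⟨x, hx, rfl⟩) hT' fun t ht => by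
      obtain ⟨-, f₁, f₂, h₁, h₂, he⟩ := hTmap t ht
      have him : img f₂ (sndOf P) = sndOf P :=
        (sndOf_img (f := autFun t) (f₂ := f₂) fun x hx => by rw [he x hx]).symm.trans (by rw [autFun_img])
      obtain ⟨β, hβ, hβe⟩ := h₂.exists_aut him
      exact ⟨β, hβ, fun x hx => by rw [hβe _ (mem_sndOf hx), he x hx]⟩
  let a : Ω₁ × Ω₂ → Ω₁ × Ω₂ := fun x => (autFun c₁ x.1, autFun c₂ x.2)
  have ha : IsMap E P a := (isMap_prod_iff hE).2 ⟨hP, autFun c₁, autFun c₂,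
    isMap_of_mem_autGroup (fstOf_le hP) hc₁, isMap_of_mem_autGroup (sndOf_le hP) hc₂,
    fun _ _ => rfl⟩
  have hQ₁ : fstOf (img a P) = fstOf P := by
    rw [fstOf_img (f₁ := autFun c₁) fun _ _ => rfl, autFun_img]
  have hQ₂ : sndOf (img a P) = sndOf P := by
    rw [sndOf_img (f₂ := autFun c₂) fun _ _ => rfl, autFun_img]
  refine ⟨img a P, isConj_trans (isConj_iff_map.2 ⟨u, hu, rfl⟩) ha.isConj, ?_, ?_⟩
  · refine (fullyAutomized_iff (isPGroup_prod hS₁ hS₂)).2 ⟨ha.img_le_S, ?_⟩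
    obtain ⟨e, he⟩ := ha.exists_autEquiv
    have hle : (T : Subgroup (E.autGroup P)).map (e : _ →* _) ≤
        (autInducedBy (S₁.prod S₂) (img a P)).subgroupOf (E.autGroup (img a P)) := by
      rintro _ ⟨t, ht, rfl⟩
      obtain ⟨g₁, hg₁N, hg₁e⟩ := hg₁ _ ⟨t, ht, rfl⟩
      obtain ⟨g₂, hg₂N, hg₂e⟩ := hg₂ _ ⟨t, ht, rfl⟩
      have key : ∀ x ∈ P, cj (g₁, g₂) (a x) = a (autFun (t : MulAut P) x) :=
        fun x hx => Prod.ext (hg₁e x hx) (hg₂e x hx)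
      have hfinQ : Finite (img a P) := finite_of_le ha.img_le_S
      refine Subgroup.mem_subgroupOf.2 (mem_autInducedBy_iff'.2
        ⟨(g₁, g₂), ⟨⟨hg₁N.1, hg₂N.1⟩, mem_normalizer_of_forall fun y hy => ?_⟩, fun y hy => ?_⟩)
      · obtain ⟨x, hx, rfl⟩ := ha.mem_img.1 hy
        rw [← cj_apply, key x hx]
        exact mem_img_self a (autFun_mem _ hx)
      · obtain ⟨x, hx, rfl⟩ := ha.mem_img.1 hy
        rw [key x hx]
        exact he t x hx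
    intro hd
    refine T.not_dvd_index ?_
    rw [← Subgroup.index_map_equiv (T : Subgroup (E.autGroup P)) e]
    exact hd.trans (Subgroup.index_dvd_of_le hle)
  · refine isReceptive_iff.2 ⟨ha.img_le_S, fun R f hf himg => ?_⟩
    obtain ⟨hR, f₁, f₂, h₁, h₂, he⟩ := (isMap_prod_iff hE).1 hf
    have hi₁ : img f₁ (fstOf R) = fstOf P := by
      rw [← fstOf_img (f := f) (f₁ := f₁) fun x hx => by rw [he x hx], himg, hQ₁]
    have hi₂ : img f₂ (sndOf R) = sndOf P := by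
      rw [← sndOf_img (f := f) (f₂ := f₂) fun x hx => by rw [he x hx], himg, hQ₂]
    obtain ⟨k₁, hk₁, hk₁e⟩ :=
      (isReceptive_iff.1 (fullyNormalized_receptive hS₁ hF₁ hu₁')).2 _ f₁ h₁ hi₁
    obtain ⟨k₂, hk₂, hk₂e⟩ :=
      (isReceptive_iff.1 (fullyNormalized_receptive hS₂ hF₂ hu₂')).2 _ f₂ h₂ hi₂
    have hN₁ : fstOf (nSub (S₁.prod S₂) R f) ≤ nSub S₁ (fstOf R) f₁ := by
      rintro _ ⟨g, ⟨hgS, hgN, h, hh, hhe⟩, rfl⟩
      have hfinR : Finite (fstOf R) := finite_of_le (fstOf_le hR)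
      refine ⟨hgS.1, mem_normalizer_of_forall ?_, h.1, hh.1, ?_⟩
      · rintro _ ⟨x, hx, rfl⟩
        exact ⟨g * x * g⁻¹, (Subgroup.mem_normalizer_iff.1 hgN x).1 hx, rfl⟩
      · rintro _ ⟨x, hx, rfl⟩
        have h1 := congrArg Prod.fst (hhe x hx)
        rw [he _ ((Subgroup.mem_normalizer_iff.1 hgN x).1 hx), he x hx] at h1
        exact h1
    have hN₂ : sndOf (nSub (S₁.prod S₂) R f) ≤ nSub S₂ (sndOf R) f₂ := by
      rintro _ ⟨g, ⟨hgS, hgN, h, hh, hhe⟩, rfl⟩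
      have hfinR : Finite (sndOf R) := finite_of_le (sndOf_le hR)
      refine ⟨hgS.2, mem_normalizer_of_forall ?_, h.2, hh.2, ?_⟩
      · rintro _ ⟨x, hx, rfl⟩
        exact ⟨g * x * g⁻¹, (Subgroup.mem_normalizer_iff.1 hgN x).1 hx, rfl⟩
      · rintro _ ⟨x, hx, rfl⟩
        have h1 := congrArg Prod.snd (hhe x hx)
        rw [he _ ((Subgroup.mem_normalizer_iff.1 hgN x).1 hx), he x hx] at h1
        exact h1
    refine ⟨fun x => (k₁ x.1, k₂ x.2), (isMap_prod_iff hE).2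
      ⟨fun x hx => hx.1, k₁, k₂, hk₁.restrict hN₁, hk₂.restrict hN₂, fun _ _ => rfl⟩,
      fun x hx => ?_⟩
    show (k₁ x.1, k₂ x.2) = _
    rw [he x hx, hk₁e _ (mem_fstOf hx), hk₂e _ (mem_sndOf hx)]

end Cfsg.Agent.Fusion.Product
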