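/-
A saturated system is constrained if and only if its generalized Fitting subsystem is the inner
system of its largest normal subgroup.
-/
import Mathlib
import Cfsg.Agent.Lib.Fusion.ComponentExists
import Cfsg.Agent.Lib.Fusion.Product
import Cfsg.Prelude.Def_FusionFitting

set_option autoImplicit false
set_option linter.all false

namespace Cfsg.Agent.Fusion.FittingConstrained

open Cfsg Cfsg.FusionSystem Cfsg.Agent.Fusion.Basic Cfsg.Agent.Fusion.Saturation
  Cfsg.Agent.Fusion.Normal Cfsg.Agent.Fusion.Factor Cfsg.Agent.Fusion.Subsystems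
  Cfsg.Agent.Fusion.ComponentExists

variable {Ω : Type*} [Group Ω] {S : Subgroup Ω} [Finite S] {F : FusionSystem S} {p : ℕ}
  [Fact p.Prime]

/-- Without components the generalized Fitting subsystem is the inner system of the core. -/
theorem fitting_of_no_component (hS : IsPGroup p S) (hF : F.IsSaturated p)
    (hno : ¬ ∃ (T : Subgroup Ω) (C : FusionSystem T), C.IsComponentIn F p) :
    (innerFusionSystem F.core).IsGeneralizedFittingOf F p := by
  refine ⟨⊥, innerFusionSystem ⊥, ⟨inner_isNormalIn hS hF isNormal_bot,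
    fun U C hC => absurd ⟨U, C, hC⟩ hno, fun R D hD _ P => subset_of_isMap (fun f hf => ?_)⟩, ?_⟩
  · obtain ⟨hP, g, hg, he⟩ := isMap_inner_iff.1 hf
    have h1 : IsMap D P id := isMap_id (hP.trans bot_le)
    refine h1.congr fun x hx => ?_
    rw [he x hx, id, Subgroup.mem_bot.1 hg]
    simp [cj]
  set Q := F.core with hQ
  refine ⟨Product.prodSystem (innerFusionSystem Q) (innerFusionSystem ⊥),
    Product.isProductSystem_prodSystem _ _, ⊥,
    (MonoidHom.fst Ω Ω).comp (Q.prod (⊥ : Subgroup Ω)).subtype, bot_le, bot_inf_eq _, bot_inf_eq _,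
    fun x hx => rfl, fun y hy => (Subgroup.mem_bot.1 hy.2).symm, bot_le, fun s => ?_, ?_,
    fun P' φ' => ?_⟩
  · show (s : Ω × Ω).1 = 1 ↔ _
    rw [Subgroup.mem_bot, Prod.ext_iff]
    exact ⟨fun h => ⟨h, Subgroup.mem_bot.1 s.2.2⟩, fun h => h.1⟩
  · ext x
    refine ⟨?_, fun hx => ⟨⟨(x, 1), hx, Subgroup.one_mem _⟩, rfl⟩⟩
    rintro ⟨s, rfl⟩
    exact s.2.1
  constructor
  · rintro ⟨hP', g, hg, he⟩
    have hpre : preimageAlong ((MonoidHom.fst Ω Ω).comp (Q.prod (⊥ : Subgroup Ω)).subtype) P' ≤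
        Q.prod (⊥ : Subgroup Ω) := Subgroup.map_subtype_le _
    have hg' : ((g, 1) : Ω × Ω) ∈ Q.prod (⊥ : Subgroup Ω) := ⟨hg, Subgroup.one_mem _⟩
    refine ⟨hP', conjHom _ ((g, 1) : Ω × Ω), FusionSystem.conj_mem _ hpre hg', hpre,
      fun x => ((Product.prodSystem (innerFusionSystem Q) (innerFusionSystem ⊥)).le_of_mem
        (FusionSystem.conj_mem _ hpre hg')).2 x, fun x => ?_, fun x => ?_⟩
    · obtain ⟨s, hs, hse⟩ := x.2
      have h1 : (s : Ω × Ω).1 ∈ P' := hs
      show (x : Ω × Ω).1 ∈ P'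
      rw [← hse]
      exact h1
    · rw [he]
      rfl
  · rintro ⟨hP', φ, hφ, hind⟩
    obtain ⟨hpre, hv, hP'', hcomm⟩ := hind
    obtain ⟨-, f₁, f₂, hf₁, hf₂, hh⟩ := hφ
    obtain ⟨-, g, hg, he⟩ := isMap_inner_iff.1 hf₁
    refine ⟨hP', g, hg, fun y => ?_⟩
    have hy : ((y : Ω), (1 : Ω)) ∈
        preimageAlong ((MonoidHom.fst Ω Ω).comp (Q.prod (⊥ : Subgroup Ω)).subtype) P' :=
      ⟨⟨((y : Ω), 1), hP' y.2, Subgroup.one_mem _⟩, y.2, rfl⟩
    have h1 := hcomm ⟨_, hy⟩
    have h2 := hh _ hy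
    rw [ext_of_mem φ hy] at h2
    refine h1.trans ?_
    show (φ ⟨_, hy⟩).1 = _
    rw [h2]
    exact he _ (Product.mem_fstOf hy)

/-- If the generalized Fitting subsystem is inner there is no component. -/
theorem no_component_of_fitting (hS : IsPGroup p S) (hF : F.IsSaturated p)
    (h : (innerFusionSystem F.core).IsGeneralizedFittingOf F p) :
    ¬ ∃ (T : Subgroup Ω) (C : FusionSystem T), C.IsComponentIn F p := by
  rintro ⟨U, C, hsub, hqs⟩
  obtain ⟨T, E, ⟨hEn, hEc, -⟩, D₀, hD₀, Z, θ, hZ, -, -, -, hθ₂, -, hker, hrange, hmaps⟩ := h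
  have hQS : F.core ≤ S := (core_isNormal (F := F)).1
  have hTS : T ≤ S := subsystem_le hEn.1.2.2.1
  have hfinQ : Finite F.core := finite_of_le hQS
  have hfinT : Finite T := finite_of_le hTS
  have hfinP : Finite (F.core.prod T : Subgroup (Ω × Ω)) := Product.finite_prod _ _
  -- every map of the layer is conjugation by an element of the core
  have hinner : ∀ (P : Subgroup Ω) (f : Ω → Ω), IsMap E P f →
      ∃ g ∈ F.core, ∀ x ∈ P, f x = cj g x := by
    intro P f hf
    have hP := hf.le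
    let P₀ : Subgroup (Ω × Ω) := (⊥ : Subgroup Ω).prod P
    have hP₀ : P₀ ≤ F.core.prod T := fun x hx => ⟨(bot_le : ⊥ ≤ F.core) hx.1, hP hx.2⟩
    have hm : IsMap D₀ P₀ (fun x => (x.1, f x.2)) := by
      refine (Product.isMap_prod_iff hD₀).2 ⟨hP₀, id, f, isMap_id ?_, hf.restrict ?_,
        fun x _ => rfl⟩
      · rintro _ ⟨x, hx, rfl⟩
        exact (bot_le : ⊥ ≤ F.core) hx.1
      · rintro _ ⟨x, hx, rfl⟩
        exact hx.2
    obtain ⟨G, hG, hGe, hGZ⟩ := (isCentral_iff.1 (center_isCentral (F := D₀))).2 P₀ _ hm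
    have hdec : ∀ (s : ↥(F.core.prod T)) (hs : θ s ∈ P), ∃ z ∈ D₀.center,
        (s : Ω × Ω) = z * ((1, θ s) : Ω × Ω) ∧ θ s ∈ T := by
      intro s hs
      let t : ↥(F.core.prod T) := ⟨((1 : Ω), θ s), Subgroup.one_mem _, hP hs⟩
      have h1 : θ (s * t⁻¹) = 1 := by
        rw [map_mul, map_inv, hθ₂ (θ s) t.2, mul_inv_cancel]
      exact ⟨_, hZ ((hker _).1 h1), by rw [Subgroup.coe_mul, InvMemClass.coe_inv,
        inv_mul_cancel_right], hP hs⟩
    have hle : preimageAlong θ P ≤ P₀ ⊔ D₀.center := by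
      rintro _ ⟨s, hs, rfl⟩
      obtain ⟨z, hz, he, -⟩ := hdec s hs
      show (s : Ω × Ω) ∈ _
      rw [he]
      exact Subgroup.mul_mem _ (Subgroup.mem_sup_right hz)
        (Subgroup.mem_sup_left ⟨Subgroup.one_mem _, hs⟩)
    have hGm := hG.restrict hle
    have hin : hf.hom ∈ (innerFusionSystem F.core).Hom P := by
      refine (hmaps P hf.hom).2 ⟨?_, hGm.hom, hGm.hom_mem_self, preimageAlong_le P,
        fun x => hGm.mem x.2, fun x => ?_, fun x => ?_⟩
      · intro y hy
        have hy' : ((1 : Ω), y) ∈ F.core.prod T := ⟨Subgroup.one_mem _, hP hy⟩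
        rw [← hθ₂ y hy']
        exact hrange.le ⟨_, rfl⟩
      · obtain ⟨s, hs, hse⟩ := x.2
        have : (⟨(x : Ω × Ω), preimageAlong_le P x.2⟩ : ↥(F.core.prod T)) = s :=
          Subtype.ext hse.symm
        rw [this]
        exact hs
      · set s : ↥(F.core.prod T) := ⟨(x : Ω × Ω), preimageAlong_le P x.2⟩ with hsdef
        have hs : θ s ∈ P := by
          obtain ⟨s', hs', hse⟩ := x.2
          have : s = s' := Subtype.ext hse.symm
          rw [this]
          exact hs'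
        obtain ⟨z, hz, he, -⟩ := hdec s hs
        have hz' : z ∈ P₀ ⊔ D₀.center := Subgroup.mem_sup_right hz
        have ht : ((1 : Ω), θ s) ∈ P₀ := ⟨Subgroup.one_mem _, hs⟩
        have hGs : G (x : Ω × Ω) = z * ((1, f (θ s)) : Ω × Ω) := by
          have hxe : (x : Ω × Ω) = z * ((1, θ s) : Ω × Ω) := he
          rw [hxe, hG.map_mul hz' (Subgroup.mem_sup_left ht), hGZ z hz, hGe _ ht]
        show f (θ s) = θ ⟨G (x : Ω × Ω), _⟩
        have hzprod : z ∈ F.core.prod T := (center_isCentral (F := D₀)).1 hz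
        have htprod : ((1 : Ω), f (θ s)) ∈ F.core.prod T :=
          ⟨Subgroup.one_mem _, hf.mem hs⟩
        have hzker : θ ⟨z, hzprod⟩ = 1 := by
          have hy' : ((1 : Ω), θ s) ∈ F.core.prod T := ⟨Subgroup.one_mem _, hP hs⟩
          have h1 : s = ⟨z, hzprod⟩ * ⟨_, hy'⟩ := Subtype.ext he
          have h2 := congrArg θ h1
          rw [map_mul, hθ₂ (θ s) hy'] at h2
          exact mul_eq_right.1 h2.symm
        refine Eq.trans ?_ (congrArg θ (Subtype.ext (a1 := ⟨z, hzprod⟩ * ⟨_, htprod⟩) hGs.symm))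
        rw [map_mul, hzker, one_mul, hθ₂ (f (θ s)) htprod]
    obtain ⟨-, g, hg, he⟩ := hin
    exact ⟨g, hg, fun x hx => he ⟨x, hx⟩⟩
  obtain ⟨hUS, -⟩ := subnormal_facts hsub hF
  have hCE := hEc U C ⟨hsub, hqs⟩
  have hfinU : Finite U := finite_of_le hUS
  have hU : U = ⊥ := by
    rw [← hqs.2.1]
    exact hyp_eq_bot_of_inner (hS.to_le hQS)
      fun P f hf => hinner P f (isMap_of_subset hCE hf)
  have hsc := normal_stronglyClosed (central_normal (center_isCentral (F := C)))
  obtain ⟨C', hC'⟩ := FactorExists.exists_factorSystem (F := C) (S' := ⊤)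
    (θ := QuotientGroup.mk' ((C.center).subgroupOf U)) hsc
    (fun s => by rw [QuotientGroup.mk'_apply, QuotientGroup.eq_one_iff]; rfl)
    (MonoidHom.range_eq_top.2 (QuotientGroup.mk'_surjective _))
  refine (hqs.2.2 C' hC').2.1 ?_
  rw [eq_bot_iff]
  intro y _
  obtain ⟨s, rfl⟩ := QuotientGroup.mk'_surjective _ y
  have hs : s = 1 := Subtype.ext (Subgroup.mem_bot.1 (hU.le s.2))
  rw [hs, map_one]
  exact Subgroup.one_mem _

/-- Constrained means that the generalized Fitting subsystem is the inner system of the core. -/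
theorem constrained_iff_fitting (hS : IsPGroup p S) (hF : F.IsSaturated p) :
    F.IsConstrained p ↔ (innerFusionSystem F.core).IsGeneralizedFittingOf F p :=
  (ComponentExists.constrained_iff hS hF).trans
    ⟨fitting_of_no_component hS hF, no_component_of_fitting hS hF⟩

end Cfsg.Agent.Fusion.FittingConstrained
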