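/-
The largest normal subgroup of a saturated system centralizes every component and the layer.
-/
import Mathlib
import Cfsg.Agent.Lib.Fusion.ComponentExists
import Cfsg.Agent.Lib.Fusion.GoodExtension

set_option autoImplicit false
set_option linter.all false

namespace Cfsg.Agent.Fusion.LayerCentralizer

open Cfsg Cfsg.FusionSystem Cfsg.Agent.Fusion.Basic Cfsg.Agent.Fusion.Saturation
  Cfsg.Agent.Fusion.Normal Cfsg.Agent.Fusion.Subsystems Cfsg.Agent.Fusion.Factor
  Cfsg.Agent.Fusion.CentralizeNormal Cfsg.Agent.Fusion.NormalCentralizer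

variable {Ω : Type*} [Group Ω] {S T U P Q W : Subgroup Ω} {F : FusionSystem S}
  {D : FusionSystem T} {p : ℕ}

/-- The maps of `D` with an extension in `F` that stabilizes `Q` and moves its elements by elements
of `W`. -/
def movSystem (F : FusionSystem S) (D : FusionSystem T) (Q W : Subgroup Ω) (hT : T ≤ S)
    (hQS : Q ≤ S) (hQn : T ≤ Subgroup.normalizer (Q : Set Ω))
    (hW : ∀ a ∈ T, ∀ q ∈ Q, q⁻¹ * (a * q * a⁻¹) ∈ W) : FusionSystem T where
  Hom P := {φ | φ ∈ D.Hom P ∧ ∃ g, IsMap F (P ⊔ Q) g ∧ (∀ x : P, φ x = g x) ∧ img g Q = Q ∧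
    ∀ q ∈ Q, q⁻¹ * g q ∈ W}
  le_of_mem h := D.le_of_mem h.1
  injective_of_mem h := D.injective_of_mem h.1
  conj_mem := by
    intro P a hP ha
    exact ⟨D.conj_mem hP ha, cj a, isMap_cj (sup_le (hP.trans hT) hQS) (hT ha), fun _ => rfl,
      img_cj_eq_of_mem_normalizer (hQn ha), hW a ha⟩
  comp_mem := by
    rintro P R φ ψ ⟨hφ, g, hg, hge, hgQ, hgW⟩ ⟨hψ, k, hk, hke, hkQ, hkW⟩ h
    have hgmem : ∀ x ∈ P ⊔ Q, g x ∈ R ⊔ Q := by
      intro x hx
      have h1 : img g (P ⊔ Q) ≤ R ⊔ Q := by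
        rw [hg.img_sup, hgQ]
        refine sup_le_sup_right (img_le fun y hy => ?_) Q
        rw [← hge ⟨y, hy⟩]
        exact h _
      exact h1 (mem_img_self g hx)
    refine ⟨D.comp_mem hφ hψ h, fun x => k (g x), hk.comp hg hgmem, fun x => ?_, ?_,
      fun q hq => ?_⟩
    · show ψ _ = _
      rw [hke]
      show k (φ x) = k (g x)
      rw [hge]
    · rw [← (hg.restrict le_sup_right).img_img, hgQ, hkQ]
    · have h2 := W.mul_mem (hgW q hq) (hkW (g q) (hgQ.le (mem_img_self g hq)))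
      simpa [mul_assoc] using h2
  inv_mem := by
    rintro P φ ⟨hφ, g, hg, hge, hgQ, hgW⟩
    obtain ⟨k, hk, -, hkg, -⟩ := hg.exists_inv
    obtain ⟨ψ, hψ, hψe⟩ := D.inv_mem hφ
    have hP : φ.range = img g P := IsMap.range_eq hge
    refine ⟨ψ, ⟨hψ, k, ?_, fun y => ?_, ?_, fun q hq => ?_⟩, hψe⟩
    · rw [hg.img_sup, hgQ, ← hP] at hk
      exact hk
    · obtain ⟨x, hx⟩ := y.2
      have : y = ⟨φ x, ⟨x, rfl⟩⟩ := Subtype.ext hx.symm
      rw [this, hψe]
      show (x : Ω) = k (φ x)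
      rw [hge, hkg _ (Subgroup.mem_sup_left x.2)]
    · conv_lhs => rw [← hgQ]
      rw [(hg.restrict le_sup_right).img_img,
        img_congr (g := id) fun x hx => hkg x (Subgroup.mem_sup_right hx), img_id]
    · obtain ⟨q', hq', rfl⟩ := (hg.restrict le_sup_right).mem_img.1 (hgQ.ge hq)
      rw [hkg q' (Subgroup.mem_sup_right hq')]
      simpa using W.inv_mem (hgW q' hq')

/-- A subgroup containing a Sylow subgroup and the elements of order prime to `p` is everything. -/
theorem eq_top_of_parts {G : Type*} [Group G] [Finite G] [Fact p.Prime] (K : Subgroup G)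
    (R : Sylow p G) (hR : (R : Subgroup G) ≤ K) (h : ∀ g : G, (orderOf g).Coprime p → g ∈ K) :
    K = ⊤ := by
  let N : Subgroup G := Subgroup.normalClosure {g : G | (orderOf g).Coprime p}
  have hNK : N ≤ K := by
    refine (Subgroup.closure_le K).2 fun x hx => ?_
    obtain ⟨y, hy, hyx⟩ := Group.mem_conjugatesOfSet_iff.1 hx
    obtain ⟨c, rfl⟩ := isConj_iff.1 hyx
    refine h _ ?_
    have : orderOf (c * y * c⁻¹) = orderOf y :=
      orderOf_injective (MulAut.conj c).toMonoidHom (MulAut.conj c).injective y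
    rw [this]
    exact hy
  have hq : IsPGroup p (G ⧸ N) := by
    intro x
    obtain ⟨g, rfl⟩ := QuotientGroup.mk'_surjective N x
    obtain ⟨a, m, A, B, hm, he, -⟩ := Elementwise.exists_bezout (p := p) g
    refine ⟨a, ?_⟩
    rw [← map_pow, QuotientGroup.mk'_apply, QuotientGroup.eq_one_iff]
    refine Subgroup.subset_normalClosure ?_
    have hd : orderOf (g ^ p ^ a) ∣ m :=
      orderOf_dvd_of_pow_eq_one (by rw [← pow_mul, ← he, pow_orderOf_eq_one])
    exact Nat.Coprime.coprime_dvd_left hd ((Fact.out : p.Prime).coprime_iff_not_dvd.2 hm).symm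
  obtain ⟨e, he⟩ := IsPGroup.iff_card.1 hq
  have h1 : K.index ∣ p ^ e := by
    rw [← he, ← Subgroup.index_eq_card]
    exact Subgroup.index_dvd_of_le hNK
  have h2 : ¬ p ∣ K.index := fun hp => R.not_dvd_index (hp.trans (Subgroup.index_dvd_of_le hR))
  exact Subgroup.index_eq_one.1 (Nat.eq_one_of_dvd_coprimes
    (((Fact.out : p.Prime).coprime_iff_not_dvd.2 h2).symm.pow_right e) dvd_rfl h1)

variable [Finite S] [Fact p.Prime]

/-- A fully normalized subgroup has all its automorphisms in `movSystem` as soon as those of order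
prime to `p` are there. -/
theorem autGroup_le_mov (hS : IsPGroup p S) {hT : T ≤ S} {hQS : Q ≤ S}
    {hQn : T ≤ Subgroup.normalizer (Q : Set Ω)}
    {hW : ∀ a ∈ T, ∀ q ∈ Q, q⁻¹ * (a * q * a⁻¹) ∈ W} (hD : D.IsSaturated p)
    (hP : D.IsFullyNormalized P)
    (h : ∀ α ∈ D.autGroup P, (orderOf α).Coprime p →
      ∃ g, IsMap F (P ⊔ Q) g ∧ (∀ x ∈ P, g x = autFun α x) ∧ img g Q = Q ∧
        ∀ q ∈ Q, q⁻¹ * g q ∈ W) :
    D.autGroup P ≤ (movSystem F D Q W hT hQS hQn hW).autGroup P := by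
  have hfinT : Finite T := finite_of_le hT
  have hfinP : Finite P := finite_of_le hP.1
  obtain ⟨R, hR⟩ := (fullyNormalized_fullyAutomized (hS.to_le hT) hD hP).2
  set M := movSystem F D Q W hT hQS hQn hW
  have htop := eq_top_of_parts ((M.autGroup P).subgroupOf (D.autGroup P)) R ?_ ?_
  · intro α hα
    exact Subgroup.mem_subgroupOf.1
      (show (⟨α, hα⟩ : D.autGroup P) ∈ (M.autGroup P).subgroupOf (D.autGroup P) from
        htop.ge (Subgroup.mem_top _))
  · rw [hR]
    exact Subgroup.comap_mono (autInducedBy_le hP.1)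
  · intro a ha
    refine Subgroup.mem_subgroupOf.2 ((mem_autGroup_iff hP.1).2 ?_)
    have hm := isMap_of_mem_autGroup hP.1 a.2
    obtain ⟨g, hg, hge, hgQ, hgW⟩ := h a a.2 (by rwa [Subgroup.orderOf_coe])
    exact ⟨hm.hom, ⟨hm.hom_mem_self, g, hg, fun x => (hge x x.2).symm, hgQ, hgW⟩, fun _ => rfl⟩

/-- The intersection with a normal subgroup of the system is normal in a weakly normal
subsystem. -/
theorem normal_inf (hS : IsPGroup p S) (hQ : F.IsNormal Q) (hD : D.IsWeaklyNormalIn F p) :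
    D.IsNormal (Q ⊓ T) := by
  have hTS : T ≤ S := subsystem_le hD.2.2.1
  have hfinT : Finite T := finite_of_le hTS
  obtain ⟨n, C, h0, hn, hmono, hCn, hle, hcomm⟩ := normal_series hS hQ
  refine normal_of_series (hS.to_le hTS) hD.1 n (fun i => C i ⊓ T) ?_ ?_ ?_ ?_ ?_
  · show C 0 ⊓ T = ⊥
    rw [h0, bot_inf_eq]
  · show C n ⊓ T = Q ⊓ T
    rw [hn]
  · exact fun i _ => inf_le_inf_right T (hmono (Nat.le_succ i))
  · intro i _
    refine ⟨inf_le_right, fun R hR φ hφ x => ⟨?_, (D.le_of_mem hφ).2 x⟩⟩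
    rw [← ext_apply φ x]
    exact stronglyClosed_mem (normal_stronglyClosed (hCn i))
      (isMap_of_subset hD.2.2.1 (IsMap.of_hom hφ)) x.2 (hR x.2).1
  · intro i _ x hx y hy
    exact ⟨hcomm i x hx.1 y hy.1,
      T.mul_mem (T.mul_mem (T.mul_mem hx.2 hy.2) (T.inv_mem hx.2)) (T.inv_mem hy.2)⟩

/-- Every map of a normal subsystem over `T` extends to a normal subgroup `Q`, moving its elements
by elements of `T`. -/
theorem exists_ext_mov (hS : IsPGroup p S) (hF : F.IsSaturated p) (hQ : F.IsNormal Q)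
    (hD : D.IsNormalIn F p) {f : Ω → Ω} (hf : IsMap D P f) :
    ∃ g, IsMap F (P ⊔ Q) g ∧ (∀ x ∈ P, g x = f x) ∧ img g Q = Q ∧ ∀ q ∈ Q, q⁻¹ * g q ∈ T := by
  have hinv : D.IsInvariantIn F := hD.1.2.2
  have hT : T ≤ S := subsystem_le hinv.1
  have hTn : S ≤ Subgroup.normalizer (T : Set Ω) := le_normalizer_of_stronglyClosed hinv.2.1
  have hQnS : S ≤ Subgroup.normalizer (Q : Set Ω) :=
    le_normalizer_of_stronglyClosed (normal_stronglyClosed hQ)
  have hfinT : Finite T := finite_of_le hT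
  have hTp : IsPGroup p T := hS.to_le hT
  have hW : ∀ a ∈ T, ∀ q ∈ Q, q⁻¹ * (a * q * a⁻¹) ∈ T := by
    intro a ha q hq
    have h1 : q⁻¹ * a * q ∈ T := by
      simpa using (Subgroup.mem_normalizer_iff.1 (hTn (S.inv_mem (hQ.1 hq))) a).1 ha
    simpa [mul_assoc] using T.mul_mem h1 (T.inv_mem ha)
  suffices hall : D ≤ movSystem F D Q T hT hQ.1 (hT.trans hQnS) hW by
    obtain ⟨φ, hφ, he⟩ := hf
    obtain ⟨-, g, hg, hge, hgQ, hgW⟩ := hall P hφ
    exact ⟨g, hg, fun x hx => (hge ⟨x, hx⟩).symm.trans (he ⟨x, hx⟩), hgQ, hgW⟩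
  have hQT := normal_inf hS hQ hD.1
  refine Alperin.le_of_autGroup hTp hD.1.1 fun R hR hcase => autGroup_le_mov hS hD.1.1 hR ?_
  have hcases : R = T ∨ D.IsEssential p R := by
    rcases eq_or_lt_of_le hR.1 with h | h
    · exact Or.inl h
    · exact Or.inr ((Alperin.essential_iff hTp hD.1.1 h hR).2 (hcase.resolve_left h.ne))
  have hRc : D.IsCentric R := by
    rcases hcases with rfl | h
    · exact ⟨le_rfl, fun R' hR' => by
        rw [Alperin.eq_top_of_card le_rfl hR' rfl]; exact inf_le_left⟩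
    · exact h.1
  have hQ₀R : Q ⊓ T ≤ R := (normal_invariant hTp hQT hcases).1
  intro α hα hαc
  -- the good extension, extended to `Q`
  have hRT : R ≤ T := hR.1
  have hRS : R ≤ S := hRT.trans hT
  have hfinR : Finite R := finite_of_le hRS
  obtain ⟨e, he, heR, heC⟩ := GoodExtension.exists_good_ext hS hF hD hRc hR hα
  have hfinRC : Finite (R ⊔ centralizerIn S R : Subgroup Ω) := finite_of_le he.le
  obtain ⟨g, hg, hge, hgQ⟩ := (isNormal_iff.1 hQ).2 _ e he
  set V := R ⊔ centralizerIn S R ⊔ Q with hV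
  have hVS : V ≤ S := hg.le
  have hfinV : Finite V := finite_of_le hVS
  have hgV : img g V = V := by
    rw [hV, hg.img_sup, hgQ]
    congr 1
    rw [img_congr hge]
    exact eq_of_le_card (extends_mem he heR heC) he.card_img.ge
  obtain ⟨β₀, hβ₀, hβ₀e⟩ := hg.exists_aut hgV
  have hRV : R ≤ V := le_sup_left.trans le_sup_left
  have hCV : centralizerIn S R ≤ V := le_sup_right.trans le_sup_left
  have hQV : Q ≤ V := le_sup_right
  obtain ⟨k, hkc, hkR⟩ := GoodExtension.exists_pow_coprime (p := p) hRV (a := β₀) (d := α)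
    (fun x hx => by rw [hβ₀e x (hRV hx), hge x (Subgroup.mem_sup_left hx), heR x hx]) hαc
  set β := β₀ ^ k with hβ
  have hβm : IsMap F V (autFun β) := isMap_of_mem_autGroup hVS (Subgroup.pow_mem _ hβ₀ k)
  have hpowQ : ∀ n : ℕ, ∀ q ∈ Q, autFun (β₀ ^ n) q ∈ Q := by
    intro n
    induction n with
    | zero => intro q hq; rwa [pow_zero, autFun_one]
    | succ n ih =>
      intro q hq
      rw [pow_succ', autFun_mul, hβ₀e _ (hQV (ih q hq))]
      exact hgQ.le (mem_img_self g (ih q hq))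
  have hpowC : ∀ n : ℕ, ∀ c ∈ centralizerIn S R, c⁻¹ * autFun (β₀ ^ n) c ∈ ctr R := by
    intro n
    induction n with
    | zero => intro c _; rw [pow_zero, autFun_one, id, inv_mul_cancel]; exact Subgroup.one_mem _
    | succ n ih =>
      intro c hc
      have hz := ih c hc
      set z := c⁻¹ * autFun (β₀ ^ n) c with hzdef
      have hcz : autFun (β₀ ^ n) c = c * z := (mul_inv_cancel_left _ _).symm
      have hstep : autFun β₀ (c * z) = e c * autFun α z := by
        rw [autFun_isHom β₀ _ (hCV hc) _ (hRV hz.1), hβ₀e _ (hCV hc),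
          hge _ (Subgroup.mem_sup_right hc), hβ₀e _ (hRV hz.1),
          hge _ (Subgroup.mem_sup_left hz.1), heR _ hz.1]
      rw [pow_succ', autFun_mul, hcz, hstep, ← mul_assoc]
      exact Subgroup.mul_mem _ (heC c hc) (autFun_ctr hz)
  have hQR : ∀ q ∈ Q, q ∈ Subgroup.normalizer (R : Set Ω) := by
    intro q hq
    refine mem_normalizer_of_forall fun x hx => ?_
    have h1 : q * x * q⁻¹ * x⁻¹ ∈ Q ⊓ T := by
      refine ⟨?_, T.mul_mem ((Subgroup.mem_normalizer_iff.1 (hTn (hQ.1 hq)) x).1 (hRT hx))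
        (T.inv_mem (hRT hx))⟩
      have h2 := (Subgroup.mem_normalizer_iff.1 (hQnS (hRS hx)) q⁻¹).1 (Q.inv_mem hq)
      simpa [mul_assoc] using Q.mul_mem hq h2
    simpa using R.mul_mem (hQ₀R h1) hx
  have hmove : ∀ q ∈ Q, q⁻¹ * autFun β q ∈ R ⊔ centralizerIn S R := by
    intro q hq
    set q' := q⁻¹ * autFun β q with hq'
    have hq'Q : q' ∈ Q := Q.mul_mem (Q.inv_mem hq) (hpowQ k q hq)
    have hqS : q ∈ S := hQ.1 hq
    have hcT : q⁻¹ ∈ normalizerIn S T := ⟨S.inv_mem hqS, hTn (S.inv_mem hqS)⟩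
    have hτ : conjAut S T ⟨q⁻¹, hcT⟩ ∈ F.autGroup T :=
      SaturationCriterion.conjAut_mem_autGroup hT ⟨q⁻¹, hcT⟩
    have hαm := isMap_of_mem_autGroup hRT hα
    obtain ⟨γ, hγ, hγe⟩ := invariant_transport hinv hRT hαm hτ
    have hnorm : ∀ x ∈ R, q⁻¹ * x * q ∈ R := fun x hx => by
      simpa using (Subgroup.mem_normalizer_iff.1 (hQR q⁻¹ (Q.inv_mem hq)) x).1 hx
    have hRimg : img (autFun (conjAut S T ⟨q⁻¹, hcT⟩)) R = R := by
      rw [img_congr (g := cj q⁻¹) fun x hx => conjAut_apply (K := S) ⟨q⁻¹, hcT⟩ (hRT hx)]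
      exact img_cj_eq_of_mem_normalizer (hQR _ (Q.inv_mem hq))
    rw [hRimg] at hγ
    have hγ' : ∀ x ∈ R, γ (q⁻¹ * x * q) = q⁻¹ * autFun α x * q := fun x hx => by
      have h1 := hγe x hx
      rw [conjAut_apply (K := S) ⟨q⁻¹, hcT⟩ (hRT hx),
        conjAut_apply (K := S) ⟨q⁻¹, hcT⟩ (hRT (autFun_mem α hx))] at h1
      simpa [cj] using h1
    have hγR : img γ R = R := by
      refine eq_of_le_card (img_le fun y hy => ?_) hγ.card_img.ge
      have hy' : q * y * q⁻¹ ∈ R := (Subgroup.mem_normalizer_iff.1 (hQR q hq) y).1 hy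
      have h1 := hγ' _ hy'
      rw [show q⁻¹ * (q * y * q⁻¹) * q = y by group] at h1
      rw [h1]
      exact hnorm _ (autFun_mem α hy')
    obtain ⟨γ', hγ'D, hγ'e⟩ := hγ.exists_aut hγR
    -- `γ'⁻¹ α` is conjugation by a conjugate of `q'`
    let B : Subgroup (D.autGroup R) := (autInducedBy Q R).subgroupOf (D.autGroup R)
    have hBn : B.Normal := by
      refine ⟨fun b hb a => Subgroup.mem_subgroupOf.2 (mem_autInducedBy_iff'.2 ?_)⟩
      obtain ⟨w, hw, hwe⟩ := mem_autInducedBy_iff'.1 (Subgroup.mem_subgroupOf.1 hb)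
      obtain ⟨j, hj, hje, hjQ⟩ := (isNormal_iff.1 hQ).2 R _
        (isMap_of_subset hinv.1 (isMap_of_mem_autGroup hRT a.2))
      refine ⟨j w, ⟨hjQ.le (mem_img_self j hw.1),
        hQR _ (hjQ.le (mem_img_self j hw.1))⟩, fun y hy => ?_⟩
      rw [Subgroup.coe_mul, Subgroup.coe_mul, Subgroup.coe_inv, autFun_mul, autFun_mul,
        hwe _ (autFun_mem _ hy)]
      have hz := autFun_mem (a : MulAut R)⁻¹ hy
      have h2 : cj w (autFun (a : MulAut R)⁻¹ y) ∈ R :=
        (Subgroup.mem_normalizer_iff.1 hw.2 _).1 hz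
      rw [← hje _ h2, cj_apply, hj.map_conj (Subgroup.mem_sup_right hw.1)
        (Subgroup.mem_sup_left hz), hje _ hz, autFun_apply_inv]
      rfl
    have hBp : IsPGroup p B :=
      (isPGroup_autInducedBy (hS.to_le hQ.1)).comap_of_injective _ Subtype.val_injective
    have hmem : γ'⁻¹ * α ∈ D.autGroup R := Subgroup.mul_mem _ (Subgroup.inv_mem _ hγ'D) hα
    -- `α ∘ c_q = c_{β q} ∘ α` on `R`
    have hαq : ∀ x ∈ R, autFun α (q * x * q⁻¹) = autFun β q * autFun α x * (autFun β q)⁻¹ := by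
      intro x hx
      rw [← hkR _ ((Subgroup.mem_normalizer_iff.1 (hQR q hq) x).1 hx),
        hβm.map_conj (hQV hq) (hRV hx), hkR x hx]
    have hγ'x : ∀ x ∈ R, autFun γ' x = q' * autFun α x * q'⁻¹ := by
      intro x hx
      have hy' : q * x * q⁻¹ ∈ R := (Subgroup.mem_normalizer_iff.1 (hQR q hq) x).1 hx
      have h1 := hγ' _ hy'
      rw [show q⁻¹ * (q * x * q⁻¹) * q = x by group, hαq x hx] at h1
      rw [hγ'e x hx, h1, hq']
      group
    have hind : γ' * α⁻¹ ∈ autInducedBy Q R :=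
      mem_autInducedBy_iff'.2 ⟨q', ⟨hq'Q, hQR q' hq'Q⟩, fun x hx => by
        rw [autFun_mul, hγ'x _ (autFun_mem _ hx), autFun_apply_inv]
        rfl⟩
    have hb : (⟨γ' * α⁻¹, Subgroup.mul_mem _ hγ'D (Subgroup.inv_mem _ hα)⟩ : D.autGroup R) ∈
        pCore p (D.autGroup R) :=
      (le_sSup (show B ∈ {N : Subgroup (D.autGroup R) | N.Normal ∧ IsPGroup p N} from ⟨hBn, hBp⟩) :
        B ≤ pCore p (D.autGroup R)) (Subgroup.mem_subgroupOf.2 hind)
    have hInn : γ' * α⁻¹ ∈ Inn R := by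
      rcases hcases with rfl | hess
      · obtain ⟨R', hR'⟩ := (fullyNormalized_fullyAutomized hTp hD.1.1 hR).2
        have hle : B ≤ R' := le_sup_left.trans
          (R'.3 (hBp.to_sup_of_normal_left R'.2) le_sup_right).le
        have h1 := hle (Subgroup.mem_subgroupOf.2 hind :
          (⟨γ' * α⁻¹, Subgroup.mul_mem _ hγ'D (Subgroup.inv_mem _ hα)⟩ : D.autGroup R) ∈ B)
        rw [hR'] at h1
        obtain ⟨t, ht, hte⟩ := mem_autInducedBy_iff'.1 (Subgroup.mem_subgroupOf.1 h1)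
        exact mem_inn_iff.2 ⟨t, ht.1, hte⟩
      · rw [← (Alperin.essential_radical hess hTp).2]
        exact ⟨_, hb, rfl⟩
    obtain ⟨t, ht, hte⟩ := mem_inn_iff.1 hInn
    have hc : t⁻¹ * q' ∈ centralizerIn S R := by
      refine ⟨S.mul_mem (S.inv_mem (hRS ht)) (hQ.1 hq'Q), fun x hx => ?_⟩
      have h1 := hte x hx
      rw [autFun_mul, hγ'x _ (autFun_mem _ hx), autFun_apply_inv, cj_apply] at h1
      calc x * (t⁻¹ * q') = t⁻¹ * (t * x * t⁻¹) * q' := by group
        _ = t⁻¹ * (q' * x * q'⁻¹) * q' := by rw [h1]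
        _ = t⁻¹ * q' * x := by group
    have h2 := Subgroup.mul_mem (R ⊔ centralizerIn S R) (Subgroup.mem_sup_left ht)
      (Subgroup.mem_sup_right hc)
    rwa [mul_inv_cancel_left] at h2
  -- a further power argument moves `Q` into `R`
  have hstab : ∀ w ∈ R ⊔ centralizerIn S R, w⁻¹ * autFun β w ∈ R := by
    intro w hw
    have hw' : w ∈ ((R ⊔ centralizerIn S R : Subgroup Ω) : Set Ω) := hw
    rw [Subgroup.coe_mul_of_right_le_normalizer_left _ _
      (centralizerIn_le_normalizerIn.trans inf_le_right)] at hw'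
    obtain ⟨r, hr, c, hc, rfl⟩ := hw'
    show (r * c)⁻¹ * autFun β (r * c) ∈ R
    rw [hβm.map_mul (hRV hr) (hCV hc), hkR r hr]
    have hz := hpowC k c hc
    have h1 : c⁻¹ * (r⁻¹ * autFun α r) * c ∈ R := by
      have h := R.mul_mem (R.inv_mem hr) (autFun_mem α hr)
      have h3 : c⁻¹ * (r⁻¹ * autFun α r) * c = r⁻¹ * autFun α r := by
        rw [mul_assoc, hc.2 _ h, inv_mul_cancel_left]
      rw [h3]
      exact h
    have h2 := R.mul_mem h1 hz.1
    rw [← hβ] at h2
    simpa [mul_assoc] using h2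
  refine ⟨autFun β, hβm.restrict (sup_le hRV hQV), fun x hx => hkR x hx, ?_, fun q hq => ?_⟩
  · have : Finite Q := finite_of_le hQ.1
    exact eq_of_le_card (img_le fun q hq => hpowQ k q hq) (hβm.restrict hQV).card_img.ge
  set y := q⁻¹ * autFun β q with hy
  have hyw : y ∈ R ⊔ centralizerIn S R := hmove q hq
  have hyN : y ∈ Subgroup.normalizer (R : Set Ω) :=
    (sup_le Subgroup.le_normalizer (centralizerIn_le_normalizerIn.trans inf_le_right) :
      R ⊔ centralizerIn S R ≤ Subgroup.normalizer (R : Set Ω)) hyw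
  have hpow : ∀ n : ℕ, ∃ r ∈ R, autFun (β ^ n) q = q * y ^ n * r := by
    intro n
    induction n with
    | zero => exact ⟨1, R.one_mem, by rw [pow_zero, autFun_one, pow_zero, mul_one, mul_one]; rfl⟩
    | succ n ih =>
      obtain ⟨r, hr, hre⟩ := ih
      have hyn : y ^ n ∈ R ⊔ centralizerIn S R := Subgroup.pow_mem _ hyw n
      have hsub : R ⊔ centralizerIn S R ≤ V := sup_le hRV hCV
      have h1 := hstab _ hyn
      refine ⟨(y ^ n)⁻¹ * autFun β (y ^ n) * autFun α r, R.mul_mem h1 (autFun_mem α hr), ?_⟩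
      rw [pow_succ', autFun_mul, hre, hβm.map_mul (V.mul_mem (hQV hq) (hsub hyn)) (hRV hr),
        hβm.map_mul (hQV hq) (hsub hyn), hkR r hr, pow_succ', ← mul_assoc q y, hy]
      group
  obtain ⟨r, hr, hre⟩ := hpow (orderOf β)
  rw [pow_orderOf_eq_one, autFun_one, id] at hre
  have hyr : y ^ orderOf β = r⁻¹ := by
    rw [mul_assoc] at hre
    exact eq_inv_of_mul_eq_one_left (mul_eq_left.1 hre.symm)
  obtain ⟨l, hl⟩ := hS ⟨y, hVS ((sup_le hRV hCV : R ⊔ centralizerIn S R ≤ V) hyw)⟩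
  exact hRT (GoodExtension.mem_of_pow_mem (hkc.pow_right l) (hyr ▸ R.inv_mem hr)
    (by rw [show y ^ p ^ l = 1 from congrArg Subtype.val hl]; exact R.one_mem))

/-- The centralizer system of a normal subgroup is normal. -/
theorem centralizer_isNormalIn (hS : IsPGroup p S) (hF : F.IsSaturated p) (hQ : F.IsNormal Q)
    {C : FusionSystem (centralizerIn S Q)} (hC : F.IsCentralizerSystem Q C) :
    C.IsNormalIn F p := by
  refine ⟨⟨KNormalizer.centralizerSystem_saturated hS hF (normal_fullyCentralized hQ) hC, hF,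
    centralizer_invariant hS hF hQ hC⟩, fun α hα => ?_⟩
  have hTS : (centralizerIn S Q) ≤ S := centralizerIn_le
  have hsc : F.StronglyClosed (centralizerIn S Q) := centralizer_stronglyClosed hQ
  have hQsc := normal_stronglyClosed hQ
  have hfinT : Finite (centralizerIn S Q) := finite_of_le hTS
  obtain ⟨-, -, g, hg, hge, hgfix⟩ := (isMap_cent_iff hC).1 (isMap_of_mem_autGroup le_rfl hα)
  have hTQ : (centralizerIn S Q) ⊔ Q ≤ S := sup_le hTS hQ.1
  have hfc : F.IsFullyCentralized ((centralizerIn S Q) ⊔ Q) := by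
    refine ⟨hTQ, fun R hR => le_of_eq ?_⟩
    obtain ⟨f, hf, rfl⟩ := isConj_iff_map.1 hR
    rw [hf.img_sup, stronglyClosed_img hsc hf le_sup_left, stronglyClosed_img hQsc hf le_sup_right]
  have himg : img g ((centralizerIn S Q) ⊔ Q) = (centralizerIn S Q) ⊔ Q := by
    rw [hg.img_sup, img_congr hge, autFun_img, img_congr (g := id) hgfix, img_id]
  obtain ⟨θ, hθ, hθe⟩ := exists_extension hS hF hg (by rw [himg]; exact hfc)
  have hyT : ∀ y ∈ S, ∀ c ∈ centralizerIn S Q ⊔ Q, y * c * y⁻¹ ∈ centralizerIn S Q ⊔ Q := by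
    intro y hy c hc
    have h1 : centralizerIn S Q ⊔ Q ≤
        (centralizerIn S Q ⊔ Q).comap (MulAut.conj y).toMonoidHom := sup_le
      (fun d hd => Subgroup.mem_sup_left
        ((Subgroup.mem_normalizer_iff.1 (le_normalizer_of_stronglyClosed hsc hy) d).1 hd))
      (fun d hd => Subgroup.mem_sup_right
        ((Subgroup.mem_normalizer_iff.1 (le_normalizer_of_stronglyClosed hQsc hy) d).1 hd))
    exact h1 hc
  have hfinTQ : Finite (centralizerIn S Q ⊔ Q : Subgroup Ω) := finite_of_le hTQ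
  have hle : (centralizerIn S Q) ⊔ centralizerIn S (centralizerIn S Q) ≤
      nSub S ((centralizerIn S Q) ⊔ Q) g := by
    refine sup_le (le_sup_left.trans (le_nSub hg)) fun y hy => ?_
    refine ⟨hy.1, mem_normalizer_of_forall (hyT y hy.1), y, hy.1, fun x hx => ?_⟩
    refine GoodExtension.eqOn_sup (f := fun z => g (y * z * y⁻¹))
        (g := fun z => y * g z * y⁻¹) ?_ ?_ (fun z hz => ?_) (fun z hz => ?_) hx
    · intro a ha b hb
      have hn := hyT y hy.1
      show g (y * (a * b) * y⁻¹) = g (y * a * y⁻¹) * g (y * b * y⁻¹)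
      rw [← hg.map_mul (hn a ha) (hn b hb)]
      group
    · intro a ha b hb
      show y * g (a * b) * y⁻¹ = y * g a * y⁻¹ * (y * g b * y⁻¹)
      rw [hg.map_mul ha hb]
      group
    · show g (y * z * y⁻¹) = y * g z * y⁻¹
      rw [show y * z * y⁻¹ = z by rw [← hy.2 z hz, mul_inv_cancel_right], hge z hz,
        ← hy.2 _ (autFun_mem α hz), mul_inv_cancel_right]
    · show g (y * z * y⁻¹) = y * g z * y⁻¹
      rw [hgfix z hz, hgfix _
        ((Subgroup.mem_normalizer_iff.1 (le_normalizer_of_stronglyClosed hQsc hy.1) z).1 hz)]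
  have hθ' := hθ.restrict hle
  have hθT : ∀ x ∈ (centralizerIn S Q), θ x = autFun α x := fun x hx => by
    rw [hθe x (Subgroup.mem_sup_left hx), hge x hx]
  have hθimgT : img θ (centralizerIn S Q) = (centralizerIn S Q) := by rw [img_congr hθT, autFun_img]
  have hθC : ∀ c ∈ centralizerIn S (centralizerIn S Q), θ c ∈ centralizerIn S (centralizerIn S Q) := by
    intro c hc
    refine ⟨hθ'.mem (Subgroup.mem_sup_right hc), ?_⟩
    have h := hθ'.mem_centralizer_img le_sup_left (Subgroup.mem_sup_right hc) hc.2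
    rwa [hθimgT] at h
  have hfin : Finite ((centralizerIn S Q) ⊔ centralizerIn S (centralizerIn S Q) : Subgroup Ω) :=
    finite_of_le (sup_le hTS centralizerIn_le)
  have hθimg : img θ ((centralizerIn S Q) ⊔ centralizerIn S (centralizerIn S Q)) = (centralizerIn S Q) ⊔ centralizerIn S (centralizerIn S Q) := by
    refine eq_of_le_card ?_ hθ'.card_img.ge
    rw [hθ'.img_sup, hθimgT]
    exact sup_le_sup_left (img_le hθC) (centralizerIn S Q)
  obtain ⟨β, hβ, hβe⟩ := hθ'.exists_aut hθimg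
  refine ⟨β, hβ, fun x => ?_, fun c hc => ?_⟩
  · rw [← autFun_apply β, ← autFun_apply α, Subgroup.coe_inclusion,
      hβe _ (Subgroup.mem_sup_left x.2), hθT x x.2]
  · rw [← autFun_apply β, hβe _ c.2]
    have hcQ : ∀ q ∈ Q, (c : Ω) * q * (c : Ω)⁻¹ ∈ Q := fun q hq =>
      (Subgroup.mem_normalizer_iff.1 (le_normalizer_of_stronglyClosed hQsc hc.1) q).1 hq
    have h1 : (c : Ω)⁻¹ * θ c ∈ centralizerIn S Q := by
      refine ⟨S.mul_mem (S.inv_mem hc.1) (hθC _ hc).1, fun q hq => ?_⟩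
      have hcN : (c : Ω) ∈ nSub S ((centralizerIn S Q) ⊔ Q) g := hle c.2
      have hqN : q ∈ nSub S ((centralizerIn S Q) ⊔ Q) g := le_nSub hg (Subgroup.mem_sup_right hq)
      have h2 := hθ.map_conj hcN hqN
      rw [hθe _ (Subgroup.mem_sup_right (hcQ q hq)), hgfix _ (hcQ q hq),
        hθe q (Subgroup.mem_sup_right hq), hgfix q hq] at h2
      calc q * ((c : Ω)⁻¹ * θ c) = (c : Ω)⁻¹ * ((c : Ω) * q * (c : Ω)⁻¹) * θ c := by group
        _ = (c : Ω)⁻¹ * (θ c * q * (θ c)⁻¹) * θ c := by rw [h2]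
        _ = (c : Ω)⁻¹ * θ c * q := by group
    exact ⟨h1, fun x hx => (Commute.mul_right (Commute.inv_right (hc.2 x hx))
      ((hθC _ hc).2 x hx)).eq⟩

/-- A quasisimple system has only central normal subgroups. -/
theorem normal_le_center (hS : IsPGroup p S) (hqs : F.Quasisimple p) (hQn : F.IsNormal Q) :
    Q ≤ F.center := by
  obtain ⟨hF, hhyp, hsimple⟩ := hqs
  have hZ : F.IsCentral F.center := center_isCentral
  have hQn' := isNormal_sup hQn (central_normal hZ)
  refine le_sup_left.trans (?_ : Q ⊔ F.center ≤ F.center)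
  set R := Q ⊔ F.center with hR
  have hZR : F.center ≤ R := le_sup_right
  have hZsc := normal_stronglyClosed (central_normal hZ)
  obtain ⟨F', hF'⟩ := FactorExists.exists_factorSystem (F := F) (S' := ⊤)
    (θ := QuotientGroup.mk' ((F.center).subgroupOf S)) hZsc
    (fun s => by rw [QuotientGroup.mk'_apply, QuotientGroup.eq_one_iff]; rfl)
    (MonoidHom.range_eq_top.2 (QuotientGroup.mk'_surjective _))
  have hsim := hsimple F' hF'
  have hq := isQuot_of_factorSystem hZsc hF'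
  set θ := QuotientGroup.mk' ((F.center).subgroupOf S) with hθ
  have hfin' : Finite (⊤ : Subgroup (S ⧸ (F.center).subgroupOf S)) := hq.finite
  set B := imageAlong θ R with hB
  have hBn : F'.IsNormal B := by
    refine isNormal_iff.2 ⟨le_top, fun P' f' hf' => ?_⟩
    obtain ⟨f, hf, hfe⟩ := hq.lift P' f' hf'
    obtain ⟨g, hg, hge, hgR⟩ := (isNormal_iff.1 hQn').2 _ f hf
    obtain ⟨g', hg', hg'e⟩ :=
      CentralQuot.exists_down hq ((hq.le_preimage P').trans le_sup_left) hg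
    have hle : P' ⊔ B ≤ imageAlong θ (preimageAlong θ P' ⊔ R) := by
      refine sup_le ?_ (CentralQuot.image_mono le_sup_right)
      conv_lhs => rw [← imageAlong_preimageAlong hq.range_eq (P' := P') le_top]
      exact CentralQuot.image_mono le_sup_left
    refine ⟨g', hg'.restrict hle, fun y hy => ?_, ?_⟩
    · obtain ⟨x, hxS, rfl⟩ := exists_along_eq hq.range_eq (Subgroup.mem_top y)
      have hx : x ∈ preimageAlong θ P' := mem_preimageAlong.2 ⟨hxS, hy⟩
      rw [hg'e x (Subgroup.mem_sup_left hx), hge x hx, hfe x hx]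
    · have hgR' := hg.restrict (le_sup_right : R ≤ preimageAlong θ P' ⊔ R)
      rw [hB, CentralQuot.image_img hgR' (hg'.restrict (CentralQuot.image_mono le_sup_right))
        fun x hx => hg'e x (Subgroup.mem_sup_right hx), hgR]
  rcases hsim.2.2 B _
    (ComponentExists.inner_isNormalIn (hq.isPGroup hS) (hq.saturated hS hF) hBn) with hbot | htop
  · intro x hx
    have h1 := CentralQuot.mem_image (θ := θ) hQn'.1 hx
    rw [← hB, hbot, Subgroup.mem_bot, along_of_mem θ (hQn'.1 hx)] at h1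
    exact (hq.ker_iff ⟨x, hQn'.1 hx⟩).1 h1
  · obtain ⟨-, hmaps⟩ := htop
    have h0 : F'.hyperfocalSubgroup p = ⊥ := by
      refine ComponentExists.hyp_eq_bot_of_inner (Q := B) ((hq.isPGroup hS).to_le le_top)
        fun P f hf => ?_
      obtain ⟨φ, hφ, he⟩ := hf
      obtain ⟨-, g, hg, hge⟩ := (hmaps P).ge hφ
      exact ⟨g, hg, fun x hx => by rw [← he ⟨x, hx⟩]; exact hge ⟨x, hx⟩⟩
    rw [Hyperfocal.hyp_quot hS hF hq, hhyp] at h0
    refine absurd ?_ hsim.2.1
    rw [eq_bot_iff, ← h0]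
    intro y _
    obtain ⟨x, hxS, rfl⟩ := exists_along_eq hq.range_eq (Subgroup.mem_top y)
    exact CentralQuot.mem_image le_rfl hxS

omit [Finite S] [Fact p.Prime] in
/-- When the automorphisms of order prime to `p` extend fixing the normal subgroup `Q`, the
hyperfocal subgroup centralizes `Q`. -/
theorem hyp_le_centralizer [Finite S] {C : FusionSystem U} (hQ : F.IsNormal Q) (hUS : U ≤ S)
    (h : ∀ R : Subgroup Ω, R ≤ U → ∀ α ∈ C.autGroup R, (orderOf α).Coprime p →
      ∃ g, IsMap F (R ⊔ Q) g ∧ (∀ x ∈ R, g x = autFun α x) ∧ ∀ q ∈ Q, g q = q) :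
    C.hyperfocalSubgroup p ≤ Subgroup.centralizer (Q : Set Ω) := by
  refine Hyperfocal.hyp_le_of fun R hR α hαc x hx => ?_
  obtain ⟨g, hg, hge, hgfix⟩ := h R hR α α.2 (by rwa [Subgroup.orderOf_coe])
  intro q hq
  have hxq : x * q * x⁻¹ ∈ Q := (Subgroup.mem_normalizer_iff.1
    (le_normalizer_of_stronglyClosed (normal_stronglyClosed hQ) (hUS (hR hx))) q).1 hq
  have h1 := hg.map_conj (Subgroup.mem_sup_left hx) (Subgroup.mem_sup_right hq)
  rw [hgfix _ hxq, hgfix q hq, hge x hx] at h1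
  calc q * (x⁻¹ * autFun (α : MulAut R) x)
      = x⁻¹ * (x * q * x⁻¹) * autFun (α : MulAut R) x := by group
    _ = x⁻¹ * (autFun (α : MulAut R) x * q * (autFun (α : MulAut R) x)⁻¹) *
        autFun (α : MulAut R) x := by rw [h1]
    _ = x⁻¹ * autFun (α : MulAut R) x * q := by group

omit [Finite S] [Fact p.Prime] in
/-- Every normal subgroup centralizes every component. -/
theorem component_centralizes {C : FusionSystem U} (hsub : C.IsSubnormalIn F p)
    (hfin : Finite S) (hp : Fact p.Prime) (hS : IsPGroup p S) (hF : F.IsSaturated p) (hqs : C.Quasisimple p)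
    {Q : Subgroup Ω} (hQ : F.IsNormal Q) {P : Subgroup Ω} {f : Ω → Ω} (hf : IsMap C P f) :
    ∃ g, IsMap F (P ⊔ Q) g ∧ (∀ x ∈ P, g x = f x) ∧ ∀ q ∈ Q, g q = q := by
  induction hsub generalizing Q P f with
  | refl =>
    obtain ⟨g, hg, hge, hgfix⟩ := (isCentral_iff.1 center_isCentral).2 P f hf
    exact ⟨g, hg.restrict (sup_le_sup_left (normal_le_center hS hqs hQ) P), hge,
      fun q hq => hgfix q (normal_le_center hS hqs hQ hq)⟩
  | step hsub hDn ih =>
    rename_i U' S' C' D' F' p'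
    have hTS : U' ≤ S' := subsystem_le hDn.1.2.2.1
    have hfinD : Finite U' := finite_of_le hTS
    have hUT : U ≤ U' := (ComponentExists.subnormal_facts hsub hDn.1.1).1
    have hUS : U ≤ S' := hUT.trans hTS
    have hfinU : Finite U := finite_of_le hUS
    have hUp : IsPGroup p' U := hS.to_le hUS
    have hQ₀ := normal_inf hS hQ hDn.1
    have hQn : S' ≤ Subgroup.normalizer (Q : Set Ω) :=
      le_normalizer_of_stronglyClosed (normal_stronglyClosed hQ)
    have key : ∀ R : Subgroup Ω, R ≤ U → ∀ α ∈ C'.autGroup R, (orderOf α).Coprime p' →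
        ∃ g, IsMap F' (R ⊔ Q) g ∧ (∀ x ∈ R, g x = autFun α x) ∧ ∀ q ∈ Q, g q = q := by
      intro R hR α hα hαc
      obtain ⟨g₀, hg₀, hg₀e, hg₀fix⟩ :=
        ih hfinD hp (hS.to_le hTS) hDn.1.1 hqs hQ₀ (isMap_of_mem_autGroup hR hα)
      obtain ⟨g, hg, hge, hgQ, hgT⟩ := exists_ext_mov hS hF hQ hDn hg₀
      have hgR : ∀ x ∈ R, g x = autFun α x := fun x hx => by
        rw [hge x (Subgroup.mem_sup_left hx), hg₀e x hx]
      have hgfix : ∀ q ∈ Q ⊓ U', g q = q := fun q hq => by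
        rw [hge q (Subgroup.mem_sup_right hq), hg₀fix q hq]
      have hle : R ⊔ Q ≤ R ⊔ (Q ⊓ U') ⊔ Q := sup_le_sup_right le_sup_left Q
      have hg' := hg.restrict hle
      have hfinV : Finite (R ⊔ Q : Subgroup Ω) := finite_of_le hg'.le
      have himg : img g (R ⊔ Q) = R ⊔ Q := by
        rw [hg'.img_sup, img_congr hgR, autFun_img, hgQ]
      obtain ⟨β, hβ, hβe⟩ := hg'.exists_aut himg
      obtain ⟨k, hkc, hkR⟩ := GoodExtension.exists_pow_coprime (le_sup_left : R ≤ R ⊔ Q)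
        (a := β) (d := α) (fun x hx => by rw [hβe x (Subgroup.mem_sup_left hx), hgR x hx]) hαc
      refine ⟨autFun (β ^ k), isMap_of_mem_autGroup hg'.le (Subgroup.pow_mem _ hβ k), hkR,
        fun q hq => ?_⟩
      set y := q⁻¹ * g q with hy
      have hy₀ : y ∈ Q ⊓ U' := ⟨Q.mul_mem (Q.inv_mem hq) (hgQ.le (mem_img_self g hq)), hgT q hq⟩
      have hyfix : ∀ n : ℕ, g (y ^ n) = y ^ n := fun n => hgfix _ (Subgroup.pow_mem _ hy₀ n)
      have hβpow : ∀ n : ℕ, autFun (β ^ n) q = q * y ^ n := by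
        intro n
        induction n with
        | zero => rw [pow_zero, autFun_one, pow_zero, mul_one]; rfl
        | succ n ihn =>
          have hmem : y ^ n ∈ Q := Q.pow_mem hy₀.1 n
          rw [pow_succ', autFun_mul, ihn, hβe _ (Subgroup.mem_sup_right (Q.mul_mem hq hmem)),
            hg'.map_mul (Subgroup.mem_sup_right hq) (Subgroup.mem_sup_right hmem), hyfix,
            pow_succ', ← mul_assoc q y, hy, mul_inv_cancel_left]
      have h1 := hβpow (k * orderOf (β ^ k))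
      rw [pow_mul, pow_orderOf_eq_one, autFun_one, id] at h1
      have h2 : (y ^ k) ^ orderOf (β ^ k) = 1 := by
        rw [← pow_mul]; exact mul_eq_left.1 h1.symm
      obtain ⟨l, hl⟩ := hS ⟨y ^ k, S'.pow_mem (hQ.1 hy₀.1) k⟩
      have h3 : y ^ k = 1 :=
        Elementwise.eq_one_of_coprime_pow ⟨l, congrArg Subtype.val hl⟩ hkc h2
      rw [hβpow k, h3, mul_one]
    -- the group of the component centralizes `Q`
    have hUQ : U ≤ Subgroup.centralizer (Q : Set Ω) := by
      have hhyp := hyp_le_centralizer hQ hUS key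
      rwa [hqs.2.1] at hhyp
    have hW : ∀ a ∈ U, ∀ q ∈ Q, q⁻¹ * (a * q * a⁻¹) ∈ (⊥ : Subgroup Ω) := by
      intro a ha q hq
      rw [← hUQ ha q hq, mul_inv_cancel_right, inv_mul_cancel]
      exact Subgroup.one_mem _
    have hall : C' ≤ movSystem F' C' Q ⊥ hUS hQ.1 (hUS.trans hQn) hW := by
      refine Alperin.le_of_autGroup hUp hqs.1 fun R hR _ =>
        autGroup_le_mov hS hqs.1 hR fun α hα hαc => ?_
      obtain ⟨g, hg, hge, hgfix⟩ := key R hR.1 α hα hαc
      refine ⟨g, hg, hge, by rw [img_congr (g := id) hgfix, img_id], fun q hq => ?_⟩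
      rw [hgfix q hq, inv_mul_cancel]
      exact Subgroup.one_mem _
    obtain ⟨φ, hφ, he⟩ := hf
    obtain ⟨-, g, hg, hge, -, hgW⟩ := hall _ hφ
    exact ⟨g, hg, fun x hx => (hge ⟨x, hx⟩).symm.trans (he ⟨x, hx⟩),
      fun q hq => (inv_mul_eq_one.1 (Subgroup.mem_bot.1 (hgW q hq))).symm⟩

/-- The largest normal subgroup centralizes the layer. -/
theorem layer_centralizes (hS : IsPGroup p S) (hF : F.IsSaturated p) {E : FusionSystem T}
    (hE : E.IsLayerOf F p) (P : Subgroup Ω) : E.Hom P ⊆ F.centralizerHom F.core P := by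
  have hQ : F.IsNormal F.core := core_isNormal
  obtain ⟨C, hC⟩ := KNormalizer.exists_centralizerSystem (F := F) hQ.1
  refine fun φ hφ => (hC P).le (hE.2.2 _ C (centralizer_isNormalIn hS hF hQ hC)
    (fun U K hK R => subset_of_isMap fun f hf => ?_) P hφ)
  obtain ⟨hUS, -⟩ := ComponentExists.subnormal_facts hK.1 hF
  have hUQ : U ≤ Subgroup.centralizer ((F.core : Subgroup Ω) : Set Ω) := by
    have hhyp := hyp_le_centralizer (p := p) hQ hUS fun R hR α hα _ =>
      component_centralizes hK.1 inferInstance inferInstance hS hF hK.2 hQ (isMap_of_mem_autGroup hR hα)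
    rwa [hK.2.2.1] at hhyp
  obtain ⟨g, hg, hge, hgfix⟩ := component_centralizes hK.1 inferInstance inferInstance hS hF hK.2 hQ hf
  exact (isMap_cent_iff hC).2 ⟨fun x hx => ⟨hUS (hf.le hx), hUQ (hf.le hx)⟩,
    fun x hx => ⟨hUS (hf.mem hx), hUQ (hf.mem hx)⟩, g, hg, hge, hgfix⟩

end Cfsg.Agent.Fusion.LayerCentralizer
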