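/-
Invariant subsystems: strong invariance is equivalent to invariance with the Frattini condition.
-/
import Mathlib
import Cfsg.Agent.Lib.Fusion.Factor
import Cfsg.Agent.Lib.Fusion.Subsystems

set_option autoImplicit false
set_option linter.all false

namespace Cfsg.Agent.Fusion.InvariantCriterion

open Cfsg Cfsg.FusionSystem Cfsg.Agent.Fusion.Basic Cfsg.Agent.Fusion.Saturation
  Cfsg.Agent.Fusion.Alperin Cfsg.Agent.Fusion.Normal Cfsg.Agent.Fusion.Subsystems
  Cfsg.Agent.Fusion.Factor Cfsg.Agent.Fusion.SylIn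

variable {Ω : Type*} [Group Ω] {S T P Q : Subgroup Ω} {F : FusionSystem S} {E : FusionSystem T}
  {f g : Ω → Ω}

/-- The maps of `E` are permuted by the maps of `F` between subgroups of `T`. -/
def Strong (F : FusionSystem S) (E : FusionSystem T) : Prop :=
  ∀ (P Q : Subgroup Ω) (φ ψ : Ω → Ω), P ≤ Q → Q ≤ T → IsMap E P φ → (∀ x ∈ P, φ x ∈ Q) →
    IsMap F Q ψ → ∃ χ, IsMap E (img ψ P) χ ∧ ∀ x ∈ P, χ (ψ x) = ψ (φ x)

/-- `f` is on `P` an element of `Aut_F(T)` after a map of `E`. -/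
def Fac (F : FusionSystem S) (E : FusionSystem T) (P : Subgroup Ω) (f : Ω → Ω) : Prop :=
  ∃ α ∈ F.autGroup T, ∃ f₀, IsMap E P f₀ ∧ ∀ x ∈ P, f x = autFun α (f₀ x)

theorem Fac.congr (h : Fac F E P f) (he : ∀ x ∈ P, f x = g x) : Fac F E P g := by
  obtain ⟨α, hα, f₀, hf₀, hf⟩ := h
  exact ⟨α, hα, f₀, hf₀, fun x hx => (he x hx).symm.trans (hf x hx)⟩

theorem Fac.restrict (h : Fac F E P f) (hQ : Q ≤ P) : Fac F E Q f := by
  obtain ⟨α, hα, f₀, hf₀, hf⟩ := h
  exact ⟨α, hα, f₀, hf₀.restrict hQ, fun x hx => hf x (hQ hx)⟩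

theorem transport (hTS : T ≤ S) (hsi : Strong F E) {φ : Ω → Ω} (hφ : IsMap E P φ) {α : MulAut T}
    (hα : α ∈ F.autGroup T) :
    ∃ h, IsMap E (img (autFun α) P) h ∧ ∀ x ∈ P, h (autFun α x) = autFun α (φ x) :=
  hsi P T φ _ hφ.le le_rfl hφ (fun _ hx => hφ.mem hx) (isMap_of_mem_autGroup hTS hα)

theorem Fac.comp (hTS : T ≤ S) (hsi : Strong F E) (hf : Fac F E P f) (hg : Fac F E Q g)
    (h : ∀ x ∈ P, f x ∈ Q) : Fac F E P (fun x => g (f x)) := by
  obtain ⟨β, hβ, f₀, hf₀, hfe⟩ := hf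
  obtain ⟨α, hα, g₀, hg₀, hge⟩ := hg
  obtain ⟨k, hk, hke⟩ := transport hTS hsi hg₀ (inv_mem hβ)
  have hmem : ∀ x ∈ P, f₀ x ∈ img (autFun β⁻¹) Q := fun x hx => by
    have := mem_img_self (autFun β⁻¹) (h x hx)
    rwa [hfe x hx, autFun_inv_apply] at this
  refine ⟨α * β, mul_mem hα hβ, fun x => k (f₀ x), hk.comp hf₀ hmem, fun x hx => ?_⟩
  show g (f x) = autFun (α * β) (k (f₀ x))
  have h1 := hke _ (h x hx)
  rw [show autFun β⁻¹ (f x) = f₀ x by rw [hfe x hx, autFun_inv_apply]] at h1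
  rw [h1, autFun_mul, autFun_apply_inv, hge _ (h x hx)]

theorem Fac.inv [Finite S] (hTS : T ≤ S) (hsi : Strong F E) (hf : Fac F E P f) {i : Ω → Ω}
    (hi : ∀ x ∈ P, i (f x) = x) (himg : ∀ y ∈ img f P, ∃ x ∈ P, f x = y) :
    Fac F E (img f P) i := by
  obtain ⟨α, hα, f₀, hf₀, hfe⟩ := hf
  obtain ⟨j, hj, -, hjf, -⟩ := hf₀.exists_inv
  obtain ⟨k, hk, hke⟩ := transport hTS hsi hj hα
  have heq : img (autFun α) (img f₀ P) = img f P := by
    rw [hf₀.img_img]
    exact (img_congr hfe).symm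
  refine ⟨α⁻¹, inv_mem hα, k, heq ▸ hk, fun y hy => ?_⟩
  obtain ⟨x, hx, rfl⟩ := himg y hy
  rw [hi x hx, hfe x hx, hke _ (mem_img_self f₀ hx), autFun_inv_apply, hjf x hx]

theorem autGroup_conj (hTS : T ≤ S) (hE : E.IsSubsystemOf F) (hsi : Strong F E) (hQT : Q ≤ T) :
    ((E.autGroup Q).subgroupOf (F.autGroup Q)).Normal := by
  refine ⟨fun b hb a => ?_⟩
  rw [Subgroup.mem_subgroupOf] at hb ⊢
  obtain ⟨χ, hχ, hχe⟩ := hsi Q Q _ _ le_rfl hQT (isMap_of_mem_autGroup hQT hb)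
    (fun x hx => autFun_mem _ hx) (isMap_of_mem_autGroup (hQT.trans hTS) a.2)
  rw [autFun_img] at hχ
  refine (mem_autGroup_iff hQT).2 (hχ.congr fun x hx => ?_)
  have := hχe _ (autFun_mem (a : MulAut Q)⁻¹ hx)
  rw [autFun_apply_inv] at this
  rw [this, Subgroup.coe_mul, Subgroup.coe_mul, Subgroup.coe_inv, autFun_mul, autFun_mul]

variable [Finite S] {p : ℕ} [Fact p.Prime]

/-- At a fully normalized `Q < T` the automorphisms factor, given factorization above `Q`. -/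
theorem fac_aut (hS : IsPGroup p S) (hF : F.IsSaturated p) (hT : F.StronglyClosed T)
    (hE : E.IsSubsystemOf F) (hsi : Strong F E) (hQT : Q < T) (hQ : F.IsFullyNormalized Q)
    (hbig : ∀ R : Subgroup Ω, R ≤ T → Nat.card Q < Nat.card R →
      ∀ θ : Ω → Ω, IsMap F R θ → Fac F E R θ)
    {a : MulAut Q} (ha : a ∈ F.autGroup Q) : Fac F E Q (autFun a) := by
  have hQS := hQ.1
  have hfinT : Finite T := finite_of_le hT.1
  have hfinQ : Finite Q := finite_of_le hQS
  have := autGroup_conj hT.1 hE hsi hQT.le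
  set K := (E.autGroup Q).subgroupOf (F.autGroup Q) with hK
  have hA : SylIn p ((autInducedBy S Q).subgroupOf (F.autGroup Q)) ⊤ := by
    refine ⟨le_top, (isPGroup_autInducedBy hS).comap_of_injective _ Subtype.val_injective, ?_⟩
    rw [Subgroup.relIndex_top_right]
    exact ((fullyAutomized_iff hS).1 (fullyNormalized_fullyAutomized hS hF hQ)).2
  obtain ⟨b, hb, hc⟩ := exists_frattini (K := K) hA ⟨a, ha⟩
  set β := b * ⟨a, ha⟩ with hβ
  have hsplit : a = (b⁻¹ : F.autGroup Q).1 * β.1 := by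
    rw [← Subgroup.coe_mul, hβ, inv_mul_cancel_left]
  have hmβ := isMap_of_mem_autGroup hQS β.2
  obtain ⟨θ, hθ, hθe⟩ := exists_extension hS hF hmβ
    (by rw [autFun_img]; exact fullyNormalized_fullyCentralized hS hF hQ)
  have hle : normalizerIn T Q ≤ nSub S Q (autFun (β : MulAut Q)) := by
    rintro g ⟨hgT, hgN⟩
    have hgS : g ∈ normalizerIn S Q := ⟨hT.1 hgT, hgN⟩
    let c : F.autGroup Q := ⟨conjAut S Q ⟨g, hgS⟩,
      autInducedBy_le hQS (conjAut_range S Q ▸ ⟨_, rfl⟩)⟩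
    have hcA : c ∈ (autInducedBy S Q).subgroupOf (F.autGroup Q) :=
      Subgroup.mem_subgroupOf.2 (mem_autInducedBy_iff'.2 ⟨g, hgS, fun x hx => conjAut_apply _ hx⟩)
    have hcK : c ∈ K := by
      rw [hK, Subgroup.mem_subgroupOf]
      refine (mem_autGroup_iff hQT.le).2 ((isMap_cj hQT.le hgT).congr fun x hx => ?_)
      exact (conjAut_apply ⟨g, hgS⟩ hx).symm
    obtain ⟨h, hh, he⟩ := mem_autInducedBy_iff'.1 (Subgroup.mem_subgroupOf.1 (hc c ⟨hcA, hcK⟩))
    refine mem_nSub.2 ⟨hT.1 hgT, hgN, h, hh.1, fun x hx => ?_⟩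
    have h3 := he _ (autFun_mem (β : MulAut Q) hx)
    rw [Subgroup.coe_mul, Subgroup.coe_mul, Subgroup.coe_inv, autFun_mul, autFun_mul,
      autFun_inv_apply, conjAut_apply ⟨g, hgS⟩ hx] at h3
    exact h3
  have hlt := lt_normalizerIn (hS.to_le hT.1) hQT
  have hNT : normalizerIn T Q ≤ T := normalizerIn_le
  have hfinN : Finite (normalizerIn T Q) := finite_of_le hNT
  have h1 : Fac F E Q (autFun (β : MulAut Q)) :=
    ((hbig _ hNT (card_lt_card hlt) θ (hθ.restrict hle)).restrict hlt.le).congr hθe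
  have hb' : (b⁻¹ : F.autGroup Q).1 ∈ E.autGroup Q := Subgroup.mem_subgroupOf.1 (inv_mem hb)
  have h2 : Fac F E Q (autFun (b⁻¹ : F.autGroup Q).1) :=
    ⟨1, one_mem _, _, isMap_of_mem_autGroup hQT.le hb', fun x _ => by rw [autFun_one]; rfl⟩
  refine (h1.comp hT.1 hsi h2 fun x hx => autFun_mem _ hx).congr fun x hx => ?_
  rw [← autFun_mul, ← hsplit]

/-- The Frattini condition follows from strong invariance. -/
theorem fac_of_strong (hS : IsPGroup p S) (hF : F.IsSaturated p) (hT : F.StronglyClosed T)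
    (hE : E.IsSubsystemOf F) (hsi : Strong F E) (hPT : P ≤ T) (hf : IsMap F P f) :
    Fac F E P f := by
  have hfinT : Finite T := finite_of_le hT.1
  induction hn : Nat.card T - Nat.card P using Nat.strong_induction_on generalizing P f with
  | _ n ih =>
  have hbig : ∀ R : Subgroup Ω, R ≤ T → Nat.card P < Nat.card R →
      ∀ θ : Ω → Ω, IsMap F R θ → Fac F E R θ := fun R hR hlt θ hθ => by
    have := card_le_card hR
    exact ih (Nat.card T - Nat.card R) (by omega) hR hθ rfl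
  rcases eq_or_lt_of_le hPT with rfl | hlt
  · obtain ⟨α, hα, he⟩ := hf.exists_aut (eq_of_le_card
      (img_le fun x hx => stronglyClosed_mem hT hf hx hx) hf.card_img.ge)
    exact ⟨α, hα, id, isMap_id le_rfl, fun x hx => (he x hx).symm⟩
  obtain ⟨Q, hPQ, hQ⟩ := exists_fullyNormalized (F := F) hf.le
  have hstep : ∀ R : Subgroup Ω, R ≤ T → F.IsConj R P →
      ∃ g, IsMap F R g ∧ img g R = Q ∧ Q ≤ T ∧ Fac F E R g := by
    intro R hRT hR
    obtain ⟨g, hg, hgQ⟩ := exists_map_to_fullyNormalized hS hF hQ (isConj_trans hR hPQ)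
    have hle : normalizerIn T R ≤ normalizerIn S R := inf_le_inf_right _ hT.1
    have hres := hg.restrict hle
    have hfinR : Finite R := finite_of_le hRT
    have hRlt : R < T := lt_of_le_of_ne hRT fun h => by
      have h1 := card_lt_card hlt
      have h2 := isConj_card hR
      subst h
      omega
    have hNlt := lt_normalizerIn (hS.to_le hT.1) hRlt
    have hfinN : Finite (normalizerIn T R) := finite_of_le normalizerIn_le
    have hcard : Nat.card P < Nat.card (normalizerIn T R) := by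
      have h1 := card_lt_card hNlt
      have h2 := isConj_card hR
      omega
    refine ⟨g, hres.restrict hNlt.le, hgQ, ?_, (hbig _ normalizerIn_le hcard g hres).restrict hNlt.le⟩
    rw [← hgQ]
    exact img_le fun x hx => stronglyClosed_mem hT hres (hNlt.le hx) (hRT hx)
  have hfP : img f P ≤ T := img_le fun x hx => stronglyClosed_mem hT hf hx (hPT hx)
  obtain ⟨g₁, hg₁, hg₁Q, hQT, hg₁F⟩ := hstep P hPT (isConj_refl hf.le)
  obtain ⟨g₂, hg₂, hg₂Q, -, hg₂F⟩ := hstep (img f P) hfP (isConj_symm hf.isConj)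
  subst hg₁Q
  obtain ⟨i₁, hi₁, hi₁img, hi₁g, -⟩ := hg₁.exists_inv
  obtain ⟨i₂, hi₂, hi₂img, hi₂g, -⟩ := hg₂.exists_inv
  have hmapsto : ∀ x ∈ img g₁ P, i₁ x ∈ P := fun x hx => le_of_eq hi₁img (mem_img_self i₁ hx)
  have hin : IsMap F (img g₁ P) (fun x => f (i₁ x)) := hf.comp hi₁ hmapsto
  have hcomp : IsMap F (img g₁ P) (fun x => g₂ (f (i₁ x))) :=
    hg₂.comp hin fun x hx => mem_img_self f (hmapsto x hx)
  have himg : img (fun x => g₂ (f (i₁ x))) (img g₁ P) = img g₁ P := by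
    rw [← hin.img_img g₂, ← hi₁.img_img f, hi₁img, hg₂Q]
  obtain ⟨α, hα, he⟩ := hcomp.exists_aut himg
  have hQlt : img g₁ P < T := lt_of_le_of_ne hQT fun h => by
    have h1 := card_lt_card hlt
    have h2 := hg₁.card_img
    rw [h] at h2
    omega
  have ha : Fac F E (img g₁ P) (autFun α) := fac_aut hS hF hT hE hsi hQlt hQ
    (fun R hR hlt' => hbig R hR (by rwa [hg₁.card_img] at hlt')) hα
  have hi₂F : Fac F E (img g₁ P) i₂ := by
    rw [← hg₂Q]
    exact hg₂F.inv hT.1 hsi hi₂g fun y hy => hg₂.mem_img.1 hy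
  refine ((hg₁F.comp hT.1 hsi ha fun x hx => mem_img_self g₁ hx).comp hT.1 hsi hi₂F
    fun x hx => autFun_mem α (mem_img_self g₁ hx)).congr fun x hx => ?_
  show i₂ (autFun α (g₁ x)) = f x
  rw [he _ (mem_img_self g₁ hx), hi₁g x hx, hi₂g _ (mem_img_self f hx)]

/-- An invariant subsystem is strongly invariant. -/
theorem strong_of_invariant (hE : E.IsInvariantIn F) : Strong F E := by
  intro P Q φ ψ hPQ hQT hφ hmaps hψ
  obtain ⟨α, hα, ψ₀, hψ₀, hψe⟩ := invariant_frattini hE hQT hψ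
  have hr := hψ₀.restrict hPQ
  obtain ⟨j, hj, hjimg, hjψ, -⟩ := hr.exists_inv
  have hjP : ∀ y ∈ img ψ₀ P, j y ∈ P := fun y hy => le_of_eq hjimg (mem_img_self j hy)
  have hk : IsMap E (img ψ₀ P) (fun y => ψ₀ (φ (j y))) :=
    hψ₀.comp (hφ.comp hj hjP) fun y hy => hmaps _ (hjP y hy)
  obtain ⟨χ, hχ, hχe⟩ := invariant_transport hE hk.le hk hα
  have heq : img (autFun α) (img ψ₀ P) = img ψ P := by
    rw [hr.img_img]
    exact (img_congr fun x hx => hψe x (hPQ hx)).symm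
  refine ⟨χ, heq ▸ hχ, fun x hx => ?_⟩
  rw [hψe x (hPQ hx), hχe _ (mem_img_self ψ₀ hx), hjψ x hx, hψe _ (hmaps x hx)]

end Cfsg.Agent.Fusion.InvariantCriterion
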