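/-
The centralizer in `S` of a normal subsystem: existence, description by good extensions, closure.
-/
import Mathlib
import Cfsg.Agent.Lib.Fusion.LayerCentralizer
import Cfsg.Agent.Lib.Fusion.InvariantCriterion

set_option autoImplicit false
set_option linter.all false

namespace Cfsg.Agent.Fusion.SubsystemCentralizer

open Cfsg Cfsg.FusionSystem Cfsg.Agent.Fusion.Basic Cfsg.Agent.Fusion.Saturation
  Cfsg.Agent.Fusion.Normal Cfsg.Agent.Fusion.Subsystems Cfsg.Agent.Fusion.CentralizeNormal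
  Cfsg.Agent.Fusion.NormalCentralizer Cfsg.Agent.Fusion.LayerCentralizer

variable {Ω : Type*} [Group Ω] {S T P R : Subgroup Ω} {F : FusionSystem S} {D : FusionSystem T}
  {p : ℕ}

/-- Alperin's induction with the maps on larger subgroups available. -/
theorem le_of_above [Finite S] [Fact p.Prime] (hS : IsPGroup p S) (hF : F.IsSaturated p)
    {E : FusionSystem S}
    (hE : ∀ P : Subgroup Ω, F.IsFullyNormalized P →
      (∀ (R : Subgroup Ω) (f : Ω → Ω), Nat.card P < Nat.card R → IsMap F R f → IsMap E R f) →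
      F.autGroup P ≤ E.autGroup P) :
    F ≤ E := by
  refine le_of_isMap fun P f hf => ?_
  induction hn : Nat.card S - Nat.card P using Nat.strong_induction_on generalizing P f with
  | _ n ih =>
  have hP := hf.le
  have habove : ∀ (R : Subgroup Ω) (g : Ω → Ω), Nat.card P < Nat.card R → IsMap F R g →
      IsMap E R g := by
    intro R g hlt hg
    have := card_le_card hg.le
    exact ih (Nat.card S - Nat.card R) (by omega) R g hg rfl
  have haut : ∀ R : Subgroup Ω, Nat.card R = Nat.card P → F.IsFullyNormalized R →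
      F.autGroup R ≤ E.autGroup R :=
    fun R hR hRn => hE R hRn fun U g hlt hg => habove U g (hR ▸ hlt) hg
  rcases eq_or_lt_of_le hP with hPS | hlt
  · have himg : img f P = P :=
      (Alperin.eq_top_of_card hP hf.isConj hPS).trans hPS.symm
    obtain ⟨α, hα, he⟩ := hf.exists_aut himg
    have hn : F.IsFullyNormalized P := by
      refine ⟨hP, fun R hR => ?_⟩
      rw [Alperin.eq_top_of_card hP hR hPS, hPS]
    exact (isMap_of_mem_autGroup hP (haut P rfl hn hα)).congr he
  obtain ⟨Q, hPQ, hQ⟩ := exists_fullyNormalized (F := F) hP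
  have hstep : ∀ R : Subgroup Ω, F.IsConj R P → ∃ g, IsMap F R g ∧ IsMap E R g ∧ img g R = Q := by
    intro R hR
    obtain ⟨g, hg, hgQ⟩ := exists_map_to_fullyNormalized hS hF hQ (isConj_trans hR hPQ)
    have hRS := (isConj_le hR).1
    have hRlt : R < S := by
      refine lt_of_le_of_ne hRS fun h => hlt.ne ?_
      exact Alperin.eq_top_of_card hRS hR h
    have hfin : Finite (normalizerIn S R) := finite_of_le normalizerIn_le
    have h2 := card_lt_card (lt_normalizerIn hS hRlt)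
    rw [← isConj_card hR] at h2
    have hg' : IsMap E (normalizerIn S R) g := habove _ g h2 hg
    exact ⟨g, hg.restrict (le_normalizerIn hRS), hg'.restrict (le_normalizerIn hRS), hgQ⟩
  obtain ⟨g₁, hg₁, hg₁E, hg₁Q⟩ := hstep P (isConj_refl hP)
  obtain ⟨g₂, hg₂, hg₂E, hg₂Q⟩ := hstep (img f P) (isConj_symm hf.isConj)
  subst hg₁Q
  obtain ⟨i₁, hi₁, hi₁img, hi₁g, -⟩ := hg₁.exists_inv
  obtain ⟨i₂, hi₂, hi₂img, hi₂g, -⟩ := hg₂E.exists_inv
  rw [hg₂Q] at hi₂
  have hmapsto : ∀ x ∈ img g₁ P, i₁ x ∈ P := fun x hx => le_of_eq hi₁img (mem_img_self i₁ hx)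
  have hin : IsMap F (img g₁ P) (fun x => f (i₁ x)) := hf.comp hi₁ hmapsto
  have hcomp : IsMap F (img g₁ P) (fun x => g₂ (f (i₁ x))) :=
    hg₂.comp hin fun x hx => mem_img_self f (hmapsto x hx)
  have himg : img (fun x => g₂ (f (i₁ x))) (img g₁ P) = img g₁ P := by
    rw [← hin.img_img g₂, ← hi₁.img_img f, hi₁img, hg₂Q]
  obtain ⟨α, hα, he⟩ := hcomp.exists_aut himg
  have hαE : IsMap E (img g₁ P) (autFun α) :=
    isMap_of_mem_autGroup hQ.1 (haut _ (isConj_card hPQ) hQ hα)
  have h1 : IsMap E P (fun x => autFun α (g₁ x)) :=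
    hαE.comp hg₁E fun x hx => mem_img_self g₁ hx
  refine (hi₂.comp h1 fun x hx => autFun_mem α (mem_img_self g₁ hx)).congr fun x hx => ?_
  show i₂ (autFun α (g₁ x)) = f x
  rw [he _ (mem_img_self g₁ hx), hi₁g x hx, hi₂g _ (mem_img_self f hx)]

/-- A good automorphism at `R`: of order prime to `p`, extending an element of `Aut_D(R)` and moving
`C_S(R)` by elements of `Z(R)`. -/
structure IsGood (F : FusionSystem S) (D : FusionSystem T) (p : ℕ) (R : Subgroup Ω)
    (β : MulAut (R ⊔ centralizerIn S R : Subgroup Ω)) : Prop where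
  fn : F.IsFullyNormalized R
  centric : D.IsCentric R
  mem : β ∈ F.autGroup (R ⊔ centralizerIn S R)
  coprime : (orderOf β).Coprime p
  res : ∃ α ∈ D.autGroup R, ∀ x ∈ R, autFun β x = autFun α x
  moves : ∀ x ∈ centralizerIn S R, x⁻¹ * autFun β x ∈ ctr R

theorem IsGood.mem_R {β : MulAut (R ⊔ centralizerIn S R : Subgroup Ω)} (h : IsGood F D p R β)
    {x : Ω} (hx : x ∈ R) : autFun β x ∈ R := by
  obtain ⟨α, -, he⟩ := h.res
  rw [he x hx]
  exact autFun_mem α hx

theorem ctr_commute {z y : Ω} (hz : z ∈ ctr R) (hy : y ∈ centralizerIn S R) : z * y = y * z :=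
  hy.2 z hz.1

theorem ctr_le {z : Ω} (hRS : R ≤ S) (hz : z ∈ ctr R) : z ∈ centralizerIn S R :=
  ⟨hRS hz.1, hz.2⟩

variable [Finite S] [Fact p.Prime]

theorem exists_good (hS : IsPGroup p S) (hF : F.IsSaturated p) (hD : D.IsNormalIn F p)
    (hR : D.IsCentric R) (hRn : F.IsFullyNormalized R) {α : MulAut R} (hα : α ∈ D.autGroup R)
    (hc : (orderOf α).Coprime p) :
    ∃ β, IsGood F D p R β ∧ ∀ x ∈ R, autFun β x = autFun α x := by
  have hinv : D.IsInvariantIn F := hD.1.2.2
  have hRn' := fullyNormalized_of_subsystem hS hF hinv.2.1 hinv.1 hR.1 hRn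
  obtain ⟨e, he, heR, heC⟩ := GoodExtension.exists_good_ext hS hF hD hR hRn' hα
  have hV : R ⊔ centralizerIn S R ≤ S := he.le
  have hfin : Finite (R ⊔ centralizerIn S R : Subgroup Ω) := finite_of_le hV
  obtain ⟨β₀, hβ₀, hβ₀e⟩ :=
    he.exists_aut (eq_of_le_card (extends_mem he heR heC) he.card_img.ge)
  have hβ₀R : ∀ x ∈ R, autFun β₀ x = autFun α x := fun x hx => by
    rw [hβ₀e x (Subgroup.mem_sup_left hx), heR x hx]
  obtain ⟨k, hkc, hkR⟩ := GoodExtension.exists_pow_coprime (p := p)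
    (le_sup_left : R ≤ R ⊔ centralizerIn S R) (a := β₀) (d := α) hβ₀R hc
  refine ⟨β₀ ^ k, ⟨hRn, hR, Subgroup.pow_mem _ hβ₀ k, hkc, ⟨α, hα, hkR⟩, ?_⟩, hkR⟩
  have key : ∀ n : ℕ, ∀ x ∈ centralizerIn S R, x⁻¹ * autFun (β₀ ^ n) x ∈ ctr R := by
    intro n
    induction n with
    | zero => intro x _; rw [pow_zero, autFun_one, id, inv_mul_cancel]; exact Subgroup.one_mem _
    | succ n ih =>
      intro x hx
      have hz := ih x hx
      have hxz : autFun (β₀ ^ n) x = x * (x⁻¹ * autFun (β₀ ^ n) x) :=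
        (mul_inv_cancel_left _ _).symm
      rw [pow_succ', autFun_mul, hxz,
        autFun_isHom β₀ _ (Subgroup.mem_sup_right hx) _ (Subgroup.mem_sup_left hz.1),
        hβ₀R _ hz.1, hβ₀e x (Subgroup.mem_sup_right hx), ← mul_assoc]
      exact Subgroup.mul_mem _ (heC x hx) (autFun_ctr hz)
  exact key k

/-! ### The displacement of a good automorphism is preserved by the centralizer of `R` -/

/-- The maps of `C` preserving the displacement by `β`. -/
def dispSystem {C : FusionSystem (centralizerIn S R)}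
    (β : MulAut (R ⊔ centralizerIn S R : Subgroup Ω))
    (hmov : ∀ x ∈ centralizerIn S R, x⁻¹ * autFun β x ∈ ctr R) :
    FusionSystem (centralizerIn S R) where
  Hom P := {φ | φ ∈ C.Hom P ∧
    ∀ x : P, (φ x)⁻¹ * autFun β (φ x) = (x : Ω)⁻¹ * autFun β (x : Ω)}
  le_of_mem h := C.le_of_mem h.1
  injective_of_mem h := C.injective_of_mem h.1
  conj_mem := by
    intro P a hP ha
    refine ⟨C.conj_mem hP ha, fun x => ?_⟩
    show (a * (x : Ω) * a⁻¹)⁻¹ * autFun β (a * (x : Ω) * a⁻¹) = _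
    rw [(autFun_isHom β).map_conj (Subgroup.mem_sup_right ha) (Subgroup.mem_sup_right (hP x.2))]
    set u := a⁻¹ * autFun β a with hu
    set v := (x : Ω)⁻¹ * autFun β (x : Ω) with hv
    have hua : autFun β a = a * u := (mul_inv_cancel_left _ _).symm
    have hvx : autFun β (x : Ω) = x * v := (mul_inv_cancel_left _ _).symm
    have huZ : u ∈ ctr R := hmov a ha
    have hvZ : v ∈ ctr R := hmov x (hP x.2)
    have c1 : u * x = x * u := ctr_commute huZ (hP x.2)
    have c2 : v * a = a * v := ctr_commute hvZ ha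
    have c3 : u * v = v * u := hvZ.2 u huZ.1
    rw [hua, hvx, mul_inv_rev a u]
    calc (a * (x : Ω) * a⁻¹)⁻¹ * (a * u * (x * v) * (u⁻¹ * a⁻¹))
        = a * (x : Ω)⁻¹ * ((u * (x : Ω)) * v * u⁻¹) * a⁻¹ := by group
      _ = a * (x : Ω)⁻¹ * ((x : Ω) * (u * v) * u⁻¹) * a⁻¹ := by rw [c1]; group
      _ = a * (x : Ω)⁻¹ * ((x : Ω) * (v * u) * u⁻¹) * a⁻¹ := by rw [c3]
      _ = a * v * a⁻¹ := by group
      _ = v := by rw [← c2, mul_inv_cancel_right]
  comp_mem := by
    rintro P Q φ ψ ⟨hφ, hφe⟩ ⟨hψ, hψe⟩ h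
    refine ⟨C.comp_mem hφ hψ h, fun x => ?_⟩
    exact (hψe ⟨φ x, h x⟩).trans (hφe x)
  inv_mem := by
    rintro P φ ⟨hφ, hφe⟩
    obtain ⟨ψ, hψ, hψe⟩ := C.inv_mem hφ
    refine ⟨ψ, ⟨hψ, fun y => ?_⟩, hψe⟩
    obtain ⟨x, hx⟩ := y.2
    obtain rfl : y = ⟨φ x, ⟨x, rfl⟩⟩ := Subtype.ext hx.symm
    rw [hψe]
    exact (hφe x).symm

/-- The maps of `C_F(R)` preserve the displacement of a good automorphism. -/
theorem disp_eq (hS : IsPGroup p S) (hF : F.IsSaturated p)
    {β : MulAut (R ⊔ centralizerIn S R : Subgroup Ω)} (hβ : IsGood F D p R β)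
    {C : FusionSystem (centralizerIn S R)} (hC : F.IsCentralizerSystem R C) {f : Ω → Ω}
    (hf : IsMap C P f) {x : Ω} (hx : x ∈ P) :
    (f x)⁻¹ * autFun β (f x) = x⁻¹ * autFun β x := by
  have hRS : R ≤ S := hβ.fn.1
  have hVS : R ⊔ centralizerIn S R ≤ S := sup_le hRS centralizerIn_le
  have hfinC : Finite (centralizerIn S R) := finite_of_le centralizerIn_le
  have hCp : IsPGroup p (centralizerIn S R) := hS.to_le centralizerIn_le
  have hCs := KNormalizer.centralizerSystem_saturated hS hF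
    (fullyNormalized_fullyCentralized hS hF hβ.fn) hC
  suffices hall : C ≤ dispSystem (C := C) β hβ.moves by
    obtain ⟨φ, hφ, he⟩ := hf
    have := (hall P hφ).2 ⟨x, hx⟩
    rwa [he ⟨x, hx⟩] at this
  refine Alperin.alperin hCp hCs fun Q hQcase α hα => ?_
  have hQC : Q ≤ centralizerIn S R := by
    rcases hQcase with rfl | h
    exacts [le_rfl, h.1.1]
  have hQV : Q ≤ R ⊔ centralizerIn S R := hQC.trans le_sup_right
  have hfinQ : Finite Q := finite_of_le hQC
  have hZQ : ∀ z ∈ ctr R, z ∈ Q := by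
    intro z hz
    rcases hQcase with rfl | h
    · exact ctr_le hRS hz
    · exact centric_centralizerIn_le h.1 ⟨ctr_le hRS hz, fun y hy => (ctr_commute hz (hQC hy)).symm⟩
  have hm := isMap_of_mem_autGroup hQC hα
  have hαZ : ∀ z ∈ ctr R, autFun α z = z := by
    intro z hz
    obtain ⟨-, -, g, hg, hge, hgfix⟩ := (isMap_cent_iff hC).1 hm
    rw [← hge z (hZQ z hz), hgfix z hz.1]
  refine (mem_autGroup_iff hQC).2 ⟨hm.hom, ⟨hm.hom_mem_self, fun w => ?_⟩, fun _ => rfl⟩
  rw [IsMap.hom_apply]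
  obtain ⟨x, hx⟩ := w
  show (autFun α x)⁻¹ * autFun β (autFun α x) = x⁻¹ * autFun β x
  have hdispC : ∀ w ∈ Q, w⁻¹ * autFun β w ∈ ctr R := fun w hw => hβ.moves w (hQC hw)
  have hβQmem : ∀ w ∈ Q, autFun β w ∈ Q := fun w hw => by
    have h := Q.mul_mem hw (hZQ _ (hdispC w hw))
    rwa [mul_inv_cancel_left] at h
  have hβm := (isMap_of_mem_autGroup hVS hβ.mem).restrict hQV
  have hβimg : img (autFun β) Q = Q := eq_of_le_card (img_le hβQmem) hβm.card_img.ge
  -- the conjugate of `α` by `β`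
  obtain ⟨i, hi, hiimg, hiβ, hβi⟩ :=
    ((isMap_of_mem_autGroup hVS hβ.mem).restrict (sup_le hQV le_sup_left : Q ⊔ R ≤ _)).exists_inv
  have hβR : img (autFun β) R = R := by
    have : Finite R := finite_of_le hRS
    exact eq_of_le_card (img_le fun r hr => hβ.mem_R hr)
      ((isMap_of_mem_autGroup hVS hβ.mem).restrict le_sup_left).card_img.ge
  have hβQR : img (autFun β) (Q ⊔ R) = Q ⊔ R := by
    rw [((isMap_of_mem_autGroup hVS hβ.mem).restrict (sup_le hQV le_sup_left)).img_sup, hβimg, hβR]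
  rw [hβQR] at hi hiimg hβi
  obtain ⟨-, hαv, g, hg, hge, hgfix⟩ := (isMap_cent_iff hC).1 hm
  have hgQR : ∀ y ∈ Q ⊔ R, g y ∈ Q ⊔ R := by
    intro y hy
    have h1 : img g (Q ⊔ R) ≤ Q ⊔ R := by
      rw [hg.img_sup, img_congr hge, autFun_img, img_congr (g := id) hgfix, img_id]
    exact h1 (mem_img_self g hy)
  have hiQR : ∀ y ∈ Q ⊔ R, i y ∈ Q ⊔ R := fun y hy => hiimg.le (mem_img_self i hy)
  have hconj : IsMap F (Q ⊔ R) (fun y => autFun β (g (i y))) :=
    ((isMap_of_mem_autGroup hVS hβ.mem).restrict (sup_le hQV le_sup_left)).comp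
      (hg.comp hi hiQR) fun y hy => hgQR _ (hiQR y hy)
  have hiQ : ∀ w ∈ Q, i w ∈ Q := by
    intro w hw
    obtain ⟨w', hw', rfl⟩ := hβm.mem_img.1 (hβimg.ge hw)
    rwa [hiβ w' (Subgroup.mem_sup_left hw')]
  have hα'm : IsMap C Q (fun y => autFun β (g (i y))) := by
    refine (isMap_cent_iff hC).2 ⟨hQC, fun w hw => hQC (hβQmem _ ?_), fun y => autFun β (g (i y)),
      hconj, fun _ _ => rfl, fun r hr => ?_⟩
    · rw [hge _ (hiQ w hw)]
      exact autFun_mem α (hiQ w hw)
    · obtain ⟨r', hr', rfl⟩ :=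
        ((isMap_of_mem_autGroup hVS hβ.mem).restrict le_sup_left).mem_img.1 (hβR.ge hr)
      show autFun β (g (i (autFun β r'))) = _
      rw [hiβ r' (Subgroup.mem_sup_right hr'), hgfix r' hr']
  have hα'img : img (fun y => autFun β (g (i y))) Q = Q := by
    refine eq_of_le_card (img_le fun w hw => hβQmem _ ?_) hα'm.card_img.ge
    rw [hge _ (hiQ w hw)]
    exact autFun_mem α (hiQ w hw)
  obtain ⟨α', hα', hα'e⟩ := hα'm.exists_aut hα'img
  -- the group of automorphisms trivial on `Z(R)` and modulo it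
  let K : Subgroup (C.autGroup Q) :=
    { carrier := {a | (∀ z ∈ ctr R, autFun (a : MulAut Q) z = z) ∧
        ∀ w ∈ Q, w⁻¹ * autFun (a : MulAut Q) w ∈ ctr R}
      one_mem' := ⟨fun z _ => by rw [Subgroup.coe_one, autFun_one, id],
        fun w _ => by rw [Subgroup.coe_one, autFun_one, id, inv_mul_cancel]; exact Subgroup.one_mem _⟩
      mul_mem' := by
        rintro a b ⟨ha₁, ha₂⟩ ⟨hb₁, hb₂⟩
        refine ⟨fun z hz => by rw [Subgroup.coe_mul, autFun_mul, hb₁ z hz, ha₁ z hz],
          fun w hw => ?_⟩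
        rw [Subgroup.coe_mul, autFun_mul]
        have hbw := autFun_mem (b : MulAut Q) hw
        have h := Subgroup.mul_mem _ (hb₂ w hw) (ha₂ _ hbw)
        simpa [mul_assoc] using h
      inv_mem' := by
        rintro a ⟨ha₁, ha₂⟩
        refine ⟨fun z hz => ?_, fun w hw => ?_⟩
        · rw [Subgroup.coe_inv]
          conv_lhs => rw [← ha₁ z hz, autFun_inv_apply]
        · rw [Subgroup.coe_inv]
          have h := Subgroup.inv_mem _ (ha₂ _ (autFun_mem (a : MulAut Q)⁻¹ hw))
          rw [autFun_apply_inv] at h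
          simpa using h }
  have hCfix : ∀ a : C.autGroup Q, ∀ z ∈ ctr R, autFun (a : MulAut Q) z = z := by
    intro a z hz
    obtain ⟨-, -, j, -, hje, hjfix⟩ := (isMap_cent_iff hC).1 (isMap_of_mem_autGroup hQC a.2)
    rw [← hje z (hZQ z hz), hjfix z hz.1]
  have hKn : K.Normal := by
    refine ⟨fun b hb a => ⟨hCfix _, fun w hw => ?_⟩⟩
    rw [Subgroup.coe_mul, Subgroup.coe_mul, Subgroup.coe_inv, autFun_mul, autFun_mul]
    have hw' := autFun_mem (a : MulAut Q)⁻¹ hw
    have h := hb.2 _ hw'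
    have h2 := autFun_isHom (a : MulAut Q) _ hw' _ (hZQ _ h)
    rw [mul_inv_cancel_left, autFun_apply_inv, hCfix a _ h] at h2
    rw [h2, inv_mul_cancel_left]
    exact h
  have hKp : IsPGroup p K := by
    intro a
    let ch : ℕ → Subgroup Q := fun n => if n = 0 then ⊥ else if n = 1 then (ctr R).subgroupOf Q else ⊤
    obtain ⟨k, hk⟩ := exists_pow_eq_one_of_stabilizes (p := p) (hCp.to_le hQC) ch 2
      (if_pos rfl) (by simp [ch]) (fun n hn => by
        rcases n with _ | n
        · exact bot_le.trans' (le_of_eq (if_pos rfl))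
        · simp [ch])
      ((a : C.autGroup Q) : MulAut Q) (fun n hn y hy => by
        rcases n with _ | _ | n
        · simp only [ch, if_pos, one_ne_zero, zero_add, if_false] at hy ⊢
          rw [Subgroup.mem_bot, inv_mul_eq_one]
          refine Subtype.ext ?_
          rw [← autFun_apply]
          exact (a.2.1 _ (Subgroup.mem_subgroupOf.1 hy)).symm
        · simp only [ch, one_ne_zero, if_false, zero_add, if_true]
          rw [Subgroup.mem_subgroupOf, Subgroup.coe_mul, Subgroup.coe_inv, ← autFun_apply]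
          exact a.2.2 _ y.2
        · omega)
    exact ⟨k, Subtype.ext (Subtype.ext (by simpa using hk))⟩
  set u := (autFun α x)⁻¹ * autFun β (autFun α x) with hu
  set v := x⁻¹ * autFun β x with hv
  have hαx := autFun_mem α hx
  have huZ : u ∈ ctr R := hdispC _ hαx
  have hvZ : v ∈ ctr R := hdispC x hx
  -- the quotient of `α'` by `α`
  have hs : autFun (α⁻¹ * α') x = x * (u * v⁻¹) := by
    have h1 : autFun α' (autFun β x) = autFun β (autFun α x) := by
      rw [hα'e _ (hβQmem x hx), hiβ x (Subgroup.mem_sup_left hx), hge x hx]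
    have hxv : autFun β x = x * v := (mul_inv_cancel_left _ _).symm
    have hα'v : autFun α' v = v := hCfix ⟨α', hα'⟩ v hvZ
    rw [hxv, autFun_isHom α' _ hx _ (hZQ _ hvZ), hα'v] at h1
    have h2 : autFun α' x = autFun α x * (u * v⁻¹) := by
      rw [hu, ← mul_assoc, ← mul_assoc, mul_inv_cancel, one_mul, ← h1, mul_inv_cancel_right]
    have huv : u * v⁻¹ ∈ ctr R := Subgroup.mul_mem _ huZ (Subgroup.inv_mem _ hvZ)
    rw [autFun_mul, h2, autFun_isHom α⁻¹ _ hαx _ (hZQ _ huv), autFun_inv_apply]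
    congr 1
    exact hCfix ⟨α⁻¹, Subgroup.inv_mem _ hα⟩ _ huv
  have hsK : (⟨α⁻¹ * α', Subgroup.mul_mem _ (Subgroup.inv_mem _ hα) hα'⟩ : C.autGroup Q) ∈ K := by
    refine ⟨hCfix _, fun w hw => ?_⟩
    have h1 : autFun α' (autFun β w) = autFun β (autFun α w) := by
      rw [hα'e _ (hβQmem w hw), hiβ w (Subgroup.mem_sup_left hw), hge w hw]
    have ha := hdispC _ (autFun_mem α hw)
    have hb := hdispC w hw
    have hwb : autFun β w = w * (w⁻¹ * autFun β w) := (mul_inv_cancel_left _ _).symm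
    rw [hwb, autFun_isHom α' _ hw _ (hZQ _ hb), hCfix ⟨α', hα'⟩ _ hb,
      ← mul_inv_cancel_left (autFun α w) (autFun β (autFun α w))] at h1
    have h2 : autFun α' w =
        autFun α w * ((autFun α w)⁻¹ * autFun β (autFun α w) * (w⁻¹ * autFun β w)⁻¹) := by
      rw [← mul_assoc, ← h1, mul_inv_cancel_right]
    have hab := Subgroup.mul_mem _ ha (Subgroup.inv_mem _ hb)
    show w⁻¹ * autFun (α⁻¹ * α') w ∈ ctr R
    rw [autFun_mul, h2, autFun_isHom α⁻¹ _ (autFun_mem α hw) _ (hZQ _ hab), autFun_inv_apply,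
      hCfix ⟨α⁻¹, Subgroup.inv_mem _ hα⟩ _ hab, inv_mul_cancel_left]
    exact hab
  have hInn : α⁻¹ * α' ∈ Inn Q := by
    rcases hQcase with rfl | hess
    · have hn : C.IsFullyNormalized (centralizerIn S R) :=
        ⟨le_rfl, fun Q hQ => le_of_eq (by rw [Alperin.eq_top_of_card le_rfl hQ rfl])⟩
      obtain ⟨R', hR'⟩ := (fullyNormalized_fullyAutomized hCp hCs hn).2
      have h1 := hKp.le_sylow_of_normal R' hsK
      rw [hR'] at h1
      obtain ⟨t, ht, hte⟩ := mem_autInducedBy_iff'.1 (Subgroup.mem_subgroupOf.1 h1)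
      exact mem_inn_iff.2 ⟨t, ht.1, hte⟩
    · rw [← (Alperin.essential_radical hess hCp).2]
      exact ⟨_, (le_sSup (show K ∈ {N : Subgroup (C.autGroup Q) | N.Normal ∧ IsPGroup p N} from
        ⟨hKn, hKp⟩) : K ≤ pCore p (C.autGroup Q)) hsK, rfl⟩
  obtain ⟨t, ht, hte⟩ := mem_inn_iff.1 hInn
  have htx := hte x hx
  rw [hs] at htx
  set d := u * v⁻¹ with hd
  have hdZ : d ∈ ctr R := Subgroup.mul_mem _ huZ (Subgroup.inv_mem _ hvZ)
  have hdfix : autFun β d = d := by
    have hxV := hQV hx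
    have htV := hQV ht
    have hde : d = x⁻¹ * (t * x * t⁻¹) := by
      rw [← cj_apply, ← htx, inv_mul_cancel_left]
    set a := t⁻¹ * autFun β t with ha
    have haZ : a ∈ ctr R := hdispC t ht
    have hta : autFun β t = t * a := (mul_inv_cancel_left _ _).symm
    have hxv : autFun β x = x * v := (mul_inv_cancel_left _ _).symm
    have hβhom := autFun_isHom β
    rw [hde, hβhom _ (Subgroup.inv_mem _ hxV) _ (Subgroup.mul_mem _ (Subgroup.mul_mem _ htV hxV)
      (Subgroup.inv_mem _ htV)), hβhom.map_inv hxV, hβhom.map_conj htV hxV, hta, hxv]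
    have c1 : a * x = x * a := ctr_commute haZ (hQC hx)
    have c2 : a * v = v * a := hvZ.2 a haZ.1
    have c3 : v * t = t * v := ctr_commute hvZ (hQC ht)
    have c4 : v * (x⁻¹ * t * x) = x⁻¹ * t * x * v :=
      ctr_commute hvZ ((centralizerIn S R).mul_mem ((centralizerIn S R).mul_mem
        ((centralizerIn S R).inv_mem (hQC hx)) (hQC ht)) (hQC hx))
    calc (x * v)⁻¹ * (t * a * (x * v) * (t * a)⁻¹)
        = v⁻¹ * (x⁻¹ * t * (a * x) * v * a⁻¹) * t⁻¹ := by group
      _ = v⁻¹ * (x⁻¹ * t * x * (a * v) * a⁻¹) * t⁻¹ := by rw [c1]; group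
      _ = v⁻¹ * (x⁻¹ * t * x * v) * t⁻¹ := by rw [c2]; group
      _ = x⁻¹ * (t * x * t⁻¹) := by rw [← c4]; group
  -- iterate `β`
  have hcalc : ∀ n : ℕ, ∃ z ∈ ctr R, autFun (β ^ n) x = x * z ∧
      autFun (β ^ n) (autFun α x) = autFun α x * (z * d ^ n) := by
    intro n
    induction n with
    | zero => exact ⟨1, Subgroup.one_mem _, by rw [pow_zero, autFun_one, id, mul_one],
        by rw [pow_zero, autFun_one, pow_zero, id, mul_one, mul_one]⟩
    | succ n ih =>
      obtain ⟨z, hz, h1, h2⟩ := ih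
      have hβhom := autFun_isHom β
      have hzV : z ∈ R ⊔ centralizerIn S R := Subgroup.mem_sup_left hz.1
      have hdV : d ∈ R ⊔ centralizerIn S R := Subgroup.mem_sup_left hdZ.1
      have hβz : autFun β z ∈ ctr R := by
        obtain ⟨α₀, -, he⟩ := hβ.res
        rw [he z hz.1]
        exact autFun_ctr hz
      have hdn : ∀ k : ℕ, autFun β (d ^ k) = d ^ k := by
        intro k
        induction k with
        | zero => rw [pow_zero, hβhom.map_one]
        | succ k ihk => rw [pow_succ, hβhom _ (Subgroup.pow_mem _ hdV k) _ hdV, ihk, hdfix]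
      refine ⟨v * autFun β z, Subgroup.mul_mem _ hvZ hβz, ?_, ?_⟩
      · rw [pow_succ', autFun_mul, h1, hβhom _ (hQV hx) _ hzV,
          show autFun β x = x * v from (mul_inv_cancel_left _ _).symm, mul_assoc]
      · rw [pow_succ', autFun_mul, h2,
          hβhom _ (hQV hαx) _ (Subgroup.mul_mem _ hzV (Subgroup.pow_mem _ hdV n)),
          hβhom _ hzV _ (Subgroup.pow_mem _ hdV n), hdn,
          show autFun β (autFun α x) = autFun α x * u from (mul_inv_cancel_left _ _).symm,
          pow_succ']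
        have c1 : u = d * v := by rw [hd, inv_mul_cancel_right]
        have c2 : d * (v * autFun β z) = v * autFun β z * d :=
          (Subgroup.mul_mem (ctr R) hvZ hβz).2 d hdZ.1
        rw [c1]
        calc autFun α x * (d * v) * (autFun β z * d ^ n)
            = autFun α x * (d * (v * autFun β z) * d ^ n) := by group
          _ = autFun α x * (v * autFun β z * (d * d ^ n)) := by rw [c2]; group
  obtain ⟨z, -, h1, h2⟩ := hcalc (orderOf β)
  rw [pow_orderOf_eq_one, autFun_one, id] at h1 h2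
  have hz1 : z = 1 := mul_eq_left.1 h1.symm
  rw [hz1, one_mul] at h2
  obtain ⟨k, hk⟩ := hS ⟨d, hRS hdZ.1⟩
  have hd1 : d = 1 := Elementwise.eq_one_of_coprime_pow ⟨k, congrArg Subtype.val hk⟩ hβ.coprime
    (mul_eq_left.1 h2.symm)
  exact mul_inv_eq_one.1 hd1

/-- An element fixed by some extension of the restriction of a good automorphism is fixed by it. -/
theorem good_fixes (hS : IsPGroup p S) (hF : F.IsSaturated p)
    {β : MulAut (R ⊔ centralizerIn S R : Subgroup Ω)} (hβ : IsGood F D p R β) {y : Ω}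
    (hy : y ∈ centralizerIn S R) {h : Ω → Ω} (hh : IsMap F (R ⊔ Subgroup.zpowers y) h)
    (hhR : ∀ x ∈ R, h x = autFun β x) (hhy : h y = y) : autFun β y = y := by
  have hRS : R ≤ S := hβ.fn.1
  obtain ⟨C, hC⟩ := KNormalizer.exists_centralizerSystem (F := F) hRS
  have hyV : y ∈ R ⊔ centralizerIn S R := Subgroup.mem_sup_right hy
  have hle : R ⊔ Subgroup.zpowers y ≤ R ⊔ centralizerIn S R :=
    sup_le le_sup_left (Subgroup.zpowers_le.2 hyV)
  have hβm := (isMap_of_mem_autGroup (sup_le hRS centralizerIn_le) hβ.mem).restrict hle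
  obtain ⟨i, hi, hiimg, hiβ, -⟩ := hβm.exists_inv
  have hψ : IsMap F (img (autFun β) (R ⊔ Subgroup.zpowers y)) (fun w => h (i w)) :=
    hh.comp hi fun w hw => hiimg.le (mem_img_self i hw)
  have hRβ : img (autFun β) R = R := by
    have : Finite R := finite_of_le hRS
    exact eq_of_le_card (img_le fun r hr => hβ.mem_R hr) (hβm.restrict le_sup_left).card_img.ge
  set y' := autFun β y with hy'
  have hm := hβ.moves y hy
  set z := y⁻¹ * y' with hz
  have hyz : y' = y * z := (mul_inv_cancel_left _ _).symm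
  have hy'C : y' ∈ centralizerIn S R := hyz ▸ Subgroup.mul_mem _ hy (ctr_le hRS hm)
  have hy'dom : y' ∈ img (autFun β) (R ⊔ Subgroup.zpowers y) :=
    mem_img_self _ (Subgroup.mem_sup_right (Subgroup.mem_zpowers y))
  have hdom : Subgroup.zpowers y' ⊔ R ≤ img (autFun β) (R ⊔ Subgroup.zpowers y) := by
    refine sup_le (Subgroup.zpowers_le.2 hy'dom) ?_
    conv_lhs => rw [← hRβ]
    exact img_mono _ le_sup_left
  have hψ' := hψ.restrict hdom
  have hψy : h (i y') = y := by
    rw [hy', hiβ y (Subgroup.mem_sup_right (Subgroup.mem_zpowers y)), hhy]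
  have hψR : ∀ r ∈ R, h (i r) = r := by
    intro r hr
    obtain ⟨r', hr', rfl⟩ := (hβm.restrict le_sup_left).mem_img.1 (hRβ.ge hr)
    rw [hiβ r' (Subgroup.mem_sup_left hr'), hhR r' hr']
  have hmC : IsMap C (Subgroup.zpowers y') (fun w => h (i w)) := by
    refine (isMap_cent_iff hC).2 ⟨Subgroup.zpowers_le.2 hy'C, ?_, fun w => h (i w), hψ',
      fun _ _ => rfl, hψR⟩
    have hle' : img (fun w => h (i w)) (Subgroup.zpowers y') ≤ centralizerIn S R := by
      intro w hw
      obtain ⟨w', hw', rfl⟩ := (hψ'.restrict le_sup_left).mem_img.1 hw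
      refine ⟨hψ'.mem (Subgroup.mem_sup_left hw'), ?_⟩
      have h1 := hψ'.mem_centralizer_img le_sup_right (Subgroup.mem_sup_left hw')
        ((Subgroup.zpowers_le.2 hy'C) hw').2
      rwa [img_congr (g := id) hψR, img_id] at h1
    exact fun w hw => hle' (mem_img_self _ hw)
  have h1 := disp_eq hS hF hβ hC hmC (Subgroup.mem_zpowers y')
  simp only [hψy] at h1
  have hβhom := autFun_isHom β
  have hzV : z ∈ R ⊔ centralizerIn S R := Subgroup.mem_sup_left hm.1
  have hfix : autFun β z = z := by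
    have h2 : y⁻¹ * autFun β y = y'⁻¹ * autFun β y' := h1
    rw [← hy', hyz, hβhom _ hyV _ hzV, ← hy', hyz, mul_inv_rev, mul_assoc, ← mul_assoc y⁻¹,
      inv_mul_cancel, one_mul, mul_assoc, ← mul_assoc y⁻¹ y, inv_mul_cancel, one_mul,
      inv_mul_cancel_left] at h2
    exact h2.symm
  have hzn : ∀ n : ℕ, autFun β (z ^ n) = z ^ n := by
    intro n
    induction n with
    | zero => rw [pow_zero, hβhom.map_one]
    | succ n ih => rw [pow_succ, hβhom _ (Subgroup.pow_mem _ hzV n) _ hzV, ih, hfix]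
  have hpow : ∀ n : ℕ, autFun (β ^ n) y = y * z ^ n := by
    intro n
    induction n with
    | zero => rw [pow_zero, autFun_one, pow_zero, mul_one]; rfl
    | succ n ih =>
      rw [pow_succ', autFun_mul, ih, hβhom _ hyV _ (Subgroup.pow_mem _ hzV n), hzn, ← hy', hyz,
        pow_succ', mul_assoc]
  have h2 := hpow (orderOf β)
  rw [pow_orderOf_eq_one, autFun_one, id] at h2
  obtain ⟨k, hk⟩ := hS ⟨z, hRS hm.1⟩
  have hz1 : z = 1 := Elementwise.eq_one_of_coprime_pow ⟨k, congrArg Subtype.val hk⟩ hβ.coprime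
    (mul_eq_left.1 h2.symm)
  rw [hyz, hz1, mul_one]

/-! ### Subgroups fixed by the good automorphisms are centralized by `D` -/

/-- A subgroup of `C_S(T)`, stable under the maps defined on `T C_S(T)` stabilizing `T` and fixed
by every good automorphism, is centralized by `D`. -/
theorem ext_fix (hS : IsPGroup p S) (hF : F.IsSaturated p) (hD : D.IsNormalIn F p)
    {H : Subgroup Ω} (hH : H ≤ centralizerIn S T)
    (hstab : ∀ θ, IsMap F (T ⊔ centralizerIn S T) θ → img θ T = T → img θ H ≤ H)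
    (hfix : ∀ (R : Subgroup Ω) (β : MulAut (R ⊔ centralizerIn S R : Subgroup Ω)),
      IsGood F D p R β → ∀ y ∈ H, autFun β y = y)
    {P : Subgroup Ω} {f : Ω → Ω} (hf : IsMap D P f) :
    ∃ g, IsMap F (P ⊔ H) g ∧ (∀ x ∈ P, g x = f x) ∧ ∀ y ∈ H, g y = y := by
  have hinv : D.IsInvariantIn F := hD.1.2.2
  have hTS : T ≤ S := subsystem_le hinv.1
  have hfinT : Finite T := finite_of_le hTS
  have hTp : IsPGroup p T := hS.to_le hTS
  have hHS : H ≤ S := hH.trans centralizerIn_le
  have hfinH : Finite H := finite_of_le hHS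
  have hTH : T ≤ Subgroup.centralizer (H : Set Ω) := fun t ht y hy => ((hH hy).2 t ht).symm
  have hTn : T ≤ Subgroup.normalizer (H : Set Ω) :=
    hTH.trans (Subgroup.centralizer_le_normalizer _)
  have hW : ∀ a ∈ T, ∀ q ∈ H, q⁻¹ * (a * q * a⁻¹) ∈ (⊥ : Subgroup Ω) := by
    intro a ha q hq
    rw [← hTH ha q hq, mul_inv_cancel_right, inv_mul_cancel]
    exact Subgroup.one_mem _
  set M := movSystem F D H ⊥ hTS hHS hTn hW with hM
  suffices hall : D ≤ M by
    obtain ⟨φ, hφ, he⟩ := hf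
    obtain ⟨-, g, hg, hge, -, hgW⟩ := hall P hφ
    exact ⟨g, hg, fun x hx => (hge ⟨x, hx⟩).symm.trans (he ⟨x, hx⟩),
      fun q hq => (inv_mul_eq_one.1 (Subgroup.mem_bot.1 (hgW q hq))).symm⟩
  have hMmap : ∀ {P : Subgroup Ω} {f : Ω → Ω}, IsMap M P f →
      ∃ g, IsMap F (P ⊔ H) g ∧ (∀ x ∈ P, g x = f x) ∧ ∀ y ∈ H, g y = y := by
    intro P f hf
    obtain ⟨φ, ⟨-, g, hg, hge, -, hgW⟩, he⟩ := hf
    exact ⟨g, hg, fun x hx => (hge ⟨x, hx⟩).symm.trans (he ⟨x, hx⟩),
      fun q hq => (inv_mul_eq_one.1 (Subgroup.mem_bot.1 (hgW q hq))).symm⟩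
  refine le_of_above hTp hD.1.1 fun P hP habove => ?_
  have hfinP : Finite P := finite_of_le hP.1
  by_cases hext : P ≠ T ∧ Alperin.extGroup D P = D.autGroup P
  · rw [← hext.2, Alperin.extGroup, Subgroup.closure_le]
    rintro α ⟨Q, g, hPQ, hg, he⟩
    have : Finite Q := finite_of_le hg.le
    exact (mem_autGroup_iff hP.1).2 (((habove Q g (card_lt_card hPQ) hg).restrict hPQ.le).congr he)
  refine autGroup_le_mov hS hD.1.1 hP fun α hα hαc => ?_
  have hPc : D.IsCentric P := by
    rcases eq_or_lt_of_le hP.1 with rfl | hlt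
    · exact ⟨le_rfl, fun R' hR' => by
        rw [Alperin.eq_top_of_card le_rfl hR' rfl]; exact inf_le_left⟩
    · exact ((Alperin.essential_iff hTp hD.1.1 hlt hP).2 fun h => hext ⟨hlt.ne, h⟩).1
  have hPS : P ≤ S := hP.1.trans hTS
  -- a map `χ` of `F` on `P H` onto a fully normalized image
  obtain ⟨χ, hχ, hχn, hχH⟩ : ∃ χ, IsMap F (P ⊔ H) χ ∧ F.IsFullyNormalized (img χ P) ∧
      img χ H = H := by
    rcases eq_or_lt_of_le hP.1 with rfl | hlt
    · refine ⟨id, isMap_id (sup_le hTS hHS), ?_, img_id H⟩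
      rw [img_id]
      refine ⟨hTS, fun Q hQ => le_of_eq ?_⟩
      obtain ⟨k, hk, rfl⟩ := isConj_iff_map.1 hQ
      rw [stronglyClosed_img hinv.2.1 hk le_rfl]
    obtain ⟨P₁, hPP₁, hP₁⟩ := exists_fullyNormalized (F := F) hPS
    obtain ⟨g, hg, hgP⟩ := exists_map_to_fullyNormalized hS hF hP₁ hPP₁
    have hN : normalizerIn T P ≤ normalizerIn S P := inf_le_inf_right _ hTS
    obtain ⟨a, ha, e, he, hge⟩ := invariant_frattini hinv normalizerIn_le (hg.restrict hN)
    have hfinN : Finite (normalizerIn T P) := finite_of_le normalizerIn_le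
    obtain ⟨ê, hê, hêe, hêH⟩ := hMmap (habove _ e (card_lt_card (lt_normalizerIn hTp hlt)) he)
    have haT : IsMap F T (autFun a) := isMap_of_mem_autGroup hTS ha
    have hfc : F.IsFullyCentralized (img (autFun a) T) := by
      rw [autFun_img]
      refine ⟨hTS, fun Q hQ => le_of_eq ?_⟩
      obtain ⟨k, hk, rfl⟩ := isConj_iff_map.1 hQ
      rw [stronglyClosed_img hinv.2.1 hk le_rfl]
    obtain ⟨θ, hθ, hθe⟩ := exists_extension hS hF haT hfc
    have hθ' := hθ.restrict (sup_le (le_nSub haT) centralizerIn_le_nSub :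
      T ⊔ centralizerIn S T ≤ nSub S T (autFun a))
    have hθH : img θ H = H := eq_of_le_card
      (hstab θ hθ' (by rw [img_congr hθe, autFun_img]))
      (hθ'.restrict (hH.trans le_sup_right)).card_img.ge
    have hPN : P ≤ normalizerIn T P := le_normalizerIn hP.1
    have hê' := hê.restrict (sup_le_sup_right hPN H)
    have hdom : ∀ x ∈ P ⊔ H, ê x ∈ T ⊔ centralizerIn S T := by
      intro x hx
      have h1 : img ê (P ⊔ H) ≤ T ⊔ centralizerIn S T := by
        rw [hê'.img_sup, img_congr (g := id) hêH, img_id]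
        refine sup_le ((img_le fun w hw => ?_).trans le_sup_left) (hH.trans le_sup_right)
        rw [hêe w (hPN hw)]
        exact he.mem (hPN hw)
      exact h1 (mem_img_self ê hx)
    refine ⟨fun x => θ (ê x), hθ'.comp hê' hdom, ?_, ?_⟩
    · have h1 : img (fun x => θ (ê x)) P = P₁ := by
        rw [← hgP]
        refine img_congr fun x hx => ?_
        rw [hêe x (hPN hx), hθe _ (he.mem (hPN hx)), hge x (hPN hx)]
      rw [h1]
      exact hP₁
    · rw [← (hê'.restrict le_sup_right).img_img, img_congr (g := id) hêH, img_id, hθH]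
  set P₁ := img χ P with hP₁def
  have hχP := hχ.restrict (le_sup_left : P ≤ P ⊔ H)
  have hP₁c : D.IsCentric P₁ := GoodExtension.centric_conj_invariant hinv hPc hχP.isConj
  have hfinP₁ : Finite P₁ := finite_of_le hχn.1
  obtain ⟨e, he⟩ := hχP.exists_autEquiv
  set α₁ := e ⟨α, (mem_autGroup_iff hPS).2 (isMap_of_subset hinv.1 (isMap_of_mem_autGroup hP.1 hα))⟩
    with hα₁
  have hα₁e : ∀ x ∈ P, autFun (α₁ : MulAut P₁) (χ x) = χ (autFun α x) := fun x hx => he _ x hx
  have hα₁D : (α₁ : MulAut P₁) ∈ D.autGroup P₁ := by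
    obtain ⟨a, ha, e₀, he₀, hee⟩ := invariant_frattini hinv hP.1 hχP
    obtain ⟨j, hj, hjimg, hje, -⟩ := he₀.exists_inv
    have hjP : ∀ w ∈ img e₀ P, j w ∈ P := fun w hw => hjimg.le (mem_img_self j hw)
    have hm : IsMap D (img e₀ P) (fun w => e₀ (autFun α (j w))) :=
      he₀.comp ((isMap_of_mem_autGroup hP.1 hα).comp hj hjP) fun w hw =>
        autFun_mem α (hjP w hw)
    obtain ⟨k, hk, hke⟩ := invariant_transport hinv hm.le hm ha
    have hdom : img (autFun a) (img e₀ P) = P₁ := by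
      rw [he₀.img_img, hP₁def]
      exact (img_congr hee).symm
    rw [hdom] at hk
    refine (mem_autGroup_iff hP₁c.1).2 (hk.congr fun w hw => ?_)
    obtain ⟨x, hx, rfl⟩ := hχP.mem_img.1 hw
    rw [hα₁e x hx, hee x hx, hke _ (mem_img_self e₀ hx), hje x hx, hee _ (autFun_mem α hx)]
  have hα₁c : (orderOf (α₁ : MulAut P₁)).Coprime p := by
    rw [Subgroup.orderOf_coe, hα₁, MulEquiv.orderOf_eq, Subgroup.orderOf_mk]
    exact hαc
  obtain ⟨β, hβ, hβe⟩ := exists_good hS hF hD hP₁c hχn hα₁D hα₁c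
  obtain ⟨i, hi, hiimg, hiχ, -⟩ := hχ.exists_inv
  rw [hχ.img_sup, hχH] at hi hiimg
  have hHV : H ≤ P₁ ⊔ centralizerIn S P₁ := fun y hy => Subgroup.mem_sup_right
    ⟨hHS hy, fun w hw => (hH hy).2 w (hP₁c.1 hw)⟩
  have hle : P₁ ⊔ H ≤ P₁ ⊔ centralizerIn S P₁ := sup_le le_sup_left hHV
  have hβm := (isMap_of_mem_autGroup (sup_le hχn.1 centralizerIn_le) hβ.mem).restrict hle
  have hβv : ∀ w ∈ P₁ ⊔ H, autFun β w ∈ P₁ ⊔ H := by
    intro w hw
    have h1 : img (autFun β) (P₁ ⊔ H) ≤ P₁ ⊔ H := by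
      rw [hβm.img_sup, img_congr hβe, autFun_img, img_congr (g := id) (hfix P₁ β hβ), img_id]
    exact h1 (mem_img_self _ hw)
  have hχv : ∀ x ∈ P ⊔ H, χ x ∈ P₁ ⊔ H := by
    intro x hx
    have h1 := mem_img_self χ hx
    rwa [hχ.img_sup, hχH] at h1
  have hfixH : ∀ y ∈ H, i (autFun β (χ y)) = y := fun y hy => by
    rw [hfix P₁ β hβ _ (hχH.le (mem_img_self χ hy)), hiχ y (Subgroup.mem_sup_right hy)]
  refine ⟨fun x => i (autFun β (χ x)), hi.comp (hβm.comp hχ hχv) fun x hx => hβv _ (hχv x hx),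
    fun x hx => ?_, (img_congr (g := id) hfixH).trans (img_id H), fun y hy => ?_⟩
  · show i (autFun β (χ x)) = autFun α x
    rw [hβe _ (mem_img_self χ hx), hα₁e x hx, hiχ _ (Subgroup.mem_sup_left (autFun_mem α hx))]
  · show y⁻¹ * i (autFun β (χ y)) ∈ (⊥ : Subgroup Ω)
    rw [hfixH y hy, inv_mul_cancel]
    exact Subgroup.one_mem _

/-! ### The centralizer of a normal subsystem -/

/-- The elements of `C_S(T)` fixed by some extension of each map of `D`. -/
def gens (F : FusionSystem S) (D : FusionSystem T) : Set Ω :=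
  {y | y ∈ centralizerIn S T ∧ ∀ (P : Subgroup Ω) (f : Ω → Ω), IsMap D P f → Fixes F y P f}

/-- `C_S(D)`. -/
def cent (F : FusionSystem S) (D : FusionSystem T) : Subgroup Ω := Subgroup.closure (gens F D)

omit [Finite S] [Fact p.Prime] in
theorem cent_le : cent F D ≤ centralizerIn S T := (Subgroup.closure_le _).2 fun _ hy => hy.1

omit [Fact p.Prime] in
/-- A map of `F` stabilizing `T` transports the elements centralized by `D`. -/
theorem transport_gens (hD : D.IsInvariantIn F) {y : Ω} (hy : y ∈ gens F D) {θ : Ω → Ω}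
    (hθ : IsMap F (T ⊔ Subgroup.zpowers y) θ) (hθT : img θ T = T) : θ y ∈ gens F D := by
  have hTS : T ≤ S := subsystem_le hD.1
  have hθT' := hθ.restrict (le_sup_left : T ≤ T ⊔ Subgroup.zpowers y)
  obtain ⟨a, ha, hae⟩ := hθT'.exists_aut hθT
  have hydom : y ∈ T ⊔ Subgroup.zpowers y := Subgroup.mem_sup_right (Subgroup.mem_zpowers y)
  refine ⟨⟨hθ.mem hydom, ?_⟩, fun P f hf => ?_⟩
  · have h := hθ.mem_centralizer_img le_sup_left hydom hy.1.2
    rwa [hθT] at h
  have hPT := hf.le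
  obtain ⟨f₀, hf₀, hf₀e⟩ := invariant_transport hD hPT hf (Subgroup.inv_mem _ ha)
  obtain ⟨h, hh, hhe, hhy⟩ := hy.2 _ f₀ hf₀
  obtain ⟨i, hi, -, hiθ, -⟩ := hθ.exists_inv
  have hP₀T : img (autFun a⁻¹) P ≤ T := img_le fun x hx => autFun_mem _ (hPT hx)
  have hP₀ : img (autFun a⁻¹) P ⊔ Subgroup.zpowers y ≤ T ⊔ Subgroup.zpowers y :=
    sup_le_sup_right hP₀T _
  have hPdom : P ⊔ Subgroup.zpowers (θ y) ≤ img θ (T ⊔ Subgroup.zpowers y) :=
    sup_le (by rw [hθ.img_sup, hθT]; exact hPT.trans le_sup_left)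
      (Subgroup.zpowers_le.2 (mem_img_self θ hydom))
  have hiP : ∀ x ∈ P, i x = autFun a⁻¹ x := by
    intro x hx
    have h1 : autFun a⁻¹ x ∈ T := autFun_mem _ (hPT hx)
    have h2 := hiθ _ (Subgroup.mem_sup_left h1)
    rwa [← hae _ h1, autFun_apply_inv] at h2
  have hi' := hi.restrict hPdom
  have himem : ∀ w ∈ P ⊔ Subgroup.zpowers (θ y),
      i w ∈ img (autFun a⁻¹) P ⊔ Subgroup.zpowers y := by
    intro w hw
    have h1 : img i (P ⊔ Subgroup.zpowers (θ y)) ≤
        img (autFun a⁻¹) P ⊔ Subgroup.zpowers y := by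
      rw [hi'.img_sup]
      refine sup_le ((img_le fun x hx => ?_).trans le_sup_left) ((img_le ?_).trans le_sup_right)
      · rw [hiP x hx]
        exact mem_img_self _ hx
      · intro w hw
        obtain ⟨m, rfl⟩ := Subgroup.mem_zpowers_iff.1 hw
        have hk : ∀ k : ℕ, i (θ y ^ k) = y ^ k := by
          intro k
          induction k with
          | zero => rw [pow_zero, pow_zero, hi'.map_one]
          | succ k ih =>
            have hm : θ y ∈ P ⊔ Subgroup.zpowers (θ y) :=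
              Subgroup.mem_sup_right (Subgroup.mem_zpowers _)
            rw [pow_succ, pow_succ, hi'.map_mul (Subgroup.pow_mem _ hm k) hm, ih, hiθ y hydom]
        rcases m with k | k
        · rw [Int.ofNat_eq_natCast, zpow_natCast, hk]
          exact Subgroup.pow_mem _ (Subgroup.mem_zpowers y) k
        · rw [zpow_negSucc, hi'.map_inv (Subgroup.mem_sup_right
            (Subgroup.pow_mem _ (Subgroup.mem_zpowers _) _)), hk]
          exact Subgroup.inv_mem _ (Subgroup.pow_mem _ (Subgroup.mem_zpowers y) _)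
    exact h1 (mem_img_self i hw)
  have hhv : ∀ w ∈ img (autFun a⁻¹) P ⊔ Subgroup.zpowers y, h w ∈ T ⊔ Subgroup.zpowers y := by
    intro w hw
    have h1 : img h (img (autFun a⁻¹) P ⊔ Subgroup.zpowers y) ≤ T ⊔ Subgroup.zpowers y := by
      rw [hh.img_sup]
      refine sup_le ((img_le fun x hx => ?_).trans le_sup_left) ((img_le ?_).trans le_sup_right)
      · rw [hhe x hx]
        exact hf₀.mem hx
      · intro w hw
        obtain ⟨w', rfl⟩ := Subgroup.mem_zpowers_iff.1 hw
        rcases w' with k | k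
        · have hk : h (y ^ k) = y ^ k := by
            clear hw
            induction k with
            | zero => rw [pow_zero, hh.map_one]
            | succ k ih =>
              have hm : y ∈ img (autFun a⁻¹) P ⊔ Subgroup.zpowers y :=
                Subgroup.mem_sup_right (Subgroup.mem_zpowers y)
              rw [pow_succ, hh.map_mul (Subgroup.pow_mem _ hm k) hm, ih, hhy]
          rw [Int.ofNat_eq_natCast, zpow_natCast, hk]
          exact Subgroup.pow_mem _ (Subgroup.mem_zpowers y) k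
        · have hk : ∀ j : ℕ, h (y ^ j) = y ^ j := by
            intro j
            induction j with
            | zero => rw [pow_zero, hh.map_one]
            | succ j ih =>
              have hm : y ∈ img (autFun a⁻¹) P ⊔ Subgroup.zpowers y :=
                Subgroup.mem_sup_right (Subgroup.mem_zpowers y)
              rw [pow_succ, hh.map_mul (Subgroup.pow_mem _ hm j) hm, ih, hhy]
          rw [zpow_negSucc, hh.map_inv (Subgroup.mem_sup_right
            (Subgroup.pow_mem _ (Subgroup.mem_zpowers _) _)), hk]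
          exact Subgroup.inv_mem _ (Subgroup.pow_mem _ (Subgroup.mem_zpowers y) _)
    exact h1 (mem_img_self h hw)
  refine ⟨fun w => θ (h (i w)), hθ.comp (hh.comp hi' himem) fun w hw => hhv _ (himem w hw),
    fun x hx => ?_, ?_⟩
  · show θ (h (i x)) = f x
    rw [hiP x hx, hhe _ (mem_img_self _ hx), hf₀e x hx, ← hae _ (autFun_mem _ (hf.mem hx)),
      autFun_apply_inv]
  · show θ (h (i (θ y))) = θ y
    rw [hiθ y hydom, hhy]

omit [Fact p.Prime] in
theorem transport_cent (hD : D.IsInvariantIn F) {θ : Ω → Ω}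
    (hθ : IsMap F (T ⊔ cent F D) θ) (hθT : img θ T = T) : img θ (cent F D) = cent F D := by
  have hfin : Finite (cent F D) := finite_of_le (cent_le.trans centralizerIn_le)
  refine eq_of_le_card (img_le fun y hy => ?_) (hθ.restrict le_sup_right).card_img.ge
  have key : ∀ z ∈ cent F D, θ z ∈ cent F D := by
    intro z hz
    refine Subgroup.closure_induction
      (p := fun z _ => θ z ∈ cent F D) (fun z hz => ?_) ?_ (fun a b ha hb iha ihb => ?_)
      (fun a ha iha => ?_) hz
    · exact Subgroup.subset_closure (transport_gens hD hz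
        (hθ.restrict (sup_le_sup_left (Subgroup.zpowers_le.2 (Subgroup.subset_closure hz)) T)) hθT)
    · rw [hθ.map_one]; exact Subgroup.one_mem _
    · rw [hθ.map_mul (Subgroup.mem_sup_right ha) (Subgroup.mem_sup_right hb)]
      exact Subgroup.mul_mem _ iha ihb
    · rw [hθ.map_inv (Subgroup.mem_sup_right ha)]
      exact Subgroup.inv_mem _ iha
  exact key y hy

theorem good_fixes_cent (hS : IsPGroup p S) (hF : F.IsSaturated p)
    {β : MulAut (R ⊔ centralizerIn S R : Subgroup Ω)} (hβ : IsGood F D p R β) {y : Ω}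
    (hy : y ∈ cent F D) : autFun β y = y := by
  have hCR : centralizerIn S T ≤ centralizerIn S R := fun x hx =>
    ⟨hx.1, fun w hw => hx.2 w (hβ.centric.1 hw)⟩
  have hV : ∀ x ∈ cent F D, x ∈ R ⊔ centralizerIn S R := fun x hx =>
    Subgroup.mem_sup_right (hCR (cent_le hx))
  refine Subgroup.closure_induction (p := fun z _ => autFun β z = z) (fun z hz => ?_) ?_
    (fun a b ha hb iha ihb => ?_) (fun a ha iha => ?_) hy
  · obtain ⟨α, hα, he⟩ := hβ.res
    obtain ⟨h, hh, hhe, hhz⟩ := hz.2 R _ (isMap_of_mem_autGroup hβ.centric.1 hα)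
    exact good_fixes hS hF hβ (hCR hz.1) hh (fun x hx => by rw [hhe x hx, he x hx]) hhz
  · exact (autFun_isHom β).map_one
  · rw [autFun_isHom β _ (hV a ha) _ (hV b hb), iha, ihb]
  · rw [(autFun_isHom β).map_inv (hV a ha), iha]

/-- Every map of `D` has an extension fixing `C_S(D)`. -/
theorem exists_ext_cent (hS : IsPGroup p S) (hF : F.IsSaturated p) (hD : D.IsNormalIn F p)
    {P : Subgroup Ω} {f : Ω → Ω} (hf : IsMap D P f) :
    ∃ g, IsMap F (P ⊔ cent F D) g ∧ (∀ x ∈ P, g x = f x) ∧ ∀ y ∈ cent F D, g y = y :=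
  ext_fix hS hF hD cent_le
    (fun θ hθ hθT => (transport_cent hD.1.2.2 (hθ.restrict (sup_le_sup_left cent_le T)) hθT).le)
    (fun R β hβ y hy => good_fixes_cent hS hF hβ hy) hf

theorem mem_gens (hS : IsPGroup p S) (hF : F.IsSaturated p) (hD : D.IsNormalIn F p) {y : Ω}
    (hy : y ∈ cent F D) : y ∈ gens F D := by
  refine ⟨cent_le hy, fun P f hf => ?_⟩
  obtain ⟨g, hg, hge, hgfix⟩ := exists_ext_cent hS hF hD hf
  exact ⟨g, hg.restrict (sup_le_sup_left (Subgroup.zpowers_le.2 hy) P), hge, hgfix y hy⟩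

omit [Finite S] [Fact p.Prime] in
/-- `C_S(D)` contains every subgroup centralized by `D`. -/
theorem le_cent {Y : Subgroup Ω} (hY : Y ≤ centralizerIn S T)
    (h : ∀ P : Subgroup Ω, D.Hom P ⊆ F.centralizerHom Y P) : Y ≤ cent F D := by
  refine fun y hy => Subgroup.subset_closure ⟨hY hy, fun P f hf => ?_⟩
  obtain ⟨φ, hφ, he⟩ := hf
  obtain ⟨-, -, -, ψ, hψ, hψe, hψfix⟩ := h P hφ
  refine ⟨ext ψ, (IsMap.of_hom hψ).restrict (sup_le_sup_left (Subgroup.zpowers_le.2 hy) P),
    fun x hx => ?_, ?_⟩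
  · rw [ext_of_mem ψ (Subgroup.mem_sup_left hx), ← he ⟨x, hx⟩]
    exact hψe ⟨x, hx⟩
  · rw [ext_of_mem ψ (Subgroup.mem_sup_right hy)]
    exact hψfix ⟨y, hy⟩

theorem hom_subset_centralizerHom (hS : IsPGroup p S) (hF : F.IsSaturated p)
    (hD : D.IsNormalIn F p) (P : Subgroup Ω) : D.Hom P ⊆ F.centralizerHom (cent F D) P := by
  intro φ hφ
  have hTS : T ≤ S := subsystem_le hD.1.2.2.1
  obtain ⟨g, hg, hge, hgfix⟩ := exists_ext_cent hS hF hD (IsMap.of_hom hφ)
  have hT : ∀ x ∈ T, x ∈ centralizerIn S (cent F D) := fun x hx =>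
    ⟨hTS hx, fun y hy => ((cent_le hy).2 x hx).symm⟩
  refine ⟨hD.1.2.2.1 P hφ, fun x hx => hT x ((D.le_of_mem hφ).1 hx),
    fun x => hT _ ((D.le_of_mem hφ).2 x), hg.hom, hg.hom_mem_self, fun x => ?_, fun y => ?_⟩
  · rw [IsMap.hom_apply, Subgroup.coe_inclusion, hge x x.2, ext_apply]
  · rw [IsMap.hom_apply, Subgroup.coe_inclusion, hgfix y y.2]

end Cfsg.Agent.Fusion.SubsystemCentralizer
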