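/-
The centralizer in `S` of a normal subsystem is strongly closed.
-/
import Mathlib
import Cfsg.Agent.Lib.Fusion.SubsystemCentralizer
import Cfsg.Agent.Lib.Fusion.SaturationCriterion

set_option autoImplicit false
set_option linter.all false

namespace Cfsg.Agent.Fusion.SubsystemCentralizerClosed

open Cfsg Cfsg.FusionSystem Cfsg.Agent.Fusion.Basic Cfsg.Agent.Fusion.Saturation
  Cfsg.Agent.Fusion.Normal Cfsg.Agent.Fusion.Subsystems Cfsg.Agent.Fusion.CentralizeNormal
  Cfsg.Agent.Fusion.NormalCentralizer Cfsg.Agent.Fusion.SubsystemCentralizer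

variable {Ω : Type*} [Group Ω] {S T P Q R C : Subgroup Ω} {F : FusionSystem S}
  {D : FusionSystem T} {p : ℕ}

/-- The maps preserving membership in `C`. -/
def keepSystem (F : FusionSystem S) (C : Subgroup Ω) (hC : S ≤ Subgroup.normalizer (C : Set Ω)) :
    FusionSystem S where
  Hom P := {φ | φ ∈ F.Hom P ∧ ∀ x : P, (x : Ω) ∈ C ↔ φ x ∈ C}
  le_of_mem h := F.le_of_mem h.1
  injective_of_mem h := F.injective_of_mem h.1
  conj_mem := fun hP ha =>
    ⟨F.conj_mem hP ha, fun x => Subgroup.mem_normalizer_iff.1 (hC ha) x⟩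
  comp_mem := by
    rintro P Q φ ψ ⟨hφ, h1⟩ ⟨hψ, h2⟩ h
    exact ⟨F.comp_mem hφ hψ h, fun x => (h1 x).trans (h2 ⟨φ x, h x⟩)⟩
  inv_mem := by
    rintro P φ ⟨hφ, h1⟩
    obtain ⟨ψ, hψ, hψe⟩ := F.inv_mem hφ
    refine ⟨ψ, ⟨hψ, fun y => ?_⟩, hψe⟩
    obtain ⟨x, hx⟩ := y.2
    obtain rfl : y = ⟨φ x, ⟨x, rfl⟩⟩ := Subtype.ext hx.symm
    rw [hψe]
    exact (h1 x).symm

theorem keep_iff {hC : S ≤ Subgroup.normalizer (C : Set Ω)} {f : Ω → Ω} :
    IsMap (keepSystem F C hC) P f ↔ IsMap F P f ∧ ∀ x ∈ P, x ∈ C ↔ f x ∈ C := by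
  constructor
  · rintro ⟨φ, ⟨hφ, h⟩, he⟩
    exact ⟨⟨φ, hφ, he⟩, fun x hx => by rw [← he ⟨x, hx⟩]; exact h ⟨x, hx⟩⟩
  · rintro ⟨hf, h⟩
    exact ⟨hf.hom, ⟨hf.hom_mem_self, fun x => h x x.2⟩, fun _ => rfl⟩

variable [Finite S] [Fact p.Prime]

omit [Fact p.Prime] in
theorem cent_normalized (hD : D.IsInvariantIn F) :
    S ≤ Subgroup.normalizer (cent F D : Set Ω) := by
  intro s hs
  have hTS : T ≤ S := subsystem_le hD.1
  have hfin : Finite (cent F D) := finite_of_le (cent_le.trans centralizerIn_le)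
  have hm : IsMap F (T ⊔ cent F D) (cj s) :=
    isMap_cj (sup_le hTS (cent_le.trans centralizerIn_le)) hs
  have h := transport_cent hD hm
    (img_cj_eq_of_mem_normalizer (le_normalizer_of_stronglyClosed hD.2.1 hs))
  exact mem_normalizer_of_forall fun x hx => h.le (mem_img_self _ hx)

/-- A map defined on `T` preserves membership in `C_S(D)`. -/
theorem keep_of_stable (hS : IsPGroup p S) (hF : F.IsSaturated p) (hD : D.IsNormalIn F p)
    {θ : Ω → Ω} {W : Subgroup Ω} (hθ : IsMap F W θ) (hTW : T ≤ W) {x : Ω} (hx : x ∈ W) :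
    x ∈ cent F D ↔ θ x ∈ cent F D := by
  have key : ∀ {θ : Ω → Ω} {W : Subgroup Ω}, IsMap F W θ → T ≤ W → ∀ {x : Ω}, x ∈ W →
      x ∈ cent F D → θ x ∈ cent F D := by
    intro θ W hθ hTW x hx hxC
    refine Subgroup.subset_closure (transport_gens hD.1.2.2 (mem_gens hS hF hD hxC)
      (hθ.restrict (sup_le hTW (Subgroup.zpowers_le.2 hx)))
      (stronglyClosed_img hD.1.2.2.2.1 (hθ.restrict hTW) le_rfl))
  refine ⟨key hθ hTW hx, fun h => ?_⟩
  obtain ⟨i, hi, -, hiθ, -⟩ := hθ.exists_inv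
  have hT : T ≤ img θ W :=
    (stronglyClosed_img hD.1.2.2.2.1 (hθ.restrict hTW) le_rfl).ge.trans (img_mono θ hTW)
  have h2 := key hi hT (mem_img_self θ hx) h
  rwa [hiθ x hx] at h2

/-- At a fully normalized essential subgroup `Q` with `Q ∩ T` fully normalized, automorphisms
preserve `C_S(D)`, given this above `Q`. -/
theorem keep_essential (hS : IsPGroup p S) (hF : F.IsSaturated p) (hD : D.IsNormalIn F p)
    (hQ : F.IsFullyNormalized Q) (hQc : F.IsCentric Q) (hQr : F.IsRadical p Q) (hTQ : ¬ T ≤ Q)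
    (hR : F.IsFullyNormalized (Q ⊓ T))
    (habove : ∀ (U : Subgroup Ω) (f : Ω → Ω), Nat.card Q < Nat.card U → IsMap F U f →
      ∀ x ∈ U, x ∈ cent F D ↔ f x ∈ cent F D)
    {α : MulAut Q} (hα : α ∈ F.autGroup Q) {y : Ω} (hy : y ∈ Q) :
    y ∈ cent F D ↔ autFun α y ∈ cent F D := by
  have hinv : D.IsInvariantIn F := hD.1.2.2
  have hTS : T ≤ S := subsystem_le hinv.1
  have hTn : S ≤ Subgroup.normalizer (T : Set Ω) := le_normalizer_of_stronglyClosed hinv.2.1
  have hQS : Q ≤ S := hQ.1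
  have hfinQ : Finite Q := finite_of_le hQS
  have hfinT : Finite T := finite_of_le hTS
  have hfinC : Finite (cent F D) := finite_of_le (cent_le.trans centralizerIn_le)
  set R := Q ⊓ T with hRdef
  have hfinR : Finite R := finite_of_le hR.1
  have hQR : ∀ a : F.autGroup Q, ∀ r ∈ R, autFun (a : MulAut Q) r ∈ R := fun a r hr =>
    ⟨autFun_mem _ hr.1,
      stronglyClosed_mem hinv.2.1 (isMap_of_mem_autGroup hQS a.2) hr.1 hr.2⟩
  have hres : ∀ a : F.autGroup Q, ∃ b ∈ F.autGroup R, ∀ r ∈ R,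
      autFun b r = autFun (a : MulAut Q) r := fun a => by
    have hm := (isMap_of_mem_autGroup hQS a.2).restrict (inf_le_left : R ≤ Q)
    exact hm.exists_aut (eq_of_le_card (img_le (hQR a)) hm.card_img.ge)
  -- `C_T(R) ≤ R`
  have hQnR : Q ≤ Subgroup.normalizer (R : Set Ω) := fun q hq =>
    mem_normalizer_of_forall fun r hr => ⟨Q.mul_mem (Q.mul_mem hq hr.1) (Q.inv_mem hq),
      (Subgroup.mem_normalizer_iff.1 (hTn (hQS hq)) r).1 hr.2⟩
  let K : Subgroup (F.autGroup Q) :=
    { carrier := {a | (∀ r ∈ R, autFun (a : MulAut Q) r = r) ∧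
        ∀ w ∈ Q, w⁻¹ * autFun (a : MulAut Q) w ∈ R}
      one_mem' := ⟨fun r _ => by rw [Subgroup.coe_one, autFun_one, id],
        fun w _ => by rw [Subgroup.coe_one, autFun_one, id, inv_mul_cancel]; exact Subgroup.one_mem _⟩
      mul_mem' := by
        rintro a b ⟨ha₁, ha₂⟩ ⟨hb₁, hb₂⟩
        refine ⟨fun r hr => by rw [Subgroup.coe_mul, autFun_mul, hb₁ r hr, ha₁ r hr],
          fun w hw => ?_⟩
        rw [Subgroup.coe_mul, autFun_mul]
        have h := Subgroup.mul_mem _ (hb₂ w hw) (ha₂ _ (autFun_mem (b : MulAut Q) hw))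
        simpa [mul_assoc] using h
      inv_mem' := by
        rintro a ⟨ha₁, ha₂⟩
        refine ⟨fun r hr => ?_, fun w hw => ?_⟩
        · rw [Subgroup.coe_inv]
          conv_lhs => rw [← ha₁ r hr, autFun_inv_apply]
        · rw [Subgroup.coe_inv]
          have h := Subgroup.inv_mem _ (ha₂ _ (autFun_mem (a : MulAut Q)⁻¹ hw))
          rw [autFun_apply_inv] at h
          simpa using h }
  have hKn : K.Normal := by
    refine ⟨fun b hb a => ⟨fun r hr => ?_, fun w hw => ?_⟩⟩
    · rw [Subgroup.coe_mul, Subgroup.coe_mul, autFun_mul, autFun_mul, hb.1 _ (hQR a⁻¹ r hr),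
        Subgroup.coe_inv, autFun_apply_inv]
    · rw [Subgroup.coe_mul, Subgroup.coe_mul, Subgroup.coe_inv, autFun_mul, autFun_mul]
      have hw' := autFun_mem (a : MulAut Q)⁻¹ hw
      have h := hQR a _ (hb.2 _ hw')
      rwa [autFun_isHom (a : MulAut Q) _ (Q.inv_mem hw') _ (autFun_mem _ hw'),
        (autFun_isHom (a : MulAut Q)).map_inv hw', autFun_apply_inv] at h
  have hKp : IsPGroup p K := by
    intro a
    let ch : ℕ → Subgroup Q := fun n => if n = 0 then ⊥ else if n = 1 then R.subgroupOf Q else ⊤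
    obtain ⟨k, hk⟩ := exists_pow_eq_one_of_stabilizes (p := p) (hS.to_le hQS) ch 2
      (if_pos rfl) (by simp [ch]) (fun n hn => by
        rcases n with _ | n
        · exact bot_le.trans' (le_of_eq (if_pos rfl))
        · simp [ch])
      ((a : F.autGroup Q) : MulAut Q) (fun n hn w hw => by
        rcases n with _ | _ | n
        · simp only [ch, if_pos, one_ne_zero, zero_add, if_false] at hw ⊢
          rw [Subgroup.mem_bot, inv_mul_eq_one]
          refine Subtype.ext ?_
          rw [← autFun_apply]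
          exact (a.2.1 _ (Subgroup.mem_subgroupOf.1 hw)).symm
        · simp only [ch, one_ne_zero, if_false, zero_add, if_true]
          rw [Subgroup.mem_subgroupOf, Subgroup.coe_mul, Subgroup.coe_inv, ← autFun_apply]
          exact a.2.2 _ w.2
        · omega)
    exact ⟨k, Subtype.ext (Subtype.ext (by simpa using hk))⟩
  have hCR : centralizerIn T R ≤ R := by
    have hCn : Q ≤ Subgroup.normalizer (centralizerIn T R : Set Ω) := by
      intro q hq
      have : Finite (centralizerIn T R) := finite_of_le centralizerIn_le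
      refine mem_normalizer_of_forall fun t ht =>
        ⟨(Subgroup.mem_normalizer_iff.1 (hTn (hQS hq)) t).1 ht.1, fun r hr => ?_⟩
      have hr' : q⁻¹ * r * q ∈ R := by
        simpa using (Subgroup.mem_normalizer_iff.1 (hQnR (Q.inv_mem hq)) r).1 hr
      have h := ht.2 _ hr'
      calc r * (q * t * q⁻¹) = q * (q⁻¹ * r * q * t) * q⁻¹ := by group
        _ = q * (t * (q⁻¹ * r * q)) * q⁻¹ := by rw [h]
        _ = q * t * q⁻¹ * r := by group
    have hle : centralizerIn T R ≤ Q := by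
      by_contra hcon
      have hlt : Q < Q ⊔ centralizerIn T R := left_lt_sup.2 hcon
      have hsS : Q ⊔ centralizerIn T R ≤ S := sup_le hQS (centralizerIn_le.trans hTS)
      have : Finite (Q ⊔ centralizerIn T R : Subgroup Ω) := finite_of_le hsS
      obtain ⟨g, hg, hgQ⟩ := exists_mem_normalizer_not_mem (hS.to_le hsS) hlt
      have hg1 : g ∈ ((Q ⊔ centralizerIn T R : Subgroup Ω) : Set Ω) := hg.1
      rw [Subgroup.coe_mul_of_left_le_normalizer_right _ _ hCn] at hg1
      obtain ⟨a, ha, t, ht, rfl⟩ := hg1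
      have htN : t ∈ Subgroup.normalizer (Q : Set Ω) := by
        have := Subgroup.mul_mem _ (Subgroup.inv_mem _ (Subgroup.le_normalizer ha)) hg.2
        simpa using this
      refine hgQ (Q.mul_mem ha (le_of_le_pCore hQc hQr (show t ∈ normalizerIn S Q from
        ⟨hTS ht.1, htN⟩) ((le_sSup (show K ∈ {N : Subgroup (F.autGroup Q) |
          N.Normal ∧ IsPGroup p N} from ⟨hKn, hKp⟩) : K ≤ pCore p (F.autGroup Q)) ?_)))
      refine ⟨fun r hr => ?_, fun w hw => ?_⟩
      · rw [conjAut_apply (K := S) ⟨t, hTS ht.1, htN⟩ hr.1, cj_apply]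
        show t * r * t⁻¹ = r
        rw [← ht.2 r hr, mul_inv_cancel_right]
      · rw [conjAut_apply (K := S) ⟨t, hTS ht.1, htN⟩ hw, cj_apply]
        refine ⟨Q.mul_mem (Q.inv_mem hw) ((Subgroup.mem_normalizer_iff.1 htN w).1 hw), ?_⟩
        have h1 : w⁻¹ * t * w ∈ T := by
          simpa using (Subgroup.mem_normalizer_iff.1 (hTn (S.inv_mem (hQS hw))) t).1 ht.1
        simpa [mul_assoc] using T.mul_mem h1 (T.inv_mem ht.1)
    exact fun t ht => ⟨hle ht, ht.1⟩
  have hRD : D.IsFullyNormalized R :=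
    fullyNormalized_of_subsystem hS hF hinv.2.1 hinv.1 inf_le_right hR
  have hTp : IsPGroup p T := hS.to_le hTS
  have hRc : D.IsCentric R := centric_of_fullyCentralized hTp hD.1.1
    (fullyNormalized_fullyCentralized hTp hD.1.1 hRD) hCR
  -- the automorphisms inducing `D` on `R` and trivial modulo it
  let W : Subgroup (F.autGroup Q) :=
    { carrier := {a | (∃ b ∈ D.autGroup R, ∀ r ∈ R, autFun b r = autFun (a : MulAut Q) r) ∧
        ∀ w ∈ Q, w⁻¹ * autFun (a : MulAut Q) w ∈ R}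
      one_mem' := ⟨⟨1, Subgroup.one_mem _, fun r _ => by rw [autFun_one, Subgroup.coe_one,
          autFun_one]⟩,
        fun w _ => by rw [Subgroup.coe_one, autFun_one, id, inv_mul_cancel]; exact Subgroup.one_mem _⟩
      mul_mem' := by
        rintro a b ⟨⟨a', ha', hae⟩, ha₂⟩ ⟨⟨b', hb', hbe⟩, hb₂⟩
        refine ⟨⟨a' * b', Subgroup.mul_mem _ ha' hb', fun r hr => ?_⟩, fun w hw => ?_⟩
        · rw [Subgroup.coe_mul, autFun_mul, autFun_mul, hbe r hr, hae _ (hQR b r hr)]
        · rw [Subgroup.coe_mul, autFun_mul]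
          have h := Subgroup.mul_mem _ (hb₂ w hw) (ha₂ _ (autFun_mem (b : MulAut Q) hw))
          simpa [mul_assoc] using h
      inv_mem' := by
        rintro a ⟨⟨a', ha', hae⟩, ha₂⟩
        refine ⟨⟨a'⁻¹, Subgroup.inv_mem _ ha', fun r hr => ?_⟩, fun w hw => ?_⟩
        · have h := hae _ (hQR a⁻¹ r hr)
          rw [Subgroup.coe_inv, autFun_apply_inv] at h
          rw [Subgroup.coe_inv]
          conv_lhs => rw [← h]
          rw [autFun_inv_apply]
        · rw [Subgroup.coe_inv]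
          have h := Subgroup.inv_mem _ (ha₂ _ (autFun_mem (a : MulAut Q)⁻¹ hw))
          rw [autFun_apply_inv] at h
          simpa using h }
  have hDn := InvariantCriterion.autGroup_conj hTS hinv.1
    (InvariantCriterion.strong_of_invariant hinv) (inf_le_right : R ≤ T)
  have hWn : W.Normal := by
    refine ⟨fun b hb a => ⟨?_, fun w hw => ?_⟩⟩
    · obtain ⟨⟨b', hb', hbe⟩, -⟩ := hb
      obtain ⟨a', ha', hae⟩ := hres a
      have hb'F : b' ∈ F.autGroup R := Focal.autGroup_mono hinv.1 R hb'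
      have hc := hDn.conj_mem ⟨b', hb'F⟩ (Subgroup.mem_subgroupOf.2 hb') ⟨a', ha'⟩
      refine ⟨a' * b' * a'⁻¹, Subgroup.mem_subgroupOf.1 hc, fun r hr => ?_⟩
      have hainv : autFun a'⁻¹ r = autFun (a : MulAut Q)⁻¹ r := by
        have h := hae _ (autFun_mem a'⁻¹ hr)
        rw [autFun_apply_inv] at h
        conv_rhs => rw [h]
        rw [autFun_inv_apply]
      rw [Subgroup.coe_mul, Subgroup.coe_mul, Subgroup.coe_inv, autFun_mul, autFun_mul, autFun_mul,
        autFun_mul, ← hainv, ← hbe _ (autFun_mem _ hr), hae _ (autFun_mem _ (autFun_mem _ hr))]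
    · rw [Subgroup.coe_mul, Subgroup.coe_mul, Subgroup.coe_inv, autFun_mul, autFun_mul]
      have hw' := autFun_mem (a : MulAut Q)⁻¹ hw
      have h := hQR a _ (hb.2 _ hw')
      rwa [autFun_isHom (a : MulAut Q) _ (Q.inv_mem hw') _ (autFun_mem _ hw'),
        (autFun_isHom (a : MulAut Q)).map_inv hw', autFun_apply_inv] at h
  -- those of order prime to `p` fix `C ∩ Q`
  let X : Set (F.autGroup Q) := {a | a ∈ W ∧ (orderOf a).Coprime p}
  have hXfix : ∀ g ∈ X, ∀ z ∈ Q, z ∈ cent F D → autFun (g : MulAut Q) z = z := by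
    rintro g ⟨⟨⟨b, hb, hbe⟩, hgmove⟩, hgc⟩ z hzQ hzC
    have hbc : (orderOf b).Coprime p := by
      refine Nat.Coprime.coprime_dvd_left (orderOf_dvd_of_pow_eq_one (autFun_ext fun r hr => ?_)) hgc
      rw [GoodExtension.pow_agree (inf_le_left : R ≤ Q) (a := (g : MulAut Q)) (d := b)
        (fun w hw => (hbe w hw).symm) _ r hr |>.symm, ← Subgroup.coe_pow, pow_orderOf_eq_one,
        Subgroup.coe_one, autFun_one, autFun_one]
    obtain ⟨β, hβ, hβe⟩ := exists_good hS hF hD hRc hR hb hbc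
    obtain ⟨C', hC'⟩ := KNormalizer.exists_centralizerSystem (F := F) hR.1
    obtain ⟨h, hh, hhe, hhz⟩ := (mem_gens hS hF hD hzC).2 R _ (isMap_of_mem_autGroup hRc.1 hb)
    obtain ⟨i, hi, hiimg, hih, -⟩ := hh.exists_inv
    have hzR : z ∈ centralizerIn S R :=
      ⟨hQS hzQ, fun r hr => (cent_le hzC).2 r hr.2⟩
    have hzdom : z ∈ R ⊔ Subgroup.zpowers z := Subgroup.mem_sup_right (Subgroup.mem_zpowers z)
    have hle : Subgroup.zpowers z ⊔ R ≤ img h (R ⊔ Subgroup.zpowers z) := by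
      refine sup_le (Subgroup.zpowers_le.2 ?_) fun r hr => ?_
      · have h1 := mem_img_self h hzdom
        rwa [hhz] at h1
      · have h1 : img h R = R := by rw [img_congr hhe, autFun_img]
        exact img_mono h le_sup_left (h1.ge hr)
    have hi' := hi.restrict hle
    have hgi : ∀ w ∈ Subgroup.zpowers z ⊔ R, i w ∈ Q := fun w hw =>
      sup_le inf_le_left (Subgroup.zpowers_le.2 hzQ) (hiimg.le (mem_img_self i (hle hw)))
    have hψ : IsMap F (Subgroup.zpowers z ⊔ R) (fun w => autFun (g : MulAut Q) (i w)) :=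
      (isMap_of_mem_autGroup hQS g.2).comp hi' hgi
    have hψR : ∀ r ∈ R, autFun (g : MulAut Q) (i r) = r := by
      intro r hr
      obtain ⟨r', hr', rfl⟩ : ∃ r' ∈ R, h r' = r := by
        have h1 : img h R = R := by rw [img_congr hhe, autFun_img]
        exact (hh.restrict le_sup_left).mem_img.1 (h1.ge hr)
      rw [hih r' (Subgroup.mem_sup_left hr'), hhe r' hr', hbe r' hr']
    have hm : IsMap C' (Subgroup.zpowers z) (fun w => autFun (g : MulAut Q) (i w)) := by
      refine (isMap_cent_iff hC').2 ⟨Subgroup.zpowers_le.2 hzR, fun w hw => ?_,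
        fun w => autFun (g : MulAut Q) (i w), hψ, fun _ _ => rfl, hψR⟩
      refine ⟨hψ.mem (Subgroup.mem_sup_left hw), ?_⟩
      have h1 := hψ.mem_centralizer_img le_sup_right (Subgroup.mem_sup_left hw)
        ((Subgroup.zpowers_le.2 hzR) hw).2
      rwa [img_congr (g := id) hψR, img_id] at h1
    have hd := disp_eq hS hF hβ hC' hm (Subgroup.mem_zpowers z)
    have hiz : i z = z := by
      conv_lhs => rw [← hhz]
      exact hih z hzdom
    simp only [hiz] at hd
    rw [good_fixes_cent hS hF hβ hzC, inv_mul_cancel, inv_mul_eq_one] at hd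
    set d := z⁻¹ * autFun (g : MulAut Q) z with hddef
    have hdR : d ∈ R := hgmove z hzQ
    have hgz : autFun (g : MulAut Q) z = z * d := (mul_inv_cancel_left _ _).symm
    have hdfix : autFun (g : MulAut Q) d = d := by
      have hzV : z ∈ R ⊔ centralizerIn S R := Subgroup.mem_sup_right hzR
      have h1 := hd.symm
      rw [hgz, autFun_isHom β _ hzV _ (Subgroup.mem_sup_left hdR),
        good_fixes_cent hS hF hβ hzC, mul_left_cancel_iff, hβe d hdR, hbe d hdR] at h1
      exact h1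
    have hdn : ∀ n : ℕ, autFun (g : MulAut Q) (d ^ n) = d ^ n := by
      intro n
      induction n with
      | zero => rw [pow_zero, (autFun_isHom _).map_one]
      | succ n ih =>
        rw [pow_succ, autFun_isHom _ _ (Q.pow_mem hdR.1 n) _ hdR.1, ih, hdfix]
    have hpow : ∀ n : ℕ, autFun ((g : MulAut Q) ^ n) z = z * d ^ n := by
      intro n
      induction n with
      | zero => rw [pow_zero, autFun_one, pow_zero, mul_one]; rfl
      | succ n ih =>
        rw [pow_succ', autFun_mul, ih, autFun_isHom _ _ hzQ _ (Q.pow_mem hdR.1 n), hdn, hgz,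
          pow_succ', mul_assoc]
    have h2 := hpow (orderOf g)
    rw [← Subgroup.coe_pow, pow_orderOf_eq_one, Subgroup.coe_one, autFun_one, id] at h2
    obtain ⟨k, hk⟩ := hS ⟨d, hR.1 hdR⟩
    have hd1 : d = 1 := Elementwise.eq_one_of_coprime_pow ⟨k, congrArg Subtype.val hk⟩ hgc
      (mul_eq_left.1 h2.symm)
    rw [hgz, hd1, mul_one]
  let Fix : Subgroup (F.autGroup Q) :=
    { carrier := {a | ∀ z ∈ Q, z ∈ cent F D → autFun (a : MulAut Q) z = z}
      one_mem' := fun z _ _ => by rw [Subgroup.coe_one, autFun_one, id]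
      mul_mem' := fun {a b} ha hb z hz hzC => by
        rw [Subgroup.coe_mul, autFun_mul, hb z hz hzC, ha z hz hzC]
      inv_mem' := fun {a} ha z hz hzC => by
        rw [Subgroup.coe_inv]; conv_lhs => rw [← ha z hz hzC, autFun_inv_apply] }
  let N : Subgroup (F.autGroup Q) := Subgroup.normalClosure X
  have hNfix : N ≤ Fix := by
    refine (Subgroup.closure_le Fix).2 fun a ha => ?_
    obtain ⟨b, hb, hba⟩ := Group.mem_conjugatesOfSet_iff.1 ha
    obtain ⟨c, rfl⟩ := isConj_iff.1 hba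
    refine hXfix _ ⟨hWn.conj_mem b hb.1 c, ?_⟩
    have h1 : orderOf (c * b * c⁻¹) = orderOf b :=
      orderOf_injective (MulAut.conj c).toMonoidHom (MulAut.conj c).injective b
    rw [h1]
    exact hb.2
  have hNW : N ≤ W := Subgroup.normalClosure_le_normal fun a ha => ha.1
  -- a Sylow subgroup of `W`
  obtain ⟨P₀, hP₀⟩ := (fullyNormalized_fullyAutomized hS hF hQ).2
  have hTp' : IsPGroup p ((P₀ : Subgroup (F.autGroup Q)).subgroupOf W) :=
    P₀.2.comap_of_injective _ Subtype.val_injective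
  have hidx : ¬ p ∣ ((P₀ : Subgroup (F.autGroup Q)).subgroupOf W).index := fun h =>
    P₀.not_dvd_index (h.trans (SaturationCriterion.relIndex_dvd_index _ W))
  set T₁ : Sylow p W := hTp'.toSylow hidx with hT₁
  have htop : N.subgroupOf W ⊔ ((P₀ : Subgroup (F.autGroup Q)).subgroupOf W) = ⊤ :=
    LayerCentralizer.eq_top_of_parts _ T₁ le_sup_right fun w hw =>
      Subgroup.mem_sup_left (Subgroup.mem_subgroupOf.2 (Subgroup.subset_normalClosure
        ⟨w.2, by rwa [Subgroup.orderOf_coe]⟩))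
  -- conjugate back
  set α₀ : F.autGroup Q := ⟨α, hα⟩
  let B : Subgroup W :=
    (((P₀ : Subgroup (F.autGroup Q)) ⊓ W).map (MulAut.conj α₀).toMonoidHom).subgroupOf W
  have hBp : IsPGroup p B :=
    ((P₀.2.to_le inf_le_left).map _).comap_of_injective _ Subtype.val_injective
  obtain ⟨c, hc⟩ := exists_conj_le_sylow T₁ hBp
  have hNWn : (N.subgroupOf W).Normal := Subgroup.normal_subgroupOf
  have hcmem : c ∈ (((P₀ : Subgroup (F.autGroup Q)).subgroupOf W ⊔ N.subgroupOf W : Subgroup W) :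
      Set W) := by rw [sup_comm, htop]; trivial
  rw [Subgroup.mul_normal] at hcmem
  obtain ⟨r, hr, n, hn, rfl⟩ := hcmem
  set α' : F.autGroup Q := (n : F.autGroup Q) * α₀ with hα'
  have hnorm : ∀ b ∈ (P₀ : Subgroup (F.autGroup Q)) ⊓ W,
      α' * b * α'⁻¹ ∈ (P₀ : Subgroup (F.autGroup Q)) := by
    intro b hb
    have hmem : α₀ * b * α₀⁻¹ ∈ W := hWn.conj_mem b hb.2 α₀
    have h1 := hc ⟨α₀ * b * α₀⁻¹, hmem⟩ ⟨b, hb, rfl⟩
    have hr' : (r : F.autGroup Q) ∈ (P₀ : Subgroup (F.autGroup Q)) := hr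
    have h2 : (r : F.autGroup Q) * (n : F.autGroup Q) * (α₀ * b * α₀⁻¹) *
        ((r : F.autGroup Q) * (n : F.autGroup Q))⁻¹ ∈ (P₀ : Subgroup (F.autGroup Q)) := h1
    have h3 := Subgroup.mul_mem _ (Subgroup.mul_mem _ (Subgroup.inv_mem _ hr') h2) hr'
    have e : (r : F.autGroup Q)⁻¹ * ((r : F.autGroup Q) * (n : F.autGroup Q) * (α₀ * b * α₀⁻¹) *
        ((r : F.autGroup Q) * (n : F.autGroup Q))⁻¹) * (r : F.autGroup Q) = α' * b * α'⁻¹ := by
      rw [hα']; group
    rwa [e] at h3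
  -- extend `α'` to `Q N_T(Q)`
  have hα'm : IsMap F Q (autFun (α' : MulAut Q)) := isMap_of_mem_autGroup hQS α'.2
  have hfc : F.IsFullyCentralized (img (autFun (α' : MulAut Q)) Q) := by
    rw [autFun_img]
    exact fullyNormalized_fullyCentralized hS hF hQ
  obtain ⟨θ, hθ, hθe⟩ := exists_extension hS hF hα'm hfc
  have hNT : Q ⊔ normalizerIn T Q ≤ nSub S Q (autFun (α' : MulAut Q)) := by
    refine sup_le (le_nSub hα'm) fun t ht => ?_
    have htN : t ∈ normalizerIn S Q := ⟨hTS ht.1, ht.2⟩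
    have htR : t ∈ Subgroup.normalizer (R : Set Ω) := mem_normalizer_of_forall fun r hr =>
      ⟨(Subgroup.mem_normalizer_iff.1 ht.2 r).1 hr.1,
        T.mul_mem (T.mul_mem ht.1 hr.2) (T.inv_mem ht.1)⟩
    set b : F.autGroup Q := ⟨conjAut S Q ⟨t, htN⟩,
      autInducedBy_le hQS (conjAut_range S Q ▸ ⟨_, rfl⟩)⟩ with hb
    have hbW : b ∈ W := by
      refine ⟨⟨conjAut T R ⟨t, ht.1, htR⟩,
        autInducedBy_le inf_le_right (conjAut_range T R ▸ ⟨_, rfl⟩), fun r hr => ?_⟩, fun w hw => ?_⟩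
      · rw [hb, conjAut_apply (K := T) ⟨t, ht.1, htR⟩ hr, conjAut_apply (K := S) ⟨t, htN⟩ hr.1]
      · rw [hb, conjAut_apply (K := S) ⟨t, htN⟩ hw, cj_apply]
        refine ⟨Q.mul_mem (Q.inv_mem hw) ((Subgroup.mem_normalizer_iff.1 ht.2 w).1 hw), ?_⟩
        have h1 : w⁻¹ * t * w ∈ T := by
          simpa using (Subgroup.mem_normalizer_iff.1 (hTn (S.inv_mem (hQS hw))) t).1 ht.1
        simpa [mul_assoc] using T.mul_mem h1 (T.inv_mem ht.1)
    have h1 := hnorm b ⟨by
      rw [hP₀]; exact Subgroup.mem_subgroupOf.2 (conjAut_range S Q ▸ ⟨_, rfl⟩), hbW⟩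
    rw [hP₀, Subgroup.mem_subgroupOf] at h1
    obtain ⟨s, hs, hse⟩ := mem_autInducedBy_iff'.1 h1
    refine ⟨htN.1, htN.2, s, hs.1, fun w hw => ?_⟩
    have h2 := hse _ (autFun_mem (α' : MulAut Q) hw)
    rw [Subgroup.coe_mul, Subgroup.coe_mul, Subgroup.coe_inv, autFun_mul, autFun_mul,
      autFun_inv_apply, hb, conjAut_apply (K := S) ⟨t, htN⟩ hw, cj_apply] at h2
    exact h2
  have hlt : Q < Q ⊔ normalizerIn T Q := by
    refine left_lt_sup.2 fun hle => hTQ ?_
    exact le_of_normalizer_inf_le hS hQS hTS hTn fun t ht htN => hle ⟨ht, htN⟩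
  have hθ' := hθ.restrict hNT
  have : Finite (Q ⊔ normalizerIn T Q : Subgroup Ω) := finite_of_le hθ'.le
  have hiff : ∀ z ∈ Q, z ∈ cent F D ↔ autFun (α' : MulAut Q) z ∈ cent F D := fun z hz => by
    have h := habove _ θ (card_lt_card hlt) hθ' z (Subgroup.mem_sup_left hz)
    rwa [hθe z hz] at h
  have hnFix : (n : F.autGroup Q) ∈ Fix := hNfix hn
  have hα'e : autFun (α' : MulAut Q) y = autFun ((n : F.autGroup Q) : MulAut Q) (autFun α y) := by
    rw [hα', Subgroup.coe_mul, autFun_mul]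
  have hαy := autFun_mem α hy
  constructor
  · intro hyC
    have h1 := (hiff y hy).1 hyC
    have h2 := hnFix _ (autFun_mem _ hy) h1
    rw [hα'e] at h1 h2
    have h3 := congrArg (autFun ((n : F.autGroup Q) : MulAut Q)⁻¹) h2
    rw [autFun_inv_apply, autFun_inv_apply] at h3
    rwa [h3] at h1
  · intro h
    refine (hiff y hy).2 ?_
    rw [hα'e, hnFix _ hαy h]
    exact h

/-- `C_S(D)` is strongly closed. -/
theorem cent_stronglyClosed (hS : IsPGroup p S) (hF : F.IsSaturated p) (hD : D.IsNormalIn F p) :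
    F.StronglyClosed (cent F D) := by
  have hinv : D.IsInvariantIn F := hD.1.2.2
  have hTS : T ≤ S := subsystem_le hinv.1
  have hTn : S ≤ Subgroup.normalizer (T : Set Ω) := le_normalizer_of_stronglyClosed hinv.2.1
  suffices hall : F ≤ keepSystem F (cent F D) (cent_normalized hinv) by
    refine ⟨cent_le.trans centralizerIn_le, fun R hR φ hφ x => ?_⟩
    exact ((hall R hφ).2 x).1 (hR x.2)
  refine le_of_above hS hF fun P hP habove => ?_
  have hfinP : Finite P := finite_of_le hP.1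
  have hab : ∀ (U : Subgroup Ω) (f : Ω → Ω), Nat.card P < Nat.card U → IsMap F U f →
      ∀ x ∈ U, x ∈ cent F D ↔ f x ∈ cent F D := fun U f h hf =>
    (keep_iff.1 (habove U f h hf)).2
  intro α hα
  have hm := isMap_of_mem_autGroup hP.1 hα
  refine (mem_autGroup_iff hP.1).2 (keep_iff.2 ⟨hm, fun x hx => ?_⟩)
  rcases eq_or_lt_of_le hP.1 with hPS | hlt
  · exact keep_of_stable hS hF hD hm (hTS.trans hPS.ge) hx
  -- move `P ∩ T` to a fully normalized subgroup
  have hP₀S : P ⊓ T ≤ S := inf_le_right.trans hTS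
  obtain ⟨R, hPR, hR⟩ := exists_fullyNormalized (F := F) hP₀S
  obtain ⟨g, hg, hgR⟩ := exists_map_to_fullyNormalized hS hF hR hPR
  have hNP : normalizerIn S P ≤ normalizerIn S (P ⊓ T) := fun w hw => ⟨hw.1, by
    have : Finite (P ⊓ T : Subgroup Ω) := finite_of_le hP₀S
    exact mem_normalizer_of_forall fun z hz => ⟨(Subgroup.mem_normalizer_iff.1 hw.2 z).1 hz.1,
      (Subgroup.mem_normalizer_iff.1 (hTn hw.1) z).1 hz.2⟩⟩
  have hgN := hg.restrict hNP
  have hfinN : Finite (normalizerIn S P) := finite_of_le normalizerIn_le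
  have hPN : P ≤ normalizerIn S P := le_normalizerIn hP.1
  have hgkeep := hab _ g (card_lt_card (lt_normalizerIn hS hlt)) hgN
  have hgP := hgN.restrict hPN
  set Q := img g P with hQdef
  have hcard : Nat.card Q = Nat.card P := hgP.card_img
  have hQn : F.IsFullyNormalized Q := by
    refine ⟨hgP.img_le_S, fun U hU => ?_⟩
    refine (hP.2 U (isConj_trans hgP.isConj hU)).trans ?_
    rw [← hgN.card_img]
    have : Finite (normalizerIn S Q) := finite_of_le normalizerIn_le
    exact card_le_card (hgN.img_normalizerIn_le hPN le_rfl)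
  have hQT : Q ⊓ T = R := by
    rw [← hgR]
    refine le_antisymm ?_ (img_le fun z hz => ⟨mem_img_self g hz.1,
      stronglyClosed_mem hinv.2.1 hgP hz.1 hz.2⟩)
    rintro w ⟨hwQ, hwT⟩
    obtain ⟨z, hz, rfl⟩ := hgP.mem_img.1 hwQ
    obtain ⟨i, hi, -, hig, -⟩ := hgP.exists_inv
    have h := stronglyClosed_mem hinv.2.1 hi hwQ hwT
    rw [hig z hz] at h
    exact mem_img_self g ⟨hz, h⟩
  obtain ⟨e, he⟩ := hgP.exists_autEquiv
  set α' := e ⟨α, hα⟩ with hα'def
  have hα'e : autFun (α' : MulAut Q) (g x) = g (autFun α x) := he _ x hx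
  rw [hgkeep x (hPN hx), hgkeep _ (hPN (autFun_mem α hx)), ← hα'e]
  have hgx : g x ∈ Q := mem_img_self g hx
  have hQlt : Q < S := by
    refine lt_of_le_of_ne hQn.1 fun h => ?_
    have := card_lt_card hlt
    rw [← hcard, h] at this
    exact lt_irrefl _ this
  have habQ : ∀ (U : Subgroup Ω) (f : Ω → Ω), Nat.card Q < Nat.card U → IsMap F U f →
      ∀ x ∈ U, x ∈ cent F D ↔ f x ∈ cent F D := fun U f h hf => hab U f (hcard ▸ h) hf
  have hfinQ : Finite Q := finite_of_le hQn.1
  by_cases hTQ : T ≤ Q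
  · exact keep_of_stable hS hF hD (isMap_of_mem_autGroup hQn.1 α'.2) hTQ hgx
  by_cases hext : Alperin.extGroup F Q = F.autGroup Q
  · have hsub : Alperin.extGroup F Q ≤ (keepSystem F (cent F D) (cent_normalized hinv)).autGroup Q := by
      rw [Alperin.extGroup, Subgroup.closure_le]
      rintro β ⟨U, f, hQU, hf, hfe⟩
      have : Finite U := finite_of_le hf.le
      refine (mem_autGroup_iff hQn.1).2 (keep_iff.2
        ⟨(hf.restrict hQU.le).congr hfe, fun z hz => ?_⟩)
      rw [← hfe z hz]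
      exact habQ U f (card_lt_card hQU) hf z (hQU.le hz)
    have hmem : (α' : MulAut Q) ∈ Alperin.extGroup F Q := hext.ge α'.2
    exact (keep_iff.1 (isMap_of_mem_autGroup hQn.1 (hsub hmem))).2 _ hgx
  have hess := (Alperin.essential_iff hS hF hQlt hQn).2 hext
  exact keep_essential hS hF hD hQn hess.1 (Alperin.essential_radical hess hS) hTQ
    (hQT.symm ▸ hR) habQ α'.2 hgx

end Cfsg.Agent.Fusion.SubsystemCentralizerClosed
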