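/-
The normal subsystem centralizing a normal subsystem.
-/
import Mathlib
import Cfsg.Agent.Lib.Fusion.SubsystemCentralizerClosed
import Cfsg.Agent.Lib.Fusion.PPowerNormal

set_option autoImplicit false
set_option linter.all false

namespace Cfsg.Agent.Fusion.SubsystemCentralizerSystem

open Cfsg Cfsg.FusionSystem Cfsg.Agent.Fusion.Basic Cfsg.Agent.Fusion.Saturation
  Cfsg.Agent.Fusion.Normal Cfsg.Agent.Fusion.Subsystems Cfsg.Agent.Fusion.CentralizeNormal
  Cfsg.Agent.Fusion.NormalCentralizer Cfsg.Agent.Fusion.SubsystemCentralizer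
  Cfsg.Agent.Fusion.SubsystemCentralizerClosed

variable {Ω : Type*} [Group Ω] {S T P R : Subgroup Ω} {F : FusionSystem S} {D : FusionSystem T}
  {p : ℕ}

variable [Finite S] [Fact p.Prime]

theorem img_sup_cent_le (hD : D.IsInvariantIn F) {θ : Ω → Ω}
    (hθ : IsMap F (T ⊔ centralizerIn S T) θ) (hθT : img θ T = T) :
    ∀ x ∈ centralizerIn S T, θ x ∈ centralizerIn S T := by
  intro x hx
  refine ⟨hθ.mem (Subgroup.mem_sup_right hx), ?_⟩
  have h := hθ.mem_centralizer_img le_sup_left (Subgroup.mem_sup_right hx) hx.2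
  rwa [hθT] at h

/-- The hyperfocal subgroup of `C_F(T)` lies in `C_S(D)`. -/
theorem hyp_le_cent (hS : IsPGroup p S) (hF : F.IsSaturated p) (hD : D.IsNormalIn F p)
    {CT : FusionSystem (centralizerIn S T)} (hCT : F.IsCentralizerSystem T CT) :
    CT.hyperfocalSubgroup p ≤ cent F D := by
  have hinv : D.IsInvariantIn F := hD.1.2.2
  let G : Set Ω := {w | ∃ (P : Subgroup Ω) (f : Ω → Ω) (x : Ω),
    IsMap CT P f ∧ x ∈ P ∧ w = x⁻¹ * f x}
  let H : Subgroup Ω := Subgroup.closure G
  have hH : H ≤ centralizerIn S T := by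
    refine (Subgroup.closure_le _).2 ?_
    rintro w ⟨P, f, x, hf, hx, rfl⟩
    exact (centralizerIn S T).mul_mem ((centralizerIn S T).inv_mem (hf.le hx)) (hf.mem hx)
  have hstab : ∀ θ, IsMap F (T ⊔ centralizerIn S T) θ → img θ T = T → img θ H ≤ H := by
    intro θ hθ hθT
    obtain ⟨i, hi, hiimg, hiθ, -⟩ := hθ.exists_inv
    have hCmem := img_sup_cent_le hinv hθ hθT
    refine img_le fun w hw => ?_
    refine Subgroup.closure_induction (p := fun z _ => θ z ∈ H) ?_ ?_
      (fun a b ha hb iha ihb => ?_) (fun a ha iha => ?_) hw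
    · rintro z ⟨P, f, x, hf, hx, rfl⟩
      obtain ⟨hP, hv, g, hg, hge, hgfix⟩ := (isMap_cent_iff hCT).1 hf
      have hxV : x ∈ T ⊔ centralizerIn S T := Subgroup.mem_sup_right (hP hx)
      have hfxV : f x ∈ T ⊔ centralizerIn S T := Subgroup.mem_sup_right (hv x hx)
      rw [hθ.map_mul (Subgroup.inv_mem _ hxV) hfxV, hθ.map_inv hxV]
      have hθP : img θ P ≤ centralizerIn S T := img_le fun y hy => hCmem y (hP hy)
      have hPV : P ⊔ T ≤ T ⊔ centralizerIn S T := sup_le (hP.trans le_sup_right) le_sup_left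
      have hdom : img θ P ⊔ T ≤ img θ (T ⊔ centralizerIn S T) := by
        refine sup_le (img_mono θ (hP.trans le_sup_right)) ?_
        exact hθT.ge.trans (img_mono θ le_sup_left)
      have hgv : ∀ y ∈ P ⊔ T, g y ∈ T ⊔ centralizerIn S T := by
        intro y hy
        have h1 : img g (P ⊔ T) ≤ T ⊔ centralizerIn S T := by
          rw [hg.img_sup, img_congr hge, img_congr (g := id) hgfix, img_id]
          exact sup_le ((img_le hv).trans le_sup_right) le_sup_left
        exact h1 (mem_img_self g hy)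
      have hiv : ∀ y ∈ img θ P ⊔ T, i y ∈ P ⊔ T := by
        intro y hy
        have hy' : y ∈ img θ (P ⊔ T) := by rw [(hθ.restrict hPV).img_sup, hθT]; exact hy
        obtain ⟨y₁, hy₁, rfl⟩ := (hθ.restrict hPV).mem_img.1 hy'
        rwa [hiθ y₁ (hPV hy₁)]
      refine Subgroup.subset_closure ⟨img θ P, fun y => θ (g (i y)), θ x,
        (isMap_cent_iff hCT).2 ⟨hθP, fun y hy => ?_, fun y => θ (g (i y)),
          hθ.comp (hg.comp (hi.restrict hdom) hiv) fun y hy => hgv _ (hiv y hy),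
          fun _ _ => rfl, fun t ht => ?_⟩, mem_img_self θ hx, ?_⟩
      · obtain ⟨y', hy', rfl⟩ := (hθ.restrict (hP.trans le_sup_right)).mem_img.1 hy
        show θ (g (i (θ y'))) ∈ centralizerIn S T
        rw [hiθ y' (Subgroup.mem_sup_right (hP hy')), hge y' hy']
        exact hCmem _ (hv y' hy')
      · obtain ⟨t', ht', rfl⟩ := (hθ.restrict le_sup_left).mem_img.1 (hθT.ge ht)
        show θ (g (i (θ t'))) = θ t'
        rw [hiθ t' (Subgroup.mem_sup_left ht'), hgfix t' ht']
      · show (θ x)⁻¹ * θ (f x) = (θ x)⁻¹ * θ (g (i (θ x)))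
        rw [hiθ x hxV, hge x hx]
    · rw [hθ.map_one]; exact Subgroup.one_mem _
    · rw [hθ.map_mul (Subgroup.mem_sup_right (hH ha)) (Subgroup.mem_sup_right (hH hb))]
      exact Subgroup.mul_mem _ iha ihb
    · rw [hθ.map_inv (Subgroup.mem_sup_right (hH ha))]
      exact Subgroup.inv_mem _ iha
  have hfix : ∀ (R : Subgroup Ω) (β : MulAut (R ⊔ centralizerIn S R : Subgroup Ω)),
      IsGood F D p R β → ∀ y ∈ H, autFun β y = y := by
    intro R β hβ y hy
    have hTR : centralizerIn S T ≤ centralizerIn S R := fun z hz =>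
      ⟨hz.1, fun w hw => hz.2 w (hβ.centric.1 hw)⟩
    have hV : ∀ z ∈ centralizerIn S T, z ∈ R ⊔ centralizerIn S R := fun z hz =>
      Subgroup.mem_sup_right (hTR hz)
    obtain ⟨CR, hCR⟩ := KNormalizer.exists_centralizerSystem (F := F) hβ.fn.1
    refine Subgroup.closure_induction (p := fun z _ => autFun β z = z) ?_ ?_
      (fun a b ha hb iha ihb => ?_) (fun a ha iha => ?_) hy
    · rintro z ⟨P, f, x, hf, hx, rfl⟩
      obtain ⟨hP, hv, g, hg, hge, hgfix⟩ := (isMap_cent_iff hCT).1 hf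
      have hfR : IsMap CR P f := (isMap_cent_iff hCR).2 ⟨hP.trans hTR, fun w hw => hTR (hv w hw),
        g, hg.restrict (sup_le_sup_left hβ.centric.1 P), hge,
        fun w hw => hgfix w (hβ.centric.1 hw)⟩
      have hd := disp_eq hS hF hβ hCR hfR hx
      have hxR := hTR (hP hx)
      have hfxR := hTR (hv x hx)
      set m := x⁻¹ * autFun β x with hm
      have hmZ : m ∈ ctr R := hβ.moves x hxR
      have h1 : autFun β x = x * m := (mul_inv_cancel_left _ _).symm
      have h2 : autFun β (f x) = f x * m := by rw [← hd, mul_inv_cancel_left]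
      rw [autFun_isHom β _ (Subgroup.inv_mem _ (hV x (hP hx))) _ (hV _ (hv x hx)),
        (autFun_isHom β).map_inv (hV x (hP hx)), h1, h2, mul_inv_rev]
      have hcomm : m * (x⁻¹ * f x) = x⁻¹ * f x * m :=
        ctr_commute hmZ ((centralizerIn S R).mul_mem ((centralizerIn S R).inv_mem hxR) hfxR)
      calc m⁻¹ * x⁻¹ * (f x * m) = m⁻¹ * (x⁻¹ * f x * m) := by group
        _ = m⁻¹ * (m * (x⁻¹ * f x)) := by rw [hcomm]
        _ = x⁻¹ * f x := inv_mul_cancel_left _ _
    · exact (autFun_isHom β).map_one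
    · rw [autFun_isHom β _ (hV a (hH ha)) _ (hV b (hH hb)), iha, ihb]
    · rw [(autFun_isHom β).map_inv (hV a (hH ha)), iha]
  refine Hyperfocal.hyp_le_of fun P hP α _ x hx => ?_
  have hmem : x⁻¹ * autFun (α : MulAut P) x ∈ H :=
    Subgroup.subset_closure ⟨P, _, x, isMap_of_mem_autGroup hP α.2, hx, rfl⟩
  refine Subgroup.subset_closure ⟨hH hmem, fun Q f hf => ?_⟩
  obtain ⟨g, hg, hge, hgfix⟩ := ext_fix hS hF hD hH hstab hfix hf
  exact ⟨g, hg.restrict (sup_le_sup_left (Subgroup.zpowers_le.2 hmem) Q), hge, hgfix _ hmem⟩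

/-- A map stabilizing `T` and `C_S(D)` permutes the maps of the subsystem of `p`-power index. -/
theorem stable (hS : IsPGroup p S) {C : Subgroup Ω} (hCT' : C ≤ centralizerIn S T)
    {CT : FusionSystem (centralizerIn S T)} (hCT : F.IsCentralizerSystem T CT)
    {E : FusionSystem C} (hE : E.IsSaturated p) (hEi : E.HasPPowerIndexIn CT p) {a : MulAut C}
    {θ : Ω → Ω} (hθ : IsMap F (T ⊔ C) θ) (hθT : img θ T = T) (haθ : ∀ x ∈ C, autFun a x = θ x)
    {P : Subgroup Ω} {f : Ω → Ω} (hf : IsMap E P f) :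
    IsMap E (img (autFun a) P) fun y => autFun a (f (autFun a⁻¹ y)) := by
  have hCS : C ≤ S := hCT'.trans centralizerIn_le
  have hfinC : Finite C := finite_of_le hCS
  have hCTF : ∀ {P : Subgroup Ω} {f : Ω → Ω}, IsMap CT P f → IsMap F P f := fun hf => by
    obtain ⟨-, -, g, hg, hge, -⟩ := (isMap_cent_iff hCT).1 hf
    exact (hg.restrict le_sup_left).congr hge
  have hsub : ∀ {P : Subgroup Ω} {f : Ω → Ω}, IsMap E P f → IsMap F P f :=
    fun hf => hCTF (isMap_of_subset hEi.1 hf)
  suffices hall : E ≤ PPowerNormal.conjSystem F E hCS a by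
    obtain ⟨φ, hφ, he⟩ := hf
    exact PPowerNormal.isMap_conjSystem ⟨φ, hall P hφ, he⟩
  refine Alperin.le_of_autGroup (hS.to_le hCS) hE fun P hP _ => ?_
  have hfinP : Finite P := finite_of_le hP.1
  obtain ⟨R, hR⟩ := (fullyNormalized_fullyAutomized (hS.to_le hCS) hE hP).2
  set M := PPowerNormal.conjSystem F E hCS a with hM
  have htop := LayerCentralizer.eq_top_of_parts ((M.autGroup P).subgroupOf (E.autGroup P)) R ?_ ?_
  · intro α hα
    exact Subgroup.mem_subgroupOf.1
      (show (⟨α, hα⟩ : E.autGroup P) ∈ (M.autGroup P).subgroupOf (E.autGroup P) from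
        htop.ge (Subgroup.mem_top _))
  · rw [hR]
    exact Subgroup.comap_mono (autInducedBy_le hP.1)
  intro α hαc
  have hαm := isMap_of_mem_autGroup hP.1 α.2
  have haP : IsMap F P (autFun a) :=
    (hθ.restrict (hP.1.trans le_sup_right)).congr fun x hx => (haθ x (hP.1 hx)).symm
  obtain ⟨e, he⟩ := haP.exists_autEquiv
  set α₁ := e ⟨(α : MulAut P), (mem_autGroup_iff (hP.1.trans hCS)).2 (hsub hαm)⟩ with hα₁
  have hα₁e : ∀ x ∈ P, autFun (α₁ : MulAut (img (autFun a) P)) (autFun a x) =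
      autFun a (autFun (α : MulAut P) x) := fun x hx => he _ x hx
  have hP₁C : img (autFun a) P ≤ C := img_le fun x hx => autFun_mem _ (hP.1 hx)
  have hα₁CT : (α₁ : MulAut (img (autFun a) P)) ∈ CT.autGroup (img (autFun a) P) := by
    obtain ⟨-, -, g, hg, hge, hgfix⟩ := (isMap_cent_iff hCT).1 (isMap_of_subset hEi.1 hαm)
    have hdom : P ⊔ T ≤ T ⊔ C := sup_le (hP.1.trans le_sup_right) le_sup_left
    obtain ⟨i, hi, hiimg, hiθ, -⟩ := (hθ.restrict hdom).exists_inv
    have hiv : ∀ y ∈ img θ (P ⊔ T), i y ∈ P ⊔ T := fun y hy => hiimg.le (mem_img_self i hy)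
    have hgv : ∀ y ∈ P ⊔ T, g y ∈ T ⊔ C := by
      intro y hy
      have h1 : img g (P ⊔ T) ≤ T ⊔ C := by
        rw [hg.img_sup, img_congr hge, autFun_img, img_congr (g := id) hgfix, img_id]
        exact hdom
      exact h1 (mem_img_self g hy)
    have hG : IsMap F (img θ (P ⊔ T)) (fun y => θ (g (i y))) :=
      hθ.comp (hg.comp hi hiv) fun y hy => hgv _ (hiv y hy)
    have himg : img θ (P ⊔ T) = img (autFun a) P ⊔ T := by
      rw [(hθ.restrict hdom).img_sup, hθT, img_congr fun x hx => (haθ x (hP.1 hx)).symm]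
    rw [himg] at hG
    refine (mem_autGroup_iff (hP₁C.trans hCT')).2 ((isMap_cent_iff hCT).2 ⟨hP₁C.trans hCT',
      fun y hy => hCT' (hP₁C (autFun_mem _ hy)), fun y => θ (g (i y)), hG, fun y hy => ?_,
      fun t ht => ?_⟩)
    · obtain ⟨x, hx, rfl⟩ := haP.mem_img.1 hy
      show θ (g (i (autFun a x))) = _
      rw [haθ x (hP.1 hx), hiθ x (Subgroup.mem_sup_left hx), hge x hx, ← haθ x (hP.1 hx),
        hα₁e x hx, haθ _ (hP.1 (autFun_mem _ hx))]
    · obtain ⟨t', ht', rfl⟩ := (hθ.restrict le_sup_left).mem_img.1 (hθT.ge ht)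
      show θ (g (i (θ t'))) = θ t'
      rw [hiθ t' (Subgroup.mem_sup_right ht'), hgfix t' ht']
  have hα₁c : (orderOf (α₁ : MulAut (img (autFun a) P))).Coprime p := by
    rw [Subgroup.orderOf_coe, hα₁, MulEquiv.orderOf_eq, Subgroup.orderOf_mk, Subgroup.orderOf_coe]
    exact hαc
  have hα₁E := isMap_of_mem_autGroup hP₁C (PPowerNormal.pPrime_mem hEi hP₁C hα₁CT hα₁c)
  refine Subgroup.mem_subgroupOf.2 ((mem_autGroup_iff hP.1).2 ?_)
  refine ⟨(hsub hαm).hom, ⟨(hsub hαm).hom_mem_self, hP.1, fun x => hαm.mem x.2, ?_⟩, fun _ => rfl⟩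
  refine hα₁E.congr fun y hy => ?_
  obtain ⟨x, hx, rfl⟩ := haP.mem_img.1 hy
  rw [hα₁e x hx, autFun_inv_apply, ext_of_mem _ hx]
  rfl

/-- There is a normal subsystem over `C_S(D)` centralizing `T`. -/
theorem exists_centSystem (hS : IsPGroup p S) (hF : F.IsSaturated p) (hD : D.IsNormalIn F p) :
    ∃ E : FusionSystem (cent F D), E.IsNormalIn F p ∧
      ∀ P : Subgroup Ω, E.Hom P ⊆ F.centralizerHom T P := by
  have hinv : D.IsInvariantIn F := hD.1.2.2
  have hTsc := hinv.2.1
  have hTS : T ≤ S := subsystem_le hinv.1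
  have hTn : S ≤ Subgroup.normalizer (T : Set Ω) := le_normalizer_of_stronglyClosed hTsc
  have hfinT : Finite T := finite_of_le hTS
  have hTfc : F.IsFullyCentralized T := by
    refine ⟨hTS, fun Q hQ => le_of_eq ?_⟩
    obtain ⟨k, hk, rfl⟩ := isConj_iff_map.1 hQ
    rw [stronglyClosed_img hTsc hk le_rfl]
  obtain ⟨CT, hCT⟩ := KNormalizer.exists_centralizerSystem (F := F) hTS
  have hCTs := KNormalizer.centralizerSystem_saturated hS hF hTfc hCT
  set C := cent F D with hCdef
  have hCT' : C ≤ centralizerIn S T := cent_le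
  have hCS : C ≤ S := hCT'.trans centralizerIn_le
  have hfinC : Finite C := finite_of_le hCS
  have hfinCT : Finite (centralizerIn S T) := finite_of_le centralizerIn_le
  have hCTp : IsPGroup p (centralizerIn S T) := hS.to_le centralizerIn_le
  have hCsc : F.StronglyClosed C := cent_stronglyClosed hS hF hD
  have hCn : S ≤ Subgroup.normalizer (C : Set Ω) := cent_normalized hinv
  have hhyp := hyp_le_cent hS hF hD hCT
  obtain ⟨E, hEs, hEi⟩ := PPowerIndex.exists_pPowerIndex hCTp hCTs hCT' hhyp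
  have hEn := PPowerNormal.isNormalIn_of_pPowerIndex hCTp hCTs hCT'
    (fun b hb x hx => (Subgroup.mem_normalizer_iff.1 (hCn hb.1) x).1 hx) hEs hEi
  have hCTF : ∀ {P : Subgroup Ω} {f : Ω → Ω}, IsMap CT P f → IsMap F P f := fun hf => by
    obtain ⟨-, -, g, hg, hge, -⟩ := (isMap_cent_iff hCT).1 hf
    exact (hg.restrict le_sup_left).congr hge
  have hTC : ∀ P : Subgroup Ω, P ≤ C → T ≤ centralizerIn S P := fun P hP t ht =>
    ⟨hTS ht, fun x hx => ((hCT' (hP hx)).2 t ht).symm⟩
  refine ⟨E, ⟨⟨hEs, hF, fun P => subset_of_isMap fun f hf => hCTF (isMap_of_subset hEi.1 hf),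
    hCsc, fun P hP φ hφ α hα => ?_, fun P hP φ hφ => ?_⟩, fun δ hδ => ?_⟩,
    fun P => (hEi.1 P).trans (hCT P).le⟩
  · -- invariance
    have hα' := isMap_of_mem_autGroup hCS hα
    have hfc : F.IsFullyCentralized (img (autFun α) C) := by
      rw [autFun_img]
      refine ⟨hCS, fun Q hQ => le_of_eq ?_⟩
      obtain ⟨k, hk, rfl⟩ := isConj_iff_map.1 hQ
      rw [stronglyClosed_img hCsc hk le_rfl]
    obtain ⟨θ₀, hθ₀, hθ₀e⟩ := exists_extension hS hF hα' hfc
    have hθ := hθ₀.restrict (sup_le ((hTC C le_rfl).trans centralizerIn_le_nSub) (le_nSub hα') :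
      T ⊔ C ≤ nSub S C (autFun α))
    have hθT : img θ₀ T = T := stronglyClosed_img hTsc hθ le_sup_left
    have hm := stable hS hCT' hCT hEs hEi (a := α) hθ hθT
      (fun x hx => (hθ₀e x hx).symm) (IsMap.of_hom hφ)
    have hdom : (P.subgroupOf C).map (C.subtype.comp α.toMonoidHom) = img (autFun α) P :=
      map_subgroupOf_eq_img (fun x => (autFun_apply α x).symm) hP
    rw [hdom]
    refine ⟨hm.hom, hm.hom_mem_self, fun x hφx hαx => ?_⟩
    rw [IsMap.hom_apply]
    show autFun α (ext φ (autFun α⁻¹ ((α ⟨x, hP x.2⟩ : C) : Ω))) = _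
    rw [← autFun_of_mem α (hP x.2), autFun_inv_apply, ext_apply, autFun_of_mem α hφx]
  · -- the Frattini condition
    have hf := IsMap.of_hom hφ
    have hfC : ∀ x ∈ P, ext φ x ∈ C := fun x hx => stronglyClosed_mem hCsc hf hx (hP hx)
    obtain ⟨Q, hPQ, hQ⟩ := exists_fullyCentralized (F := F) (hP.trans hCS)
    obtain ⟨f₁, hf₁, rfl⟩ := isConj_iff_map.1 hPQ
    obtain ⟨g₁, hg₁, hg₁e⟩ := exists_extension hS hF hf₁ hQ
    have hg₁' := hg₁.restrict (sup_le (le_nSub hf₁) ((hTC P hP).trans centralizerIn_le_nSub) :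
      P ⊔ T ≤ nSub S P f₁)
    obtain ⟨j, hj, hjimg, hjf, -⟩ := hf.exists_inv
    have hjP : ∀ y ∈ img (ext φ) P, j y ∈ P := fun y hy => hjimg.le (mem_img_self j hy)
    have hf₂ : IsMap F (img (ext φ) P) (fun y => f₁ (j y)) := hf₁.comp hj hjP
    have hf₂img : img (fun y => f₁ (j y)) (img (ext φ) P) = img f₁ P := by
      rw [← hj.img_img, hjimg]
    obtain ⟨g₂, hg₂, hg₂e⟩ := exists_extension hS hF hf₂ (by rw [hf₂img]; exact hQ)
    have hPC' : img (ext φ) P ≤ C := img_le hfC
    have hg₂' := hg₂.restrict (sup_le (le_nSub hf₂) ((hTC _ hPC').trans centralizerIn_le_nSub) :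
      img (ext φ) P ⊔ T ≤ nSub S (img (ext φ) P) (fun y => f₁ (j y)))
    have hT₁ : img g₁ T = T := stronglyClosed_img hTsc hg₁' le_sup_right
    have hT₂ : img g₂ T = T := stronglyClosed_img hTsc hg₂' le_sup_right
    obtain ⟨i₂, hi₂, hi₂img, hi₂g, -⟩ := hg₂'.exists_inv
    rw [hg₂'.img_sup, hT₂, img_congr hg₂e, hf₂img] at hi₂ hi₂img
    have hg₁v : ∀ x ∈ P ⊔ T, g₁ x ∈ img f₁ P ⊔ T := by
      intro x hx
      have h1 : img g₁ (P ⊔ T) ≤ img f₁ P ⊔ T := by rw [hg₁'.img_sup, hT₁, img_congr hg₁e]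
      exact h1 (mem_img_self g₁ hx)
    have hhat : IsMap F (P ⊔ T) (fun x => i₂ (g₁ x)) := hi₂.comp hg₁' hg₁v
    have hhatP : ∀ x ∈ P, i₂ (g₁ x) = ext φ x := fun x hx => by
      have h1 := hi₂g (ext φ x) (Subgroup.mem_sup_left (mem_img_self _ hx))
      rw [hg₂e _ (mem_img_self _ hx)] at h1
      simp only [hjf x hx] at h1
      rw [hg₁e x hx, h1]
    have hhatT : img (fun x => i₂ (g₁ x)) T = T := stronglyClosed_img hTsc hhat le_sup_right
    obtain ⟨b, hb, hbe⟩ := (hhat.restrict le_sup_right).exists_aut hhatT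
    have hbm := isMap_of_mem_autGroup hTS hb
    obtain ⟨θ₀, hθ₀, hθ₀e⟩ := exists_extension hS hF hbm (by rw [autFun_img]; exact hTfc)
    have hθ := hθ₀.restrict (sup_le (le_nSub hbm) (hCT'.trans centralizerIn_le_nSub) :
      T ⊔ C ≤ nSub S T (autFun b))
    have hθT : img θ₀ T = T := by rw [img_congr hθ₀e, autFun_img]
    have hθC : img θ₀ C = C := transport_cent hinv hθ hθT
    obtain ⟨k, hk, hkimg, hkθ, hθk⟩ := hθ.exists_inv
    rw [hθ.img_sup, hθT, hθC] at hk hkimg hθk
    have hhv : ∀ x ∈ P ⊔ T, i₂ (g₁ x) ∈ T ⊔ C := by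
      intro x hx
      have h1 : img (fun x => i₂ (g₁ x)) (P ⊔ T) ≤ T ⊔ C := by
        rw [hhat.img_sup, hhatT, img_congr hhatP]
        exact sup_le (hPC'.trans le_sup_right) le_sup_left
      exact h1 (mem_img_self _ hx)
    have hf' : IsMap F (P ⊔ T) (fun x => k (i₂ (g₁ x))) := hk.comp hhat hhv
    have hkC : ∀ y ∈ C, k y ∈ C := fun y hy => by
      obtain ⟨y', hy', rfl⟩ := (hθ.restrict le_sup_right).mem_img.1 (hθC.ge hy)
      rwa [hkθ y' (Subgroup.mem_sup_right hy')]
    have hfix : ∀ t ∈ T, k (i₂ (g₁ t)) = t := fun t ht => by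
      rw [← hbe t ht, ← hθ₀e t ht, hkθ t (Subgroup.mem_sup_left ht)]
    have hf'P : ∀ x ∈ P, k (i₂ (g₁ x)) ∈ C := fun x hx => by
      rw [hhatP x hx]
      exact hkC _ (hfC x hx)
    have hm : IsMap CT P (fun x => k (i₂ (g₁ x))) := (isMap_cent_iff hCT).2
      ⟨hP.trans hCT', fun x hx => hCT' (hf'P x hx), fun x => k (i₂ (g₁ x)), hf', fun _ _ => rfl,
        hfix⟩
    obtain ⟨c, hc, d, hd, hcd⟩ := invariant_frattini hEn.1.2.2 hP hm
    obtain ⟨a, ha, hae⟩ := (hθ.restrict le_sup_right).exists_aut hθC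
    have hcF : c ∈ F.autGroup C :=
      (mem_autGroup_iff hCS).2 (hCTF (isMap_of_mem_autGroup hCT' hc))
    refine ⟨a * c, Subgroup.mul_mem _ ha hcF, hd.hom, hd.hom_mem_self, fun x hx => ?_⟩
    rw [← autFun_of_mem (a * c) hx, autFun_mul, IsMap.hom_apply, ← hcd x x.2,
      hae _ (hf'P x x.2), hθk _ (hhv x (Subgroup.mem_sup_left x.2)), hhatP x x.2, ext_apply]
  · -- the extension condition
    have hle : C ⊔ centralizerIn S C ≤ S := sup_le hCS centralizerIn_le
    suffices hall : δ ∈ extAut F hle by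
      obtain ⟨h, hh, hhe, hhmove⟩ := mem_extAut.1 hall
      have hfin : Finite (C ⊔ centralizerIn S C : Subgroup Ω) := finite_of_le hle
      obtain ⟨β, hβ, hβe⟩ :=
        hh.exists_aut (eq_of_le_card (extends_mem hh hhe hhmove) hh.card_img.ge)
      refine ⟨β, hβ, fun x => ?_, fun c hc => ?_⟩
      · rw [← autFun_apply β, ← autFun_apply δ, Subgroup.coe_inclusion,
          hβe _ (Subgroup.mem_sup_left x.2), hhe x x.2]
      · rw [← autFun_apply β, hβe _ c.2]
        exact hhmove _ hc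
    have hn : E.IsFullyNormalized C :=
      ⟨le_rfl, fun Q hQ => le_of_eq (by rw [Alperin.eq_top_of_card le_rfl hQ rfl])⟩
    obtain ⟨R, hR⟩ := (fullyNormalized_fullyAutomized (hS.to_le hCS) hEs hn).2
    suffices htop : (extAut F hle).subgroupOf (E.autGroup C) = ⊤ from
      Subgroup.mem_subgroupOf.1
        (show (⟨δ, hδ⟩ : E.autGroup C) ∈ (extAut F hle).subgroupOf (E.autGroup C) from
          htop.ge (Subgroup.mem_top _))
    refine LayerCentralizer.eq_top_of_parts _ R ?_ fun d hdc => ?_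
    · intro d hd
      rw [hR] at hd
      obtain ⟨x, hx, hxe⟩ := mem_autInducedBy_iff'.1 (Subgroup.mem_subgroupOf.1 hd)
      refine Subgroup.mem_subgroupOf.2 (mem_extAut.2 ⟨cj x, isMap_cj hle (hCS hx.1),
        fun y hy => (hxe y hy).symm, fun c hc => ?_⟩)
      rw [cj_apply, hc.2 x hx.1, mul_inv_cancel_right, inv_mul_cancel]
      exact Subgroup.one_mem _
    refine Subgroup.mem_subgroupOf.2 (mem_extAut.2 ?_)
    obtain ⟨β₁, hβ₁, hβ₁C, hβ₁mov⟩ := hEn.2 d d.2
    set C' := centralizerIn (centralizerIn S T) C with hC'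
    have hC'S : C' ≤ S := centralizerIn_le.trans centralizerIn_le
    have hC'T : ∀ y ∈ C', y ∈ centralizerIn S T := fun y hy => hy.1
    have hC'C : ∀ y ∈ C', y ∈ centralizerIn S C := fun y hy => ⟨hy.1.1, hy.2⟩
    have hZC' : ∀ z ∈ ctr C, z ∈ C' := fun z hz => ⟨hCT' hz.1, hz.2⟩
    obtain ⟨-, -, g, hg, hge, hgfix⟩ := (isMap_cent_iff hCT).1
      (isMap_of_mem_autGroup (sup_le hCT' centralizerIn_le) hβ₁)
    set V := C ⊔ C' ⊔ T with hV
    have hCV : C ≤ V := le_sup_left.trans le_sup_left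
    have hC'V : C' ≤ V := le_sup_right.trans le_sup_left
    have hTV : T ≤ V := le_sup_right
    have hVS : V ≤ S := hg.le
    have hfinV : Finite V := finite_of_le hVS
    have hgC : ∀ x ∈ C, g x = autFun (d : MulAut C) x := fun x hx => by
      rw [hge x (Subgroup.mem_sup_left hx), autFun_of_mem _ (Subgroup.mem_sup_left hx),
        autFun_of_mem _ hx]
      exact hβ₁C ⟨x, hx⟩
    have hgC' : ∀ y ∈ C', y⁻¹ * g y ∈ ctr C := fun y hy => by
      rw [hge y (Subgroup.mem_sup_right hy), autFun_of_mem _ (Subgroup.mem_sup_right hy)]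
      exact hβ₁mov ⟨y, Subgroup.mem_sup_right hy⟩ hy
    have hgC'mem : ∀ y ∈ C', g y ∈ C' := fun y hy => by
      have h := C'.mul_mem hy (hZC' _ (hgC' y hy))
      rwa [mul_inv_cancel_left] at h
    -- maps defined on `V` stabilize it
    have hVimg : ∀ {f : Ω → Ω}, IsMap F V f →
        (∀ x ∈ C', f x ∈ C') ∧ img f V = V := by
      intro f hf
      have hfC := stronglyClosed_img hCsc hf hCV
      have hfT := stronglyClosed_img hTsc hf hTV
      have hmem : ∀ x ∈ C', f x ∈ C' := fun x hx => by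
        refine ⟨⟨hf.mem (hC'V hx), ?_⟩, ?_⟩
        · have h := hf.mem_centralizer_img hTV (hC'V hx) hx.1.2
          rwa [hfT] at h
        · have h := hf.mem_centralizer_img hCV (hC'V hx) hx.2
          rwa [hfC] at h
      refine ⟨hmem, eq_of_le_card (img_le fun x hx => ?_) hf.card_img.ge⟩
      have h1 : img f (C ⊔ C' ⊔ T) ≤ V := by
        rw [hf.img_sup, hfT, (hf.restrict le_sup_left).img_sup, hfC]
        exact sup_le (sup_le hCV ((img_le hmem).trans hC'V)) hTV
      exact h1 (mem_img_self f hx)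
    have hVn : S ≤ Subgroup.normalizer (V : Set Ω) := fun s hs =>
      mem_normalizer_of_forall fun x hx =>
        (hVimg (isMap_cj (F := F) hVS hs)).2.le (mem_img_self (cj s) hx)
    have hVfn : F.IsFullyNormalized V := by
      refine ⟨hVS, fun Q hQ => ?_⟩
      obtain ⟨f, hf, rfl⟩ := isConj_iff_map.1 hQ
      rw [(hVimg hf).2]
    have hVaut : ∀ {a : MulAut V}, a ∈ F.autGroup V →
        (∀ x ∈ C', autFun a x ∈ C') ∧ (∀ z ∈ ctr C, autFun a z ∈ ctr C) := by
      intro a ha
      have hm := isMap_of_mem_autGroup hVS ha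
      have hfC := stronglyClosed_img hCsc hm hCV
      refine ⟨(hVimg hm).1, fun z hz => ⟨hfC.le (mem_img_self _ hz.1), ?_⟩⟩
      have h := hm.mem_centralizer_img hCV (hCV hz.1) hz.2
      rwa [hfC] at h
    -- the normal `p`-subgroup of automorphisms fixing `C` and `T`
    let A₀ : Subgroup (F.autGroup V) :=
      { carrier := {a | (∀ x ∈ C, autFun (a : MulAut V) x = x) ∧
          (∀ x ∈ T, autFun (a : MulAut V) x = x) ∧
          ∀ y ∈ C', y⁻¹ * autFun (a : MulAut V) y ∈ ctr C}
        one_mem' := ⟨fun x _ => by rw [Subgroup.coe_one, autFun_one, id],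
          fun x _ => by rw [Subgroup.coe_one, autFun_one, id],
          fun y _ => by rw [Subgroup.coe_one, autFun_one, id, inv_mul_cancel]; exact Subgroup.one_mem _⟩
        mul_mem' := by
          rintro a b ⟨ha₁, ha₂, ha₃⟩ ⟨hb₁, hb₂, hb₃⟩
          refine ⟨fun x hx => by rw [Subgroup.coe_mul, autFun_mul, hb₁ x hx, ha₁ x hx],
            fun x hx => by rw [Subgroup.coe_mul, autFun_mul, hb₂ x hx, ha₂ x hx], fun y hy => ?_⟩
          rw [Subgroup.coe_mul, autFun_mul]
          have h := Subgroup.mul_mem _ (hb₃ y hy) (ha₃ _ ((hVaut b.2).1 y hy))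
          simpa [mul_assoc] using h
        inv_mem' := by
          rintro a ⟨ha₁, ha₂, ha₃⟩
          refine ⟨fun x hx => ?_, fun x hx => ?_, fun y hy => ?_⟩
          · rw [Subgroup.coe_inv]; conv_lhs => rw [← ha₁ x hx, autFun_inv_apply]
          · rw [Subgroup.coe_inv]; conv_lhs => rw [← ha₂ x hx, autFun_inv_apply]
          · rw [Subgroup.coe_inv]
            have h := Subgroup.inv_mem _ (ha₃ _ ((hVaut (Subgroup.inv_mem _ a.2)).1 y hy))
            rw [autFun_apply_inv] at h
            simpa using h }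
    have hA₀n : A₀.Normal := by
      refine ⟨fun b hb a => ?_⟩
      have hm := isMap_of_mem_autGroup hVS (a⁻¹ : F.autGroup V).2
      have hfC := stronglyClosed_img hCsc hm hCV
      have hfT := stronglyClosed_img hTsc hm hTV
      refine ⟨fun x hx => ?_, fun x hx => ?_, fun y hy => ?_⟩
      · rw [Subgroup.coe_mul, Subgroup.coe_mul, autFun_mul, autFun_mul,
          hb.1 _ (hfC.le (mem_img_self _ hx)), Subgroup.coe_inv, autFun_apply_inv]
      · rw [Subgroup.coe_mul, Subgroup.coe_mul, autFun_mul, autFun_mul,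
          hb.2.1 _ (hfT.le (mem_img_self _ hx)), Subgroup.coe_inv, autFun_apply_inv]
      · rw [Subgroup.coe_mul, Subgroup.coe_mul, Subgroup.coe_inv, autFun_mul, autFun_mul]
        have hy' := (hVaut (Subgroup.inv_mem _ a.2)).1 y hy
        have h := (hVaut a.2).2 _ (hb.2.2 _ hy')
        rwa [autFun_isHom (a : MulAut V) _ (V.inv_mem (hC'V hy')) _
            (hC'V ((hVaut b.2).1 _ hy')),
          (autFun_isHom (a : MulAut V)).map_inv (hC'V hy'), autFun_apply_inv] at h
    have hA₀p : IsPGroup p A₀ := by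
      intro a
      let ch : ℕ → Subgroup V :=
        fun n => if n = 0 then ⊥ else if n = 1 then (C ⊔ T).subgroupOf V else ⊤
      have hCT_V : C ⊔ T ≤ V := sup_le hCV hTV
      have hfixCT : ∀ x ∈ C ⊔ T, autFun ((a : F.autGroup V) : MulAut V) x = x := fun x hx =>
        GoodExtension.eqOn_sup ((autFun_isHom _).mono hCT_V)
          (show IsHomOn (C ⊔ T) id from fun _ _ _ _ => rfl) a.2.1 a.2.2.1 hx
      obtain ⟨k, hk⟩ := exists_pow_eq_one_of_stabilizes (p := p) (hS.to_le hVS) ch 2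
        (if_pos rfl) (by simp [ch]) (fun n hn => by
          rcases n with _ | n
          · exact bot_le.trans' (le_of_eq (if_pos rfl))
          · simp [ch])
        ((a : F.autGroup V) : MulAut V) (fun n hn w hw => by
          rcases n with _ | _ | n
          · simp only [ch, if_pos, one_ne_zero, zero_add, if_false] at hw ⊢
            rw [Subgroup.mem_bot, inv_mul_eq_one]
            refine Subtype.ext ?_
            rw [← autFun_apply]
            exact (hfixCT _ (Subgroup.mem_subgroupOf.1 hw)).symm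
          · simp only [ch, one_ne_zero, if_false, zero_add, if_true]
            rw [Subgroup.mem_subgroupOf, Subgroup.coe_mul, Subgroup.coe_inv, ← autFun_apply]
            have hwV : (w : Ω) ∈ ((C ⊔ T ⊔ C' : Subgroup Ω) : Set Ω) := by
              show (w : Ω) ∈ C ⊔ T ⊔ C'
              rw [show C ⊔ T ⊔ C' = V by rw [hV]; ac_rfl]
              exact w.2
            have hnorm : C' ≤ Subgroup.normalizer ((C ⊔ T : Subgroup Ω) : Set Ω) := by
              intro c hc
              have : Finite (C ⊔ T : Subgroup Ω) := finite_of_le (sup_le hCS hTS)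
              have hm : IsMap F (C ⊔ T) (cj c) := isMap_cj (sup_le hCS hTS) (hC'S hc)
              refine mem_normalizer_of_forall fun x hx => ?_
              have h1 : img (cj c) (C ⊔ T) = C ⊔ T := by
                rw [hm.img_sup, stronglyClosed_img hCsc hm le_sup_left,
                  stronglyClosed_img hTsc hm le_sup_right]
              exact h1.le (mem_img_self _ hx)
            rw [Subgroup.coe_mul_of_right_le_normalizer_left _ _ hnorm] at hwV
            obtain ⟨x, hx, y, hy, hxy⟩ := hwV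
            have hxy' : (w : Ω) = x * y := hxy.symm
            rw [hxy', autFun_isHom _ _ (hCT_V hx) _ (hC'V hy), hfixCT x hx]
            have h2 : y⁻¹ * autFun ((a : F.autGroup V) : MulAut V) y ∈ C ⊔ T :=
              Subgroup.mem_sup_left (a.2.2.2 y hy).1
            simpa [mul_assoc] using h2
          · omega)
      exact ⟨k, Subtype.ext (Subtype.ext (by simpa using hk))⟩
    -- an automorphism of `V` of order prime to `p` extending `d`
    obtain ⟨κ₀, hκ₀, hκ₀e⟩ := hg.exists_aut (hVimg hg).2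
    have hκ₀C : ∀ x ∈ C, autFun κ₀ x = autFun (d : MulAut C) x := fun x hx => by
      rw [hκ₀e x (hCV hx), hgC x hx]
    obtain ⟨j, hjc, hjC⟩ := GoodExtension.exists_pow_coprime (p := p) hCV (a := κ₀)
      (d := (d : MulAut C)) hκ₀C (by rwa [Subgroup.orderOf_coe])
    set κ := κ₀ ^ j with hκ
    have hκmem : κ ∈ F.autGroup V := Subgroup.pow_mem _ hκ₀ j
    have hκT : ∀ n : ℕ, ∀ t ∈ T, autFun (κ₀ ^ n) t = t := by
      intro n
      induction n with
      | zero => intro t _; rw [pow_zero, autFun_one]; rfl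
      | succ n ih => intro t ht; rw [pow_succ', autFun_mul, ih t ht, hκ₀e t (hTV ht), hgfix t ht]
    have hκC' : ∀ n : ℕ, ∀ y ∈ C', y⁻¹ * autFun (κ₀ ^ n) y ∈ ctr C := by
      intro n
      induction n with
      | zero => intro y _; rw [pow_zero, autFun_one, id, inv_mul_cancel]; exact Subgroup.one_mem _
      | succ n ih =>
        intro y hy
        have h1 := (hVaut (Subgroup.pow_mem _ hκ₀ n)).1 y hy
        have h2 := hgC' _ h1
        rw [← hκ₀e _ (hC'V h1)] at h2
        rw [pow_succ', autFun_mul]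
        simpa [mul_assoc] using Subgroup.mul_mem _ (ih y hy) h2
    have hκm := isMap_of_mem_autGroup hVS hκmem
    have hκfc : F.IsFullyCentralized (img (autFun κ) V) := by
      rw [autFun_img]; exact fullyNormalized_fullyCentralized hS hF hVfn
    obtain ⟨θ, hθ, hθe⟩ := exists_extension hS hF hκm hκfc
    obtain ⟨P₀, hP₀⟩ := (fullyNormalized_fullyAutomized hS hF hVfn).2
    have hA₀le := hA₀p.le_sylow_of_normal P₀
    have hnSub : V ⊔ centralizerIn S C ≤ nSub S V (autFun κ) := by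
      refine sup_le (le_nSub hκm) fun u hu => ?_
      have huN : u ∈ normalizerIn S V := ⟨hu.1, hVn hu.1⟩
      set cu := conjAut S V ⟨u, huN⟩ with hcu
      have hcuF : cu ∈ F.autGroup V := autInducedBy_le hVS (conjAut_range S V ▸ ⟨_, rfl⟩)
      set ρ : F.autGroup V := ⟨κ * cu * κ⁻¹ * cu⁻¹, Subgroup.mul_mem _ (Subgroup.mul_mem _
        (Subgroup.mul_mem _ hκmem hcuF) (Subgroup.inv_mem _ hκmem)) (Subgroup.inv_mem _ hcuF)⟩
        with hρ
      have hcuV : ∀ x ∈ V, autFun cu x = u * x * u⁻¹ := fun x hx =>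
        conjAut_apply (K := S) ⟨u, huN⟩ hx
      have hρA : ρ ∈ A₀ := by
        refine ⟨fun x hx => ?_, fun x hx => ?_, fun y hy => ?_⟩
        · rw [hρ, autFun_mul, autFun_mul, autFun_mul]
          have h1 : ∀ c ∈ C, autFun cu c = c := fun c hc => by
            rw [hcuV c (hCV hc), ← hu.2 c hc, mul_inv_cancel_right]
          have hux : autFun cu⁻¹ x = x := by
            conv_lhs => rw [← h1 x hx]
            rw [autFun_inv_apply]
          rw [hux, h1 _ (stronglyClosed_mem hCsc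
            (isMap_of_mem_autGroup hVS (Subgroup.inv_mem _ hκmem)) (hCV hx) hx), autFun_apply_inv]
        · rw [hρ, autFun_mul, autFun_mul, autFun_mul]
          have hm := isMap_of_mem_autGroup hVS (Subgroup.inv_mem _ hcuF)
          have h1 : autFun cu⁻¹ x ∈ T := stronglyClosed_mem hTsc hm (hTV hx) hx
          have h2 : autFun κ⁻¹ (autFun cu⁻¹ x) = autFun cu⁻¹ x := by
            conv_lhs => rw [← hκT j _ h1, ← hκ]
            rw [autFun_inv_apply]
          rw [h2, autFun_apply_inv]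
          exact hκT j x hx
        · rw [hρ, autFun_mul, autFun_mul, autFun_mul]
          have hy₁ := (hVaut (Subgroup.inv_mem _ hcuF)).1 y hy
          set y₁ := autFun cu⁻¹ y with hy₁d
          have hy₂ := (hVaut (Subgroup.inv_mem _ hκmem)).1 y₁ hy₁
          set y₂ := autFun κ⁻¹ y₁ with hy₂d
          have hz : y₂⁻¹ * y₁ ∈ ctr C := by
            have h := hκC' j y₂ hy₂
            rwa [← hκ, hy₂d, autFun_apply_inv] at h
          set z := y₂⁻¹ * y₁ with hzd
          have he : y₂ = y₁ * z⁻¹ := by rw [hzd]; group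
          have hzV : z⁻¹ ∈ V := V.inv_mem (hCV hz.1)
          have hcz : autFun cu z⁻¹ = z⁻¹ := by
            rw [hcuV _ hzV, ← hu.2 _ (C.inv_mem hz.1), mul_inv_cancel_right]
          rw [he, autFun_isHom cu _ (hC'V hy₁) _ hzV, hy₁d, autFun_apply_inv, hcz,
            autFun_isHom κ _ (hC'V hy) _ hzV]
          have h3 := Subgroup.mul_mem _ (hκC' j y hy)
            ((hVaut hκmem).2 _ (Subgroup.inv_mem _ hz))
          rw [← hκ] at h3
          simpa [mul_assoc] using h3
      have h1 := hA₀le hρA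
      rw [hP₀, Subgroup.mem_subgroupOf] at h1
      obtain ⟨s, hs, hse⟩ := mem_autInducedBy_iff'.1 h1
      refine ⟨hu.1, hVn hu.1, s * u, S.mul_mem hs.1 hu.1, fun x hx => ?_⟩
      have hy := autFun_mem κ hx
      have hy' : autFun cu (autFun κ x) ∈ V := autFun_mem _ hy
      have h2 := hse _ hy'
      rw [hρ, autFun_mul, autFun_mul, autFun_mul, autFun_inv_apply, autFun_inv_apply,
        hcuV x hx, hcuV _ hy, cj_apply] at h2
      rw [h2]
      group
    have hθ' := hθ.restrict hnSub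
    set V₂ := V ⊔ centralizerIn S C with hV₂
    have hV₂S : V₂ ≤ S := hθ'.le
    have hfinV₂ : Finite V₂ := finite_of_le hV₂S
    have hθCS : ∀ u ∈ centralizerIn S C, θ u ∈ centralizerIn S C := fun u hu => by
      refine ⟨hθ'.mem (Subgroup.mem_sup_right hu), ?_⟩
      have h := hθ'.mem_centralizer_img (hCV.trans le_sup_left) (Subgroup.mem_sup_right hu) hu.2
      rwa [stronglyClosed_img hCsc hθ' (hCV.trans le_sup_left)] at h
    have himg₂ : img θ V₂ = V₂ := by
      refine eq_of_le_card ?_ hθ'.card_img.ge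
      rw [hθ'.img_sup, img_congr hθe, autFun_img]
      exact sup_le_sup_left (img_le hθCS) V
    obtain ⟨l₀, hl₀, hl₀e⟩ := hθ'.exists_aut himg₂
    obtain ⟨i, hic, hiV⟩ := GoodExtension.exists_pow_coprime (p := p) (le_sup_left : V ≤ V₂)
      (a := l₀) (d := κ) (fun x hx => by rw [hl₀e x (Subgroup.mem_sup_left hx), hθe x hx]) hjc
    set l := l₀ ^ i with hl
    have hlm : IsMap F V₂ (autFun l) := isMap_of_mem_autGroup hV₂S (Subgroup.pow_mem _ hl₀ i)
    have hlC : ∀ x ∈ C, autFun l x = autFun (d : MulAut C) x := fun x hx => by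
      rw [hiV x (hCV hx), hjC x hx]
    have hCV₂ : centralizerIn S C ≤ V₂ := le_sup_right
    have hlctr : ∀ z ∈ ctr C, autFun l z ∈ ctr C := fun z hz => by
      rw [hlC z hz.1]; exact autFun_ctr hz
    refine ⟨autFun l, hlm.restrict (sup_le (hCV.trans le_sup_left) hCV₂), hlC, fun u hu => ?_⟩
    have hlu : autFun l u ∈ centralizerIn S C := by
      refine ⟨hlm.mem (hCV₂ hu), ?_⟩
      have h := hlm.mem_centralizer_img (hCV.trans le_sup_left) (hCV₂ hu) hu.2
      rwa [stronglyClosed_img hCsc hlm (hCV.trans le_sup_left)] at h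
    set w := u⁻¹ * autFun l u with hw
    have hwC : w ∈ centralizerIn S C :=
      (centralizerIn S C).mul_mem ((centralizerIn S C).inv_mem hu) hlu
    have hwC' : w ∈ C' := by
      refine ⟨⟨hwC.1, fun t ht => ?_⟩, hwC.2⟩
      have hut : u * t * u⁻¹ ∈ T := (Subgroup.mem_normalizer_iff.1 (hTn hu.1) t).1 ht
      have hfixT : ∀ t ∈ T, autFun l t = t := fun t ht => by rw [hiV t (hTV ht), hκT j t ht]
      have h1 := hlm.map_conj (hCV₂ hu) (Subgroup.mem_sup_left (hTV ht) : t ∈ V₂)
      rw [hfixT t ht, hfixT _ hut] at h1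
      calc t * w = u⁻¹ * (u * t * u⁻¹) * autFun l u := by rw [hw]; group
        _ = u⁻¹ * (autFun l u * t * (autFun l u)⁻¹) * autFun l u := by rw [h1]
        _ = w * t := by rw [hw]; group
    have hpow : ∀ n : ℕ, ∃ z ∈ ctr C, autFun (l ^ n) u = u * w ^ n * z := by
      intro n
      induction n with
      | zero => exact ⟨1, Subgroup.one_mem _, by
          rw [pow_zero, autFun_one, pow_zero, mul_one, mul_one]; rfl⟩
      | succ n ih =>
        obtain ⟨z, hz, hze⟩ := ih
        have hwn := C'.pow_mem hwC' n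
        have hm : (w ^ n)⁻¹ * autFun l (w ^ n) ∈ ctr C := by
          rw [hiV _ (hC'V hwn)]
          exact hκC' j _ hwn
        refine ⟨(w ^ n)⁻¹ * autFun l (w ^ n) * autFun l z, Subgroup.mul_mem _ hm (hlctr z hz), ?_⟩
        have hwV : w ^ n ∈ V₂ := Subgroup.mem_sup_left (hC'V hwn)
        rw [pow_succ', autFun_mul, hze, hlm.map_mul (V₂.mul_mem (hCV₂ hu) hwV)
          (Subgroup.mem_sup_left (hCV hz.1)), hlm.map_mul (hCV₂ hu) hwV, pow_succ']
        rw [show autFun l u = u * w by rw [hw, mul_inv_cancel_left]]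
        group
    obtain ⟨z, hz, hze⟩ := hpow (orderOf l)
    rw [pow_orderOf_eq_one, autFun_one, id, mul_assoc] at hze
    have hwz : w ^ orderOf l = z⁻¹ := eq_inv_of_mul_eq_one_left (mul_eq_left.1 hze.symm)
    obtain ⟨e, he⟩ := hS ⟨w, hwC.1⟩
    exact GoodExtension.mem_of_pow_mem (hic.pow_right e) (hwz ▸ Subgroup.inv_mem _ hz)
      (by rw [show w ^ p ^ e = 1 from congrArg Subtype.val he]; exact Subgroup.one_mem _)

end Cfsg.Agent.Fusion.SubsystemCentralizerSystem
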