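/-
The generalized Fitting subsystem contains its centralizer.
-/
import Mathlib
import Cfsg.Agent.Lib.Fusion.FittingConstrained
import Cfsg.Agent.Lib.Fusion.LayerCentralizer
import Cfsg.Agent.Lib.Fusion.SubsystemCentralizerSystem

set_option autoImplicit false
set_option linter.all false

namespace Cfsg.Agent.Fusion.FittingCentralizer

open Cfsg Cfsg.FusionSystem Cfsg.Agent.Fusion.Basic Cfsg.Agent.Fusion.Saturation
  Cfsg.Agent.Fusion.Normal Cfsg.Agent.Fusion.Factor Cfsg.Agent.Fusion.Subsystems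
  Cfsg.Agent.Fusion.Product Cfsg.Agent.Fusion.ComponentExists
  Cfsg.Agent.Fusion.NormalCentralizer Cfsg.Agent.Fusion.SubsystemCentralizer

variable {Ω : Type*} [Group Ω] {S T U : Subgroup Ω} {F : FusionSystem S} {E : FusionSystem T}
  {D : FusionSystem U} {p : ℕ} [Finite S] [Fact p.Prime]

omit [Finite S] in
/-- A quasisimple system lives over a nontrivial group. -/
theorem quasisimple_ne_bot {W : Subgroup Ω} [Finite W] {K : FusionSystem W} (h : K.Quasisimple p) :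
    W ≠ ⊥ := by
  intro hW
  have hsc := normal_stronglyClosed (central_normal (center_isCentral (F := K)))
  obtain ⟨K', hK'⟩ := FactorExists.exists_factorSystem (F := K) (S' := ⊤)
    (θ := QuotientGroup.mk' ((K.center).subgroupOf W)) hsc
    (fun s => by rw [QuotientGroup.mk'_apply, QuotientGroup.eq_one_iff]; rfl)
    (MonoidHom.range_eq_top.2 (QuotientGroup.mk'_surjective _))
  refine (h.2.2 K' hK').2.1 ?_
  rw [eq_bot_iff]
  intro y _
  obtain ⟨s, rfl⟩ := QuotientGroup.mk'_surjective _ y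
  have hs : s = 1 := Subtype.ext (Subgroup.mem_bot.1 (hW.le s.2))
  rw [hs, map_one]
  exact Subgroup.one_mem _

omit [Finite S] [Fact p.Prime] in
theorem subnormal_subsystem {W : Subgroup Ω} {K : FusionSystem W} (h : K.IsSubnormalIn F p) :
    K.IsSubsystemOf F := by
  induction h with
  | refl => exact fun P => subset_rfl
  | step _ hN ih => exact fun P => (ih P).trans (hN.1.2.2.1 P)

/-- The normal subsystem centralizing a normal subsystem that contains all components is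
constrained. -/
theorem cent_constrained (hS : IsPGroup p S) (hF : F.IsSaturated p) (hEn : E.IsNormalIn F p)
    (hEc : ∀ (W : Subgroup Ω) (K : FusionSystem W), K.IsComponentIn F p → K.IsSubsystemOf E)
    {E₁ : FusionSystem (cent F E)} (hE₁ : E₁.IsNormalIn F p)
    (hE₁T : ∀ P : Subgroup Ω, E₁.Hom P ⊆ F.centralizerHom T P) : E₁.IsConstrained p := by
  have hCS : cent F E ≤ S := cent_le.trans centralizerIn_le
  have hfinC : Finite (cent F E) := finite_of_le hCS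
  have hpC : IsPGroup p (cent F E) := hS.to_le hCS
  refine (ComponentExists.constrained_iff hpC hE₁.1.1).2 ?_
  rintro ⟨W, K, hsub, hqs⟩
  obtain ⟨hWC, -⟩ := subnormal_facts hsub hE₁.1.1
  have hfinW : Finite W := finite_of_le hWC
  have hKE : K.IsSubsystemOf E :=
    hEc W K ⟨subnormal_trans hsub (normal_subnormal hE₁), hqs⟩
  have hid : ∀ (P : Subgroup Ω) (f : Ω → Ω), IsMap K P f → ∀ x ∈ P, f x = x := by
    intro P f hf x hx
    have hPT : P ≤ T := (isMap_of_subset hKE hf).le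
    obtain ⟨φ, hφ, he⟩ := isMap_of_subset (subnormal_subsystem hsub) hf
    obtain ⟨-, -, -, ψ, -, hψP, hψT⟩ := hE₁T P hφ
    have h1 := hψP ⟨x, hx⟩
    have h2 := hψT ⟨x, hPT hx⟩
    rw [← he ⟨x, hx⟩, ← h1]
    exact h2
  refine quasisimple_ne_bot hqs ?_
  rw [← hqs.2.1]
  exact hyp_eq_bot_of_inner (hpC.to_le hWC) fun P f hf =>
    ⟨1, W.one_mem, fun x hx => by rw [cj_one, hid P f hf x hx]; rfl⟩

/-- An element of the core acting with a map of the layer gives a map of `F`. -/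
theorem exists_glue (hS : IsPGroup p S) (hF : F.IsSaturated p) (hE : E.IsLayerOf F p) {a : Ω}
    (ha : a ∈ F.core) {P₂ : Subgroup Ω} {f : Ω → Ω} (hf : IsMap E P₂ f) :
    ∃ G, IsMap F (P₂ ⊔ F.core) G ∧ ∀ x ∈ F.core, ∀ y ∈ P₂, G (x * y) = cj a x * f y := by
  have hQS : F.core ≤ S := (core_isNormal (F := F)).1
  obtain ⟨-, hPC, hfC, ψ, hψ, hψP, hψQ⟩ :=
    LayerCentralizer.layer_centralizes hS hF hE P₂ hf.hom_mem_self
  have hg := IsMap.of_hom hψ
  refine ⟨fun z => cj a (ext ψ z), (isMap_cj le_rfl (hQS ha)).comp hg fun z hz => hg.mem hz,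
    fun x hx y hy => ?_⟩
  have hx' : x ∈ P₂ ⊔ F.core := Subgroup.mem_sup_right hx
  have hy' : y ∈ P₂ ⊔ F.core := Subgroup.mem_sup_left hy
  have h1 : ext ψ x = x := by rw [ext_of_mem ψ hx']; exact hψQ ⟨x, hx⟩
  have h2 : ext ψ y = f y := by rw [ext_of_mem ψ hy']; exact hψP ⟨y, hy⟩
  have h3 : a * f y = f y * a := (hfC ⟨y, hy⟩).2 a ha
  show cj a (ext ψ (x * y)) = _
  rw [hg.map_mul hx' hy', h1, h2]
  simp only [cj_apply]
  calc a * (x * f y) * a⁻¹ = a * x * a⁻¹ * (a * f y) * a⁻¹ := by group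
    _ = a * x * a⁻¹ * f y := by rw [h3]; group

/-- The multiplication map of a central product. -/
theorem theta_mul {θ : ↥(F.core.prod T) →* Ω}
    (hθ₁ : ∀ (x : Ω) (hx : ((x, 1) : Ω × Ω) ∈ F.core.prod T), θ ⟨(x, 1), hx⟩ = x)
    (hθ₂ : ∀ (y : Ω) (hy : ((1, y) : Ω × Ω) ∈ F.core.prod T), θ ⟨(1, y), hy⟩ = y)
    (s : ↥(F.core.prod T)) : θ s = (s : Ω × Ω).1 * (s : Ω × Ω).2 := by
  have h1 : ((s : Ω × Ω).1, (1 : Ω)) ∈ F.core.prod T := ⟨s.2.1, Subgroup.one_mem _⟩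
  have h2 : ((1 : Ω), (s : Ω × Ω).2) ∈ F.core.prod T := ⟨Subgroup.one_mem _, s.2.2⟩
  have hs : s = ⟨_, h1⟩ * ⟨_, h2⟩ := Subtype.ext (Prod.ext (mul_one _).symm (one_mul _).symm)
  conv_lhs => rw [hs]
  rw [map_mul, hθ₁, hθ₂]

/-- The centre of a generalized Fitting subsystem is the centralizer of that subsystem. -/
theorem fitting_centralizer (hS : IsPGroup p S) (hF : F.IsSaturated p)
    (hD : D.IsGeneralizedFittingOf F p) :
    (D.center ≤ centralizerIn S U ∧ ∀ P : Subgroup Ω, D.Hom P ⊆ F.centralizerHom D.center P) ∧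
      ∀ Y : Subgroup Ω, Y ≤ centralizerIn S U →
        (∀ P : Subgroup Ω, D.Hom P ⊆ F.centralizerHom Y P) → Y ≤ D.center := by
  obtain ⟨T, E, hE, D₀, hD₀, Z, θ, hZ, -, -, hθ₁, hθ₂, -, hker, hrange, hmaps⟩ := hD
  have hQS : F.core ≤ S := (core_isNormal (F := F)).1
  have hTS : T ≤ S := subsystem_le hE.1.1.2.2.1
  have hfinQ : Finite F.core := finite_of_le hQS
  have hfinT : Finite T := finite_of_le hTS
  have hfinP : Finite (F.core.prod T : Subgroup (Ω × Ω)) := Product.finite_prod _ _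
  have hθ := theta_mul hθ₁ hθ₂
  have hUS : U ≤ S := by
    rw [← hrange]
    rintro _ ⟨s, rfl⟩
    rw [hθ]
    exact S.mul_mem (hQS s.2.1) (hTS s.2.2)
  have hQU : F.core ≤ U := fun x hx =>
    hrange.le ⟨⟨(x, 1), hx, Subgroup.one_mem _⟩, hθ₁ x _⟩
  have hTU : T ≤ U := fun y hy =>
    hrange.le ⟨⟨(1, y), Subgroup.one_mem _, hy⟩, hθ₂ y _⟩
  have hfinU : Finite U := finite_of_le hUS
  -- lifting a map of the central product
  have lift : ∀ (P : Subgroup Ω) (h : Ω → Ω), IsMap D P h → ∃ a ∈ F.core, ∃ f,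
      IsMap E (sndOf (preimageAlong θ P)) f ∧
        ∀ s : ↥(F.core.prod T), θ s ∈ P → h (θ s) = cj a (s : Ω × Ω).1 * f (s : Ω × Ω).2 := by
    rintro P h ⟨φ, hφ, hφe⟩
    obtain ⟨-, φ₀, hφ₀, hpre, hv, hP', hcomm⟩ := (hmaps P φ).1 hφ
    obtain ⟨-, f₁, f₂, h₁, h₂, he⟩ := (isMap_prod_iff hD₀).1 (IsMap.of_hom hφ₀)
    obtain ⟨-, a, ha, hae⟩ := isMap_inner_iff.1 h₁
    refine ⟨a, ha, f₂, h₂, fun s hs => ?_⟩
    have hsm : (s : Ω × Ω) ∈ preimageAlong θ P := ⟨s, hs, rfl⟩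
    have h3 : h (θ s) = θ ⟨φ₀ ⟨(s : Ω × Ω), hsm⟩, hv _⟩ :=
      (hφe ⟨θ s, hs⟩).symm.trans (hcomm ⟨(s : Ω × Ω), hsm⟩)
    rw [h3, hθ]
    show (φ₀ ⟨(s : Ω × Ω), hsm⟩).1 * (φ₀ ⟨(s : Ω × Ω), hsm⟩).2 = _
    rw [← ext_of_mem φ₀ hsm, he _ hsm, hae _ (mem_fstOf hsm)]
  -- making a map of the central product
  have mk : ∀ (P P₂ : Subgroup Ω) (a : Ω) (f G : Ω → Ω), a ∈ F.core → IsMap E P₂ f →
      P ≤ U → preimageAlong θ P ≤ F.core.prod P₂ → IsMap F (P₂ ⊔ F.core) G →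
      (∀ x ∈ F.core, ∀ y ∈ P₂, G (x * y) = cj a x * f y) →
      P ≤ P₂ ⊔ F.core ∧ IsMap D P G := by
    intro P P₂ a f G ha hf hPU hpre hG hGe
    have hle : P ≤ P₂ ⊔ F.core := by
      intro z hz
      obtain ⟨s, rfl⟩ := hrange.ge (hPU hz)
      have hs := hpre (x := (s : Ω × Ω)) ⟨s, hz, rfl⟩
      rw [hθ]
      exact Subgroup.mul_mem _ (Subgroup.mem_sup_right hs.1) (Subgroup.mem_sup_left hs.2)
    refine ⟨hle, ?_⟩
    have h₁ : IsMap (innerFusionSystem F.core) (fstOf (preimageAlong θ P)) (cj a) :=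
      isMap_cj (fstOf_le (preimageAlong_le P)) ha
    have h₂ : IsMap E (sndOf (preimageAlong θ P)) f := by
      refine hf.restrict ?_
      rintro _ ⟨x, hx, rfl⟩
      exact (hpre hx).2
    have hm : IsMap D₀ (preimageAlong θ P) fun x => (cj a x.1, f x.2) :=
      (isMap_prod_iff hD₀).2 ⟨preimageAlong_le P, cj a, f, h₁, h₂, fun _ _ => rfl⟩
    refine ⟨(hG.restrict hle).hom, (hmaps P _).2 ⟨hPU, hm.hom, hm.hom_mem_self,
      preimageAlong_le P, fun x => hm.mem x.2, fun x => ?_, fun x => ?_⟩, fun _ => rfl⟩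
    · obtain ⟨s, hs, hse⟩ := x.2
      have : (⟨(x : Ω × Ω), preimageAlong_le P x.2⟩ : ↥(F.core.prod T)) = s :=
        Subtype.ext hse.symm
      rw [this]
      exact hs
    · show G (θ _) = θ ⟨(cj a (x : Ω × Ω).1, f (x : Ω × Ω).2), _⟩
      rw [hθ, hθ]
      exact hGe _ (hpre x.2).1 _ (hpre x.2).2
  have hDF : ∀ P : Subgroup Ω, D.Hom P ⊆ F.Hom P := fun P => subset_of_isMap fun h hh => by
    obtain ⟨a, ha, f, hf, he⟩ := lift P h hh
    obtain ⟨G, hG, hGe⟩ := exists_glue hS hF hE ha hf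
    have hpre : preimageAlong θ P ≤ F.core.prod (sndOf (preimageAlong θ P)) :=
      fun x hx => ⟨(preimageAlong_le P hx).1, mem_sndOf hx⟩
    obtain ⟨hle, -⟩ := mk P _ a f G ha hf hh.le hpre hG hGe
    refine (hG.restrict hle).congr fun z hz => ?_
    obtain ⟨s, rfl⟩ := hrange.ge (hh.le hz)
    have hsm := hpre (x := (s : Ω × Ω)) ⟨s, hz, rfl⟩
    rw [he s hz, hθ, hGe _ hsm.1 _ hsm.2]
  have hEmaps : ∀ P : Subgroup Ω, E.Hom P ⊆ D.Hom P := fun P => subset_of_isMap fun f hf => by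
    have hP := hf.le
    let P₀ : Subgroup (Ω × Ω) := (⊥ : Subgroup Ω).prod P
    have hP₀ : P₀ ≤ F.core.prod T := fun x hx => ⟨(bot_le : ⊥ ≤ F.core) hx.1, hP hx.2⟩
    have hm : IsMap D₀ P₀ (fun x => (x.1, f x.2)) := by
      refine (isMap_prod_iff hD₀).2 ⟨hP₀, id, f, isMap_id ?_, hf.restrict ?_, fun x _ => rfl⟩
      · rintro _ ⟨x, hx, rfl⟩
        exact (bot_le : ⊥ ≤ F.core) hx.1
      · rintro _ ⟨x, hx, rfl⟩
        exact hx.2
    obtain ⟨G₀, hG₀, hG₀e, -⟩ := (isCentral_iff.1 (center_isCentral (F := D₀))).2 P₀ _ hm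
    obtain ⟨-, f₁, f₂, h₁, h₂, he⟩ := (isMap_prod_iff hD₀).1 hG₀
    obtain ⟨-, a, ha, -⟩ := isMap_inner_iff.1 h₁
    obtain ⟨G, hG, hGe⟩ := exists_glue hS hF hE ha h₂
    have hpre : preimageAlong θ P ≤ F.core.prod (sndOf (P₀ ⊔ D₀.center)) := by
      rintro _ ⟨s, hs, rfl⟩
      refine ⟨s.2.1, mem_sndOf (x := (s : Ω × Ω)) ?_⟩
      let t : ↥(F.core.prod T) := ⟨((1 : Ω), θ s), Subgroup.one_mem _, hP hs⟩
      have h3 : θ (s * t⁻¹) = 1 := by
        rw [map_mul, map_inv, hθ₂ (θ s) t.2, mul_inv_cancel]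
      have h4 : (s : Ω × Ω) = ((s * t⁻¹ : ↥(F.core.prod T)) : Ω × Ω) * (t : Ω × Ω) := by
        rw [Subgroup.coe_mul, InvMemClass.coe_inv, inv_mul_cancel_right]
      show (s : Ω × Ω) ∈ _
      rw [h4]
      exact Subgroup.mul_mem _ (Subgroup.mem_sup_right (hZ ((hker _).1 h3)))
        (Subgroup.mem_sup_left ⟨Subgroup.one_mem _, hs⟩)
    refine (mk P _ a f₂ G ha h₂ (hP.trans hTU) hpre hG hGe).2.congr fun y hy => ?_
    have hy₀ : ((1 : Ω), y) ∈ P₀ := ⟨Subgroup.one_mem _, hy⟩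
    have hy₂ : y ∈ sndOf (P₀ ⊔ D₀.center) :=
      mem_sndOf (x := ((1 : Ω), y)) (Subgroup.mem_sup_left hy₀)
    have h5 := (he _ (Subgroup.mem_sup_left hy₀)).symm.trans (hG₀e _ hy₀)
    have h6 := hGe 1 (Subgroup.one_mem _) y hy₂
    rw [one_mul] at h6
    have h7 : f₂ y = f y := congrArg Prod.snd h5
    rw [h6, h7]
    simp [cj]
  have hZc : D.IsCentral D.center := center_isCentral
  have hUC : ∀ u ∈ U, u ∈ centralizerIn S D.center := fun u hu =>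
    ⟨hUS hu, fun z hz => (center_le_centralizer D hz u hu).symm⟩
  refine ⟨⟨fun z hz => ⟨hUS (hZc.1 hz), center_le_centralizer D hz⟩, fun P φ hφ => ?_⟩,
    fun Y hY hDY => ?_⟩
  · obtain ⟨ψ, hψ, h1, h2⟩ := hZc.2 P φ hφ
    exact ⟨hDF P hφ, fun u hu => hUC u ((D.le_of_mem hφ).1 hu),
      fun x => hUC _ ((D.le_of_mem hφ).2 x), ψ, hDF _ hψ, h1, h2⟩
  have hYC : Y ≤ cent F E := le_cent
    (fun y hy => ⟨(hY hy).1, fun t ht => (hY hy).2 t (hTU ht)⟩)
    (fun P => (hEmaps P).trans (hDY P))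
  obtain ⟨E₁, hE₁, hE₁T⟩ := SubsystemCentralizerSystem.exists_centSystem hS hF hE.1
  have hfinC : Finite (cent F E) := finite_of_le (cent_le.trans centralizerIn_le)
  obtain ⟨-, R, hRn, hRc⟩ := cent_constrained hS hF hE.1 hE.2.1 hE₁ hE₁T
  have hRQ : R ≤ F.core :=
    (le_core hRn).trans (le_core (core_normal hS hF hE₁.1.2.2))
  have hYQ : Y ≤ F.core := fun y hy =>
    hRQ (centric_centralizerIn_le hRc ⟨hYC hy, fun r hr => (hY hy).2 r (hQU (hRQ hr))⟩)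
  refine le_sSup (isCentral_iff.2 ⟨hYQ.trans hQU, fun P h hh => ?_⟩)
  obtain ⟨a, ha, f, hf, he⟩ := lift P h hh
  obtain ⟨G, hG, hGe⟩ := exists_glue hS hF hE ha hf
  let K : Subgroup ↥(F.core.prod T) :=
    (F.core.prod (sndOf (preimageAlong θ P))).subgroupOf (F.core.prod T)
  have hK : P ⊔ Y ≤ K.map θ := by
    refine sup_le (fun z hz => ?_) fun y hy => ?_
    · obtain ⟨s, rfl⟩ := hrange.ge (hh.le hz)
      have hsm : (s : Ω × Ω) ∈ preimageAlong θ P := ⟨s, hz, rfl⟩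
      exact ⟨s, ⟨s.2.1, mem_sndOf hsm⟩, rfl⟩
    · exact ⟨⟨(y, 1), hYQ hy, Subgroup.one_mem _⟩, ⟨hYQ hy, Subgroup.one_mem _⟩, hθ₁ y _⟩
  have hpre : preimageAlong θ (P ⊔ Y) ≤ F.core.prod (sndOf (preimageAlong θ P)) := by
    rintro _ ⟨s, hs, rfl⟩
    obtain ⟨k, hk, hks⟩ := hK hs
    have h1 : ((k⁻¹ * s : ↥(F.core.prod T)) : Ω × Ω) ∈ preimageAlong θ P := by
      refine ⟨k⁻¹ * s, ?_, rfl⟩
      show θ (k⁻¹ * s) ∈ P
      rw [map_mul, map_inv, hks, inv_mul_cancel]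
      exact Subgroup.one_mem _
    have h2 : k⁻¹ * s ∈ K := ⟨(k⁻¹ * s).2.1, mem_sndOf h1⟩
    have h3 := K.mul_mem hk h2
    rw [mul_inv_cancel_left] at h3
    exact h3
  obtain ⟨-, hGD⟩ := mk (P ⊔ Y) _ a f G ha hf (sup_le hh.le (hYQ.trans hQU)) hpre hG hGe
  refine ⟨G, hGD, fun z hz => ?_, fun y hy => ?_⟩
  · obtain ⟨s, rfl⟩ := hrange.ge (hh.le hz)
    have hsm : (s : Ω × Ω) ∈ preimageAlong θ P := ⟨s, hz, rfl⟩
    rw [he s hz, hθ, hGe _ s.2.1 _ (mem_sndOf hsm)]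
  · have h1 := hGe y (hYQ hy) 1 (Subgroup.one_mem _)
    rw [mul_one, hf.map_one, mul_one] at h1
    rw [h1, cj_apply, (hY hy).2 a (hQU ha), mul_inv_cancel_right]

end Cfsg.Agent.Fusion.FittingCentralizer
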