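/-
2-systems without sections isomorphic to `S₃` in their automorphism groups are constrained, given
the characteristic subgroup normal in all `S₄`-free systems.
-/
import Mathlib
import Cfsg.Agent.Lib.Fusion.ComponentExists
import Cfsg.Agent.Lib.Fusion.LocalModels
import Cfsg.Agent.Lib.Fusion.FittingCentralizer
import Cfsg.Prelude.Def_FusionReduction

set_option autoImplicit false
set_option linter.all false

namespace Cfsg.Agent.Fusion.ThreeFree

open Cfsg Cfsg.FusionSystem Cfsg.Agent.Fusion.Basic Cfsg.Agent.Fusion.Saturation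
  Cfsg.Agent.Fusion.Normal Cfsg.Agent.Fusion.Factor Cfsg.Agent.Fusion.Subsystems
  Cfsg.Agent.Fusion.Model Cfsg.Agent.Fusion.LocalModels Cfsg.Agent.Fusion.ModelUnique

universe u

/-- A normal 2-subgroup of the symmetric group of degree 3 is trivial. -/
theorem normal_two_subgroup_perm (N : Subgroup (Equiv.Perm (Fin 3))) [N.Normal]
    (h : IsPGroup 2 N) : N = ⊥ := by
  rw [Subgroup.eq_bot_iff_forall]
  intro x hx
  have hsq : ∀ y ∈ N, y ^ 2 = 1 := by
    intro y hy
    obtain ⟨k, hk⟩ := h ⟨y, hy⟩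
    have h1 : orderOf y ∣ 2 ^ k := orderOf_dvd_of_pow_eq_one (congrArg Subtype.val hk)
    have h2 : orderOf y ∣ 2 * 3 := by
      have h3 := orderOf_dvd_card (x := y)
      rwa [show Fintype.card (Equiv.Perm (Fin 3)) = 2 * 3 from by
        rw [Fintype.card_perm]; rfl] at h3
    exact orderOf_dvd_iff_pow_eq_one.1
      ((Nat.Coprime.dvd_mul_right (Nat.Coprime.coprime_dvd_left h1
        (Nat.Coprime.pow_left k (by norm_num)))).1 h2)
  let c : Equiv.Perm (Fin 3) := finRotate 3
  have hc : c * x * c⁻¹ ∈ N := Subgroup.Normal.conj_mem inferInstance x hx c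
  have h3 := hsq _ (N.mul_mem hx hc)
  have key : ∀ y : Equiv.Perm (Fin 3),
      y ^ 2 = 1 → (y * (finRotate 3 * y * (finRotate 3)⁻¹)) ^ 2 = 1 → y = 1 := by decide
  exact key x (hsq x hx) h3

variable {Ω : Type u} [Group Ω] {S : Subgroup Ω} [Finite S] {F : FusionSystem S}

/-- Automorphism groups without `S₃` give local models without `S₄`. -/
theorem sectionFree (hS : IsPGroup 2 S)
    (h3 : ∀ U : Subgroup Ω, U ≤ S → ¬ Involves (Equiv.Perm (Fin 3)) ↥(F.autGroup U)) :
    F.IsSectionFree 2 (Equiv.Perm (Fin 4)) := by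
  intro Q hQn hQc N hN L _ ι hL hinv
  have h34 : Involves (Equiv.Perm (Fin 3)) (Equiv.Perm (Fin 4)) :=
    involves_of_injective (Equiv.Perm.viaEmbeddingHom Fin.castSuccEmb)
      (Equiv.Perm.viaEmbeddingHom_injective _)
      (involves_of_surj (Subgroup.topEquiv (G := Equiv.Perm (Fin 3))).toMonoidHom
        (Subgroup.topEquiv (G := Equiv.Perm (Fin 3))).surjective)
  obtain ⟨K₀, f₀, hf₀⟩ := exists_surj hinv
  have h3L : Involves (Equiv.Perm (Fin 3)) L :=
    involves_of_injective K₀.subtype K₀.subtype_injective (involves_of_surjective f₀ hf₀ h34)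
  obtain ⟨K, f, hf⟩ := exists_surj h3L
  have hQS := hQc.1
  have hfin : Finite (normalizerIn S Q) := finite_of_le normalizerIn_le
  have m : MSetting N 2 Q ι := mSetting_of_normal (hS.to_le normalizerIn_le) hL
    (NormalizerModel.isNormal hN hQS) (NormalizerModel.isCentric hN hQc)
  let a : K →* N.autGroup Q := (actHom m).comp K.subtype
  have hker : IsPGroup 2 a.ker := by
    intro k
    obtain ⟨z, hz⟩ := mem_ker_actHom m (g := ((k : K) : L)) k.2
    obtain ⟨n, hn⟩ := (hS.to_le normalizerIn_le) (z : ↥(normalizerIn S Q))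
    refine ⟨n, Subtype.ext (Subtype.ext ?_)⟩
    show ((k : K) : L) ^ 2 ^ n = 1
    rw [← hz, ← map_pow, hn, map_one]
  have hnorm : (a.ker.map f).Normal := Subgroup.Normal.map inferInstance f hf
  have hbot := normal_two_subgroup_perm (a.ker.map f) (hker.map f)
  have hle : a.ker ≤ f.ker := fun k hk =>
    Subgroup.mem_bot.1 (hbot.le (Subgroup.mem_map_of_mem f hk))
  let f' : a.range →* Equiv.Perm (Fin 3) :=
    a.rangeRestrict.liftOfSurjective a.rangeRestrict_surjective
      ⟨f, by rwa [MonoidHom.ker_rangeRestrict]⟩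
  have hf' : Function.Surjective f' := by
    intro y
    obtain ⟨k, rfl⟩ := hf y
    refine ⟨a.rangeRestrict k, ?_⟩
    exact MonoidHom.liftOfRightInverse_comp_apply _ _ _ _ _
  have hinvN : Involves (Equiv.Perm (Fin 3)) (N.autGroup Q) := involves_of_surj f' hf'
  rw [NormalizerModel.autGroup_eq hN hQS] at hinvN
  exact h3 Q hQS hinvN

/-- Given the characteristic subgroup of `S₄`-free systems, `S₃`-free systems are constrained. -/
theorem constrained_of_W
    (HW : ∀ (Ω' : Type u) [Group Ω'] (S' : Subgroup Ω') [Finite S'], IsPGroup 2 S' → S' ≠ ⊥ →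
      ∀ F' : FusionSystem S', F'.IsSaturated 2 → F'.IsSectionFree 2 (Equiv.Perm (Fin 4)) →
        ∃ W : Subgroup Ω', W ≠ ⊥ ∧ F'.IsNormal W)
    (hS : IsPGroup 2 S) (hF : F.IsSaturated 2)
    (h3 : ∀ U : Subgroup Ω, U ≤ S → ¬ Involves (Equiv.Perm (Fin 3)) ↥(F.autGroup U)) :
    F.IsConstrained 2 := by
  refine (ComponentExists.constrained_iff hS hF).2 ?_
  rintro ⟨T, C, hsub, hqs⟩
  obtain ⟨hTS, -⟩ := ComponentExists.subnormal_facts hsub hF
  have hfinT : Finite T := finite_of_le hTS
  have hTp : IsPGroup 2 T := hS.to_le hTS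
  have hCF : ∀ P : Subgroup Ω, C.Hom P ⊆ F.Hom P := FittingCentralizer.subnormal_subsystem hsub
  obtain ⟨hCs, hhyp, hsimple⟩ := hqs
  have hZ : C.IsCentral C.center := center_isCentral
  have hZsc := normal_stronglyClosed (central_normal hZ)
  obtain ⟨C', hC'⟩ := FactorExists.exists_factorSystem (F := C) (S' := ⊤)
    (θ := QuotientGroup.mk' ((C.center).subgroupOf T)) hZsc
    (fun s => by rw [QuotientGroup.mk'_apply, QuotientGroup.eq_one_iff]; rfl)
    (MonoidHom.range_eq_top.2 (QuotientGroup.mk'_surjective _))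
  have hsim := hsimple C' hC'
  have hq := isQuot_of_factorSystem hZsc hC'
  set θ := QuotientGroup.mk' ((C.center).subgroupOf T) with hθ
  have hfin' : Finite (⊤ : Subgroup (T ⧸ (C.center).subgroupOf T)) := hq.finite
  have h3' : ∀ U : Subgroup (T ⧸ (C.center).subgroupOf T), U ≤ ⊤ →
      ¬ Involves (Equiv.Perm (Fin 3)) ↥(C'.autGroup U) := by
    intro U hU hinv
    have hQT : preimageAlong θ U ≤ T := preimageAlong_le U
    obtain ⟨π, hπ, -⟩ := Hyperfocal.exists_proj hq hU
    have h1 : Involves (Equiv.Perm (Fin 3)) (C.autGroup (preimageAlong θ U)) :=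
      involves_of_surjective π hπ hinv
    have hle : C.autGroup (preimageAlong θ U) ≤ F.autGroup (preimageAlong θ U) := fun α hα =>
      (mem_autGroup_iff (hQT.trans hTS)).2 <| by
        obtain ⟨φ, hφ, he⟩ := isMap_of_mem_autGroup hQT hα
        exact ⟨φ, hCF _ hφ, he⟩
    exact h3 _ (hQT.trans hTS) (involves_of_injective (Subgroup.inclusion hle)
      (Subgroup.inclusion_injective hle) h1)
  obtain ⟨W, hW, hWn⟩ := HW _ ⊤ (hq.isPGroup hTp) hsim.2.1 C' hsim.1
    (sectionFree (hq.isPGroup hTp) h3')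
  rcases hsim.2.2 W _ (ComponentExists.inner_isNormalIn (hq.isPGroup hTp) hsim.1 hWn) with
    hbot | htop
  · exact hW hbot
  · obtain ⟨-, hmaps⟩ := htop
    have h0 : C'.hyperfocalSubgroup 2 = ⊥ := by
      refine ComponentExists.hyp_eq_bot_of_inner (Q := W) ((hq.isPGroup hTp).to_le le_top)
        fun P f hf => ?_
      obtain ⟨φ, hφ, he⟩ := hf
      obtain ⟨-, g, hg, hge⟩ := (hmaps P).ge hφ
      exact ⟨g, hg, fun x hx => by rw [← he ⟨x, hx⟩]; exact hge ⟨x, hx⟩⟩
    rw [Hyperfocal.hyp_quot hTp hCs hq, hhyp] at h0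
    refine hsim.2.1 ?_
    rw [eq_bot_iff, ← h0]
    intro y _
    obtain ⟨x, hxT, rfl⟩ := exists_along_eq hq.range_eq (Subgroup.mem_top y)
    exact CentralQuot.mem_image le_rfl hxT

end Cfsg.Agent.Fusion.ThreeFree
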