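/-
A criterion for simplicity of the fusion system of a finite group which needs one self-centralizing
subgroup normalized by a Sylow subgroup.
-/
import Mathlib
import Cfsg.Agent.S5160
import Cfsg.Agent.Lib.Fusion.SimpleCriterion

set_option autoImplicit false
set_option linter.unusedSectionVars false

namespace Cfsg.Agent.Fusion.SimpleLocal

open Cfsg Cfsg.FusionSystem Cfsg.Agent.Fusion.Basic Cfsg.Agent.Fusion.Saturation
  Cfsg.Agent.Fusion.Subsystems

/-- The elements of `p`-power order normalizing `R`. -/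
def pElems {G : Type*} [Group G] (p : ℕ) (R : Subgroup G) : Set G :=
  {x | x ∈ Subgroup.normalizer (R : Set G) ∧ ∃ k : ℕ, orderOf x = p ^ k}

/-- Elements of the normalizer of `B` which come from `p`-elements of a local subgroup. -/
def localElems {G : Type*} [Group G] (p : ℕ) (B : Subgroup G) : Set G :=
  {g | g ∈ Subgroup.normalizer (B : Set G) ∧ ∃ R W : Subgroup G, IsPGroup p W ∧ R ≤ W ∧ B ≤ W ∧
    Subgroup.centralizer (R : Set G) ≤ R ∧ g ∈ Subgroup.normalizer (W : Set G) ∧
    g ∈ Subgroup.closure (pElems p R)}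

/-- The hypotheses of the criterion. -/
structure Good (p : ℕ) {G : Type*} [Group G] (B : Subgroup G) : Prop where
  ne : B ≠ ⊥
  centric : Subgroup.centralizer (B : Set G) ≤ B
  sylow : ∃ P : Sylow p G, B ≤ P ∧ (P : Subgroup G) ≤ Subgroup.normalizer (B : Set G)
  rigid : ∀ g : G, (∀ b ∈ B, g * b * g⁻¹ ∈ Subgroup.normalizer (B : Set G)) →
    g ∈ Subgroup.normalizer (B : Set G)
  fuse : ∀ z : G, orderOf z = p → ∃ g, g * z * g⁻¹ ∈ B
  closed : ∃ Q : Subgroup G, IsPGroup p Q ∧ B ≤ Q ∧ ∀ V : Subgroup G, V ≤ Q →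
    (∀ g, ∀ v ∈ V, g * v * g⁻¹ ∈ Q → g * v * g⁻¹ ∈ V) → (∃ v ∈ V, v ∈ B ∧ v ≠ 1) → B ≤ V
  gen : ∀ Φ : G → Prop, (∀ g x, Φ x → Φ (g * x * g⁻¹)) → (∀ x, orderOf x = p → Φ x) → Φ 1 →
    (∀ P : Subgroup G, IsPGroup p P → ∀ x ∈ P, ∀ y ∈ P, Φ x → Φ y → Φ (x * y)) →
    ∀ (x : G) (k : ℕ), orderOf x = p ^ k → Φ x
  aut : Subgroup.normalizer (B : Set G) ≤ Subgroup.closure (localElems p B)

section Map

variable {G H : Type*} [Group G] [Group H] {p : ℕ}

theorem mem_map_iff (e : G ≃* H) (R : Subgroup G) (x : G) :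
    e x ∈ R.map e.toMonoidHom ↔ x ∈ R := by
  simp

theorem mem_normalizer_map (e : G ≃* H) (R : Subgroup G) (x : G) :
    e x ∈ Subgroup.normalizer ((R.map e.toMonoidHom : Subgroup H) : Set H) ↔
      x ∈ Subgroup.normalizer (R : Set G) := by
  rw [Subgroup.mem_normalizer_iff, Subgroup.mem_normalizer_iff]
  constructor
  · intro h z
    have := h (e z)
    rw [← map_inv, ← map_mul, ← map_mul, mem_map_iff,
      mem_map_iff] at this
    exact this
  · intro h z
    obtain ⟨z, rfl⟩ := e.surjective z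
    rw [← map_inv, ← map_mul, ← map_mul, mem_map_iff, mem_map_iff]
    exact h z

theorem Good.map [Finite G] [Fact p.Prime] {B : Subgroup G} (h : Good p B) (e : G ≃* H) :
    Good p (B.map e.toMonoidHom) := by
  have hconj : ∀ g x : G, e g * e x * (e g)⁻¹ = e (g * x * g⁻¹) := fun g x => by simp
  refine ⟨?_, ?_, ?_, ?_, ?_, ?_, ?_, ?_⟩
  · rw [Ne, Subgroup.map_eq_bot_iff_of_injective _ e.injective]
    exact h.ne
  · intro x hx
    obtain ⟨x, rfl⟩ := e.surjective x
    rw [mem_map_iff]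
    refine h.centric (Subgroup.mem_centralizer_iff.2 fun b hb => e.injective ?_)
    rw [map_mul, map_mul]
    exact Subgroup.mem_centralizer_iff.1 hx _ ((mem_map_iff e B b).2 hb)
  · obtain ⟨P, h1, h2⟩ := h.sylow
    have : Finite H := Finite.of_equiv G e.toEquiv
    refine ⟨P.mapSurjective (f := e.toMonoidHom) e.surjective, Subgroup.map_mono h1, ?_⟩
    rintro _ ⟨x, hx, rfl⟩
    exact (mem_normalizer_map e B x).2 (h2 hx)
  · intro g hg
    obtain ⟨g, rfl⟩ := e.surjective g
    refine (mem_normalizer_map e B g).2 (h.rigid g fun b hb => ?_)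
    have := hg _ ((mem_map_iff e B b).2 hb)
    rwa [hconj, mem_normalizer_map] at this
  · intro z hz
    obtain ⟨z, rfl⟩ := e.surjective z
    rw [MulEquiv.orderOf_eq] at hz
    obtain ⟨g, hg⟩ := h.fuse z hz
    exact ⟨e g, by rw [hconj, mem_map_iff]; exact hg⟩
  · obtain ⟨Q, hQ, hBQ, hcl⟩ := h.closed
    refine ⟨Q.map e.toMonoidHom, hQ.map _, Subgroup.map_mono hBQ, fun V hV hf hex => ?_⟩
    have hV' : V.comap e.toMonoidHom ≤ Q := fun x hx => (mem_map_iff e Q x).1 (hV hx)
    rintro _ ⟨b, hb, rfl⟩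
    refine hcl (V.comap e.toMonoidHom) hV' (fun g v hv hgv => ?_) ?_ hb
    · have h1 := hf (e g) (e v) hv (by rw [hconj, mem_map_iff]; exact hgv)
      rwa [hconj] at h1
    · obtain ⟨v, hv, hvB, hv1⟩ := hex
      obtain ⟨v, rfl⟩ := e.surjective v
      exact ⟨v, hv, (mem_map_iff e B v).1 hvB, fun h0 => hv1 (by rw [h0, map_one])⟩
  · intro Φ hc hp h1 hm x k hx
    obtain ⟨x, rfl⟩ := e.surjective x
    rw [MulEquiv.orderOf_eq] at hx
    refine h.gen (fun y => Φ (e y)) (fun g y hy => ?_) (fun y hy => hp _ ?_) ?_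
      (fun P hP y hy z hz h2 h3 => ?_) x k hx
    · show Φ (e (g * y * g⁻¹))
      rw [← hconj]; exact hc _ _ hy
    · rw [MulEquiv.orderOf_eq, hy]
    · show Φ (e 1)
      rw [map_one]; exact h1
    · show Φ (e (y * z))
      rw [map_mul]
      exact hm (P.map e.toMonoidHom) (hP.map _) _ ((mem_map_iff e P y).2 hy) _
        ((mem_map_iff e P z).2 hz) h2 h3
  · intro g hg
    obtain ⟨g, rfl⟩ := e.surjective g
    have h1 := h.aut ((mem_normalizer_map e B g).1 hg)
    refine (Subgroup.closure_le (K := (Subgroup.closure (localElems p (B.map e.toMonoidHom))).comap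
      e.toMonoidHom)).2 (fun x hx => ?_) h1
    obtain ⟨hxN, R, W, hW, hRW, hBW, hC, hxW, hxR⟩ := hx
    refine Subgroup.subset_closure ⟨(mem_normalizer_map e B x).2 hxN, R.map e.toMonoidHom,
      W.map e.toMonoidHom, hW.map _, Subgroup.map_mono hRW, Subgroup.map_mono hBW, ?_,
      (mem_normalizer_map e W x).2 hxW, ?_⟩
    · intro z hz
      obtain ⟨z, rfl⟩ := e.surjective z
      rw [mem_map_iff]
      refine hC (Subgroup.mem_centralizer_iff.2 fun r hr => e.injective ?_)
      rw [map_mul, map_mul]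
      exact Subgroup.mem_centralizer_iff.1 hz _ ((mem_map_iff e R r).2 hr)
    · refine (Subgroup.closure_le (K := (Subgroup.closure (pElems p (R.map e.toMonoidHom))).comap
        e.toMonoidHom)).2 (fun y hy => ?_) hxR
      obtain ⟨hyN, k, hk⟩ := hy
      exact Subgroup.subset_closure ⟨(mem_normalizer_map e R y).2 hyN, k,
        (MulEquiv.orderOf_eq e y).trans hk⟩

end Map

section Maps

variable {G : Type*} [Group G] [Finite G] {p : ℕ} [Fact p.Prime] {S : Sylow p G}
  {E : FusionSystem (S : Subgroup G)}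

theorem closure_le_normalizer (R : Subgroup G) :
    Subgroup.closure (pElems p R) ≤ Subgroup.normalizer (R : Set G) :=
  (Subgroup.closure_le _).2 fun _ hx => hx.1

theorem isPGroup_zpowers {x : G} {k : ℕ} (hx : orderOf x = p ^ k) :
    IsPGroup p (Subgroup.zpowers x) :=
  IsPGroup.of_card (n := k) (by rw [Nat.card_zpowers, hx])

theorem isMap_cj_group {P : Subgroup G} {g : G} (hP : P ≤ (S : Subgroup G))
    (h : ∀ x ∈ P, g * x * g⁻¹ ∈ (S : Subgroup G)) :
    IsMap (groupFusionSystem (S : Subgroup G)) P (cj g) :=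
  Group.isMap_group_iff.2 ⟨hP, h, g, fun _ _ => rfl⟩

/-- An element of `p`-power order acts on a normalized subgroup as a map of an invariant subsystem. -/
theorem isMap_pElem (hinv : E.IsInvariantIn (groupFusionSystem (S : Subgroup G))) {R : Subgroup G}
    (hRS : R ≤ (S : Subgroup G)) {x : G} (hx : x ∈ pElems p R) : IsMap E R (cj x) := by
  obtain ⟨hxN, k, hk⟩ := hx
  have hsup : IsPGroup p (Subgroup.zpowers x ⊔ R : Subgroup G) :=
    IsPGroup.to_sup_of_normal_right' (isPGroup_zpowers hk) (S.2.to_le hRS)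
      (Subgroup.zpowers_le.2 hxN)
  obtain ⟨P, hP⟩ := hsup.exists_le_sylow
  obtain ⟨c, rfl⟩ := MulAction.exists_smul_eq G P S
  have hc : ∀ y ∈ Subgroup.zpowers x ⊔ R, c * y * c⁻¹ ∈ ((c • P : Sylow p G) : Subgroup G) := by
    intro y hy
    rw [Sylow.coe_subgroup_smul]
    exact ⟨y, hP hy, rfl⟩
  have hm := isMap_cj_group (g := c) hRS fun y hy => hc y (Subgroup.mem_sup_right hy)
  obtain ⟨α, hα, f₀, hf₀, he⟩ := invariant_frattini hinv hRS hm
  set s := c * x * c⁻¹
  have hs : s ∈ ((c • P : Sylow p G) : Subgroup G) :=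
    hc x (Subgroup.mem_sup_left (Subgroup.mem_zpowers x))
  set s' := autFun α⁻¹ s
  have hs' : s' ∈ ((c • P : Sylow p G) : Subgroup G) := autFun_mem _ hs
  have key : ∀ r ∈ R, s' * f₀ r * s'⁻¹ = f₀ (x * r * x⁻¹) := by
    intro r hr
    have hxr : x * r * x⁻¹ ∈ R := (Subgroup.mem_normalizer_iff.1 hxN r).1 hr
    have e1 : c * (x * r * x⁻¹) * c⁻¹ = s * (c * r * c⁻¹) * s⁻¹ := by
      simp only [s]; group
    have h1 := he _ hxr
    rw [cj_apply, e1, ← cj_apply c r, he r hr] at h1
    have hmem := hf₀.mem hr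
    have h2 : autFun α (s' * f₀ r * s'⁻¹) = s * autFun α (f₀ r) * s⁻¹ := by
      rw [(isMap_of_mem_autGroup (F := groupFusionSystem _) le_rfl hα).map_conj hs' hmem]
      have hss : autFun α s' = s := by
        simp only [s', autFun_of_mem _ hs, autFun_apply, MulAut.apply_inv_self]
      rw [hss]
    rw [h1] at h2
    exact ((isMap_of_mem_autGroup (F := groupFusionSystem _) le_rfl hα).inj
      (Subgroup.mul_mem _ (Subgroup.mul_mem _ hs' hmem) (Subgroup.inv_mem _ hs')) (hf₀.mem hxr) h2)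
  obtain ⟨k', hk', -, hkf, -⟩ := hf₀.exists_inv
  have h3 : ∀ r ∈ R, cj s' (f₀ r) ∈ img f₀ R := fun r hr => by
    rw [cj_apply, key r hr]
    exact mem_img_self f₀ ((Subgroup.mem_normalizer_iff.1 hxN r).1 hr)
  have h4 := (isMap_cj (F := E) hf₀.img_le_S hs').comp hf₀ fun r hr => mem_img_self f₀ hr
  refine (hk'.comp h4 h3).congr fun r hr => ?_
  rw [cj_apply, key r hr, hkf _ ((Subgroup.mem_normalizer_iff.1 hxN r).1 hr), cj_apply]

/-- The elements normalizing `R` whose conjugation is a map of `E` form a subgroup. -/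
def mapGroup (E : FusionSystem (S : Subgroup G)) (R : Subgroup G) (hR : R ≤ (S : Subgroup G)) :
    Subgroup G where
  carrier := {g | g ∈ Subgroup.normalizer (R : Set G) ∧ IsMap E R (cj g)}
  one_mem' := ⟨one_mem _, by rw [cj_one]; exact isMap_id hR⟩
  mul_mem' := by
    rintro a b ⟨ha, ha'⟩ ⟨hb, hb'⟩
    refine ⟨mul_mem ha hb, (ha'.comp hb' fun x hx => ?_).congr fun x _ => (cj_mul a b x).symm⟩
    exact (Subgroup.mem_normalizer_iff.1 hb x).1 hx
  inv_mem' := by
    rintro a ⟨ha, ha'⟩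
    refine ⟨Subgroup.inv_mem _ ha, ?_⟩
    obtain ⟨k, hk, -, hkx, -⟩ := ha'.exists_inv
    rw [img_cj_eq_of_mem_normalizer ha] at hk
    refine hk.congr fun x hx => ?_
    have hx' : cj a⁻¹ x ∈ R := (Subgroup.mem_normalizer_iff.1 (Subgroup.inv_mem _ ha) x).1 hx
    conv_lhs => rw [show x = cj a (cj a⁻¹ x) by rw [← cj_mul]; simp [cj]]
    exact hkx _ hx'

theorem closure_le_mapGroup (hinv : E.IsInvariantIn (groupFusionSystem (S : Subgroup G)))
    {R : Subgroup G} (hRS : R ≤ (S : Subgroup G)) :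
    Subgroup.closure (pElems p R) ≤ mapGroup E R hRS :=
  (Subgroup.closure_le _).2 fun _ hx => ⟨hx.1, isMap_pElem hinv hRS hx⟩

theorem isCentric_of_centralizer {R : Subgroup G} (hRS : R ≤ (S : Subgroup G))
    (hC : Subgroup.centralizer (R : Set G) ≤ R) :
    (groupFusionSystem (S : Subgroup G)).IsCentric R := by
  refine ⟨hRS, fun Q hQ => ?_⟩
  obtain ⟨-, -, g, rfl⟩ := Group.isConj_group_iff.1 hQ
  intro x hx
  have hy : g⁻¹ * x * g ∈ R := hC fun r hr => by
    have h1 : (g * r * g⁻¹) * x = x * (g * r * g⁻¹) := hx.2 _ (mem_img_self (cj g) hr)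
    calc r * (g⁻¹ * x * g) = g⁻¹ * ((g * r * g⁻¹) * x) * g := by group
      _ = g⁻¹ * (x * (g * r * g⁻¹)) * g := by rw [h1]
      _ = g⁻¹ * x * g * r := by group
  simpa [cj, mul_assoc] using mem_img_self (cj g) hy

/-- A map induced on a centric subgroup climbs to every invariant overgroup. -/
theorem isMap_climb (hE : E.IsSaturated p)
    (hsub : E.IsSubsystemOf (groupFusionSystem (S : Subgroup G))) {g : G} {W : Subgroup G}
    (hWS : W ≤ (S : Subgroup G)) (hgW : g ∈ Subgroup.normalizer (W : Set G)) :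
    ∀ (n : ℕ) (R : Subgroup G), Nat.card W - Nat.card R ≤ n → R ≤ W →
      Subgroup.centralizer (R : Set G) ≤ R → g ∈ Subgroup.normalizer (R : Set G) →
      IsMap E R (cj g) → IsMap E W (cj g) := by
  intro n
  induction n with
  | zero =>
    intro R hn hRW _ _ hm
    have : R = W := Subgroup.eq_of_le_of_card_ge hRW (by omega)
    exact this ▸ hm
  | succ n ih =>
    intro R hn hRW hC hgR hm
    by_cases hne : R = W
    · exact hne ▸ hm
    set N := W ⊓ Subgroup.normalizer (R : Set G)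
    have hRN : R ≤ N := le_inf hRW Subgroup.le_normalizer
    have hlt : R ≠ N := by
      intro h
      have hnil : Group.IsNilpotent W := (S.2.to_le hWS).isNilpotent
      have h2 : R.subgroupOf W < Subgroup.normalizer ((R.subgroupOf W : Subgroup W) : Set W) := by
        refine Group.normalizerCondition_of_isNilpotent _ (lt_top_iff_ne_top.2 fun h3 => hne ?_)
        exact le_antisymm hRW (Subgroup.subgroupOf_eq_top.1 h3)
      obtain ⟨w, hw, hwR⟩ := SetLike.exists_of_lt h2
      refine hwR (show (w : G) ∈ R from h.symm ▸ (⟨w.2, ?_⟩ : (w : G) ∈ N))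
      refine mem_normalizer_of_forall fun x hx => ?_
      exact (Subgroup.mem_normalizer_iff.1 hw ⟨x, hRW hx⟩).1 hx
    have hgN : g ∈ Subgroup.normalizer (N : Set G) := mem_normalizer_of_forall fun x hx => by
      refine ⟨(Subgroup.mem_normalizer_iff.1 hgW x).1 hx.1, ?_⟩
      exact mul_mem (mul_mem hgR hx.2) (Subgroup.inv_mem _ hgR)
    have hmN : IsMap E N (cj g) :=
      Cfsg.Agent.S5160.isMap_cj_step S hE hsub (isCentric_of_centralizer (hRW.trans hWS) hC) hRN
        (inf_le_inf_right _ hWS) hgR hgN hm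
    refine ih N ?_ inf_le_left ?_ hgN hmN
    · have h1 : Nat.card R < Nat.card N := by
        refine lt_of_le_of_ne (Subgroup.card_le_of_le hRN) fun h => hlt ?_
        exact Subgroup.eq_of_le_of_card_ge hRN h.ge
      have h2 : Nat.card N ≤ Nat.card W := Subgroup.card_le_of_le inf_le_left
      omega
    · exact (Subgroup.centralizer_le (fun x hx => hRN hx)).trans (hC.trans hRN)

end Maps

variable {G : Type*} [Group G] [Finite G] {p : ℕ} [Fact p.Prime]

/-- The fusion system of a group with a good subgroup is simple. -/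
theorem isSimple {B₀ : Subgroup G} (h₀ : Good p B₀) (S : Sylow p G) :
    (groupFusionSystem (S : Subgroup G)).IsSimple p := by
  obtain ⟨P₀, hB₀, hP₀⟩ := h₀.sylow
  obtain ⟨c₀, rfl⟩ := MulAction.exists_smul_eq G P₀ S
  set S := c₀ • P₀ with hSdef
  have hgood := h₀.map (MulAut.conj c₀)
  set B := B₀.map (MulAut.conj c₀).toMonoidHom with hBdef
  have hBS : B ≤ (S : Subgroup G) := by
    rw [hSdef, Sylow.coe_subgroup_smul]
    exact Subgroup.map_mono hB₀
  have hSN : (S : Subgroup G) ≤ Subgroup.normalizer (B : Set G) := by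
    rw [hSdef, Sylow.coe_subgroup_smul]
    rintro _ ⟨x, hx, rfl⟩
    exact (mem_normalizer_map (MulAut.conj c₀) B₀ x).2 (hP₀ hx)
  have hS1 : (S : Subgroup G) ≠ ⊥ := fun h => hgood.ne (le_bot_iff.1 (h ▸ hBS))
  refine ⟨Group.group_saturated S, hS1, fun T E hE => ?_⟩
  have hinv : E.IsInvariantIn (groupFusionSystem (S : Subgroup G)) := hE.1.2.2
  have hcl := fun (g x : G) (hx : x ∈ T) (hgx : g * x * g⁻¹ ∈ (S : Subgroup G)) =>
    SimpleCriterion.closed hinv.2.1 hx hgx
  refine or_iff_not_imp_left.2 fun hT1 => ?_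
  -- the strongly closed subgroup is everything
  have hTS : T = (S : Subgroup G) := by
    refine le_antisymm hinv.2.1.1 ?_
    have hTp : IsPGroup p T := S.2.to_le hinv.2.1.1
    have : Nontrivial T := (Subgroup.nontrivial_iff_ne_bot T).2 hT1
    obtain ⟨j, hj, hcard⟩ := hTp.nontrivial_iff_card.1 this
    obtain ⟨z, hz⟩ := exists_prime_orderOf_dvd_card' p (G := T) (hcard ▸ dvd_pow_self p hj.ne')
    rw [← Subgroup.orderOf_coe] at hz
    obtain ⟨Q, hQ, hBQ, hQcl⟩ := hgood.closed
    obtain ⟨P, hP⟩ := hQ.exists_le_sylow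
    obtain ⟨d, hd⟩ := MulAction.exists_smul_eq G P S
    have hdQ : ∀ y ∈ Q, d * y * d⁻¹ ∈ (S : Subgroup G) := fun y hy => by
      rw [← hd, Sylow.coe_subgroup_smul]
      exact ⟨y, hP hy, rfl⟩
    obtain ⟨g, hg⟩ := hgood.fuse z hz
    set V := Q ⊓ T.comap (MulAut.conj d).toMonoidHom
    have hV : ∀ x, x ∈ V ↔ x ∈ Q ∧ d * x * d⁻¹ ∈ T := fun x => Iff.rfl
    have hzV : g * (z : G) * g⁻¹ ∈ V := by
      refine (hV _).2 ⟨hBQ hg, ?_⟩
      have h1 := hcl (d * g) z z.2 (by
        have := hdQ _ (hBQ hg)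
        simpa [mul_assoc] using this)
      simpa [mul_assoc] using h1
    have hBV : B ≤ V := by
      refine hQcl V inf_le_left (fun a v hv hav => (hV _).2 ⟨hav, ?_⟩) ⟨_, hzV, hg, fun h => ?_⟩
      · have h1 := hcl (d * a * d⁻¹) _ ((hV v).1 hv).2 (by
          have := hdQ _ hav
          simpa [mul_assoc] using this)
        simpa [mul_assoc] using h1
      · rw [conj_eq_one_iff] at h
        rw [h, orderOf_one] at hz
        exact (Fact.out : p.Prime).ne_one hz.symm
    intro s hs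
    obtain ⟨k, hk⟩ := IsPGroup.iff_orderOf.1 S.2 ⟨s, hs⟩
    rw [Subgroup.orderOf_mk] at hk
    have key := hgood.gen (fun x => ∀ a, a * x * a⁻¹ ∈ (S : Subgroup G) → a * x * a⁻¹ ∈ T)
      (fun a x hx b hb => by
        have := hx (b * a) (by simpa [mul_assoc] using hb)
        simpa [mul_assoc] using this)
      (fun x hx a ha => by
        obtain ⟨b, hb⟩ := hgood.fuse x hx
        have h1 := ((hV _).1 (hBV hb)).2
        have h2 := hcl (a * b⁻¹ * d⁻¹) _ h1 (by simpa [mul_assoc] using ha)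
        simpa [mul_assoc] using h2)
      (fun a ha => by simp [one_mem])
      (fun P hP x hx y hy h1 h2 a ha => by
        obtain ⟨P', hP'⟩ := hP.exists_le_sylow
        obtain ⟨b, hb⟩ := MulAction.exists_smul_eq G P' S
        have hbS : ∀ w ∈ P, b * w * b⁻¹ ∈ (S : Subgroup G) := fun w hw => by
          rw [← hb, Sylow.coe_subgroup_smul]
          exact ⟨w, hP' hw, rfl⟩
        have h3 := T.mul_mem (h1 b (hbS x hx)) (h2 b (hbS y hy))
        have h4 := hcl (a * b⁻¹) _ h3 (by simpa [mul_assoc] using ha)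
        simpa [mul_assoc] using h4) s k hk 1 (by simpa using hs)
    simpa using key
  subst hTS
  refine ⟨rfl, fun R => Set.Subset.antisymm (hinv.1 R) fun φ hφ => ?_⟩
  -- the automorphisms of `B`
  have hM : Subgroup.normalizer (B : Set G) ≤ mapGroup E B hBS := by
    refine hgood.aut.trans ((Subgroup.closure_le _).2 fun g hg => ?_)
    obtain ⟨hgB, R, W, hW, hRW, hBW, hC, hgW, hgR⟩ := hg
    obtain ⟨P, hP⟩ := hW.exists_le_sylow
    obtain ⟨d, hd⟩ := MulAction.exists_smul_eq G P S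
    have hdS : ∀ w ∈ W, d * w * d⁻¹ ∈ (S : Subgroup G) := fun w hw => by
      rw [← hd, Sylow.coe_subgroup_smul]
      exact ⟨w, hP hw, rfl⟩
    have hdB : d ∈ Subgroup.normalizer (B : Set G) :=
      hgood.rigid d fun b hb => hSN (hdS b (hBW hb))
    let e := MulAut.conj d
    set R' := R.map e.toMonoidHom
    set W' := W.map e.toMonoidHom
    have hW'S : W' ≤ (S : Subgroup G) := by
      rintro _ ⟨w, hw, rfl⟩
      exact hdS w hw
    have hR'W : R' ≤ W' := Subgroup.map_mono hRW
    have hgR' : e g ∈ Subgroup.closure (pElems p R') := by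
      refine (Subgroup.closure_le (K := (Subgroup.closure (pElems p R')).comap e.toMonoidHom)).2
        (fun y hy => ?_) hgR
      obtain ⟨hyN, k, hk⟩ := hy
      exact Subgroup.subset_closure ⟨(mem_normalizer_map e R y).2 hyN, k,
        (MulEquiv.orderOf_eq e y).trans hk⟩
    have h1 := closure_le_mapGroup hinv (hR'W.trans hW'S) hgR'
    have hC' : Subgroup.centralizer (R' : Set G) ≤ R' := by
      intro z hz
      obtain ⟨z, rfl⟩ := e.surjective z
      rw [mem_map_iff]
      refine hC (Subgroup.mem_centralizer_iff.2 fun r hr => e.injective ?_)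
      rw [map_mul, map_mul]
      exact Subgroup.mem_centralizer_iff.1 hz _ ((mem_map_iff e R r).2 hr)
    have h2 := isMap_climb hE.1.1 hinv.1 hW'S ((mem_normalizer_map e W g).2 hgW) _ R' le_rfl hR'W
      hC' h1.1 h1.2
    have hBW' : B ≤ W' := fun b hb => by
      refine ⟨d⁻¹ * b * d, hBW ((Subgroup.mem_normalizer_iff''.1 hdB b).1 hb), ?_⟩
      simp [e, mul_assoc]
    have hg' : d * g * d⁻¹ ∈ mapGroup E B hBS :=
      ⟨mul_mem (mul_mem hdB hgB) (Subgroup.inv_mem _ hdB), h2.restrict hBW'⟩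
    -- transport back
    have hmd := isMap_cj_group (g := d) hBS fun b hb =>
      hBS ((Subgroup.mem_normalizer_iff.1 hdB b).1 hb)
    obtain ⟨α, hα, f₀, hf₀, he⟩ := invariant_frattini hinv hBS hmd
    obtain ⟨-, haS, a, ha⟩ := Group.isMap_group_iff.1 (isMap_of_mem_autGroup le_rfl hα)
    have haN : a ∈ Subgroup.normalizer ((S : Subgroup G) : Set G) :=
      mem_normalizer_of_forall fun s hs => by
        have h3 := haS s hs
        rwa [ha s hs, cj_apply] at h3
    have haB : a ∈ Subgroup.normalizer (B : Set G) :=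
      hgood.rigid a fun b hb => hSN ((Subgroup.mem_normalizer_iff.1 haN b).1 (hBS hb))
    have hu : a⁻¹ * d ∈ mapGroup E B hBS := by
      refine ⟨mul_mem (Subgroup.inv_mem _ haB) hdB, hf₀.congr fun b hb => ?_⟩
      have h3 := he b hb
      rw [ha _ (hf₀.mem hb)] at h3
      rw [cj_mul, h3, cj_inv_cj]
    have hv : a⁻¹ * (d * g * d⁻¹) * a ∈ mapGroup E B hBS := by
      refine ⟨mul_mem (mul_mem (Subgroup.inv_mem _ haB) hg'.1) haB, ?_⟩
      have hαinv : α⁻¹ ∈ (groupFusionSystem (S : Subgroup G)).autGroup S := Subgroup.inv_mem _ hα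
      have hinvfun : ∀ s ∈ (S : Subgroup G), autFun α⁻¹ s = cj a⁻¹ s := fun s hs => by
        have h4 : cj a⁻¹ s ∈ (S : Subgroup G) :=
          (Subgroup.mem_normalizer_iff.1 (Subgroup.inv_mem _ haN) s).1 hs
        have h5 : autFun α (cj a⁻¹ s) = s := by rw [ha _ h4, ← cj_mul]; simp [cj]
        rw [autFun_of_mem _ h4] at h5
        have h6 : (⟨s, hs⟩ : (S : Subgroup G)) = α ⟨_, h4⟩ := Subtype.ext h5.symm
        rw [autFun_of_mem _ hs, h6, MulAut.inv_apply_self]
      obtain ⟨f, hf, hfe⟩ := invariant_transport hinv hBS hg'.2 hαinv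
      have himg : img (autFun α⁻¹) B = B := by
        rw [img_congr (g := cj a⁻¹) fun b hb => hinvfun b (hBS hb),
          img_cj_eq_of_mem_normalizer (Subgroup.inv_mem _ haB)]
      rw [himg] at hf
      refine hf.congr fun b hb => ?_
      have hb' : cj a b ∈ B := (Subgroup.mem_normalizer_iff.1 haB b).1 hb
      have h7 := hfe _ hb'
      rw [hinvfun _ (hBS hb'), cj_inv_cj,
        hinvfun _ (hBS (show cj (d * g * d⁻¹) (cj a b) ∈ B from
          (Subgroup.mem_normalizer_iff.1 hg'.1 _).1 hb'))] at h7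
      rw [h7]
      simp [cj, mul_assoc]
    have h8 := (mapGroup E B hBS).mul_mem ((mapGroup E B hBS).mul_mem (Subgroup.inv_mem _ hu) hv) hu
    simpa [mul_assoc] using h8
  have hall : ∀ g ∈ Subgroup.normalizer ((S : Subgroup G) : Set G),
      IsMap E (S : Subgroup G) (cj g) := by
    intro g hg
    have hgB : g ∈ Subgroup.normalizer (B : Set G) :=
      hgood.rigid g fun b hb => hSN ((Subgroup.mem_normalizer_iff.1 hg b).1 (hBS hb))
    exact Cfsg.Agent.S5160.isMap_cj_step S hE.1.1 hinv.1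
      (isCentric_of_centralizer hBS hgood.centric) hBS (le_inf le_rfl hSN) hgB hg (hM hgB).2
  obtain ⟨α, hα, f₀, hf₀, he⟩ :=
    invariant_frattini hinv ((groupFusionSystem (S : Subgroup G)).le_of_mem hφ).1 (IsMap.of_hom hφ)
  obtain ⟨-, haS, a, ha⟩ := Group.isMap_group_iff.1 (isMap_of_mem_autGroup le_rfl hα)
  have haN : a ∈ Subgroup.normalizer ((S : Subgroup G) : Set G) :=
    mem_normalizer_of_forall fun s hs => by
      have h3 := haS s hs
      rwa [ha s hs, cj_apply] at h3
  refine ((hall a haN).comp hf₀ fun x hx => hf₀.mem hx).hom_mem fun x => ?_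
  rw [← ext_apply φ x, he x x.2, ha _ (hf₀.mem x.2)]

end Cfsg.Agent.Fusion.SimpleLocal
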