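/-
An automorphism of order prime to `p` of a fully normalized subgroup, taken from a normal
subsystem over `T`, extends to a map moving the normalizing elements by elements of `T`.
-/
import Mathlib
import Cfsg.Agent.Lib.Fusion.GoodExtension
import Cfsg.Agent.Lib.Fusion.KNormalizer
import Cfsg.Agent.Lib.Fusion.InvariantCriterion

set_option autoImplicit false
set_option linter.all false

namespace Cfsg.Agent.Fusion.MeetTwist

open Cfsg Cfsg.FusionSystem Cfsg.Agent.Fusion.Basic Cfsg.Agent.Fusion.Saturation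
  Cfsg.Agent.Fusion.Normal Cfsg.Agent.Fusion.Factor Cfsg.Agent.Fusion.Subsystems
  Cfsg.Agent.Fusion.KNormalizer Cfsg.Agent.Fusion.CentralizeNormal Cfsg.Agent.Fusion.SylIn

variable {Ω : Type*} [Group Ω] {S T Q W : Subgroup Ω} {F : FusionSystem S} {M : FusionSystem T}
  {p : ℕ}

theorem isMap_k {K : Subgroup (MulAut Q)} {U : Subgroup Ω} {E : FusionSystem U}
    (hE : ∀ (P : Subgroup Ω) (φ : P →* Ω), φ ∈ E.Hom P ↔ IsKMap F K P (ext φ))
    {P : Subgroup Ω} {f : Ω → Ω} : IsMap E P f ↔ IsKMap F K P f := by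
  constructor
  · rintro ⟨φ, hφ, he⟩
    obtain ⟨hP, hv, g, hg, hge, hK⟩ := (hE P φ).1 hφ
    have hc : ∀ x ∈ P, ext φ x = f x := fun x hx => by rw [ext_of_mem φ hx]; exact he ⟨x, hx⟩
    exact ⟨hP, fun x hx => hc x hx ▸ hv x hx, g, hg,
      fun x hx => (hge x hx).trans (hc x hx), hK⟩
  · intro h
    have hm := h.isMap
    obtain ⟨hP, hv, g, hg, hge, hK⟩ := h
    have hc : ∀ x ∈ P, ext hm.hom x = f x := fun x hx => by rw [ext_of_mem _ hx]; rfl
    exact ⟨hm.hom, (hE P _).2 ⟨hP, fun x hx => (hc x hx).symm ▸ hv x hx, g, hg,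
      fun x hx => (hge x hx).trans (hc x hx).symm, hK⟩, fun _ => rfl⟩

/-- In a saturated system the automorphisms of `p`-power order of the whole group are inner. -/
theorem inner_of_pElement_top [Finite W] [Fact p.Prime] {E : FusionSystem W}
    (hW : IsPGroup p W) (hE : E.IsSaturated p) {α : MulAut W} (hα : α ∈ E.autGroup W) {k : ℕ}
    (hk : α ^ p ^ k = 1) : ∃ w ∈ W, ∀ x ∈ W, autFun α x = cj w x := by
  have hfn : E.IsFullyNormalized W :=
    ⟨le_rfl, fun R hR => (le_of_eq (congrArg (fun X => Nat.card (normalizerIn W X : Subgroup Ω))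
      (eq_of_le_card (isConj_le hR).2 (isConj_card hR).ge)))⟩
  obtain ⟨R, hR⟩ := (fullyNormalized_fullyAutomized hW hE hfn).2
  obtain ⟨c, hc⟩ := exists_conj_le_sylow R (A := Subgroup.zpowers (⟨α, hα⟩ : E.autGroup W)) (by
    rintro ⟨x, hx⟩
    obtain ⟨n, rfl⟩ := Subgroup.mem_zpowers_iff.1 hx
    refine ⟨k, Subtype.ext ?_⟩
    show ((⟨α, hα⟩ : E.autGroup W) ^ n) ^ p ^ k = 1
    rw [← zpow_natCast, zpow_comm, zpow_natCast, show (⟨α, hα⟩ : E.autGroup W) ^ p ^ k = 1 from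
      Subtype.ext hk, one_zpow])
  have h1 := hc _ (Subgroup.mem_zpowers _)
  rw [hR, Subgroup.mem_subgroupOf] at h1
  obtain ⟨g, hg, hge⟩ := mem_autInducedBy_iff'.1 h1
  refine ⟨autFun (c : MulAut W)⁻¹ g, autFun_mem _ hg.1, fun x hx => ?_⟩
  have h2 := hge _ (autFun_mem (c : MulAut W) hx)
  rw [Subgroup.coe_mul, Subgroup.coe_mul, Subgroup.coe_inv, autFun_mul, autFun_mul,
    autFun_inv_apply] at h2
  have h3 := congrArg (autFun (c : MulAut W)⁻¹) h2
  rw [autFun_inv_apply, cj_apply, (autFun_isHom (c : MulAut W)⁻¹).map_conj hg.1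
    (autFun_mem _ hx), autFun_inv_apply] at h3
  exact h3

/-- `β` extends to `N^Y_S(Q)` moving the elements by elements of `T`; the elements of `Y` need
not be induced by `T`. -/
theorem exists_twist [Finite S] [Fact p.Prime] (hS : IsPGroup p S) (hF : F.IsSaturated p)
    (hM : M.IsNormalIn F p) (hQT : Q ≤ T) (hQn : F.IsFullyNormalized Q) {Y : Subgroup (MulAut Q)}
    (hY : Y ≤ autInducedBy S Q) (hInn : Inn Q ≤ Y) {β : MulAut Q} (hβ : β ∈ M.autGroup Q)
    (hβc : (orderOf β).Coprime p) (hβY : ∀ y ∈ Y, β * y * β⁻¹ ∈ Y) :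
    ∃ h, IsMap F (kNorm S Y) h ∧ (∀ x ∈ Q, h x = autFun β x) ∧
      (∀ w ∈ kNorm S Y, h w ∈ kNorm S Y) ∧ ∀ w ∈ kNorm S Y, h w * w⁻¹ ∈ T := by
  classical
  have hinv : M.IsInvariantIn F := hM.1.2.2
  have hMsat : M.IsSaturated p := hM.1.1
  have hTsc : F.StronglyClosed T := hinv.2.1
  have hTS : T ≤ S := hTsc.1
  have hTn : S ≤ Subgroup.normalizer (T : Set Ω) := le_normalizer_of_stronglyClosed hTsc
  have hQS : Q ≤ S := hQT.trans hTS
  have hfinT : Finite T := finite_of_le hTS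
  have hfinQ : Finite Q := finite_of_le hQS
  have hTp : IsPGroup p T := hS.to_le hTS
  have hQM : M.IsFullyNormalized Q := fullyNormalized_of_subsystem hS hF hTsc hinv.1 hQT hQn
  have hYS : Y ≤ autInducedBy S Q := hY
  have hTQ : autInducedBy T Q ≤ autInducedBy S Q := by
    intro y hy
    obtain ⟨g, hg, hge⟩ := mem_autInducedBy_iff'.1 hy
    exact mem_autInducedBy_iff'.2 ⟨g, ⟨hTS hg.1, hg.2⟩, hge⟩
  -- the elements of `Y` in `M` are induced by `T`
  have hYT : Y ⊓ M.autGroup Q ≤ autInducedBy T Q := by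
    have hs : SylIn p (autInducedBy T Q) (M.autGroup Q) :=
      ⟨autInducedBy_le hQT, isPGroup_autInducedBy hTp,
        ((fullyAutomized_iff hTp).1 (fullyNormalized_fullyAutomized hTp hMsat hQM)).2⟩
    exact (inf_le_inf_right _ hYS).trans (hs.eq_of_le (M := autInducedBy S Q ⊓ M.autGroup Q)
      (le_inf hTQ (autInducedBy_le hQT)) inf_le_right
      ((isPGroup_autInducedBy hS).to_le inf_le_left)).ge
  have hYp : IsPGroup p Y := (isPGroup_autInducedBy hS).to_le hYS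
  have hW₁e : kNorm T Y = kNorm S Y ⊓ T := by
    ext g
    exact ⟨fun h => ⟨⟨hTS h.1, h.2⟩, h.1⟩, fun h => ⟨h.2, h.1.2⟩⟩
  set W := kNorm S Y with hWdef
  set W₁ := kNorm T Y with hW₁def
  have hWS : W ≤ S := kNorm_le_S
  have hW₁T : W₁ ≤ T := kNorm_le_S
  have hW₁W : W₁ ≤ W := fun g hg => (hW₁e.le hg).1
  have hfinW : Finite W := finite_of_le hWS
  have hfinW₁ : Finite W₁ := finite_of_le hW₁T
  have hWp : IsPGroup p W := hS.to_le hWS
  have hQW₁ : Q ≤ W₁ := fun q hq => by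
    obtain ⟨a, ha, hae⟩ : ∃ a ∈ Inn Q, ∀ x ∈ Q, autFun a x = cj q x := by
      refine ⟨MulAut.conj (⟨q, hq⟩ : Q), ⟨⟨q, hq⟩, rfl⟩, fun x hx => ?_⟩
      rw [autFun_of_mem _ hx]
      rfl
    exact ⟨hQT hq, a, hInn ha, fun x hx => (hae x hx).symm⟩
  have hCTW : centralizerIn T Q ≤ W₁ := fun g hg =>
    ⟨hg.1, 1, one_mem _, fun x hx => by
      rw [autFun_one, id, cj_apply, ← hg.2 x hx, mul_inv_cancel_right]⟩
  have hCW : centralizerIn S Q ≤ W := fun g hg =>
    ⟨hg.1, 1, one_mem _, fun x hx => by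
      rw [autFun_one, id, cj_apply, ← hg.2 x hx, mul_inv_cancel_right]⟩
  have hWn₁ : W ≤ Subgroup.normalizer (W₁ : Set Ω) := fun w hw =>
    mem_normalizer_of_forall fun x hx => hW₁e.ge
      ⟨W.mul_mem (W.mul_mem hw (hW₁W hx)) (W.inv_mem hw),
        (Subgroup.mem_normalizer_iff.1 (hTn (hWS hw)) x).1 (hW₁T hx)⟩
  -- every conjugate of `W₁` is carried back into `W`, with its centralizer
  have hback : ∀ W' : Subgroup Ω, F.IsConj W₁ W' → ∃ χ, IsMap F (W' ⊔ centralizerIn S W') χ ∧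
      img χ W' = W₁ := by
    intro W' hW'
    obtain ⟨φ, hφ, rfl⟩ := isConj_iff_map.1 hW'
    obtain ⟨i, hi, hiimg, hiφ, -⟩ := hφ.exists_inv
    have hφQ : IsMap F Q φ := hφ.restrict hQW₁
    have hi' : IsMap F (img φ Q) i := hi.restrict (img_mono φ hQW₁)
    have hiQ : img i (img φ Q) = Q := by
      rw [hφQ.img_img, img_congr (g := id) fun x hx => hiφ x (hQW₁ hx), img_id]
    obtain ⟨g, hg, hge⟩ := exists_extension hS hF hi'
      (by rw [hiQ]; exact fullyNormalized_fullyCentralized hS hF hQn)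
    have hW'S : img φ W₁ ≤ S := hφ.img_le_S
    have hle : img φ W₁ ⊔ centralizerIn S (img φ W₁) ≤ nSub S (img φ Q) i := by
      refine sup_le (fun y hy => ?_) fun c hc => centralizerIn_le_nSub
        ⟨hc.1, fun z hz => hc.2 z (img_mono φ hQW₁ hz)⟩
      obtain ⟨u, hu, rfl⟩ := hφ.mem_img.1 hy
      have hun : u ∈ Subgroup.normalizer (Q : Set Ω) := (kNorm_le hu).2
      refine mem_nSub.2 ⟨hφ.mem hu, hφ.mem_normalizer_img hQW₁ hu hun, u, hTS (hW₁T hu),
        fun z hz => ?_⟩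
      obtain ⟨x, hx, rfl⟩ := hφQ.mem_img.1 hz
      rw [← hφ.map_conj hu (hQW₁ hx), hiφ _ (hQW₁ ((Subgroup.mem_normalizer_iff.1 hun x).1 hx)),
        hiφ x (hQW₁ hx)]
    refine ⟨g, hg.restrict hle, ?_⟩
    have hW'T : img φ W₁ ≤ T := img_le fun x hx => stronglyClosed_mem hTsc hφ hx (hW₁T hx)
    refine eq_of_le_card (img_le fun y hy => ?_) ?_
    · have hyd := hle (Subgroup.mem_sup_left hy)
      refine ⟨stronglyClosed_mem hTsc hg hyd (hW'T hy), ?_⟩
      obtain ⟨u, hu, rfl⟩ := hφ.mem_img.1 hy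
      refine inK_congr (fun x hx => ?_) hu.2
      have hun : u ∈ Subgroup.normalizer (Q : Set Ω) := (kNorm_le hu).2
      have hφx := hle (Subgroup.mem_sup_left (mem_img_self φ (hQW₁ hx)))
      have h1 := hg.map_conj hyd hφx
      rw [← hφ.map_conj hu (hQW₁ hx)] at h1
      rw [hge _ (mem_img_self φ hx), hiφ x (hQW₁ hx),
        hge _ (mem_img_self φ ((Subgroup.mem_normalizer_iff.1 hun x).1 hx)),
        hiφ _ (hQW₁ ((Subgroup.mem_normalizer_iff.1 hun x).1 hx))] at h1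
      exact h1
    · rw [((hg.restrict hle).restrict le_sup_left).card_img, hφ.card_img]
  have hW₁S : W₁ ≤ S := hW₁T.trans hTS
  have hW₁fc : F.IsFullyCentralized W₁ := by
    refine ⟨hW₁S, fun W' hW' => ?_⟩
    obtain ⟨χ, hχ, hχW⟩ := hback W' hW'
    have : Finite (centralizerIn S W₁) := finite_of_le centralizerIn_le
    rw [← (hχ.restrict le_sup_right).card_img]
    refine card_le_card (img_le fun c hc => ⟨hχ.mem (Subgroup.mem_sup_right hc), ?_⟩)
    rw [← hχW]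
    exact hχ.mem_centralizer_img le_sup_left (Subgroup.mem_sup_right hc) hc.2
  have hW₁c : M.IsCentric W₁ := by
    refine ⟨hW₁T, fun W' hW' => ?_⟩
    obtain ⟨f, hf, rfl⟩ := isConj_iff_map.1 hW'
    obtain ⟨χ, hχ, hχW⟩ := hback _ (isMap_of_subset hinv.1 hf).isConj
    intro c hc
    have hcd : c ∈ img f W₁ ⊔ centralizerIn S (img f W₁) :=
      Subgroup.mem_sup_right ⟨hTS hc.1, hc.2⟩
    have h1 : χ c ∈ W₁ := by
      refine hCTW ⟨stronglyClosed_mem hTsc hχ hcd hc.1, fun x hx => ?_⟩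
      have h2 := hχ.mem_centralizer_img le_sup_left hcd hc.2
      rw [hχW] at h2
      exact h2 x (hQW₁ hx)
    rw [← hχW] at h1
    obtain ⟨x, hx, hxe⟩ := (hχ.restrict le_sup_left).mem_img.1 h1
    exact hχ.inj (Subgroup.mem_sup_left hx) hcd hxe ▸ hx
  -- the system of maps inducing elements of `K = Y⟨β⟩` on `Q`
  set K := Y ⊔ Subgroup.zpowers β with hKdef
  have hYK : Y ≤ K := le_sup_left
  have hβK : β ∈ K := Subgroup.mem_sup_right (Subgroup.mem_zpowers β)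
  have hβN : β ∈ Subgroup.normalizer (Y : Set (MulAut Q)) := mem_normalizer_of_forall hβY
  have hKn : K ≤ Subgroup.normalizer (Y : Set (MulAut Q)) :=
    sup_le Subgroup.le_normalizer (Subgroup.zpowers_le.2 hβN)
  have hpowY : ∀ a ∈ K, a ^ orderOf β ∈ Y := by
    intro a ha
    set N := Subgroup.normalizer (Y : Set (MulAut Q)) with hNdef
    have : (Y.subgroupOf N).Normal := Subgroup.normal_in_normalizer
    set π := QuotientGroup.mk' (Y.subgroupOf N) with hπ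
    have hle : K.subgroupOf N ≤ (Subgroup.zpowers (π ⟨β, hβN⟩)).comap π := by
      rw [hKdef, Subgroup.subgroupOf_sup Subgroup.le_normalizer (Subgroup.zpowers_le.2 hβN)]
      refine sup_le (fun b hb => ?_) fun b hb => ?_
      · rw [Subgroup.mem_comap, show π b = 1 from (QuotientGroup.eq_one_iff _).2 hb]
        exact one_mem _
      · obtain ⟨n, hn⟩ := Subgroup.mem_zpowers_iff.1 (Subgroup.mem_subgroupOf.1 hb)
        refine Subgroup.mem_comap.2 (Subgroup.mem_zpowers_iff.2 ⟨n, ?_⟩)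
        rw [← map_zpow]
        exact congrArg π (Subtype.ext (by rw [Subgroup.coe_zpow]; exact hn))
    obtain ⟨n, hn⟩ := Subgroup.mem_zpowers_iff.1 (hle (x := ⟨a, hKn ha⟩) ha)
    have h1 : π (⟨a, hKn ha⟩ ^ orderOf β) = 1 := by
      rw [map_pow, ← hn, ← zpow_natCast, zpow_comm, zpow_natCast, ← map_pow,
        show (⟨β, hβN⟩ : N) ^ orderOf β = 1 from
          Subtype.ext (by rw [Subgroup.coe_pow, pow_orderOf_eq_one]; rfl), map_one, one_zpow]
    exact Subgroup.mem_subgroupOf.1 ((QuotientGroup.ker_mk' _).le (MonoidHom.mem_ker.2 h1))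
  have hKp : ∀ a ∈ K, ∀ k : ℕ, a ^ p ^ k = 1 → a ∈ Y := fun a ha k hk =>
    GoodExtension.mem_of_pow_mem (W := Y) (hβc.pow_right k).symm (by rw [hk]; exact one_mem _)
      (hpowY a ha)
  have hkn : ∀ {U : Subgroup Ω}, U ≤ S → kNorm U K = kNorm U Y := by
    intro U hU
    ext g
    refine ⟨fun hg => ⟨hg.1, ?_⟩, fun ⟨hg, a, ha, hae⟩ => ⟨hg, a, hYK ha, hae⟩⟩
    obtain ⟨a, ha, hae⟩ := hg.2
    obtain ⟨k, hk⟩ := isPGroup_autInducedBy (P := Q) hS
      ⟨a, mem_autInducedBy_iff'.2 ⟨g, ⟨hU hg.1, (kNorm_le hg).2⟩, fun x hx => (hae x hx).symm⟩⟩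
    exact ⟨a, hKp a ha k (congrArg Subtype.val hk), hae⟩
  have hKF : K ≤ F.autGroup Q := sup_le (fun y hy => autInducedBy_le hQS (hY hy))
    (Subgroup.zpowers_le.2 ((mem_autGroup_iff hQS).2
      (isMap_of_subset hinv.1 (isMap_of_mem_autGroup hQT hβ))))
  have hMF : ∀ {R : Subgroup Ω}, R ≤ T → M.autGroup R ≤ F.autGroup R := fun hR a ha =>
    (mem_autGroup_iff (hR.trans hTS)).2 (isMap_of_subset hinv.1 (isMap_of_mem_autGroup hR ha))
  have hindex : ∀ K' ≤ K, ¬ p ∣ (Y ⊓ K').relIndex K' := by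
    intro K' hK' hdvd
    have : ((Y ⊓ K').subgroupOf K').Normal := by
      refine ⟨fun n hn g => Subgroup.mem_subgroupOf.2 ⟨?_, (g * n * g⁻¹).2⟩⟩
      exact (Subgroup.mem_normalizer_iff.1 (hKn (hK' g.2)) _).1 (Subgroup.mem_subgroupOf.1 hn).1
    obtain ⟨x, hx⟩ := exists_prime_orderOf_dvd_card' (G := K' ⧸ (Y ⊓ K').subgroupOf K') p hdvd
    obtain ⟨b, rfl⟩ := QuotientGroup.mk'_surjective _ x
    have h1 : orderOf (QuotientGroup.mk' ((Y ⊓ K').subgroupOf K') b) ∣ orderOf β :=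
      orderOf_dvd_of_pow_eq_one (by
        rw [← map_pow]
        exact (QuotientGroup.eq_one_iff _).2
          (Subgroup.mem_subgroupOf.2 ⟨hpowY b (hK' b.2), (b ^ orderOf β).2⟩))
    rw [hx] at h1
    exact (Fact.out : p.Prime).not_dvd_one (hβc ▸ Nat.dvd_gcd h1 dvd_rfl)
  have hKfullS : KFull F p K := by
    refine ⟨fullyNormalized_fullyCentralized hS hF hQn, ?_⟩
    rw [inf_eq_right.2 hKF, show autInducedBy S Q ⊓ K = Y ⊓ K from
      le_antisymm (fun a ha => ⟨by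
        obtain ⟨k, hk⟩ := isPGroup_autInducedBy (P := Q) hS ⟨a, ha.1⟩
        exact hKp a ha.2 k (congrArg Subtype.val hk), ha.2⟩) (inf_le_inf_right _ hYS)]
    exact hindex K le_rfl
  have hKfullT : KFull M p K := by
    refine ⟨fullyNormalized_fullyCentralized hTp hMsat hQM, ?_⟩
    rw [show autInducedBy T Q ⊓ K = Y ⊓ (M.autGroup Q ⊓ K) from
      le_antisymm (fun a ha => ⟨by
        obtain ⟨k, hk⟩ := isPGroup_autInducedBy (P := Q) hTp ⟨a, ha.1⟩
        exact hKp a ha.2 k (congrArg Subtype.val hk), autInducedBy_le hQT ha.1, ha.2⟩)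
        fun a ha => ⟨hYT ⟨ha.1, ha.2.1⟩, ha.2.2⟩]
    exact hindex _ inf_le_right
  obtain ⟨F', hF'⟩ := exists_kSystem' (F := F) (K := K) (T := W) (hkn le_rfl).symm hQS
  have hF's := KNormalizer.saturated hS hF hKfullS (hkn le_rfl).symm F' hF'
  obtain ⟨M', hM'⟩ := exists_kSystem' (F := M) (K := K) (T := W₁) (hkn hTS).symm hQT
  have hM's := KNormalizer.saturated hTp hMsat hKfullT (hkn hTS).symm M' hM'
  set R := W₁ ⊔ centralizerIn S W₁ with hRdef
  have hCR : centralizerIn S W₁ ≤ R := le_sup_right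
  have hW₁R : W₁ ≤ R := le_sup_left
  have hQR : Q ≤ R := hQW₁.trans hW₁R
  have hCW₁ : centralizerIn S W₁ ≤ W := fun c hc => hCW ⟨hc.1, fun x hx => hc.2 x (hQW₁ hx)⟩
  have hRW : R ≤ W := sup_le hW₁W hCW₁
  have hRS : R ≤ S := hRW.trans hWS
  have hfinR : Finite R := finite_of_le hRS
  have hWnC : ∀ w ∈ W, ∀ c ∈ centralizerIn S W₁, w * c * w⁻¹ ∈ centralizerIn S W₁ := by
    refine fun w hw c hc => ⟨S.mul_mem (S.mul_mem (hWS hw) hc.1) (S.inv_mem (hWS hw)),
      fun x hx => ?_⟩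
    have h1 : w⁻¹ * x * w ∈ W₁ := by
      simpa using (Subgroup.mem_normalizer_iff.1 (hWn₁ (W.inv_mem hw)) x).1 hx
    have h2 := hc.2 _ h1
    calc x * (w * c * w⁻¹) = w * (w⁻¹ * x * w * c) * w⁻¹ := by group
      _ = w * (c * (w⁻¹ * x * w)) * w⁻¹ := by rw [h2]
      _ = w * c * w⁻¹ * x := by group
  have hWnR : W ≤ normalizerIn W R := fun w hw =>
    ⟨hw, mem_normalizer_of_forall fun x hx => by
      have : R ≤ R.comap (MulAut.conj w).toMonoidHom := sup_le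
        (fun y hy => hW₁R ((Subgroup.mem_normalizer_iff.1 (hWn₁ hw) y).1 hy))
        fun y hy => hCR (hWnC w hw y hy)
      exact this hx⟩
  -- maps of the system `F'`
  have hF'F : ∀ {P : Subgroup Ω} {f : Ω → Ω}, IsMap F' P f → IsMap F P f := fun h =>
    ((isMap_k hF').1 h).isMap
  have hF'T : ∀ {P : Subgroup Ω} {f : Ω → Ω}, IsMap F' P f → W₁ ≤ P → ∀ x ∈ W₁, f x ∈ W₁ :=
    fun {P f} h hP x hx =>
      hW₁e.ge ⟨h.mem (hP hx), stronglyClosed_mem hTsc (hF'F h) (hP hx) (hW₁T hx)⟩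
  have hF'C : ∀ {P : Subgroup Ω} {f : Ω → Ω}, IsMap F' P f → R ≤ P →
      ∀ c ∈ centralizerIn S W₁, f c ∈ centralizerIn S W₁ := by
    intro P f h hP c hc
    have hm := hF'F h
    have himg : img f W₁ = W₁ :=
      eq_of_le_card (img_le (hF'T h (hW₁R.trans hP)))
        (hm.restrict (hW₁R.trans hP)).card_img.ge
    have h1 := hm.mem_centralizer_img (hW₁R.trans hP) (hP (hCR hc)) hc.2
    rw [himg] at h1
    exact ⟨hm.mem (hP (hCR hc)), h1⟩
  have hRn : F'.IsFullyNormalized R := by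
    refine ⟨hRW, fun R' hR' => ?_⟩
    have : Finite (normalizerIn W R) := finite_of_le normalizerIn_le
    exact card_le_card (normalizerIn_le.trans hWnR)
  set A := F'.autGroup R with hAdef
  have hAm : ∀ a ∈ A, IsMap F' R (autFun a) := fun a ha => isMap_of_mem_autGroup hRW ha
  have hAQ : ∀ a ∈ A, InK K (autFun a) := by
    intro a ha
    obtain ⟨-, -, g, -, hge, hgK⟩ := (isMap_k hF').1 (hAm a ha)
    exact inK_congr (fun x hx => hge x (hQR hx)) hgK
  have hconjA : ∀ w (hw : w ∈ W), conjAut W R ⟨w, hWnR hw⟩ ∈ A := fun w hw =>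
    autInducedBy_le hRW (conjAut_range W R ▸ ⟨_, rfl⟩)
  -- the movers
  let Mv : Subgroup (MulAut R) :=
    let N : Submonoid (MulAut R) :=
    { carrier := {a | a ∈ A ∧ (∃ γ ∈ M.autGroup W₁, ∀ x ∈ W₁, autFun a x = autFun γ x) ∧
        ∀ c ∈ centralizerIn S W₁, c⁻¹ * autFun a c ∈ W₁}
      one_mem' := ⟨one_mem _, ⟨1, one_mem _, fun x _ => by rw [autFun_one, autFun_one]⟩,
        fun c _ => by rw [autFun_one]; simp [W₁.one_mem]⟩
      mul_mem' := by
        rintro a b ⟨ha, ⟨γ, hγ, hγe⟩, haC⟩ ⟨hb, ⟨δ, hδ, hδe⟩, hbC⟩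
        refine ⟨mul_mem ha hb, ⟨γ * δ, mul_mem hγ hδ, fun x hx => ?_⟩, fun c hc => ?_⟩
        · rw [autFun_mul, autFun_mul, hδe x hx, hγe _ (autFun_mem _ hx)]
        · rw [autFun_mul, show autFun b c = c * (c⁻¹ * autFun b c) by rw [mul_inv_cancel_left],
            autFun_isHom a _ (hCR hc) _ (hW₁R (hbC c hc)), ← mul_assoc]
          refine W₁.mul_mem (haC c hc) ?_
          rw [hγe _ (hbC c hc)]
          exact autFun_mem _ (hbC c hc) }
    { N with
      inv_mem' := fun {a} ha => by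
        have h1 : a⁻¹ = a ^ (orderOf a - 1) := by
          refine inv_eq_of_mul_eq_one_right ?_
          rw [← pow_succ', Nat.sub_add_cancel (orderOf_pos a), pow_orderOf_eq_one]
        rw [h1]
        exact N.pow_mem ha _ }
  have hmv : ∀ {a : MulAut R}, a ∈ Mv ↔ a ∈ A ∧
      (∃ γ ∈ M.autGroup W₁, ∀ x ∈ W₁, autFun a x = autFun γ x) ∧
      ∀ c ∈ centralizerIn S W₁, c⁻¹ * autFun a c ∈ W₁ := Iff.rfl
  have hstrong := InvariantCriterion.strong_of_invariant hinv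
  have hMvn : ∀ a ∈ A, ∀ x ∈ Mv, a * x * a⁻¹ ∈ Mv := by
    rintro a ha x ⟨hx, ⟨γ, hγ, hγe⟩, hxC⟩
    have ha' : a⁻¹ ∈ A := inv_mem ha
    refine hmv.2 ⟨mul_mem (mul_mem ha hx) ha', ?_, fun c hc => ?_⟩
    · obtain ⟨b, hb, hbe⟩ := ((hF'F (hAm a ha)).restrict hW₁R).exists_aut
        (eq_of_le_card (img_le (hF'T (hAm a ha) hW₁R))
          ((hF'F (hAm a ha)).restrict hW₁R).card_img.ge)
      have := InvariantCriterion.autGroup_conj hTS hinv.1 hstrong hW₁T
      have h1 := this.conj_mem ⟨γ, hMF hW₁T hγ⟩ (Subgroup.mem_subgroupOf.2 hγ) ⟨b, hb⟩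
      refine ⟨b * γ * b⁻¹, Subgroup.mem_subgroupOf.1 h1, fun y hy => ?_⟩
      have hy' : autFun a⁻¹ y ∈ W₁ := hF'T (hAm _ ha') hW₁R y hy
      have e1 : autFun b⁻¹ y = autFun a⁻¹ y := by
        conv_lhs => rw [← autFun_apply_inv a y, ← hbe _ hy', autFun_inv_apply]
      rw [autFun_mul, autFun_mul, autFun_mul, autFun_mul, e1, hγe _ hy',
        hbe _ (autFun_mem _ hy')]
    · have hc' := hF'C (hAm _ ha') le_rfl c hc
      have hw := hxC _ hc'
      have e : autFun x (autFun a⁻¹ c) = autFun a⁻¹ c * ((autFun a⁻¹ c)⁻¹ * autFun x (autFun a⁻¹ c)) := by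
        rw [mul_inv_cancel_left]
      rw [autFun_mul, autFun_mul, e, autFun_isHom a _ (hCR hc') _ (hW₁R hw), autFun_apply_inv,
        inv_mul_cancel_left]
      exact hF'T (hAm a ha) hW₁R _ hw
  -- a good lift of `β`
  obtain ⟨n₀, hn₀, hn₀β⟩ : ∃ n₀ ∈ Mv, ∀ x ∈ Q, autFun n₀ x = autFun β x := by
    have hm := isMap_of_mem_autGroup hQT hβ
    obtain ⟨g₁, hg₁, hg₁e⟩ := exists_extension hTp hMsat hm
      (by rw [autFun_img]; exact fullyNormalized_fullyCentralized hTp hMsat hQM)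
    have hle : W₁ ≤ nSub T Q (autFun β) := by
      intro u hu
      obtain ⟨huT, y, hy, hye⟩ := hu
      have hun : u ∈ Subgroup.normalizer (Q : Set Ω) := (kNorm_le ⟨huT, y, hy, hye⟩).2
      have hyM : y ∈ M.autGroup Q := autInducedBy_le hQT
        (mem_autInducedBy_iff'.2 ⟨u, ⟨huT, hun⟩, fun x hx => (hye x hx).symm⟩)
      obtain ⟨v, hv, hve⟩ := mem_autInducedBy_iff'.1
        (hYT ⟨hβY y hy, mul_mem (mul_mem hβ hyM) (Subgroup.inv_mem _ hβ)⟩)
      refine mem_nSub.2 ⟨huT, hun, v, hv.1, fun x hx => ?_⟩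
      have h1 := hve _ (autFun_mem β hx)
      rw [autFun_mul, autFun_mul, autFun_inv_apply, ← hye x hx] at h1
      exact h1
    have hg₁r := hg₁.restrict hle
    have himg : img g₁ W₁ = W₁ := by
      refine eq_of_le_card (img_le fun u hu => ⟨hg₁r.mem hu, ?_⟩) hg₁r.card_img.ge
      obtain ⟨huT, y, hy, hye⟩ := hu
      refine ⟨β * y * β⁻¹, hβY y hy, fun x hx => ?_⟩
      obtain hx' := autFun_mem β⁻¹ hx
      have hun : u ∈ Subgroup.normalizer (Q : Set Ω) := (kNorm_le ⟨huT, y, hy, hye⟩).2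
      have h1 := hg₁r.map_conj ⟨huT, y, hy, hye⟩ (hQW₁ hx')
      rw [hg₁e _ hx', autFun_apply_inv, hg₁e _ ((Subgroup.mem_normalizer_iff.1 hun _).1 hx'),
        show u * autFun β⁻¹ x * u⁻¹ = autFun y (autFun β⁻¹ x) from hye _ hx'] at h1
      rw [autFun_mul, autFun_mul]
      exact h1.symm
    obtain ⟨γ, hγ, hγe⟩ := hg₁r.exists_aut himg
    obtain ⟨W', hW', hW'n⟩ := exists_fullyNormalized (F := F) hW₁S
    obtain ⟨g, hg, hgW⟩ := exists_map_to_fullyNormalized hS hF hW'n hW'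
    have hRN : R ≤ normalizerIn S W₁ :=
      sup_le (le_normalizerIn hW₁S) centralizerIn_le_normalizerIn
    have hgR := hg.restrict hRN
    have hgW₁ := hgR.restrict hW₁R
    have hW'c : M.IsCentric W' :=
      GoodExtension.centric_conj_invariant hinv hW₁c hW'
    have hW'M := fullyNormalized_of_subsystem hS hF hTsc hinv.1 hW'c.1 hW'n
    obtain ⟨χ, hχ, hχe⟩ := hstrong W₁ W₁ (autFun γ) g le_rfl hW₁T
      (isMap_of_mem_autGroup hW₁T hγ) (fun x hx => autFun_mem γ hx) hgW₁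
    rw [hgW] at hχ
    have hχimg : img χ W' = W' := by
      rw [← hgW, hgW₁.img_img, img_congr (g := fun x => g (autFun γ x)) hχe,
        ← (isMap_of_subset hinv.1 (isMap_of_mem_autGroup hW₁T hγ)).img_img, autFun_img]
    obtain ⟨γ', hγ', hγ'e⟩ := hχ.exists_aut hχimg
    obtain ⟨e', he', he'W, he'C⟩ := GoodExtension.exists_good_ext hS hF hM hW'c hW'M hγ'
    have himgR : img g R = W' ⊔ centralizerIn S W' := by
      have : Finite (W' ⊔ centralizerIn S W' : Subgroup Ω) := finite_of_le he'.le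
      have hgC : img g (centralizerIn S W₁) = centralizerIn S W' := by
        have : Finite (centralizerIn S W') := finite_of_le centralizerIn_le
        refine eq_of_le_card (img_le fun c hc => ⟨hgR.mem (hCR hc), ?_⟩) ?_
        · rw [← hgW]
          exact hgR.mem_centralizer_img hW₁R (hCR hc) hc.2
        · rw [(hgR.restrict hCR).card_img]
          exact hW₁fc.2 W' hW'
      rw [hgR.img_sup, hgW, hgC]
    obtain ⟨j, hj, hjimg, hjg, hgj⟩ := hgR.exists_inv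
    rw [himgR] at hj hjimg hgj
    have hmem' : ∀ x ∈ R, g x ∈ W' ⊔ centralizerIn S W' := fun x hx =>
      himgR.le (mem_img_self g hx)
    have he'm : ∀ y ∈ W' ⊔ centralizerIn S W', e' y ∈ W' ⊔ centralizerIn S W' := fun y hy =>
      CentralizeNormal.extends_mem he' he'W he'C (mem_img_self e' hy)
    have hn : IsMap F R fun x => j (e' (g x)) :=
      hj.comp (he'.comp hgR hmem') fun x hx => he'm _ (hmem' x hx)
    have hnimg : img (fun x => j (e' (g x))) R = R :=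
      eq_of_le_card (img_le fun x hx => hjimg.le (mem_img_self j (he'm _ (hmem' x hx))))
        hn.card_img.ge
    have hnW : ∀ x ∈ W₁, j (e' (g x)) = autFun γ x := by
      intro x hx
      rw [he'W _ (hgW.le (mem_img_self g hx)), hγ'e _ (hgW.le (mem_img_self g hx)), hχe x hx,
        hjg _ (hW₁R (autFun_mem γ hx))]
    obtain ⟨n₀, hn₀F, hn₀e⟩ := hn.exists_aut hnimg
    have hn₀A : n₀ ∈ A := by
      refine (mem_autGroup_iff hRW).2 ((isMap_k hF').2 ⟨(hkn le_rfl).ge.trans' hRW,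
        fun x hx => (hkn le_rfl).ge (hRW (autFun_mem _ hx)), autFun n₀, ?_, fun _ _ => rfl,
        ⟨β, hβK, fun x hx => ?_⟩⟩)
      · rw [sup_eq_left.2 hQR]
        exact isMap_of_mem_autGroup hRS hn₀F
      · rw [hn₀e x (hQR hx), hnW x (hQW₁ hx), hγe x (hQW₁ hx), hg₁e x hx]
    refine ⟨n₀, hmv.2 ⟨hn₀A, ⟨γ, hγ, fun x hx => by rw [hn₀e x (hW₁R hx), hnW x hx]⟩,
      fun c hc => ?_⟩, fun x hx => by rw [hn₀e x (hQR hx), hnW x (hQW₁ hx), hγe x (hQW₁ hx),
        hg₁e x hx]⟩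
    rw [hn₀e c (hCR hc)]
    have hgc : g c ∈ centralizerIn S W' := by
      refine ⟨hgR.mem (hCR hc), ?_⟩
      rw [← hgW]
      exact hgR.mem_centralizer_img hW₁R (hCR hc) hc.2
    have hz := (he'C _ hgc).1
    rw [← hgW] at hz
    obtain ⟨z, hz₁, hze⟩ := hgW₁.mem_img.1 hz
    have e : e' (g c) = g (c * z) := by
      rw [hgR.map_mul (hCR hc) (hW₁R hz₁), hze, mul_inv_cancel_left]
    rw [e, hjg _ (R.mul_mem (hCR hc) (hW₁R hz₁)), inv_mul_cancel_left]
    exact hz₁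
  -- Frattini: normalize the automorphisms induced by `W`
  let K₀ : Subgroup (MulAut R) :=
    let N : Submonoid (MulAut R) :=
    { carrier := {a | a ∈ Mv ∧ InK Y (autFun a)}
      one_mem' := ⟨one_mem _, by rw [autFun_one]; exact inK_id⟩
      mul_mem' := fun {a b} ha hb => ⟨mul_mem ha.1 hb.1,
        inK_congr (fun x _ => (autFun_mul a b x).symm) (ha.2.comp hb.2)⟩ }
    { N with
      inv_mem' := fun {a} ha => by
        have h1 : a⁻¹ = a ^ (orderOf a - 1) := by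
          refine inv_eq_of_mul_eq_one_right ?_
          rw [← pow_succ', Nat.sub_add_cancel (orderOf_pos a), pow_orderOf_eq_one]
        rw [h1]
        exact N.pow_mem ha _ }
  set P₀ := autInducedBy W R with hP₀def
  have hP₀A : P₀ ≤ A := autInducedBy_le hRW
  have hK₀A : K₀ ≤ A := fun a ha => (hmv.1 ha.1).1
  have hA_K₀ : ∀ a ∈ A, ∀ k ∈ K₀, a * k * a⁻¹ ∈ K₀ := by
    intro a ha k hk
    refine ⟨hMvn a ha k hk.1, ?_⟩
    obtain ⟨ka, hka, hkae⟩ := hAQ a ha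
    obtain ⟨y, hy, hye⟩ := hk.2
    refine ⟨ka * y * ka⁻¹, (Subgroup.mem_normalizer_iff.1 (hKn hka) y).1 hy, fun x hx => ?_⟩
    have hx' : autFun ka⁻¹ x ∈ Q := autFun_mem _ hx
    have e1 : autFun a⁻¹ x = autFun ka⁻¹ x := by
      conv_lhs => rw [← autFun_apply_inv ka x, ← hkae _ hx', autFun_inv_apply]
    rw [autFun_mul, autFun_mul, autFun_mul, autFun_mul, e1, hye _ hx',
      hkae _ (autFun_mem _ hx')]
  have hP₀mem : ∀ {a : MulAut R}, a ∈ P₀ → ∃ w ∈ W, ∀ x ∈ R, autFun a x = cj w x := fun ha =>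
    let ⟨w, hw, hwe⟩ := mem_autInducedBy_iff'.1 ha; ⟨w, hw.1, hwe⟩
  obtain ⟨x₁, hx₁, hx₁Q, hx₁P⟩ : ∃ x₁ ∈ Mv, (∀ x ∈ Q, autFun x₁ x = autFun β x) ∧
      ∀ a ∈ P₀, x₁ * a * x₁⁻¹ ∈ P₀ := by
    set H := K₀ ⊔ P₀ with hHdef
    have hHA : H ≤ A := sup_le hK₀A hP₀A
    have hn₀A : n₀ ∈ A := (hmv.1 hn₀).1
    have hconjH : img (cj n₀) P₀ ≤ H := by
      refine img_le fun a ha => ?_
      show n₀ * a * n₀⁻¹ ∈ H
      rw [show n₀ * a * n₀⁻¹ = (n₀ * (a * n₀⁻¹ * a⁻¹)) * a by group]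
      refine H.mul_mem (Subgroup.mem_sup_left ⟨mul_mem hn₀ (hMvn a (hP₀A ha) _ (inv_mem hn₀)), ?_⟩)
        (Subgroup.mem_sup_right ha)
      obtain ⟨w, hw, hwe⟩ := hP₀mem ha
      obtain ⟨y, hy, hye⟩ := hw.2
      refine ⟨β * y * β⁻¹ * y⁻¹, mul_mem (hβY y hy) (inv_mem hy), fun x hx => ?_⟩
      have ey : ∀ z ∈ Q, autFun a z = autFun y z := fun z hz => by rw [hwe z (hQR hz), hye z hz]
      have e1 : ∀ z ∈ Q, autFun a⁻¹ z = autFun y⁻¹ z := fun z hz => by
        conv_lhs => rw [← autFun_apply_inv y z, ← ey _ (autFun_mem _ hz), autFun_inv_apply]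
      have e2 : ∀ z ∈ Q, autFun n₀⁻¹ z = autFun β⁻¹ z := fun z hz => by
        conv_lhs => rw [← autFun_apply_inv β z, ← hn₀β _ (autFun_mem _ hz), autFun_inv_apply]
      simp only [autFun_mul]
      rw [e1 x hx, e2 _ (autFun_mem _ hx), ey _ (autFun_mem _ (autFun_mem _ hx)),
        hn₀β _ (autFun_mem _ (autFun_mem _ (autFun_mem _ hx)))]
    have hsyl : SylIn p P₀ H := by
      refine ⟨le_sup_right, isPGroup_autInducedBy hWp, fun hdvd => ?_⟩
      exact ((fullyAutomized_iff hWp).1 (fullyNormalized_fullyAutomized hWp hF's hRn)).2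
        (hdvd.trans (Dvd.intro _ (Subgroup.relIndex_mul_relIndex P₀ H A le_sup_right hHA)))
    obtain ⟨h, hh, hhle⟩ := hsyl.exists_conj hconjH
      ((isPGroup_autInducedBy hWp).map _ |> (img_cj n₀ P₀ ▸ ·))
    obtain ⟨a, ha, k, hk, rfl⟩ := coe_sup_of_normal (S := A) (T := K₀) (P := P₀)
      (fun z hz => mem_normalizer_of_forall fun k hk => hA_K₀ z hz k hk) hP₀A
      ((sup_comm K₀ P₀).le hh)
    have hkn : ∀ b ∈ P₀, (k * n₀) * b * (k * n₀)⁻¹ ∈ P₀ := by
      intro b hb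
      have h1 : a * k * (n₀ * b * n₀⁻¹) * (a * k)⁻¹ ∈ P₀ :=
        hhle (mem_img_self (cj (a * k)) (mem_img_self (cj n₀) hb))
      have h2 := mul_mem (mul_mem (inv_mem ha) h1) ha
      convert h2 using 1
      group
    obtain ⟨y, hy, hye⟩ := hk.2
    obtain ⟨γk, hγk, hγke⟩ := (hmv.1 hk.1).2.1
    have hyM : y ∈ M.autGroup Q := (mem_autGroup_iff hQT).2
      (((isMap_of_mem_autGroup hW₁T hγk).restrict hQW₁).congr fun x hx => by
        rw [← hγke x (hQW₁ hx), hye x hx])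
    obtain ⟨u, hu, hue⟩ := mem_autInducedBy_iff'.1
      (hYT ⟨Subgroup.inv_mem _ hy, Subgroup.inv_mem _ hyM⟩)
    have huW₁ : u ∈ W₁ := ⟨hu.1, y⁻¹, inv_mem hy, fun x hx => (hue x hx).symm⟩
    set cu := conjAut W R ⟨u, hWnR (hW₁W huW₁)⟩ with hcu
    have hcue : ∀ x ∈ R, autFun cu x = cj u x := fun x hx => conjAut_apply _ hx
    have hcuP : cu ∈ P₀ := (conjAut_range W R).le ⟨_, rfl⟩
    have hcuM : cu ∈ Mv := by
      refine hmv.2 ⟨hP₀A hcuP, ?_, fun c hc => ?_⟩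
      · have hun : u ∈ normalizerIn T W₁ := ⟨hu.1, Subgroup.le_normalizer huW₁⟩
        exact ⟨conjAut T W₁ ⟨u, hun⟩, autInducedBy_le hW₁T (conjAut_range T W₁ ▸ ⟨_, rfl⟩),
          fun x hx => by rw [hcue x (hW₁R hx), conjAut_apply (K := T) ⟨u, hun⟩ hx]⟩
      · rw [hcue c (hCR hc), cj_apply, hc.2 u huW₁, mul_inv_cancel_right, inv_mul_cancel]
        exact W₁.one_mem
    refine ⟨cu * (k * n₀), mul_mem hcuM (mul_mem hk.1 hn₀), fun x hx => ?_, fun b hb => ?_⟩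
    · rw [autFun_mul, autFun_mul, hn₀β x hx, hye _ (autFun_mem _ hx),
        hcue _ (hQR (autFun_mem _ (autFun_mem _ hx))), ← hue _ (autFun_mem _ (autFun_mem _ hx)),
        autFun_inv_apply]
    · have h1 := mul_mem (mul_mem hcuP (hkn b hb)) (inv_mem hcuP)
      convert h1 using 1
      group
  obtain ⟨i, hic, hiQ⟩ := GoodExtension.exists_pow_coprime hQR hx₁Q hβc
  set x₂ := x₁ ^ i with hx₂def
  have hx₂ : x₂ ∈ Mv := pow_mem hx₁ i
  have hx₂P : ∀ a ∈ P₀, x₂ * a * x₂⁻¹ ∈ P₀ := by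
    have hN : x₁ ∈ Subgroup.normalizer (P₀ : Set (MulAut R)) := mem_normalizer_of_forall hx₁P
    exact fun a ha => (Subgroup.mem_normalizer_iff.1 (pow_mem hN i) a).1 ha
  have hx₂A : x₂ ∈ A := (hmv.1 hx₂).1
  obtain ⟨θ, hθ, hθe⟩ := exists_extension hWp hF's (hAm _ hx₂A)
    (by rw [autFun_img]; exact fullyNormalized_fullyCentralized hWp hF's hRn)
  have hWnS : W ≤ nSub W R (autFun x₂) := by
    intro w hw
    obtain ⟨v, hv, hve⟩ := hP₀mem (hx₂P _ ((conjAut_range W R).le ⟨⟨w, hWnR hw⟩, rfl⟩ :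
      conjAut W R ⟨w, hWnR hw⟩ ∈ P₀))
    refine mem_nSub.2 ⟨hw, (hWnR hw).2, v, hv, fun x hx => ?_⟩
    have h1 := hve _ (autFun_mem x₂ hx)
    rw [autFun_mul, autFun_mul, autFun_inv_apply, conjAut_apply (K := W) ⟨w, hWnR hw⟩ hx] at h1
    exact h1
  have hθW := hθ.restrict hWnS
  obtain ⟨κ₀, hκ₀, hκ₀e⟩ := hθW.exists_aut
    (eq_of_le_card (img_le fun x hx => hθW.mem hx) hθW.card_img.ge)
  obtain ⟨i', hi'c, hi'R⟩ := GoodExtension.exists_pow_coprime (p := p) hRW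
    (a := κ₀) (d := x₂) (fun x hx => by rw [hκ₀e x (hRW hx), hθe x hx]) hic
  set κ := κ₀ ^ i' with hκdef
  have hκm : IsMap F W (autFun κ) :=
    hF'F (isMap_of_mem_autGroup le_rfl (Subgroup.pow_mem _ hκ₀ i'))
  obtain ⟨γ₂, hγ₂, hγ₂e⟩ := (hmv.1 hx₂).2.1
  have hκ₁ : ∀ x ∈ W₁, autFun κ x ∈ W₁ := fun x hx => by
    rw [hi'R x (hW₁R hx), hγ₂e x hx]; exact autFun_mem _ hx
  have hκR : ∀ r ∈ R, r⁻¹ * autFun κ r ∈ W₁ := by
    intro r hr
    obtain ⟨z, hz, w, hw, rfl⟩ := coe_sup_of_normal (S := W) hWn₁ hCW₁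
      ((sup_comm W₁ (centralizerIn S W₁)).le hr)
    have hzW : z ∈ W := hCW₁ hz
    rw [autFun_isHom κ _ hzW _ (hW₁W hw), mul_inv_rev, mul_assoc, ← mul_assoc z⁻¹]
    refine W₁.mul_mem (W₁.inv_mem hw) (W₁.mul_mem ?_ (hκ₁ w hw))
    rw [hi'R z (hCR hz)]
    exact (hmv.1 hx₂).2.2 z hz
  have hcent : ∀ c ∈ W, autFun κ c * c⁻¹ ∈ W₁ := by
    intro c hcW
    set d := autFun κ c * c⁻¹ with hd
    have hdW : d ∈ W := W.mul_mem (autFun_mem _ hcW) (W.inv_mem hcW)
    have hdR : d ∈ R := by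
      have hmd : conjAut W R ⟨d, hWnR hdW⟩ ∈ Mv := by
        set cc := conjAut W R ⟨c, hWnR hcW⟩ with hcc
        have hccA : cc ∈ A := hconjA c hcW
        have hmem : x₂ * (cc * x₂⁻¹ * cc⁻¹) ∈ Mv :=
          mul_mem hx₂ (hMvn cc hccA _ (inv_mem hx₂))
        convert hmem using 1
        refine autFun_ext fun x hx => ?_
        have hx' : autFun cc⁻¹ x ∈ R := autFun_mem _ hx
        have hccv : autFun cc⁻¹ x = c⁻¹ * x * c :=
          GoodExtension.conjAut_inv_apply (K := W) ⟨c, hWnR hcW⟩ hx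
        rw [conjAut_apply (K := W) ⟨d, hWnR hdW⟩ hx, autFun_mul, autFun_mul, autFun_mul, hccv,
          conjAut_apply (K := W) ⟨c, hWnR hcW⟩ (autFun_mem _ (hccv ▸ hx'))]
        show d * x * d⁻¹ = autFun x₂ (c * autFun x₂⁻¹ (c⁻¹ * x * c) * c⁻¹)
        have hz : autFun x₂⁻¹ (c⁻¹ * x * c) ∈ R := autFun_mem _ (hccv ▸ hx')
        rw [← hi'R _ ((Subgroup.mem_normalizer_iff.1 (hWnR hcW).2 _).1 hz),
          (autFun_isHom κ).map_conj hcW (hRW hz), hi'R _ hz, autFun_apply_inv, hd]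
        group
      obtain ⟨-, ⟨γd, hγd, hγde⟩, -⟩ := hmv.1 hmd
      have hde : ∀ x ∈ W₁, autFun γd x = cj d x := fun x hx => by
        rw [← hγde x hx, conjAut_apply (K := W) ⟨d, hWnR hdW⟩ (hW₁R hx)]
      obtain ⟨k, hk⟩ := hS ⟨d, hWS hdW⟩
      have hpow : ∀ m : ℕ, ∀ x ∈ W₁, autFun (γd ^ m) x = cj (d ^ m) x := by
        intro m
        induction m with
        | zero => intro x _; rw [pow_zero, autFun_one, pow_zero, cj_one]
        | succ m ih =>
          intro x hx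
          rw [pow_succ', autFun_mul, hde _ (autFun_mem _ hx), ih x hx, pow_succ']
          exact (cj_mul d _ x).symm
      have hγdk : γd ^ p ^ k = 1 := autFun_ext fun x hx => by
        rw [hpow _ x hx, show d ^ p ^ k = 1 from congrArg Subtype.val hk, cj_one, autFun_one]
      have hγd' : γd ∈ M'.autGroup W₁ := by
        refine (mem_autGroup_iff le_rfl).2 ((isMap_k hM').2
          ⟨(hkn hTS).ge, fun x hx => (hkn hTS).ge (autFun_mem _ hx), autFun γd, ?_,
            fun _ _ => rfl, ?_⟩)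
        · rw [sup_eq_left.2 hQW₁]
          exact isMap_of_mem_autGroup hW₁T hγd
        · obtain ⟨y, hy, hye⟩ := hdW.2
          exact ⟨y, hYK hy, fun x hx => by rw [hde x (hQW₁ hx), hye x hx]⟩
      obtain ⟨w, hw, hwe⟩ := inner_of_pElement_top (hS.to_le hW₁S) hM's hγd' hγdk
      have hz : w⁻¹ * d ∈ centralizerIn S W₁ := by
        refine ⟨S.mul_mem (S.inv_mem (hW₁S hw)) (hWS hdW), fun x hx => ?_⟩
        have h1 : w * x * w⁻¹ = d * x * d⁻¹ := (hwe x hx).symm.trans (hde x hx)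
        calc x * (w⁻¹ * d) = w⁻¹ * (w * x * w⁻¹) * d := by group
          _ = w⁻¹ * (d * x * d⁻¹) * d := by rw [h1]
          _ = w⁻¹ * d * x := by group
      have := R.mul_mem (hW₁R hw) (hCR hz)
      rwa [mul_inv_cancel_left] at this
    have hd1 : d⁻¹ * autFun κ d ∈ W₁ := hκR d hdR
    have hiter : ∀ m : ℕ, autFun (κ ^ m) c * (d ^ m * c)⁻¹ ∈ W₁ := by
      intro m
      induction m with
      | zero => rw [pow_zero, autFun_one, pow_zero, one_mul, id, mul_inv_cancel]; exact W₁.one_mem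
      | succ m ih =>
        set e := autFun (κ ^ m) c * (d ^ m * c)⁻¹ with he
        have hdm : d ^ m ∈ W := W.pow_mem hdW m
        have hdR' : d ^ m ∈ R := R.pow_mem hdR m
        have h1 : autFun (κ ^ (m + 1)) c = autFun κ e * (autFun κ (d ^ m) * (d * c)) := by
          rw [pow_succ', autFun_mul, show autFun (κ ^ m) c = e * (d ^ m * c) by
              rw [he, inv_mul_cancel_right],
            autFun_isHom κ _ (hW₁W ih) _ (W.mul_mem hdm hcW), autFun_isHom κ _ hdm _ hcW]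
          congr 2
          rw [hd, inv_mul_cancel_right]
        rw [h1, pow_succ]
        have h2 : autFun κ e * (autFun κ (d ^ m) * (d * c)) * (d ^ m * d * c)⁻¹ =
            autFun κ e * (d ^ m * ((d ^ m)⁻¹ * autFun κ (d ^ m)) * (d ^ m)⁻¹) := by group
        rw [h2]
        exact W₁.mul_mem (hκ₁ e ih)
          ((Subgroup.mem_normalizer_iff.1 (hWn₁ hdm) _).1 (hκR _ hdR'))
    have hord := hiter (orderOf κ)
    rw [pow_orderOf_eq_one, autFun_one, id, mul_inv_rev, mul_inv_cancel_left] at hord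
    obtain ⟨k, hk⟩ := hS ⟨d, hWS hdW⟩
    refine GoodExtension.mem_of_pow_mem (hi'c.pow_right k) ?_
      (by rw [show d ^ p ^ k = 1 from congrArg Subtype.val hk]; exact W₁.one_mem)
    simpa using W₁.inv_mem hord
  refine ⟨autFun κ, hκm, fun x hx => by rw [hi'R x (hQR hx), hiQ x hx],
    fun w hw => autFun_mem _ hw, fun w hw => hW₁T (hcent w hw)⟩

end Cfsg.Agent.Fusion.MeetTwist
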