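/-
For normal subsystems `M`, `N` over `T₁`, `T₂`: the automorphism groups of the subgroups of
`T₁ ∩ T₂` which will make up the intersection of `M` and `N`.
-/
import Mathlib
import Cfsg.Agent.Lib.Fusion.MeetTwist
import Cfsg.Agent.Lib.Fusion.Focal

set_option autoImplicit false
set_option linter.all false

namespace Cfsg.Agent.Fusion.MeetAut

open Cfsg Cfsg.FusionSystem Cfsg.Agent.Fusion.Basic Cfsg.Agent.Fusion.Saturation
  Cfsg.Agent.Fusion.Normal Cfsg.Agent.Fusion.Factor Cfsg.Agent.Fusion.Subsystems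
  Cfsg.Agent.Fusion.KNormalizer Cfsg.Agent.Fusion.SylIn

variable {Ω : Type*} [Group Ω] {S T₁ T₂ : Subgroup Ω}

/-- Two normal subsystems of a saturated system. -/
structure Pair (F : FusionSystem S) (M : FusionSystem T₁) (N : FusionSystem T₂) (p : ℕ) : Prop where
  pg : IsPGroup p S
  sat : F.IsSaturated p
  left : M.IsNormalIn F p
  right : N.IsNormalIn F p

/-- The generators of the automizer of `P` in the intersection. -/
def gens (F : FusionSystem S) (M : FusionSystem T₁) (N : FusionSystem T₂) (p : ℕ)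
    (P : Subgroup Ω) : Set (MulAut P) :=
  {a | (a ∈ M.autGroup P ∧ a ∈ N.autGroup P) ∧ (orderOf a).Coprime p} ∪
  {a | ∃ g, IsMap F P g ∧ ∃ v ∈ normalizerIn (T₁ ⊓ T₂) (img g P),
    ∀ x ∈ P, g (autFun a x) = cj v (g x)}

/-- The automizer of `P` in the intersection. -/
def B (F : FusionSystem S) (M : FusionSystem T₁) (N : FusionSystem T₂) (p : ℕ)
    (P : Subgroup Ω) : Subgroup (MulAut P) := Subgroup.closure (gens F M N p P)

variable {F : FusionSystem S} {M : FusionSystem T₁} {N : FusionSystem T₂} {p : ℕ}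
  [Finite S] [Fact p.Prime] (h : Pair F M N p) {P Q X : Subgroup Ω} {g : Ω → Ω}
include h

theorem T₁_le : T₁ ≤ S := h.left.1.2.2.2.1.1

theorem T₂_le : T₂ ≤ S := h.right.1.2.2.2.1.1

theorem V_le : T₁ ⊓ T₂ ≤ S := inf_le_left.trans (T₁_le h)

theorem closed₁ : F.StronglyClosed T₁ := h.left.1.2.2.2.1

theorem closed₂ : F.StronglyClosed T₂ := h.right.1.2.2.2.1

theorem img_le_V (hg : IsMap F X g) (hPX : P ≤ X) (hP : P ≤ T₁ ⊓ T₂) : img g P ≤ T₁ ⊓ T₂ :=
  img_le fun x hx => ⟨stronglyClosed_mem (closed₁ h) hg (hPX hx) (hP hx).1,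
    stronglyClosed_mem (closed₂ h) hg (hPX hx) (hP hx).2⟩

theorem mem_V (hg : IsMap F X g) {v : Ω} (hvX : v ∈ X) (hv : v ∈ T₁ ⊓ T₂) : g v ∈ T₁ ⊓ T₂ :=
  ⟨stronglyClosed_mem (closed₁ h) hg hvX hv.1, stronglyClosed_mem (closed₂ h) hg hvX hv.2⟩

theorem autM_le (hP : P ≤ T₁) : M.autGroup P ≤ F.autGroup P := fun a ha =>
  (mem_autGroup_iff (hP.trans (T₁_le h))).2
    (isMap_of_subset h.left.1.2.2.1 (isMap_of_mem_autGroup hP ha))

theorem gens_le (hP : P ≤ T₁ ⊓ T₂) {a : MulAut P} (ha : a ∈ gens F M N p P) :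
    a ∈ M.autGroup P ∧ a ∈ N.autGroup P := by
  rcases ha with ha | ⟨g, hg, v, hv, he⟩
  · exact ha.1
  obtain ⟨i, hi, hiimg, hig, -⟩ := hg.exists_inv
  have hP' := img_le_V h hg le_rfl hP
  have hconj : ∀ {T : Subgroup Ω} (D : FusionSystem T), D.IsInvariantIn F → v ∈ T →
      img g P ≤ T → P ≤ T → a ∈ D.autGroup P := by
    intro T D hD hvT hPT hPT'
    have hm : IsMap D (img g P) (cj v) := isMap_cj hPT hvT
    have hmaps : ∀ x ∈ img g P, cj v x ∈ img g P :=
      fun x hx => (Subgroup.mem_normalizer_iff.1 hv.2 x).1 hx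
    obtain ⟨χ, hχ, hχe⟩ := InvariantCriterion.strong_of_invariant hD _ _ (cj v) i le_rfl hPT hm
      hmaps hi
    rw [hiimg] at hχ
    refine (mem_autGroup_iff hPT').2 (hχ.congr fun x hx => ?_)
    have h1 := hχe _ (mem_img_self g hx)
    rwa [hig x hx, ← he x hx, hig _ (autFun_mem a hx)] at h1
  exact ⟨hconj M h.left.1.2.2 hv.1.1 (hP'.trans inf_le_left) (hP.trans inf_le_left),
    hconj N h.right.1.2.2 hv.1.2 (hP'.trans inf_le_right) (hP.trans inf_le_right)⟩

theorem B_le (hP : P ≤ T₁ ⊓ T₂) : B F M N p P ≤ M.autGroup P ⊓ N.autGroup P :=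
  (Subgroup.closure_le _).2 fun _ ha => gens_le h hP ha

theorem B_le_F (hP : P ≤ T₁ ⊓ T₂) : B F M N p P ≤ F.autGroup P :=
  (B_le h hP).trans (inf_le_left.trans (autM_le h (hP.trans inf_le_left)))

/-- The automizers are carried along by the maps of `F`. -/
theorem transport (hP : P ≤ T₁ ⊓ T₂) (hg : IsMap F P g) {a : MulAut P} (ha : a ∈ B F M N p P) :
    ∃ a' ∈ B F M N p (img g P), ∀ x ∈ P, autFun a' (g x) = g (autFun a x) := by
  have hP' := img_le_V h hg le_rfl hP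
  have : Finite (img g P) := finite_of_le hg.img_le_S
  obtain ⟨e, he⟩ := hg.exists_autEquiv
  have hBF := B_le_F h hP
  suffices hall : ∀ b (hb : b ∈ B F M N p P),
      ((e ⟨b, hBF hb⟩ : F.autGroup (img g P)) : MulAut (img g P : Subgroup Ω)) ∈
        B F M N p (img g P) from ⟨_, hall a ha, he ⟨a, hBF ha⟩⟩
  intro b hb
  induction hb using Subgroup.closure_induction with
  | mem b hb =>
    refine Subgroup.subset_closure ?_
    set b' := e ⟨b, hBF (Subgroup.subset_closure hb)⟩ with hb'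
    have hbe := he ⟨b, hBF (Subgroup.subset_closure hb)⟩
    rcases hb with ⟨hbA, hbc⟩ | ⟨k, hk, v, hv, hke⟩
    · refine Or.inl ⟨?_, ?_⟩
      · have hcase : ∀ {T : Subgroup Ω} (D : FusionSystem T), D.IsInvariantIn F → P ≤ T →
            img g P ≤ T → b ∈ D.autGroup P →
            (b' : MulAut (img g P : Subgroup Ω)) ∈ D.autGroup (img g P) := by
          intro T D hD hPT hPT' hbD
          obtain ⟨χ, hχ, hχe⟩ := InvariantCriterion.strong_of_invariant hD P P _ g le_rfl hPT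
            (isMap_of_mem_autGroup hPT hbD) (fun x hx => autFun_mem _ hx) hg
          refine (mem_autGroup_iff hPT').2 (hχ.congr fun y hy => ?_)
          obtain ⟨x, hx, rfl⟩ := hg.mem_img.1 hy
          rw [hχe x hx]
          exact (hbe x hx).symm
        exact ⟨hcase M h.left.1.2.2 (hP.trans inf_le_left) (hP'.trans inf_le_left) hbA.1,
          hcase N h.right.1.2.2 (hP.trans inf_le_right) (hP'.trans inf_le_right) hbA.2⟩
      · rw [Subgroup.orderOf_coe, MulEquiv.orderOf_eq, Subgroup.orderOf_mk]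
        exact hbc
    · obtain ⟨i, hi, hiimg, hig, -⟩ := hg.exists_inv
      have hki : IsMap F (img g P) fun y => k (i y) :=
        hk.comp hi fun y hy => hiimg.le (mem_img_self i hy)
      refine Or.inr ⟨fun y => k (i y), hki, v, ?_, fun y hy => ?_⟩
      · rwa [← hi.img_img k, hiimg]
      · obtain ⟨x, hx, rfl⟩ := hg.mem_img.1 hy
        show k (i (autFun _ (g x))) = cj v (k (i (g x)))
        rw [hbe x hx, hig _ (autFun_mem _ hx), hig x hx, hke x hx]
  | one =>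
    rw [show (⟨1, hBF (one_mem _)⟩ : F.autGroup P) = 1 from rfl, map_one]
    exact one_mem _
  | mul b c hb hc ihb ihc =>
    rw [show (⟨b * c, hBF (mul_mem hb hc)⟩ : F.autGroup P) = ⟨b, hBF hb⟩ * ⟨c, hBF hc⟩ from rfl,
      map_mul]
    exact mul_mem ihb ihc
  | inv b hb ihb =>
    rw [show (⟨b⁻¹, hBF (inv_mem hb)⟩ : F.autGroup P) = ⟨b, hBF hb⟩⁻¹ from rfl, map_inv]
    exact inv_mem ihb

/-- The automizer is normal in `Aut_F(P)`. -/
theorem conj_mem (hP : P ≤ T₁ ⊓ T₂) {a b : MulAut P} (ha : a ∈ F.autGroup P)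
    (hb : b ∈ B F M N p P) : a * b * a⁻¹ ∈ B F M N p P := by
  have hm := isMap_of_mem_autGroup (hP.trans (V_le h)) ha
  have key : ∀ (Q : Subgroup Ω), img (autFun a) P = Q → Q = P →
      ∃ c ∈ B F M N p P, ∀ x ∈ P, autFun c (autFun a x) = autFun a (autFun b x) := by
    rintro _ rfl hQ
    obtain ⟨c, hc, hce⟩ := transport h hP hm hb
    revert c
    rw [hQ]
    exact fun c hc hce => ⟨c, hc, hce⟩
  obtain ⟨c, hc, hce⟩ := key P (autFun_img a) rfl
  have : a * b * a⁻¹ = c := by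
    refine autFun_ext fun x hx => ?_
    have h1 := hce _ (autFun_mem a⁻¹ hx)
    rw [autFun_apply_inv] at h1
    rw [autFun_mul, autFun_mul, h1]
  rwa [this]

/-- `Aut_S(Q)` meets the common automorphisms of a fully normalized subgroup in a Sylow subgroup. -/
theorem common (hQ : Q ≤ T₁ ⊓ T₂) (hQn : F.IsFullyNormalized Q) :
    M.autGroup Q ⊓ N.autGroup Q ≤ F.autGroup Q ∧
      (∀ a ∈ F.autGroup Q, ∀ b ∈ M.autGroup Q ⊓ N.autGroup Q,
        a * b * a⁻¹ ∈ M.autGroup Q ⊓ N.autGroup Q) ∧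
      SylIn p (autInducedBy S Q ⊓ (M.autGroup Q ⊓ N.autGroup Q))
        (M.autGroup Q ⊓ N.autGroup Q) := by
  have hfinQ : Finite Q := finite_of_le hQn.1
  have hAF : M.autGroup Q ⊓ N.autGroup Q ≤ F.autGroup Q :=
    inf_le_left.trans (autM_le h (hQ.trans inf_le_left))
  have h1 := InvariantCriterion.autGroup_conj (T₁_le h) h.left.1.2.2.1
    (InvariantCriterion.strong_of_invariant h.left.1.2.2) (hQ.trans inf_le_left)
  have h2 := InvariantCriterion.autGroup_conj (T₂_le h) h.right.1.2.2.1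
    (InvariantCriterion.strong_of_invariant h.right.1.2.2) (hQ.trans inf_le_right)
  have hconj : ∀ a ∈ F.autGroup Q, ∀ b ∈ M.autGroup Q ⊓ N.autGroup Q,
      a * b * a⁻¹ ∈ M.autGroup Q ⊓ N.autGroup Q := fun a ha b hb =>
    ⟨Subgroup.mem_subgroupOf.1 (h1.conj_mem ⟨b, hAF hb⟩ (Subgroup.mem_subgroupOf.2 hb.1) ⟨a, ha⟩),
      Subgroup.mem_subgroupOf.1 (h2.conj_mem ⟨b, hAF hb⟩ (Subgroup.mem_subgroupOf.2 hb.2) ⟨a, ha⟩)⟩
  refine ⟨hAF, hconj, ?_⟩
  have hsS : SylIn p (autInducedBy S Q) (F.autGroup Q) :=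
    ⟨autInducedBy_le hQn.1, isPGroup_autInducedBy h.pg,
      ((fullyAutomized_iff h.pg).1 (fullyNormalized_fullyAutomized h.pg h.sat hQn)).2⟩
  exact hsS.inf_normal hAF fun a ha => mem_normalizer_of_forall fun b hb => hconj a ha b hb

/-- The `p'`-part of the common automorphisms meets `Aut_S(Q)` inside `Aut_V(Q)`. -/
theorem residual_inf (hQ : Q ≤ T₁ ⊓ T₂) (hQn : F.IsFullyNormalized Q) {a : MulAut Q}
    (ha : a ∈ (pResidual p ↥(M.autGroup Q ⊓ N.autGroup Q)).map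
      (M.autGroup Q ⊓ N.autGroup Q).subtype) (haS : a ∈ autInducedBy S Q) :
    a ∈ autInducedBy (T₁ ⊓ T₂) Q := by
  classical
  have hQS : Q ≤ S := hQn.1
  have hfinQ : Finite Q := finite_of_le hQS
  have hfin₁ : Finite T₁ := finite_of_le (T₁_le h)
  have hfin₂ : Finite T₂ := finite_of_le (T₂_le h)
  set A := M.autGroup Q ⊓ N.autGroup Q with hAdef
  obtain ⟨-, -, hsylA⟩ := common h hQ hQn
  obtain ⟨R', hR'⟩ : ∃ R' : Sylow p A, (R' : Subgroup A) = (autInducedBy S Q ⊓ A).subgroupOf A :=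
    (sylIn_iff_exists inf_le_right).1 hsylA
  obtain ⟨a₀, ha₀, rfl⟩ := ha
  have hmem : a₀ ∈ (R' : Subgroup A) ⊓ pResidual p A := by
    refine ⟨?_, ha₀⟩
    rw [hR']
    exact Subgroup.mem_subgroupOf.2 ⟨haS, a₀.2⟩
  rw [← Focal.hyp_group R'] at hmem
  revert hmem
  suffices hsub : (groupFusionSystem (R' : Subgroup A)).hyperfocalSubgroup p ≤
      (autInducedBy (T₁ ⊓ T₂) Q).subgroupOf A from fun hmem =>
    Subgroup.mem_subgroupOf.1 (hsub hmem)
  refine Hyperfocal.hyp_le_of fun Z hZ α hα x hx => ?_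
  obtain ⟨-, -, b₀, hb₀⟩ := Group.isMap_group_iff.1 (isMap_of_mem_autGroup hZ α.2)
  obtain ⟨k, m, hdvd, hm, hk⟩ :=
    Hyperfocal.exists_exp (p := p) (n := orderOf b₀) (orderOf_pos b₀).ne' hα
  set b := b₀ ^ k with hbdef
  have hbc : (orderOf (b : MulAut Q)).Coprime p := by
    refine Nat.Coprime.coprime_dvd_left (orderOf_dvd_of_pow_eq_one ?_) hm
    rw [← Subgroup.coe_pow, hbdef, ← pow_mul, orderOf_dvd_iff_pow_eq_one.1 hdvd]
    rfl
  have hbα : ∀ z ∈ Z, autFun (α : MulAut Z) z = b * z * b⁻¹ := by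
    have hpow : ∀ n : ℕ, ∀ z ∈ Z, autFun ((α : MulAut Z) ^ n) z = cj (b₀ ^ n) z := by
      intro n
      induction n with
      | zero => intro z _; rw [pow_zero, autFun_one, pow_zero, cj_one]
      | succ n ih =>
        intro z hz
        rw [pow_succ', autFun_mul, hb₀ _ (autFun_mem _ hz), ih z hz, pow_succ', cj_mul]
    intro z hz
    have hαk : (α : MulAut Z) ^ k = α := by
      have : α ^ k = α := by rw [← pow_mod_orderOf, hk, pow_mod_orderOf, pow_one]
      exact congrArg Subtype.val this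
    rw [← hαk, hpow k z hz]
    rfl
  -- the subgroup normalized by `b`
  set Y := Z.map A.subtype ⊔ Inn Q with hYdef
  have hZR : ∀ z ∈ Z, (z : MulAut Q) ∈ autInducedBy S Q := fun z hz =>
    (Subgroup.mem_subgroupOf.1 (hR'.le (hZ hz))).1
  have hmemT : ∀ {T : Subgroup Ω} (D : FusionSystem T), D.IsNormalIn F p → Q ≤ T →
      ∀ z ∈ autInducedBy S Q, z ∈ D.autGroup Q → z ∈ autInducedBy T Q := by
    intro T D hD hQT z hzS hzD
    have hfinT : Finite T := finite_of_le hD.1.2.2.2.1.1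
    have hTp : IsPGroup p T := h.pg.to_le hD.1.2.2.2.1.1
    have hQD := fullyNormalized_of_subsystem h.pg h.sat hD.1.2.2.2.1 hD.1.2.2.1 hQT hQn
    have hs : SylIn p (autInducedBy T Q) (D.autGroup Q) :=
      ⟨autInducedBy_le hQT, isPGroup_autInducedBy hTp,
        ((fullyAutomized_iff hTp).1 (fullyNormalized_fullyAutomized hTp hD.1.1 hQD)).2⟩
    have := hs.eq_of_le (M := autInducedBy S Q ⊓ D.autGroup Q)
      (le_inf (fun a ha => by
        obtain ⟨v, hv, hve⟩ := mem_autInducedBy_iff'.1 ha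
        exact mem_autInducedBy_iff'.2 ⟨v, ⟨hD.1.2.2.2.1.1 hv.1, hv.2⟩, hve⟩)
        (autInducedBy_le hQT))
      inf_le_right ((isPGroup_autInducedBy h.pg).to_le inf_le_left)
    exact this.ge ⟨hzS, hzD⟩
  have hY₁ : Y ≤ autInducedBy T₁ Q := by
    refine sup_le ?_ (inn_le_autInducedBy (hQ.trans inf_le_left))
    rintro _ ⟨z, hz, rfl⟩
    exact hmemT M h.left (hQ.trans inf_le_left) _ (hZR z hz) z.2.1
  have hY₂ : Y ≤ autInducedBy T₂ Q := by
    refine sup_le ?_ (inn_le_autInducedBy (hQ.trans inf_le_right))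
    rintro _ ⟨z, hz, rfl⟩
    exact hmemT N h.right (hQ.trans inf_le_right) _ (hZR z hz) z.2.2
  have hbY : ∀ y ∈ Y, (b : MulAut Q) * y * (b : MulAut Q)⁻¹ ∈ Y := by
    have hle : Y ≤ Y.comap (MulAut.conj (b : MulAut Q)).toMonoidHom := by
      refine sup_le ?_ fun a ha => Subgroup.mem_sup_right ?_
      · rintro _ ⟨z, hz, rfl⟩
        refine Subgroup.mem_sup_left ⟨autFun (α : MulAut Z) z, autFun_mem _ hz, ?_⟩
        rw [hbα z hz]
        rfl
      · obtain ⟨w, hw, hwe⟩ := mem_inn_iff.1 ha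
        refine mem_inn_iff.2 ⟨autFun (b : MulAut Q) w, autFun_mem _ hw, fun x hx => ?_⟩
        show autFun ((b : MulAut Q) * a * (b : MulAut Q)⁻¹) x = _
        rw [autFun_mul, autFun_mul, hwe _ (autFun_mem _ hx), cj_apply,
          (autFun_isHom (b : MulAut Q)).map_conj hw (autFun_mem _ hx), autFun_apply_inv]
        rfl
    exact fun y hy => hle hy
  obtain ⟨f, hf, hfe, hfW, hfT⟩ := MeetTwist.exists_twist h.pg h.sat h.left
    (hQ.trans inf_le_left) hQn (fun y hy => by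
      obtain ⟨g, hg, hge⟩ := mem_autInducedBy_iff'.1 (hY₁ hy)
      exact mem_autInducedBy_iff'.2 ⟨g, ⟨T₁_le h hg.1, hg.2⟩, hge⟩) le_sup_right (show (b : MulAut Q) ∈ M.autGroup Q from b.2.1)
    hbc hbY
  have hcomm : ∀ y ∈ Y, (b : MulAut Q) * y * (b : MulAut Q)⁻¹ * y⁻¹ ∈
      autInducedBy (T₁ ⊓ T₂) Q := by
    intro y hy
    obtain ⟨t, ht, hte⟩ := mem_autInducedBy_iff'.1 (hY₂ hy)
    have htW : t ∈ kNorm S Y := ⟨T₂_le h ht.1, y, hy, fun x hx => (hte x hx).symm⟩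
    have hQW : Q ≤ kNorm S Y := fun q hq => by
      refine ⟨hQS hq, MulAut.conj (⟨q, hq⟩ : Q), Subgroup.mem_sup_right ⟨⟨q, hq⟩, rfl⟩,
        fun x hx => ?_⟩
      rw [autFun_of_mem _ hx]
      rfl
    have hfN : f t ∈ normalizerIn S Q := kNorm_le (hfW t htW)
    have htN : t ∈ normalizerIn S Q := kNorm_le htW
    refine mem_autInducedBy_iff'.2 ⟨f t * t⁻¹,
      ⟨⟨hfT t htW, T₂.mul_mem (stronglyClosed_mem (closed₂ h) hf htW ht.1) (T₂.inv_mem ht.1)⟩,
        Subgroup.mul_mem _ hfN.2 (Subgroup.inv_mem _ htN.2)⟩, fun x hx => ?_⟩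
    have h1 : autFun y⁻¹ x = cj t⁻¹ x := by
      have hx' : cj t⁻¹ x ∈ Q :=
        (Subgroup.mem_normalizer_iff.1 (Subgroup.inv_mem _ htN.2) x).1 hx
      conv_lhs => rw [← cj_cj_inv t x, ← hte _ hx', autFun_inv_apply]
    have hu : cj t⁻¹ x ∈ Q :=
      (Subgroup.mem_normalizer_iff.1 (Subgroup.inv_mem _ htN.2) x).1 hx
    have hu' : autFun (b : MulAut Q)⁻¹ (cj t⁻¹ x) ∈ Q := autFun_mem _ hu
    rw [autFun_mul, autFun_mul, autFun_mul, h1, hte _ hu', cj_apply t,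
      ← hfe _ ((Subgroup.mem_normalizer_iff.1 htN.2 _).1 hu'),
      hf.map_conj htW (hQW hu'), hfe _ hu', autFun_apply_inv, cj_mul, cj_apply]
    rfl
  refine Subgroup.mem_subgroupOf.2 ?_
  have h1 := hcomm _ (Subgroup.mem_sup_left ⟨x⁻¹, Z.inv_mem hx, rfl⟩ :
    (A.subtype x⁻¹) ∈ Y)
  rw [hbα x hx]
  have h2 := inv_mem h1
  convert h2 using 1
  simp [mul_assoc, mul_inv_rev]

set_option maxHeartbeats 800000 in
/-- At a fully normalized subgroup the automizer meets `Aut_S(Q)` inside `Aut_V(Q)`. -/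
theorem B_inf (hQ : Q ≤ T₁ ⊓ T₂) (hQn : F.IsFullyNormalized Q) {a : MulAut Q}
    (ha : a ∈ B F M N p Q) (haS : a ∈ autInducedBy S Q) : a ∈ autInducedBy (T₁ ⊓ T₂) Q := by
  have hQS : Q ≤ S := hQn.1
  have hfinQ : Finite Q := finite_of_le hQS
  set A := M.autGroup Q ⊓ N.autGroup Q with hAdef
  set O := (pResidual p A).map A.subtype with hOdef
  set AV := autInducedBy (T₁ ⊓ T₂) Q with hAV
  have hOA : O ≤ A := Subgroup.map_subtype_le _
  have hAVA : AV ≤ A := fun c hc => by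
    obtain ⟨v, hv, hve⟩ := mem_autInducedBy_iff'.1 hc
    refine B_le h hQ (Subgroup.subset_closure (Or.inr ⟨id, isMap_id hQS, v, ?_, hve⟩))
    rwa [img_id]
  have hAVS : AV ≤ autInducedBy S Q := fun c hc => by
    obtain ⟨v, hv, hve⟩ := mem_autInducedBy_iff'.1 hc
    exact mem_autInducedBy_iff'.2 ⟨v, ⟨V_le h hv.1, hv.2⟩, hve⟩
  have hOn : ∀ x ∈ A, ∀ o ∈ O, x * o * x⁻¹ ∈ O := by
    rintro x hx _ ⟨o, ho, rfl⟩
    exact ⟨⟨x, hx⟩ * o * ⟨x, hx⟩⁻¹,
      Subgroup.Normal.conj_mem inferInstance o ho _, rfl⟩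
  set B₀ := O ⊔ AV with hB₀
  have hB₀A : B₀ ≤ A := sup_le hOA hAVA
  have hAVn : ∀ s ∈ autInducedBy S Q, ∀ c ∈ AV, s * c * s⁻¹ ∈ AV := by
    intro s hs c hc
    obtain ⟨u, hu, hue⟩ := mem_autInducedBy_iff'.1 hs
    obtain ⟨v, hv, hve⟩ := mem_autInducedBy_iff'.1 hc
    have hun₁ := le_normalizer_of_stronglyClosed (closed₁ h) hu.1
    have hun₂ := le_normalizer_of_stronglyClosed (closed₂ h) hu.1
    refine mem_autInducedBy_iff'.2 ⟨u * v * u⁻¹,
      ⟨⟨(Subgroup.mem_normalizer_iff.1 hun₁ v).1 hv.1.1,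
        (Subgroup.mem_normalizer_iff.1 hun₂ v).1 hv.1.2⟩,
        Subgroup.mul_mem _ (Subgroup.mul_mem _ hu.2 hv.2) (Subgroup.inv_mem _ hu.2)⟩,
      fun x hx => ?_⟩
    have hx' : autFun s⁻¹ x ∈ Q := autFun_mem _ hx
    have e : cj u (autFun s⁻¹ x) = x := by rw [← hue _ hx', autFun_apply_inv]
    have h5 : autFun s (cj v (autFun s⁻¹ x)) = cj u (cj v (autFun s⁻¹ x)) :=
      hue _ ((Subgroup.mem_normalizer_iff.1 hv.2 _).1 hx')
    rw [autFun_mul, autFun_mul, hve _ hx', h5, cj_mul, cj_mul]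
    conv_rhs => rw [← e, cj_inv_cj]
  -- `B₀` contains all generators
  have hgen : ∀ c ∈ gens F M N p Q, c ∈ B₀ := by
    rintro c (⟨hcA, hcc⟩ | ⟨g, hg, v, hv, hgv⟩)
    · exact Subgroup.mem_sup_left ⟨⟨c, hcA⟩,
        Subgroup.subset_closure (show (orderOf (⟨c, hcA⟩ : A)).Coprime p by
          rw [← Subgroup.orderOf_coe]; exact hcc), rfl⟩
    have hP' := img_le_V h hg le_rfl hQ
    obtain ⟨k, hk, hkQ⟩ := exists_map_to_fullyNormalized h.pg h.sat hQn (isConj_symm hg.isConj)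
    have hvN : v ∈ normalizerIn S (img g Q) := ⟨V_le h hv.1, hv.2⟩
    have hgN : ∀ x ∈ Q, g x ∈ normalizerIn S (img g Q) := fun x hx =>
      le_normalizerIn hg.img_le_S (mem_img_self g hx)
    have hkg : IsMap F Q fun x => k (g x) := hk.comp hg hgN
    obtain ⟨d, hd, hde⟩ := hkg.exists_aut (by rw [← hg.img_img k, hkQ])
    have hkvN : k v ∈ normalizerIn (T₁ ⊓ T₂) Q := by
      refine ⟨mem_V h hk hvN hv.1, ?_⟩
      have := hk.mem_normalizer_img (le_normalizerIn hg.img_le_S) hvN hv.2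
      rwa [hkQ] at this
    have hkvS : k v ∈ normalizerIn S Q := ⟨V_le h hkvN.1, hkvN.2⟩
    set cv := conjAut (T₁ ⊓ T₂) Q ⟨k v, hkvN⟩ with hcv
    have hcvAV : cv ∈ AV := (conjAut_range (T₁ ⊓ T₂) Q).le ⟨_, rfl⟩
    have hc : c = d⁻¹ * cv * d := by
      refine autFun_ext fun x hx => ?_
      rw [autFun_mul, autFun_mul, hde x hx,
        conjAut_apply (K := T₁ ⊓ T₂) ⟨k v, hkvN⟩ (hkQ.le (mem_img_self k (mem_img_self g hx)))]
      show _ = autFun d⁻¹ (cj (k v) (k (g x)))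
      rw [cj_apply, ← hk.map_conj hvN (hgN x hx), ← cj_apply, ← hgv x hx,
        ← hde _ (autFun_mem c hx), autFun_inv_apply]
    -- Frattini
    obtain ⟨hAS, hAconj, hsylA⟩ := common h hQ hQn
    have hAn : (A.subgroupOf (F.autGroup Q)).Normal :=
      ⟨fun b hb e => Subgroup.mem_subgroupOf.2 (hAconj e e.2 b (Subgroup.mem_subgroupOf.1 hb))⟩
    have hSyl : SylIn p ((autInducedBy S Q).subgroupOf (F.autGroup Q)) ⊤ := by
      refine ⟨le_top, (isPGroup_autInducedBy h.pg).comap_of_injective _ Subtype.val_injective, ?_⟩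
      rw [Subgroup.relIndex_top_right]
      exact ((fullyAutomized_iff h.pg).1 (fullyNormalized_fullyAutomized h.pg h.sat hQn)).2
    obtain ⟨e, he, hηc⟩ := exists_frattini (K := A.subgroupOf (F.autGroup Q)) hSyl ⟨d, hd⟩⁻¹
    set η : MulAut Q := (e : MulAut Q) * d⁻¹ with hη
    have heA : (e : MulAut Q) ∈ A := Subgroup.mem_subgroupOf.1 he
    have hcvF : cv ∈ F.autGroup Q := hAS (hAVA hcvAV)
    have hconj : η * cv * η⁻¹ ∈ autInducedBy S Q :=
      Subgroup.mem_subgroupOf.1 (hηc ⟨cv, hcvF⟩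
        ⟨Subgroup.mem_subgroupOf.2 (hAVS hcvAV), Subgroup.mem_subgroupOf.2 (hAVA hcvAV)⟩)
    have hηF : η ∈ F.autGroup Q := mul_mem e.2 (inv_mem hd)
    have hηm := isMap_of_mem_autGroup hQS hηF
    obtain ⟨θ, hθ, hθe⟩ := exists_extension h.pg h.sat hηm
      (by rw [autFun_img]; exact fullyNormalized_fullyCentralized h.pg h.sat hQn)
    have hkvn : k v ∈ nSub S Q (autFun η) := by
      obtain ⟨u, hu, hue⟩ := mem_autInducedBy_iff'.1 hconj
      refine mem_nSub.2 ⟨hkvS.1, hkvS.2, u, hu.1, fun x hx => ?_⟩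
      have h1 := hue _ (autFun_mem η hx)
      rw [autFun_mul, autFun_mul, autFun_inv_apply,
        conjAut_apply (K := T₁ ⊓ T₂) ⟨k v, hkvN⟩ hx] at h1
      exact h1
    have hηcv : η * cv * η⁻¹ ∈ AV := by
      refine mem_autInducedBy_iff'.2 ⟨θ (k v), ⟨mem_V h hθ hkvn hkvN.1, ?_⟩, fun x hx => ?_⟩
      · have hQn' : Q ≤ nSub S Q (autFun η) := le_nSub hηm
        have := hθ.mem_normalizer_img hQn' hkvn hkvN.2
        rwa [img_congr hθe, autFun_img] at this
      · have hx' : autFun η⁻¹ x ∈ Q := autFun_mem _ hx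
        have hQn' : Q ≤ nSub S Q (autFun η) := le_nSub hηm
        have h5 : autFun η (cj (k v) (autFun η⁻¹ x)) = θ (cj (k v) (autFun η⁻¹ x)) :=
          (hθe _ ((Subgroup.mem_normalizer_iff.1 hkvN.2 _).1 hx')).symm
        rw [autFun_mul, autFun_mul, conjAut_apply (K := T₁ ⊓ T₂) ⟨k v, hkvN⟩ hx']
        show autFun η (cj (k v) (autFun η⁻¹ x)) = _
        rw [h5, cj_apply, hθ.map_conj hkvn (hQn' hx'), hθe _ hx', autFun_apply_inv]
        rfl
    -- conjugate back by an element of `A`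
    have hsup : A ≤ O ⊔ (autInducedBy S Q ⊓ A) := by
      intro x hx
      obtain ⟨R, hR⟩ : ∃ R : Sylow p A, (R : Subgroup A) = (autInducedBy S Q ⊓ A).subgroupOf A :=
        (sylIn_iff_exists inf_le_right).1 hsylA
      obtain ⟨s, hs, o, ho, e'⟩ := Subgroup.mem_sup_of_normal_right.1
        ((Cfsg.Agent.Cores.pResidual_le_sylow_sup R).ge (Subgroup.mem_top (⟨x, hx⟩ : A)))
      rw [hR] at hs
      have : x = (s : MulAut Q) * (o : MulAut Q) := congrArg Subtype.val e'.symm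
      rw [this]
      exact Subgroup.mul_mem _ (Subgroup.mem_sup_right (Subgroup.mem_subgroupOf.1 hs))
        (Subgroup.mem_sup_left ⟨o, ho, rfl⟩)
    have hnorm : O ⊔ (autInducedBy S Q ⊓ A) ≤ Subgroup.normalizer (B₀ : Set (MulAut Q)) := by
      refine sup_le ((le_sup_left : O ≤ B₀).trans Subgroup.le_normalizer) fun s hs => ?_
      refine mem_normalizer_of_forall fun b hb => ?_
      have hle : B₀ ≤ B₀.comap (MulAut.conj s).toMonoidHom := sup_le
        (fun o ho => Subgroup.mem_sup_left (hOn s hs.2 o ho))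
        fun c hc => Subgroup.mem_sup_right (hAVn s hs.1 c hc)
      exact hle hb
    have h2 := (Subgroup.mem_normalizer_iff.1 (hnorm (hsup (inv_mem heA))) _).1
      (Subgroup.mem_sup_right hηcv : η * cv * η⁻¹ ∈ B₀)
    convert h2 using 1
    rw [hc, hη]
    group
  have ha₀ : a ∈ B₀ := (Subgroup.closure_le _).2 hgen ha
  have hAVO : AV ≤ Subgroup.normalizer (O : Set (MulAut Q)) := fun c hc =>
    mem_normalizer_of_forall fun o ho => hOn c (hAVA hc) o ho
  obtain ⟨c, hc, o, ho, rfl⟩ :=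
    coe_sup_of_normal (S := AV) hAVO le_rfl ((sup_comm O AV).le ha₀)
  refine mul_mem hc (residual_inf h hQ hQn ho ?_)
  have := mul_mem (inv_mem (hAVS hc)) haS
  rwa [inv_mul_cancel_left] at this

theorem AV_le (hQ : Q ≤ T₁ ⊓ T₂) : autInducedBy (T₁ ⊓ T₂) Q ≤ B F M N p Q := fun c hc => by
  obtain ⟨v, hv, hve⟩ := mem_autInducedBy_iff'.1 hc
  refine Subgroup.subset_closure (Or.inr ⟨id, isMap_id (hQ.trans (V_le h)), v, ?_, hve⟩)
  rwa [img_id]

/-- `Aut_V(Q)` is a Sylow subgroup of the automizer of a fully normalized `Q`. -/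
theorem sylow (hQ : Q ≤ T₁ ⊓ T₂) (hQn : F.IsFullyNormalized Q) :
    SylIn p (autInducedBy (T₁ ⊓ T₂) Q) (B F M N p Q) := by
  have hfinQ : Finite Q := finite_of_le hQn.1
  have hn : (B F M N p Q).subgroupOf (F.autGroup Q) |>.Normal :=
    ⟨fun b hb a => Subgroup.mem_subgroupOf.2 (conj_mem h hQ a.2 (Subgroup.mem_subgroupOf.1 hb))⟩
  have hsS : SylIn p (autInducedBy S Q) (F.autGroup Q) :=
    ⟨autInducedBy_le hQn.1, isPGroup_autInducedBy h.pg,
      ((fullyAutomized_iff h.pg).1 (fullyNormalized_fullyAutomized h.pg h.sat hQn)).2⟩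
  have h1 := hsS.inf_normal (N := B F M N p Q) (B_le_F h hQ)
    (Subgroup.normal_subgroupOf_iff_le_normalizer (B_le_F h hQ) |>.1 hn)
  refine ⟨AV_le h hQ, (isPGroup_autInducedBy h.pg).to_le ?_, fun hdvd => h1.2.2 ?_⟩
  · intro c hc
    obtain ⟨v, hv, hve⟩ := mem_autInducedBy_iff'.1 hc
    exact mem_autInducedBy_iff'.2 ⟨v, ⟨V_le h hv.1, hv.2⟩, hve⟩
  · have e : autInducedBy S Q ⊓ B F M N p Q = autInducedBy (T₁ ⊓ T₂) Q := by
      refine le_antisymm (fun a ha => B_inf h hQ hQn ha.2 ha.1) (le_inf ?_ (AV_le h hQ))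
      intro c hc
      obtain ⟨v, hv, hve⟩ := mem_autInducedBy_iff'.1 hc
      exact mem_autInducedBy_iff'.2 ⟨v, ⟨V_le h hv.1, hv.2⟩, hve⟩
    rwa [e]

/-- Automorphisms of the automizer restrict to the automizer of a stabilized subgroup. -/
theorem restrict (hX : X ≤ T₁ ⊓ T₂) (hPX : P ≤ X) {a : MulAut X} (ha : a ∈ B F M N p X)
    (hst : ∀ x ∈ P, autFun a x ∈ P) :
    ∃ b ∈ B F M N p P, ∀ x ∈ P, autFun b x = autFun a x := by
  have hXS : X ≤ S := hX.trans (V_le h)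
  have hfinX : Finite X := finite_of_le hXS
  have hfinP : Finite P := finite_of_le (hPX.trans hXS)
  have hP := hPX.trans hX
  let L : Subgroup (MulAut X) :=
    let M₀ : Submonoid (MulAut X) :=
    { carrier := {c | (∀ x ∈ P, autFun c x ∈ P) ∧
        ∃ b ∈ B F M N p P, ∀ x ∈ P, autFun b x = autFun c x}
      one_mem' := ⟨fun x hx => by rw [autFun_one]; exact hx, 1, one_mem _,
        fun x _ => by rw [autFun_one, autFun_one]⟩
      mul_mem' := by
        rintro c d ⟨hc, b, hb, hbe⟩ ⟨hd, e, he, hee⟩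
        refine ⟨fun x hx => by rw [autFun_mul]; exact hc _ (hd x hx), b * e, mul_mem hb he,
          fun x hx => ?_⟩
        rw [autFun_mul, autFun_mul, hee x hx, hbe _ (hd x hx)] }
    { M₀ with
      inv_mem' := fun {c} hc => by
        have h1 : c⁻¹ = c ^ (orderOf c - 1) := by
          refine inv_eq_of_mul_eq_one_right ?_
          rw [← pow_succ', Nat.sub_add_cancel (orderOf_pos c), pow_orderOf_eq_one]
        rw [h1]
        exact M₀.pow_mem hc _ }
  suffices haL : a ∈ L from haL.2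
  have hstn : ∀ n : ℕ, ∀ x ∈ P, autFun (a ^ n) x ∈ P := by
    intro n
    induction n with
    | zero => intro x hx; rw [pow_zero, autFun_one]; exact hx
    | succ n ih => intro x hx; rw [pow_succ', autFun_mul]; exact hst _ (ih x hx)
  obtain ⟨e, m, hm, hem⟩ :=
    Nat.exists_eq_pow_mul_and_not_dvd (orderOf_pos a).ne' p (Fact.out : p.Prime).ne_one
  have hmc : m.Coprime p := ((Fact.out : p.Prime).coprime_iff_not_dvd.2 hm).symm
  refine GoodExtension.mem_of_pow_mem (W := L) (m := p ^ e) (n := m)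
    (Nat.Coprime.pow_left e hmc.symm) ⟨hstn _, ?_⟩ ⟨hstn _, ?_⟩
  · -- the part of order prime to `p`
    have hc : (orderOf (a ^ p ^ e)).Coprime p := by
      refine Nat.Coprime.coprime_dvd_left (orderOf_dvd_of_pow_eq_one ?_) hmc
      rw [← pow_mul, ← hem, pow_orderOf_eq_one]
    have hA := B_le h hX (pow_mem ha (p ^ e))
    have hres : ∀ {T : Subgroup Ω} (D : FusionSystem T), X ≤ T →
        a ^ p ^ e ∈ D.autGroup X → ∃ b ∈ D.autGroup P, ∀ x ∈ P,
          autFun b x = autFun (a ^ p ^ e) x := by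
      intro T D hXT hmem
      have hm := (isMap_of_mem_autGroup hXT hmem).restrict hPX
      exact hm.exists_aut (eq_of_le_card (img_le (hstn _)) hm.card_img.ge)
    obtain ⟨b, hb, hbe⟩ := hres M (hX.trans inf_le_left) hA.1
    obtain ⟨b', hb', hbe'⟩ := hres N (hX.trans inf_le_right) hA.2
    have : b = b' := autFun_ext fun x hx => by rw [hbe x hx, hbe' x hx]
    refine ⟨b, Subgroup.subset_closure (Or.inl ⟨⟨hb, this ▸ hb'⟩, ?_⟩), hbe⟩
    refine Nat.Coprime.coprime_dvd_left (orderOf_dvd_of_pow_eq_one ?_) hc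
    refine autFun_ext fun x hx => ?_
    rw [← GoodExtension.pow_agree hPX (fun y hy => (hbe y hy).symm) _ x hx,
      pow_orderOf_eq_one, autFun_one, autFun_one]
  · -- the part of `p`-power order
    obtain ⟨X', hX', hX'n⟩ := exists_fullyNormalized (F := F) hXS
    obtain ⟨k, hk, rfl⟩ := exists_map_to_fullyNormalized h.pg h.sat hX'n hX' |>.imp
      fun k hk => hk
    have hkX := hk.restrict (le_normalizerIn hXS)
    have hkV := img_le_V h hkX le_rfl hX
    have : Finite (img k X) := finite_of_le hkX.img_le_S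
    obtain ⟨a', ha', ha'e⟩ := transport h hX hkX (pow_mem ha m)
    have ha'p : a' ^ p ^ e = 1 := autFun_ext fun y hy => by
      obtain ⟨x, hx, rfl⟩ := hkX.mem_img.1 hy
      have hpow : ∀ n : ℕ, ∀ z ∈ X, autFun (a' ^ n) (k z) = k (autFun ((a ^ m) ^ n) z) := by
        intro n
        induction n with
        | zero => intro z _; rw [pow_zero, pow_zero, autFun_one, autFun_one]; rfl
        | succ n ih =>
          intro z hz
          rw [pow_succ', pow_succ', autFun_mul, autFun_mul, ih z hz, ha'e _ (autFun_mem _ hz)]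
      rw [hpow _ x hx, ← pow_mul, mul_comm m, ← hem, pow_orderOf_eq_one, autFun_one, autFun_one]
      rfl
    have hp' : IsPGroup p (Subgroup.zpowers a') := by
      rintro ⟨z, hz⟩
      obtain ⟨n, rfl⟩ := Subgroup.mem_zpowers_iff.1 hz
      refine ⟨e, Subtype.ext ?_⟩
      show (a' ^ n) ^ p ^ e = 1
      rw [← zpow_natCast, zpow_comm, zpow_natCast, ha'p, one_zpow]
    obtain ⟨b₀, hb₀, hb₀le⟩ :=
      (sylow h hkV hX'n).exists_conj (Subgroup.zpowers_le.2 ha') hp'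
    obtain ⟨v, hv, hve⟩ := mem_autInducedBy_iff'.1
      (hb₀le (mem_img_self (cj b₀) (Subgroup.mem_zpowers a')))
    have hb₀m := isMap_of_mem_autGroup hkX.img_le_S (B_le_F h hkV hb₀)
    have hg : IsMap F X fun x => autFun b₀ (k x) :=
      hb₀m.comp hkX fun x hx => mem_img_self k hx
    have hgP := hg.restrict hPX
    have hge : ∀ x ∈ X, autFun b₀ (k (autFun (a ^ m) x)) = cj v (autFun b₀ (k x)) := by
      intro x hx
      have h1 := hve _ (autFun_mem b₀ (mem_img_self k hx))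
      rw [cj_apply b₀, autFun_mul, autFun_mul, autFun_inv_apply, ha'e x hx] at h1
      exact h1
    obtain ⟨bP, hbP, hbPe⟩ : ∃ bP ∈ F.autGroup P, ∀ x ∈ P, autFun bP x = autFun (a ^ m) x := by
      have hm := (isMap_of_mem_autGroup hXS (B_le_F h hX (pow_mem ha m))).restrict hPX
      exact hm.exists_aut (eq_of_le_card (img_le (hstn m)) hm.card_img.ge)
    refine ⟨bP, Subgroup.subset_closure (Or.inr ⟨_, hgP, v, ⟨hv.1, ?_⟩, fun x hx => ?_⟩), hbPe⟩
    · have : Finite (img (fun x => autFun b₀ (k x)) P) := finite_of_le hgP.img_le_S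
      refine mem_normalizer_of_forall fun y hy => ?_
      obtain ⟨x, hx, rfl⟩ := hgP.mem_img.1 hy
      rw [← cj_apply, ← hge x (hPX hx)]
      exact mem_img_self (fun z => autFun b₀ (k z)) (hstn m x hx)
    · show autFun b₀ (k (autFun bP x)) = _
      rw [hbPe x hx, hge x (hPX hx)]

/-- An element of order prime to `p` normalizing automorphisms induced by `T₁ ∩ T₂` extends to the
automizer of their preimage. -/
theorem lift_coprime (hQ : Q ≤ T₁ ⊓ T₂) (hQn : F.IsFullyNormalized Q)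
    (hQc : centralizerIn (T₁ ⊓ T₂) Q ≤ Q) {Y : Subgroup (MulAut Q)}
    (hY : Y ≤ autInducedBy (T₁ ⊓ T₂) Q) (hInn : Inn Q ≤ Y) {β : MulAut Q}
    (hβ : β ∈ B F M N p Q) (hβc : (orderOf β).Coprime p)
    (hβY : ∀ y ∈ Y, β * y * β⁻¹ ∈ Y) :
    Q ≤ kNorm (T₁ ⊓ T₂) Y ∧
      ∃ e ∈ B F M N p (kNorm (T₁ ⊓ T₂) Y), ∀ x ∈ Q, autFun e x = autFun β x := by
  classical
  set V := T₁ ⊓ T₂ with hVdef
  set W := kNorm V Y with hWdef
  have hWV : W ≤ V := kNorm_le_S
  have hWS : W ≤ S := hWV.trans (V_le h)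
  have hfinW : Finite W := finite_of_le hWS
  have hfinQ : Finite Q := finite_of_le hQn.1
  have hQW : Q ≤ W := fun q hq => by
    refine ⟨hQ hq, MulAut.conj (⟨q, hq⟩ : Q), hInn ⟨⟨q, hq⟩, rfl⟩, fun x hx => ?_⟩
    rw [autFun_of_mem _ hx]
    rfl
  refine ⟨hQW, ?_⟩
  obtain ⟨hβM, hβN⟩ := B_le h hQ hβ
  have hlift : ∀ {T : Subgroup Ω} (D : FusionSystem T), D.IsNormalIn F p → V ≤ T →
      β ∈ D.autGroup Q → ∃ κ ∈ D.autGroup W,
        (orderOf κ).Coprime p ∧ ∀ x ∈ Q, autFun κ x = autFun β x := by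
    intro T D hD hVT hβD
    have hTsc := hD.1.2.2.2.1
    have hfinT : Finite T := finite_of_le hTsc.1
    have hTp : IsPGroup p T := h.pg.to_le hTsc.1
    have hQD := fullyNormalized_of_subsystem h.pg h.sat hTsc hD.1.2.2.1 (hQ.trans hVT) hQn
    obtain ⟨g, hg, hge⟩ := exists_extension hTp hD.1.1 (isMap_of_mem_autGroup (hQ.trans hVT) hβD)
      (by rw [autFun_img]; exact fullyNormalized_fullyCentralized hTp hD.1.1 hQD)
    have hle : W ≤ nSub T Q (autFun β) := by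
      intro w hw
      obtain ⟨hwV, y, hy, hye⟩ := hw
      obtain ⟨u, hu, hue⟩ := mem_autInducedBy_iff'.1 (hY (hβY y hy))
      refine mem_nSub.2 ⟨hVT hwV, (kNorm_le ⟨hwV, y, hy, hye⟩).2, u, hVT hu.1, fun x hx => ?_⟩
      have h1 := hue _ (autFun_mem β hx)
      rw [autFun_mul, autFun_mul, autFun_inv_apply, ← hye x hx] at h1
      exact h1
    have hgW := hg.restrict hle
    have himg : img g W = W := by
      refine eq_of_le_card (img_le fun w hw => ⟨mem_V h
        (isMap_of_subset hD.1.2.2.1 hgW) hw (hWV hw), ?_⟩) hgW.card_img.ge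
      obtain ⟨hwV, y, hy, hye⟩ := hw
      refine ⟨β * y * β⁻¹, hβY y hy, fun x hx => ?_⟩
      have hx' := autFun_mem β⁻¹ hx
      have hwn := (kNorm_le (⟨hwV, y, hy, hye⟩ : w ∈ kNorm V Y)).2
      have h1 := hgW.map_conj ⟨hwV, y, hy, hye⟩ (hQW hx')
      rw [hge _ hx', autFun_apply_inv, hge _ ((Subgroup.mem_normalizer_iff.1 hwn _).1 hx'),
        show w * autFun β⁻¹ x * w⁻¹ = autFun y (autFun β⁻¹ x) from hye _ hx'] at h1
      rw [autFun_mul, autFun_mul]
      exact h1.symm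
    obtain ⟨κ₀, hκ₀, hκ₀e⟩ := hgW.exists_aut himg
    obtain ⟨i, hic, hiQ⟩ := GoodExtension.exists_pow_coprime hQW
      (fun x hx => by rw [hκ₀e x (hQW hx), hge x hx]) hβc
    exact ⟨κ₀ ^ i, pow_mem hκ₀ i, hic, hiQ⟩
  obtain ⟨κM, hκM, hκMc, hκMe⟩ := hlift M h.left inf_le_left hβM
  obtain ⟨κN, hκN, hκNc, hκNe⟩ := hlift N h.right inf_le_right hβN
  refine ⟨κM, Subgroup.subset_closure (Or.inl ⟨⟨hκM, ?_⟩, hκMc⟩), hκMe⟩
  have hκMF : κM ∈ F.autGroup W := autM_le h (hWV.trans inf_le_left) hκM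
  have hκNF : κN ∈ F.autGroup W := (mem_autGroup_iff hWS).2
    (isMap_of_subset h.right.1.2.2.1 (isMap_of_mem_autGroup (hWV.trans inf_le_right) hκN))
  set δ := κN⁻¹ * κM with hδ
  have hδQ : ∀ x ∈ Q, autFun δ x = x := by
    intro x hx
    rw [hδ, autFun_mul, hκMe x hx, ← hκNe x hx, autFun_inv_apply]
  have hδW : ∀ w ∈ W, w⁻¹ * autFun δ w ∈ Q := by
    intro w hw
    refine hQc ⟨V.mul_mem (V.inv_mem (hWV hw)) (hWV (autFun_mem δ hw)), fun q hq => ?_⟩
    have hwn := (kNorm_le hw).2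
    have hq' : w * q * w⁻¹ ∈ Q := (Subgroup.mem_normalizer_iff.1 hwn q).1 hq
    have h1 := (autFun_isHom δ).map_conj hw (hQW hq)
    rw [hδQ _ hq', hδQ q hq] at h1
    calc q * (w⁻¹ * autFun δ w) = w⁻¹ * (w * q * w⁻¹) * autFun δ w := by group
      _ = w⁻¹ * (autFun δ w * q * (autFun δ w)⁻¹) * autFun δ w := by rw [← h1]
      _ = w⁻¹ * autFun δ w * q := by group
  obtain ⟨n, hn⟩ := IsPGroup.iff_card.1 (h.pg.to_le hQn.1)
  have hδp : δ ^ p ^ n = 1 := by
    have hpow : ∀ j : ℕ, ∀ w ∈ W, autFun (δ ^ j) w = w * (w⁻¹ * autFun δ w) ^ j := by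
      intro j
      induction j with
      | zero => intro w _; rw [pow_zero, pow_zero, autFun_one, mul_one]; rfl
      | succ j ih =>
        intro w hw
        have hz := hδW w hw
        rw [pow_succ', autFun_mul, ih w hw,
          autFun_isHom δ _ hw _ (hQW (Q.pow_mem hz j)), hδQ _ (Q.pow_mem hz j), pow_succ',
          ← mul_assoc w (w⁻¹ * autFun δ w), mul_inv_cancel_left]
    refine autFun_ext fun w hw => ?_
    rw [hpow _ w hw, autFun_one, id]
    have h1 : (⟨_, hδW w hw⟩ : Q) ^ p ^ n = 1 := hn ▸ pow_card_eq_one'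
    rw [show (w⁻¹ * autFun δ w) ^ p ^ n = 1 from congrArg Subtype.val h1, mul_one]
  have hN' := InvariantCriterion.autGroup_conj (T₂_le h) h.right.1.2.2.1
    (InvariantCriterion.strong_of_invariant h.right.1.2.2) (hWV.trans inf_le_right)
  let π := QuotientGroup.mk' ((N.autGroup W).subgroupOf (F.autGroup W))
  have hπ : π ⟨κM, hκMF⟩ = π ⟨δ, mul_mem (inv_mem hκNF) hκMF⟩ := by
    rw [show (⟨δ, mul_mem (inv_mem hκNF) hκMF⟩ : F.autGroup W) =
        ⟨κN, hκNF⟩⁻¹ * ⟨κM, hκMF⟩ from rfl, map_mul, map_inv,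
      show π ⟨κN, hκNF⟩ = 1 from (QuotientGroup.eq_one_iff _).2 (Subgroup.mem_subgroupOf.2 hκN),
      inv_one, one_mul]
  have h1 : orderOf (π ⟨κM, hκMF⟩) ∣ orderOf κM := by
    refine (orderOf_map_dvd π _).trans ?_
    rw [Subgroup.orderOf_mk]
  have h2 : orderOf (π ⟨κM, hκMF⟩) ∣ p ^ n := by
    refine orderOf_dvd_of_pow_eq_one ?_
    rw [hπ, ← map_pow, show (⟨δ, mul_mem (inv_mem hκNF) hκMF⟩ : F.autGroup W) ^ p ^ n = 1 from
      Subtype.ext (by rw [Subgroup.coe_pow]; exact hδp), map_one]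
  have h3 : π ⟨κM, hκMF⟩ = 1 :=
    orderOf_eq_one_iff.1 (Nat.eq_one_of_dvd_coprimes (hκMc.pow_right n) h1 h2)
  exact Subgroup.mem_subgroupOf.1 ((QuotientGroup.eq_one_iff _).1 h3)

end Cfsg.Agent.Fusion.MeetAut
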