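/-
For normal subsystems over `T₁` and `T₂`: a map of order prime to `p` of the first that fixes
`T₁ ∩ T₂` extends to a map fixing `T₂`.
-/
import Mathlib
import Cfsg.Agent.Lib.Fusion.MeetTwist
import Cfsg.Agent.Lib.Fusion.MeetAut

set_option autoImplicit false
set_option linter.all false

namespace Cfsg.Agent.Fusion.MeetFix

open Cfsg Cfsg.FusionSystem Cfsg.Agent.Fusion.Basic Cfsg.Agent.Fusion.Saturation
  Cfsg.Agent.Fusion.Normal Cfsg.Agent.Fusion.Factor Cfsg.Agent.Fusion.Subsystems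
  Cfsg.Agent.Fusion.KNormalizer Cfsg.Agent.Fusion.SylIn Cfsg.Agent.Fusion.MeetAut

variable {Ω : Type*} [Group Ω] {S T₁ T₂ P Q R : Subgroup Ω} {F : FusionSystem S}
  {M : FusionSystem T₁} {N : FusionSystem T₂} {p : ℕ}

/-- A map onto a fully normalized subgroup that carries the given automorphisms of `p`-power
order into those induced by `S`. -/
theorem exists_adapted [Finite S] [Fact p.Prime] (hS : IsPGroup p S) (hF : F.IsSaturated p)
    (hQR : Q ≤ R) (hR : R ≤ normalizerIn S Q) {Y : Subgroup (MulAut Q)} (hYF : Y ≤ F.autGroup Q)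
    (hYp : IsPGroup p Y) (hRY : autInducedBy R Q ≤ Y) :
    ∃ θ, ∃ e : F.autGroup Q ≃* F.autGroup (img θ Q), IsMap F R θ ∧
      F.IsFullyNormalized (img θ Q) ∧
      (∀ (a : F.autGroup Q), ∀ x ∈ Q,
        autFun (e a : MulAut (img θ Q)) (θ x) = θ (autFun (a : MulAut Q) x)) ∧
      ∀ a : F.autGroup Q, (a : MulAut Q) ∈ Y →
        (e a : MulAut (img θ Q)) ∈ autInducedBy S (img θ Q) := by
  classical
  have hQS : Q ≤ S := (hQR.trans hR).trans normalizerIn_le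
  obtain ⟨Q₀, hconj, hfn⟩ := exists_fullyNormalized (F := F) hQS
  obtain ⟨g, hg, rfl⟩ := exists_map_to_fullyNormalized hS hF hfn hconj
  have hgQ : IsMap F Q g := hg.restrict (le_normalizerIn hQS)
  obtain ⟨e₀, he₀⟩ := hgQ.exists_autEquiv
  have hQ₀S : img g Q ≤ S := hgQ.img_le_S
  have hfinQ₀ : Finite (img g Q) := finite_of_le hQ₀S
  set Y' : Subgroup (MulAut (img g Q : Subgroup Ω)) :=
    ((Y.subgroupOf (F.autGroup Q)).map e₀.toMonoidHom).map (F.autGroup (img g Q)).subtype with hY'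
  have hY'p : IsPGroup p Y' :=
    ((hYp.comap_of_injective (F.autGroup Q).subtype Subtype.val_injective).map _).map _
  have hY'F : Y' ≤ F.autGroup (img g Q) := by
    rintro _ ⟨a, -, rfl⟩
    exact a.2
  have hs : SylIn p (autInducedBy S (img g Q)) (F.autGroup (img g Q)) :=
    ⟨autInducedBy_le hQ₀S, isPGroup_autInducedBy hS,
      ((fullyAutomized_iff hS).1 (fullyNormalized_fullyAutomized hS hF hfn)).2⟩
  obtain ⟨b, hb, hbY⟩ := hs.exists_conj hY'F hY'p
  have hm : IsMap F Q fun x => autFun b (g x) :=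
    (isMap_of_mem_autGroup hQ₀S hb).comp hgQ fun x hx => mem_img_self g hx
  have himg : img (fun x => autFun b (g x)) Q = img g Q := by
    rw [← hgQ.img_img, autFun_img]
  obtain ⟨θ, hθ, hθe⟩ := exists_extension hS hF hm
    (by rw [himg]; exact fullyNormalized_fullyCentralized hS hF hfn)
  have hθQ : img θ Q = img g Q := (img_congr hθe).trans himg
  have hind : ∀ a : F.autGroup Q, (a : MulAut Q) ∈ Y →
      b * (e₀ a : MulAut (img g Q : Subgroup Ω)) * b⁻¹ ∈ autInducedBy S (img g Q) := fun a ha =>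
    hbY (mem_img_self (cj b) ⟨e₀ a, ⟨a, Subgroup.mem_subgroupOf.2 ha, rfl⟩, rfl⟩)
  have hle : R ≤ nSub S Q fun x => autFun b (g x) := by
    intro r hr
    have hrN : r ∈ normalizerIn S Q := hR hr
    have hc : conjAut R Q ⟨r, hr, hrN.2⟩ ∈ Y := hRY ((conjAut_range R Q).le ⟨_, rfl⟩)
    obtain ⟨s, hs', hse⟩ := mem_autInducedBy_iff'.1 (hind ⟨_, hYF hc⟩ hc)
    refine mem_nSub.2 ⟨hrN.1, hrN.2, s, hs'.1, fun x hx => ?_⟩
    have h1 := hse _ (autFun_mem b (mem_img_self g hx))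
    rw [autFun_mul, autFun_mul, autFun_inv_apply, he₀ _ x hx,
      conjAut_apply (K := R) ⟨r, hr, hrN.2⟩ hx] at h1
    exact h1
  have key : ∀ Q₁ : Subgroup Ω, Q₁ = img g Q → ∃ e : F.autGroup Q ≃* F.autGroup Q₁,
      (∀ (a : F.autGroup Q), ∀ x ∈ Q,
        autFun (e a : MulAut Q₁) (θ x) = θ (autFun (a : MulAut Q) x)) ∧
      ∀ a : F.autGroup Q, (a : MulAut Q) ∈ Y → (e a : MulAut Q₁) ∈ autInducedBy S Q₁ := by
    rintro _ rfl
    refine ⟨e₀.trans (MulAut.conj (⟨b, hb⟩ : F.autGroup (img g Q))), fun a x hx => ?_,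
      fun a ha => hind a ha⟩
    show autFun (b * (e₀ a : MulAut (img g Q : Subgroup Ω)) * b⁻¹) (θ x) = _
    rw [hθe x hx, autFun_mul, autFun_mul, autFun_inv_apply, he₀ a x hx,
      hθe _ (autFun_mem _ hx)]
  obtain ⟨e, he, heY⟩ := key _ hθQ
  exact ⟨θ, e, hθ.restrict hle, hθQ ▸ hfn, he, heY⟩

variable [Finite S] [Fact p.Prime] (h : Pair F M N p)
include h

/-- A map of order prime to `p` of `M` that fixes `T₁ ∩ T₂` extends to one fixing `T₂`. -/
theorem exists_fix_ext (hP : P ≤ T₁) {α : MulAut P} (hαc : (orderOf α).Coprime p) {f : Ω → Ω}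
    (hf : IsMap M (P ⊔ (T₁ ⊓ T₂)) f) (hfP : ∀ x ∈ P, f x = autFun α x)
    (hfV : ∀ v ∈ T₁ ⊓ T₂, f v = v) :
    ∃ g, IsMap F (P ⊔ T₂) g ∧ (∀ x ∈ P, g x = autFun α x) ∧ ∀ t ∈ T₂, g t = t := by
  classical
  set V := T₁ ⊓ T₂ with hVdef
  have hS := h.pg
  have hF := h.sat
  have hinv : M.IsInvariantIn F := h.left.1.2.2
  have h₁ : T₁ ≤ S := T₁_le h
  have h₂ : T₂ ≤ S := T₂_le h
  have hfin₁ : Finite T₁ := finite_of_le h₁
  have hn₁ : S ≤ Subgroup.normalizer (T₁ : Set Ω) := le_normalizer_of_stronglyClosed (closed₁ h)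
  have hn₂ : S ≤ Subgroup.normalizer (T₂ : Set Ω) := le_normalizer_of_stronglyClosed (closed₂ h)
  set Q := P ⊔ V with hQdef
  have hQ₁ : Q ≤ T₁ := sup_le hP inf_le_left
  have hQS : Q ≤ S := hQ₁.trans h₁
  have hfinQ : Finite Q := finite_of_le hQS
  have hVQ : V ≤ Q := le_sup_right
  have hPQ : P ≤ Q := le_sup_left
  have hcomm : ∀ x ∈ T₁, ∀ t ∈ T₂, x⁻¹ * (t * x * t⁻¹) ∈ V := by
    intro x hx t ht
    refine ⟨T₁.mul_mem (T₁.inv_mem hx) ((Subgroup.mem_normalizer_iff.1 (hn₁ (h₂ ht)) x).1 hx), ?_⟩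
    have h1 := (Subgroup.mem_normalizer_iff.1 (hn₂ (S.inv_mem (h₁ hx))) t).1 ht
    simpa [mul_assoc] using T₂.mul_mem h1 (T₂.inv_mem ht)
  have hnQ : ∀ t ∈ T₂, t ∈ Subgroup.normalizer (Q : Set Ω) := fun t ht =>
    mem_normalizer_of_forall fun x hx => by
      simpa using Q.mul_mem hx (hVQ (hcomm x (hQ₁ hx) t ht))
  set R := Q ⊔ T₂ with hRdef
  have hQR : Q ≤ R := le_sup_left
  have hRN : R ≤ normalizerIn S Q := sup_le (le_normalizerIn hQS) fun t ht => ⟨h₂ ht, hnQ t ht⟩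
  -- `β` of order prime to `p`
  have himg : img f Q = Q := by
    rw [hQdef, hf.img_sup, img_congr (g := id) hfV, img_id, img_congr hfP, autFun_img]
  obtain ⟨β₀, hβ₀, hβ₀e⟩ := hf.exists_aut himg
  obtain ⟨i, hic, hiP⟩ := GoodExtension.exists_pow_coprime (p := p) hPQ (a := β₀) (d := α)
    (fun x hx => by rw [hβ₀e x (hPQ hx), hfP x hx]) hαc
  set β := β₀ ^ i with hβdef
  have hβ : β ∈ M.autGroup Q := pow_mem hβ₀ i
  have hβV : ∀ v ∈ V, autFun β v = v := by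
    have : ∀ n : ℕ, ∀ v ∈ V, autFun (β₀ ^ n) v = v := by
      intro n
      induction n with
      | zero => intro v _; rw [pow_zero, autFun_one]; rfl
      | succ n ih => intro v hv; rw [pow_succ', autFun_mul, ih v hv, hβ₀e v (hVQ hv), hfV v hv]
    exact this i
  have hMF : M.autGroup Q ≤ F.autGroup Q := fun a ha => (mem_autGroup_iff hQS).2
    (isMap_of_subset hinv.1 (isMap_of_mem_autGroup hQ₁ ha))
  have hMn := InvariantCriterion.autGroup_conj h₁ hinv.1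
    (InvariantCriterion.strong_of_invariant hinv) hQ₁
  have hMc : ∀ a ∈ F.autGroup Q, ∀ b ∈ M.autGroup Q, a * b * a⁻¹ ∈ M.autGroup Q := fun a ha b hb =>
    Subgroup.mem_subgroupOf.1 (hMn.conj_mem ⟨b, hMF hb⟩ (Subgroup.mem_subgroupOf.2 hb) ⟨a, ha⟩)
  have hFV : ∀ a ∈ F.autGroup Q, ∀ v ∈ V, autFun a v ∈ V := fun a ha v hv =>
    mem_V h (isMap_of_mem_autGroup hQS ha) (hVQ hv) hv
  -- the stabilizer of the series `Q ≥ V`
  let Δ : Subgroup (MulAut Q) :=
    { carrier := {φ | φ ∈ M.autGroup Q ∧ (∀ v ∈ V, autFun φ v = v) ∧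
        ∀ x ∈ Q, x⁻¹ * autFun φ x ∈ V}
      one_mem' := ⟨one_mem _, fun v _ => by rw [autFun_one]; rfl,
        fun x _ => by rw [autFun_one]; simp [V.one_mem]⟩
      mul_mem' := fun {a b} ha hb => ⟨mul_mem ha.1 hb.1,
        fun v hv => by rw [autFun_mul, hb.2.1 v hv, ha.2.1 v hv], fun x hx => by
          have hw := hb.2.2 x hx
          rw [autFun_mul, show autFun b x = x * (x⁻¹ * autFun b x) by rw [mul_inv_cancel_left],
            autFun_isHom a _ hx _ (hVQ hw), ha.2.1 _ hw, ← mul_assoc]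
          exact V.mul_mem (ha.2.2 x hx) hw⟩
      inv_mem' := fun {a} ha => by
        have hfix : ∀ v ∈ V, autFun a⁻¹ v = v := fun v hv => by
          conv_lhs => rw [← ha.2.1 v hv, autFun_inv_apply]
        refine ⟨Subgroup.inv_mem _ ha.1, hfix, fun x hx => ?_⟩
        have h1 := V.inv_mem (ha.2.2 _ (autFun_mem a⁻¹ hx))
        rw [autFun_apply_inv, mul_inv_rev, inv_inv] at h1
        exact h1 }
  have hΔ : ∀ {φ : MulAut Q}, φ ∈ Δ ↔ φ ∈ M.autGroup Q ∧ (∀ v ∈ V, autFun φ v = v) ∧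
      ∀ x ∈ Q, x⁻¹ * autFun φ x ∈ V := Iff.rfl
  have hΔn : ∀ a ∈ F.autGroup Q, ∀ φ ∈ Δ, a * φ * a⁻¹ ∈ Δ := by
    intro a ha φ hφ
    have hai := Subgroup.inv_mem _ ha
    refine ⟨hMc a ha φ hφ.1, fun v hv => ?_, fun x hx => ?_⟩
    · rw [autFun_mul, autFun_mul, hφ.2.1 _ (hFV _ hai v hv), autFun_apply_inv]
    · have hx' := autFun_mem a⁻¹ hx
      have hw := hφ.2.2 _ hx'
      rw [autFun_mul, autFun_mul, show autFun φ (autFun a⁻¹ x) =
          autFun a⁻¹ x * ((autFun a⁻¹ x)⁻¹ * autFun φ (autFun a⁻¹ x)) by rw [mul_inv_cancel_left],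
        autFun_isHom a _ hx' _ (hVQ hw), autFun_apply_inv, inv_mul_cancel_left]
      exact hFV a ha _ hw
  have hΔp : IsPGroup p Δ := by
    rintro ⟨φ, hφ⟩
    have hfinV : Finite V := finite_of_le (hVQ.trans hQS)
    obtain ⟨k, hk⟩ := IsPGroup.iff_card.1 (hS.to_le (hVQ.trans hQS) : IsPGroup p V)
    refine ⟨k, Subtype.ext (autFun_ext fun x hx => ?_)⟩
    have hw := hφ.2.2 x hx
    have hpow : ∀ n : ℕ, autFun (φ ^ n) x = x * (x⁻¹ * autFun φ x) ^ n := by
      intro n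
      induction n with
      | zero => rw [pow_zero, autFun_one, pow_zero, mul_one]; rfl
      | succ n ih =>
        rw [pow_succ', autFun_mul, ih, autFun_isHom φ _ hx _ (hVQ (V.pow_mem hw n)),
          hφ.2.1 _ (V.pow_mem hw n), pow_succ', ← mul_assoc x, mul_inv_cancel_left]
    rw [SubmonoidClass.coe_pow, hpow, ← hk]
    have h1 : (⟨x⁻¹ * autFun φ x, hw⟩ : V) ^ Nat.card V = 1 := pow_card_eq_one'
    rw [show (x⁻¹ * autFun φ x) ^ Nat.card V = 1 from congrArg Subtype.val h1, mul_one,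
      OneMemClass.coe_one, autFun_one]
    rfl
  set Y := Δ ⊔ autInducedBy R Q with hYdef
  have hRF : autInducedBy R Q ≤ F.autGroup Q := fun a ha => by
    obtain ⟨t, ht, hte⟩ := mem_autInducedBy_iff'.1 ha
    exact autInducedBy_le hQS (mem_autInducedBy_iff'.2 ⟨t, ⟨(hRN ht.1).1, ht.2⟩, hte⟩)
  have hYF : Y ≤ F.autGroup Q := sup_le (fun a ha => hMF ha.1) hRF
  have hYp : IsPGroup p Y := hΔp.to_sup_of_normal_left'
    (isPGroup_autInducedBy (hS.to_le (hRN.trans normalizerIn_le))) fun a ha =>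
      mem_normalizer_of_forall fun φ hφ => hΔn a (hRF ha) φ hφ
  -- `β` normalizes `Y`
  have hβY : ∀ y ∈ Y, β * y * β⁻¹ ∈ Y := by
    have hle : Y ≤ Y.comap (MulAut.conj β).toMonoidHom := by
      refine sup_le (fun φ hφ => Subgroup.mem_sup_left (hΔn β (hMF hβ) φ hφ)) ?_
      intro a ha
      obtain ⟨r, hr, hre⟩ := mem_autInducedBy_iff'.1 ha
      set G := (Y.comap ((MulAut.conj β).toMonoidHom.comp (conjAut S Q))).map
        (Subgroup.subtype (S ⊓ Subgroup.normalizer (Q : Set Ω))) with hG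
      have hGmem : ∀ {r : Ω} (hr : r ∈ S ⊓ Subgroup.normalizer (Q : Set Ω)),
          r ∈ G ↔ β * conjAut S Q ⟨r, hr⟩ * β⁻¹ ∈ Y := fun hr =>
        ⟨fun ⟨u, hu, he⟩ => by
          obtain rfl : u = ⟨_, hr⟩ := Subtype.ext he
          exact hu, fun hy => ⟨⟨_, hr⟩, hy, rfl⟩⟩
      have hRG : R ≤ G := by
        refine sup_le (fun q hq => ?_) fun t ht => ?_
        · refine (hGmem ⟨hQS hq, Subgroup.le_normalizer hq⟩).2 (Subgroup.mem_sup_right
            (mem_autInducedBy_iff'.2 ⟨autFun β q, ⟨hQR (autFun_mem β hq),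
              Subgroup.le_normalizer (autFun_mem β hq)⟩, fun x hx => ?_⟩))
          rw [autFun_mul, autFun_mul, conjAut_apply _ (autFun_mem β⁻¹ hx),
            cj_apply, (autFun_isHom β).map_conj hq (autFun_mem _ hx), autFun_apply_inv]
          rfl
        · refine (hGmem ⟨h₂ ht, hnQ t ht⟩).2 ?_
          set c := conjAut S Q ⟨t, h₂ ht, hnQ t ht⟩ with hc
          have hcR : c ∈ autInducedBy R Q := mem_autInducedBy_iff'.2
            ⟨t, ⟨Subgroup.mem_sup_right ht, hnQ t ht⟩, fun x hx => conjAut_apply _ hx⟩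
          have hcF : c ∈ F.autGroup Q := hRF hcR
          rw [show β * c * β⁻¹ = β * (c * β⁻¹ * c⁻¹) * c by group]
          refine mul_mem (Subgroup.mem_sup_left (hΔ.2 ⟨mul_mem hβ (hMc c hcF _ (Subgroup.inv_mem _ hβ)),
            fun v hv => ?_, fun x hx => ?_⟩)) (Subgroup.mem_sup_right hcR)
          · have hai := hFV _ (Subgroup.inv_mem _ hcF) v hv
            have hfix : autFun β⁻¹ (autFun c⁻¹ v) = autFun c⁻¹ v := by
              conv_lhs => rw [← hβV _ hai, autFun_inv_apply]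
            rw [autFun_mul, autFun_mul, autFun_mul, hfix, autFun_apply_inv, hβV v hv]
          · have hce : ∀ z ∈ Q, autFun c z = t * z * t⁻¹ := fun z hz => conjAut_apply _ hz
            set y := autFun c⁻¹ x with hy
            have hyQ : y ∈ Q := autFun_mem _ hx
            set z := autFun β⁻¹ y with hz
            have hzQ : z ∈ Q := autFun_mem _ hyQ
            have hw₂ := hcomm z (hQ₁ hzQ) t ht
            have hw₁ := hcomm y (hQ₁ hyQ) t ht
            rw [autFun_mul, autFun_mul, autFun_mul, ← hy, ← hz, hce z hzQ,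
              show t * z * t⁻¹ = z * (z⁻¹ * (t * z * t⁻¹)) by rw [mul_inv_cancel_left],
              autFun_isHom β _ hzQ _ (hVQ hw₂), hβV _ hw₂,
              show autFun β z = y from autFun_apply_inv β y]
            have hx' : x = t * y * t⁻¹ := by rw [← hce y hyQ]; exact (autFun_apply_inv c x).symm
            rw [hx', ← mul_assoc, show (t * y * t⁻¹)⁻¹ * y = (y⁻¹ * (t * y * t⁻¹))⁻¹ by group]
            exact V.mul_mem (V.inv_mem hw₁) hw₂
      have h1 := (hGmem ⟨(hRN hr.1).1, hr.2⟩).1 (hRG hr.1)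
      rwa [show a = conjAut S Q ⟨r, (hRN hr.1).1, hr.2⟩ from autFun_ext fun x hx => by
        rw [hre x hx, conjAut_apply _ hx]]
    exact fun y hy => hle hy
  -- move `Q` to a fully normalized subgroup
  obtain ⟨θ, e, hθ, hfn, heq, heY⟩ := exists_adapted hS hF hQR hRN hYF hYp le_sup_right
  have hθQ : IsMap F Q θ := hθ.restrict hQR
  have hQ₀T : img θ Q ≤ T₁ := img_le fun x hx =>
    stronglyClosed_mem (closed₁ h) hθQ hx (hQ₁ hx)
  have hfin₀ : Finite (img θ Q) := finite_of_le hθQ.img_le_S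
  set β' : MulAut (img θ Q : Subgroup Ω) := (e ⟨β, hMF hβ⟩ : MulAut (img θ Q : Subgroup Ω)) with hβ'
  have hβ'e : ∀ x ∈ Q, autFun β' (θ x) = θ (autFun β x) := heq ⟨β, hMF hβ⟩
  have hβ'M : β' ∈ M.autGroup (img θ Q) := by
    obtain ⟨χ, hχ, hχe⟩ := InvariantCriterion.strong_of_invariant hinv Q Q _ θ le_rfl hQ₁
      (isMap_of_mem_autGroup hQ₁ hβ) (fun x hx => autFun_mem _ hx) hθQ
    refine (mem_autGroup_iff hQ₀T).2 (hχ.congr fun y hy => ?_)
    obtain ⟨x, hx, rfl⟩ := hθQ.mem_img.1 hy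
    rw [hχe x hx, hβ'e x hx]
  have hβ'c : (orderOf β').Coprime p := by
    rw [hβ', Subgroup.orderOf_coe, MulEquiv.orderOf_eq, Subgroup.orderOf_mk]
    exact hic
  set Y₀ : Subgroup (MulAut (img θ Q : Subgroup Ω)) :=
    ((Y.subgroupOf (F.autGroup Q)).map e.toMonoidHom).map (F.autGroup (img θ Q)).subtype with hY₀
  have hY₀S : Y₀ ≤ autInducedBy S (img θ Q) := by
    rintro _ ⟨_, ⟨a, ha, rfl⟩, rfl⟩
    exact heY a ha
  have hθY : ∀ r ∈ R, θ r ∈ kNorm S Y₀ := by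
    intro r hr
    have hrN := hRN hr
    have hc : conjAut R Q ⟨r, hr, hrN.2⟩ ∈ Y :=
      Subgroup.mem_sup_right ((conjAut_range R Q).le ⟨_, rfl⟩)
    refine ⟨hθ.mem hr, (e ⟨_, hYF hc⟩ : MulAut (img θ Q : Subgroup Ω)),
      ⟨_, ⟨⟨_, hYF hc⟩, hc, rfl⟩, rfl⟩, fun y hy => ?_⟩
    obtain ⟨x, hx, rfl⟩ := hθQ.mem_img.1 hy
    rw [heq _ x hx, conjAut_apply (K := R) ⟨r, hr, hrN.2⟩ hx, cj_apply, ← hθ.map_conj hr (hQR hx)]
    rfl
  have hInn₀ : Inn (img θ Q) ≤ Y₀ := by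
    intro a ha
    obtain ⟨q₀, hq₀, hqe⟩ := mem_inn_iff.1 ha
    obtain ⟨q, hq, rfl⟩ := hθQ.mem_img.1 hq₀
    obtain ⟨-, y₀, hy₀, hy₀e⟩ := hθY q (hQR hq)
    rwa [show a = y₀ from autFun_ext fun x hx => (hqe x hx).trans (hy₀e x hx)]
  have hβY₀ : ∀ y ∈ Y₀, β' * y * β'⁻¹ ∈ Y₀ := by
    rintro _ ⟨_, ⟨a, ha, rfl⟩, rfl⟩
    refine ⟨_, ⟨⟨β, hMF hβ⟩ * a * ⟨β, hMF hβ⟩⁻¹, ?_, rfl⟩, ?_⟩
    · exact hβY _ ha
    · simp [hβ']
  obtain ⟨η₀, hη₀, hη₀β, hη₀W, hη₀T⟩ := MeetTwist.exists_twist hS hF h.left hQ₀T hfn hY₀S hInn₀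
    hβ'M hβ'c hβY₀
  set W := kNorm S Y₀ with hW
  have hWS : W ≤ S := kNorm_le_S
  have hfinW : Finite W := finite_of_le hWS
  have hQW : img θ Q ≤ W := img_le fun x hx => hθY x (hQR hx)
  obtain ⟨η, hη, hηe⟩ := hη₀.exists_aut (eq_of_le_card (img_le hη₀W) hη₀.card_img.ge)
  obtain ⟨k, hkc, hkQ⟩ := GoodExtension.exists_pow_coprime (p := p) hQW (a := η) (d := β')
    (fun x hx => by rw [hηe x (hQW hx), hη₀β x hx]) hβ'c
  have hηm : IsMap F W (autFun (η ^ k)) := isMap_of_mem_autGroup hWS (Subgroup.pow_mem _ hη k)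
  -- the elements of `T₂` are fixed
  have hfix : ∀ t ∈ W, t ∈ T₂ → autFun (η ^ k) t = t := by
    intro t htW ht
    set v := η₀ t * t⁻¹ with hv
    have hvV : v ∈ V := ⟨hη₀T t htW,
      T₂.mul_mem (stronglyClosed_mem (closed₂ h) hη₀ htW ht) (T₂.inv_mem ht)⟩
    have hfinV : Finite V := finite_of_le (hVQ.trans hQS)
    have hVθ : img θ V = V := eq_of_le_card (img_le fun x hx => mem_V h hθQ (hVQ hx) hx)
      (hθQ.restrict hVQ).card_img.ge
    obtain ⟨u, hu, hue⟩ := (hθQ.restrict hVQ).mem_img.1 (hVθ.ge hvV)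
    have hvQ : v ∈ img θ Q := hue ▸ mem_img_self θ (hVQ hu)
    have hvW : v ∈ W := hQW hvQ
    have hηv : ∀ n : ℕ, autFun η (v ^ n) = v ^ n := by
      intro n
      rw [hηe _ (W.pow_mem hvW n), hη₀β _ (Subgroup.pow_mem _ hvQ n)]
      have : v ^ n ∈ V := V.pow_mem hvV n
      obtain ⟨u', hu', hue'⟩ := (hθQ.restrict hVQ).mem_img.1 (hVθ.ge this)
      rw [← hue', hβ'e _ (hVQ hu'), hβV u' hu']
    have hpow : ∀ n : ℕ, autFun (η ^ n) t = v ^ n * t := by
      intro n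
      induction n with
      | zero => rw [pow_zero, autFun_one, pow_zero, one_mul]; rfl
      | succ n ih =>
        rw [pow_succ', autFun_mul, ih, autFun_isHom η _ (W.pow_mem hvW n) _ htW, hηv, hηe t htW,
          pow_succ, mul_assoc (v ^ n), hv, inv_mul_cancel_right]
    have h1 := hpow (k * orderOf (η ^ k))
    rw [pow_mul, pow_orderOf_eq_one, autFun_one, id, pow_mul] at h1
    obtain ⟨l, hl⟩ := hS ⟨v ^ k, S.pow_mem (hWS hvW) k⟩
    have h2 : v ^ k = 1 := Elementwise.eq_one_of_coprime_pow ⟨l, congrArg Subtype.val hl⟩ hkc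
      (mul_eq_right.1 h1.symm)
    rw [hpow k, h2, one_mul]
  -- pull back
  have hθR := hθ.exists_inv
  obtain ⟨j, hj, hjimg, hjθ, -⟩ := hθR
  have hθW : img θ R ≤ W := img_le hθY
  have hT₂θ : ∀ t ∈ T₂, θ t ∈ T₂ := fun t ht =>
    stronglyClosed_mem (closed₂ h) hθ (Subgroup.mem_sup_right ht) ht
  have hstab : ∀ y ∈ img θ R, autFun (η ^ k) y ∈ img θ R := by
    intro y hy
    have himgR : img (autFun (η ^ k)) (img θ R) = img θ R := by
      have hm := hηm.restrict hθW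
      rw [hRdef, hθ.img_sup] at hm ⊢
      rw [hm.img_sup]
      congr 1
      · rw [img_congr hkQ, autFun_img]
      · rw [img_congr (g := id) fun t ht => hfix t (hθW ((img_mono θ le_sup_right) ht))
          ((img_le hT₂θ : img θ T₂ ≤ T₂) ht), img_id]
    exact himgR.le (mem_img_self _ hy)
  refine ⟨fun x => j (autFun (η ^ k) (θ x)), ?_, fun x hx => ?_, fun t ht => ?_⟩
  · exact (hj.comp ((hηm.restrict hθW).comp hθ fun x hx => mem_img_self θ hx)
      fun x hx => hstab _ (mem_img_self θ hx)).restrict (sup_le_sup_right hPQ T₂)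
  · show j (autFun (η ^ k) (θ x)) = _
    rw [hkQ _ (mem_img_self θ (hPQ hx)), hβ'e x (hPQ hx),
      hjθ _ (hQR (autFun_mem β (hPQ hx))), hiP x hx]
  · show j (autFun (η ^ k) (θ t)) = t
    rw [hfix _ (hθY t (Subgroup.mem_sup_right ht)) (hT₂θ t ht), hjθ t (Subgroup.mem_sup_right ht)]

end Cfsg.Agent.Fusion.MeetFix
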