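/-
Maps of a subsystem of one normal subsystem extend to maps fixing the group of the other one.
-/
import Mathlib
import Cfsg.Agent.Lib.Fusion.MeetFix
import Cfsg.Agent.Lib.Fusion.LayerCentralizer

set_option autoImplicit false
set_option linter.all false

namespace Cfsg.Agent.Fusion.FixExt

open Cfsg Cfsg.FusionSystem Cfsg.Agent.Fusion.Basic Cfsg.Agent.Fusion.Saturation
  Cfsg.Agent.Fusion.Normal Cfsg.Agent.Fusion.Subsystems Cfsg.Agent.Fusion.LayerCentralizer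
  Cfsg.Agent.Fusion.MeetAut

variable {Ω : Type*} [Group Ω] {S T T₁ T₂ U Q : Subgroup Ω} {F : FusionSystem S}
  {M : FusionSystem T₁} {N : FusionSystem T₂} {C : FusionSystem U} {p : ℕ}

/-- Every map of `C` extends in `F` to a map fixing `Q` pointwise. -/
def Fixes (F : FusionSystem S) (C : FusionSystem U) (Q : Subgroup Ω) : Prop :=
  ∀ (P : Subgroup Ω) (f : Ω → Ω), IsMap C P f →
    ∃ g, IsMap F (P ⊔ Q) g ∧ (∀ x ∈ P, g x = f x) ∧ ∀ q ∈ Q, g q = q

/-- The automorphisms of order prime to `p` of `C` extend fixing `Q`. -/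
def FixesCoprime (p : ℕ) (F : FusionSystem S) (C : FusionSystem U) (Q : Subgroup Ω) : Prop :=
  ∀ R : Subgroup Ω, R ≤ U → ∀ α ∈ C.autGroup R, (orderOf α).Coprime p →
    ∃ g, IsMap F (R ⊔ Q) g ∧ (∀ x ∈ R, g x = autFun α x) ∧ ∀ q ∈ Q, g q = q

theorem fixes_mono {Q' : Subgroup Ω} (h : Fixes F C Q) (hQ : Q' ≤ Q) : Fixes F C Q' := fun P f hf =>
  let ⟨g, hg, hge, hgQ⟩ := h P f hf
  ⟨g, hg.restrict (sup_le_sup_left hQ P), hge, fun q hq => hgQ q (hQ hq)⟩

theorem fixes_center [Finite S] (hQ : Q ≤ F.center) : Fixes F F Q :=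
  fixes_mono (isCentral_iff.1 center_isCentral).2 hQ

variable [Finite S]

theorem hyp_le (hQ : S ≤ Subgroup.normalizer (Q : Set Ω)) (hUS : U ≤ S)
    (h : FixesCoprime p F C Q) :
    C.hyperfocalSubgroup p ≤ Subgroup.centralizer (Q : Set Ω) := by
  refine Hyperfocal.hyp_le_of fun R hR α hαc x hx => ?_
  obtain ⟨g, hg, hge, hgfix⟩ := h R hR α α.2 (by rwa [Subgroup.orderOf_coe])
  intro q hq
  have hxq : x * q * x⁻¹ ∈ Q := (Subgroup.mem_normalizer_iff.1 (hQ (hUS (hR hx))) q).1 hq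
  have h1 := hg.map_conj (Subgroup.mem_sup_left hx) (Subgroup.mem_sup_right hq)
  rw [hgfix _ hxq, hgfix q hq, hge x hx] at h1
  calc q * (x⁻¹ * autFun (α : MulAut R) x)
      = x⁻¹ * (x * q * x⁻¹) * autFun (α : MulAut R) x := by group
    _ = x⁻¹ * (autFun (α : MulAut R) x * q * (autFun (α : MulAut R) x)⁻¹) *
        autFun (α : MulAut R) x := by rw [h1]
    _ = x⁻¹ * autFun (α : MulAut R) x * q := by group

variable [Fact p.Prime]

/-- When `U` centralizes `Q`, the automorphisms of order prime to `p` suffice. -/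
theorem fixes_of_coprime (hS : IsPGroup p S) (hC : C.IsSaturated p) (hUS : U ≤ S) (hQS : Q ≤ S)
    (hQn : S ≤ Subgroup.normalizer (Q : Set Ω)) (hUQ : U ≤ Subgroup.centralizer (Q : Set Ω))
    (h : FixesCoprime p F C Q) : Fixes F C Q := by
  have hfinU : Finite U := finite_of_le hUS
  have hW : ∀ a ∈ U, ∀ q ∈ Q, q⁻¹ * (a * q * a⁻¹) ∈ (⊥ : Subgroup Ω) := by
    intro a ha q hq
    rw [← hUQ ha q hq, mul_inv_cancel_right, inv_mul_cancel]
    exact Subgroup.one_mem _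
  have hall : C ≤ movSystem F C Q ⊥ hUS hQS (hUS.trans hQn) hW := by
    refine Alperin.le_of_autGroup (hS.to_le hUS) hC fun R hR _ =>
      autGroup_le_mov hS hC hR fun α hα hαc => ?_
    obtain ⟨g, hg, hge, hgfix⟩ := h R hR.1 α hα hαc
    refine ⟨g, hg, hge, by rw [img_congr (g := id) hgfix, img_id], fun q hq => ?_⟩
    rw [hgfix q hq, inv_mul_cancel]
    exact Subgroup.one_mem _
  intro P f hf
  obtain ⟨φ, hφ, he⟩ := hf
  obtain ⟨-, g, hg, hge, -, hgW⟩ := hall _ hφ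
  exact ⟨g, hg, fun x hx => (hge ⟨x, hx⟩).symm.trans (he ⟨x, hx⟩),
    fun q hq => (inv_mul_eq_one.1 (Subgroup.mem_bot.1 (hgW q hq))).symm⟩

/-- The maps of `C ⊆ M` of order prime to `p`, fixing `T₁ ∩ T₂` in `M`, fix `T₂` in `F`. -/
theorem fixesCoprime_step (h : Pair F M N p) (hUT : U ≤ T₁) (hC : Fixes M C (T₁ ⊓ T₂)) :
    FixesCoprime p F C T₂ := by
  intro R hR α hα hαc
  obtain ⟨f, hf, hfe, hfV⟩ := hC R _ (isMap_of_mem_autGroup hR hα)
  exact MeetFix.exists_fix_ext h (hR.trans hUT) hαc hf hfe hfV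

end Cfsg.Agent.Fusion.FixExt
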