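/-
The subsystem on `T₁ ∩ T₂` generated by the automizers of `MeetAut`, and its invariance in `F`.
-/
import Mathlib
import Cfsg.Agent.Lib.Fusion.MeetAut

set_option autoImplicit false
set_option linter.all false

namespace Cfsg.Agent.Fusion.Meet

open Cfsg Cfsg.FusionSystem Cfsg.Agent.Fusion.Basic Cfsg.Agent.Fusion.Saturation
  Cfsg.Agent.Fusion.Normal Cfsg.Agent.Fusion.Factor Cfsg.Agent.Fusion.Subsystems
  Cfsg.Agent.Fusion.KNormalizer Cfsg.Agent.Fusion.SylIn Cfsg.Agent.Fusion.MeetAut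

variable {Ω : Type*} [Group Ω] {S T₁ T₂ : Subgroup Ω}

/-- A subsystem is invariant, stated with functions. -/
theorem invariant_mk {T : Subgroup Ω} {F : FusionSystem S} {D : FusionSystem T}
    (hsub : ∀ P f, IsMap D P f → IsMap F P f) (hT : F.StronglyClosed T)
    (htr : ∀ P f, IsMap D P f → ∀ α ∈ F.autGroup T,
      ∃ g, IsMap D (img (autFun α) P) g ∧ ∀ x ∈ P, g (autFun α x) = autFun α (f x))
    (hfr : ∀ P f, P ≤ T → IsMap F P f →
      ∃ α ∈ F.autGroup T, ∃ f₀, IsMap D P f₀ ∧ ∀ x ∈ P, f x = autFun α (f₀ x)) :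
    D.IsInvariantIn F := by
  refine ⟨fun P => subset_of_isMap fun f hf => hsub P f hf, hT,
    fun P hPT φ hφ α hα => ?_, fun P hPT φ hφ => ?_⟩
  · obtain ⟨g, hg, hge⟩ := htr P _ (IsMap.of_hom hφ) α hα
    have hdom : (P.subgroupOf T).map (T.subtype.comp α.toMonoidHom) = img (autFun α) P :=
      map_subgroupOf_eq_img (fun x => (autFun_apply α x).symm) hPT
    have hval : IsMap D ((P.subgroupOf T).map (T.subtype.comp α.toMonoidHom)) g := hdom ▸ hg
    refine ⟨hval.hom, hval.hom_mem_self, fun x hφx hαx => ?_⟩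
    rw [IsMap.hom_apply]
    show g ((α ⟨x, hPT x.2⟩ : T) : Ω) = _
    rw [← autFun_of_mem α (hPT x.2), ← autFun_of_mem α hφx, ← ext_apply φ x, hge x x.2]
  · obtain ⟨α, hα, f₀, hf₀, he⟩ := hfr P _ hPT (IsMap.of_hom hφ)
    refine ⟨α, hα, hf₀.hom, hf₀.hom_mem_self, fun x hx => ?_⟩
    rw [← autFun_of_mem _ hx, IsMap.hom_apply, ← ext_apply φ x, he x x.2]

/-- The subgroups of `V = T₁ ∩ T₂` all of whose conjugates contain their centralizers in `V`. -/
def Fam (F : FusionSystem S) (T₁ T₂ P : Subgroup Ω) : Prop :=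
  P ≤ T₁ ⊓ T₂ ∧ ∀ P', F.IsConj P P' → centralizerIn (T₁ ⊓ T₂) P' ≤ P'

/-- The maps generated by the automizers and by `V`. -/
inductive Gen (F : FusionSystem S) (M : FusionSystem T₁) (N : FusionSystem T₂) (p : ℕ) :
    Subgroup Ω → (Ω → Ω) → Prop
  | auto {P X : Subgroup Ω} {a : MulAut X} :
      Fam F T₁ T₂ X → a ∈ B F M N p X → P ≤ X → Gen F M N p P (autFun a)
  | conj {P : Subgroup Ω} {v : Ω} : P ≤ T₁ ⊓ T₂ → v ∈ T₁ ⊓ T₂ → Gen F M N p P (cj v)
  | comp {P Q : Subgroup Ω} {f g : Ω → Ω} : Gen F M N p P f → Gen F M N p Q g →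
      (∀ x ∈ P, f x ∈ Q) → Gen F M N p P (fun x => g (f x))
  | congr {P : Subgroup Ω} {f g : Ω → Ω} : Gen F M N p P f → (∀ x ∈ P, f x = g x) →
      Gen F M N p P g

variable {F : FusionSystem S} {M : FusionSystem T₁} {N : FusionSystem T₂} {p : ℕ}
  [Finite S] [Fact p.Prime] (h : Pair F M N p) {P Q X : Subgroup Ω} {f g : Ω → Ω}
include h

theorem closed : F.StronglyClosed (T₁ ⊓ T₂) :=
  ⟨V_le h, fun R hR φ hφ x =>
    ⟨(closed₁ h).2 R (hR.trans inf_le_left) φ hφ x,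
      (closed₂ h).2 R (hR.trans inf_le_right) φ hφ x⟩⟩

theorem fam_mono (hP : Fam F T₁ T₂ P) (hPQ : P ≤ Q) (hQ : Q ≤ T₁ ⊓ T₂) : Fam F T₁ T₂ Q := by
  refine ⟨hQ, fun Q' hQ' => ?_⟩
  obtain ⟨g, hg, rfl⟩ := isConj_iff_map.1 hQ'
  refine le_trans ?_ ((hP.2 _ (hg.restrict hPQ).isConj).trans (img_mono g hPQ))
  exact fun x hx => ⟨hx.1, fun y hy => hx.2 y (img_mono g hPQ hy)⟩

theorem fam_map (hX : Fam F T₁ T₂ X) (hg : IsMap F X g) : Fam F T₁ T₂ (img g X) :=
  ⟨img_le_V h hg le_rfl hX.1, fun P' hP' => hX.2 P' (isConj_trans hg.isConj hP')⟩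

theorem gen_le (hf : Gen F M N p P f) : P ≤ T₁ ⊓ T₂ := by
  induction hf with
  | auto hX _ hP => exact hP.trans hX.1
  | conj hP _ => exact hP
  | comp _ _ _ ih _ => exact ih
  | congr _ _ ih => exact ih

theorem gen_sub (hf : Gen F M N p P f) : IsMap M P f ∧ IsMap N P f := by
  induction hf with
  | @auto P X a hX ha hP =>
    exact ⟨(isMap_of_mem_autGroup (hX.1.trans inf_le_left) (B_le h hX.1 ha).1).restrict hP,
      (isMap_of_mem_autGroup (hX.1.trans inf_le_right) (B_le h hX.1 ha).2).restrict hP⟩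
  | conj hP hv =>
    exact ⟨isMap_cj (hP.trans inf_le_left) hv.1, isMap_cj (hP.trans inf_le_right) hv.2⟩
  | comp _ _ hPQ ihf ihg => exact ⟨ihg.1.comp ihf.1 hPQ, ihg.2.comp ihf.2 hPQ⟩
  | congr _ he ih => exact ⟨ih.1.congr he, ih.2.congr he⟩

theorem gen_isMap (hf : Gen F M N p P f) : IsMap F P f :=
  isMap_of_subset h.left.1.2.2.1 (gen_sub h hf).1

theorem gen_mem (hf : Gen F M N p P f) {x : Ω} (hx : x ∈ P) : f x ∈ T₁ ⊓ T₂ :=
  ⟨(gen_sub h hf).1.mem hx, (gen_sub h hf).2.mem hx⟩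

theorem gen_restrict (hf : Gen F M N p P f) (hQ : Q ≤ P) : Gen F M N p Q f := by
  induction hf generalizing Q with
  | auto hX ha hP => exact .auto hX ha (hQ.trans hP)
  | conj hP hv => exact .conj (hQ.trans hP) hv
  | comp _ hg hPQ ihf _ => exact .comp (ihf hQ) hg fun x hx => hPQ x (hQ hx)
  | congr _ he ih => exact .congr (ih hQ) fun x hx => he x (hQ hx)

theorem gen_id (hP : P ≤ T₁ ⊓ T₂) : Gen F M N p P id :=
  (Gen.conj hP (one_mem _)).congr fun x _ => by rw [cj_one]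

theorem gen_inv (hf : Gen F M N p P f) :
    ∃ i, Gen F M N p (img f P) i ∧ ∀ x ∈ P, i (f x) = x := by
  induction hf with
  | @auto P X a hX ha hP =>
    exact ⟨autFun a⁻¹, .auto hX (inv_mem ha) (img_le fun x hx => autFun_mem a (hP hx)),
      fun x _ => autFun_inv_apply a x⟩
  | @conj P v hP hv =>
    refine ⟨cj v⁻¹, .conj (img_le fun x hx => ?_) (inv_mem hv), fun x _ => cj_inv_cj v x⟩
    exact Subgroup.mul_mem _ (Subgroup.mul_mem _ hv (hP hx)) (inv_mem hv)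
  | @comp P Q f g hf hg hPQ ihf ihg =>
    obtain ⟨i, hi, hie⟩ := ihf
    obtain ⟨j, hj, hje⟩ := ihg
    have hfm := gen_isMap h hf
    have e : img (fun x => g (f x)) P = img g (img f P) := (hfm.img_img g).symm
    have hle : img f P ≤ Q := img_le hPQ
    refine ⟨fun y => i (j y), ?_, fun x hx => ?_⟩
    · rw [e]
      refine .comp (gen_restrict h hj (img_mono g hle)) hi fun y hy => ?_
      obtain ⟨z, hz, rfl⟩ := ((gen_isMap h hg).restrict hle).mem_img.1 hy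
      rwa [hje z (hle hz)]
    · show i (j (g (f x))) = x
      rw [hje _ (hPQ x hx), hie x hx]
  | @congr P f g hf he ih =>
    obtain ⟨i, hi, hie⟩ := ih
    refine ⟨i, img_congr he ▸ hi, fun x hx => ?_⟩
    rw [← he x hx, hie x hx]

/-- The system generated by the automizers and by `V`. -/
theorem exists_sys : ∃ D : FusionSystem (T₁ ⊓ T₂),
    ∀ (P : Subgroup Ω) (f : Ω → Ω), IsMap D P f ↔ Gen F M N p P f := by
  let D : FusionSystem (T₁ ⊓ T₂) :=
    { Hom := fun P => {φ | Gen F M N p P (ext φ)}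
      le_of_mem := fun {P φ} hφ => ⟨gen_le h hφ, fun x => ext_apply φ x ▸ gen_mem h hφ x.2⟩
      injective_of_mem := fun {P φ} hφ a b hab =>
        Subtype.ext ((gen_isMap h hφ).inj a.2 b.2 (by rw [ext_apply, ext_apply, hab]))
      conj_mem := fun {P g} hP hg =>
        (Gen.conj hP hg).congr fun x hx => by rw [ext_of_mem _ hx]; rfl
      comp_mem := by
        rintro P Q φ ψ hφ hψ h'
        refine (Gen.comp hφ hψ fun x hx => ext_of_mem φ hx ▸ h' ⟨x, hx⟩).congr fun x hx => ?_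
        show ext ψ (ext φ x) = _
        rw [ext_of_mem φ hx, ext_of_mem ψ (h' ⟨x, hx⟩), ext_of_mem _ hx]
        rfl
      inv_mem := by
        rintro P φ hφ
        obtain ⟨ψ, hψ, hψe⟩ := F.inv_mem (hom_mem_iff.2 (gen_isMap h hφ))
        refine ⟨ψ, ?_, hψe⟩
        obtain ⟨i, hi, hie⟩ := gen_inv h hφ
        show Gen F M N p φ.range (ext ψ)
        refine ((range_eq_img φ).symm ▸ hi).congr ?_
        rintro y ⟨x, rfl⟩
        rw [ext_of_mem ψ ⟨x, rfl⟩, hψe x, ← ext_apply φ x, hie x x.2] }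
  refine ⟨D, fun P f => ⟨?_, fun hf => ?_⟩⟩
  · rintro ⟨φ, hφ, hφf⟩
    exact Gen.congr hφ fun x hx => by rw [ext_of_mem φ hx, hφf ⟨x, hx⟩]
  · refine ⟨(gen_isMap h hf).hom, hf.congr fun x hx => ?_, fun x => rfl⟩
    rw [ext_of_mem _ hx, IsMap.hom_apply]

/-- The generated maps are permuted by `Aut_F(V)`. -/
theorem gen_transport (hf : Gen F M N p P f) {α : MulAut (T₁ ⊓ T₂ : Subgroup Ω)}
    (hα : α ∈ F.autGroup (T₁ ⊓ T₂)) :
    ∃ g, Gen F M N p (img (autFun α) P) g ∧ ∀ x ∈ P, g (autFun α x) = autFun α (f x) := by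
  have hαm := isMap_of_mem_autGroup (V_le h) hα
  induction hf with
  | @auto P X a hX ha hP =>
    obtain ⟨a', ha', ha'e⟩ := transport h hX.1 (hαm.restrict hX.1) ha
    exact ⟨autFun a', .auto (fam_map h hX (hαm.restrict hX.1)) ha' (img_mono _ hP),
      fun x hx => ha'e x (hP hx)⟩
  | @conj P v hP hv =>
    refine ⟨cj (autFun α v), .conj (img_le fun x hx => autFun_mem α (hP hx)) (autFun_mem α hv),
      fun x hx => ?_⟩
    rw [cj_apply, cj_apply, (autFun_isHom α).map_conj hv (hP hx)]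
  | @comp P Q f g hf hg hPQ ihf ihg =>
    obtain ⟨f', hf', hfe⟩ := ihf
    obtain ⟨g', hg', hge⟩ := ihg
    refine ⟨fun y => g' (f' y), .comp hf' hg' fun y hy => ?_, fun x hx => ?_⟩
    · obtain ⟨x, hx, rfl⟩ := (hαm.restrict (gen_le h hf)).mem_img.1 hy
      rw [hfe x hx]
      exact mem_img_self _ (hPQ x hx)
    · show g' (f' (autFun α x)) = _
      rw [hfe x hx, hge _ (hPQ x hx)]
  | @congr P f g hf he ih =>
    obtain ⟨g', hg', hge⟩ := ih
    exact ⟨g', hg', fun x hx => (hge x hx).trans (congrArg (autFun α) (he x hx))⟩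

/-! ### The Frattini condition -/

omit h [Finite S] [Fact p.Prime] in
/-- `f` on `P` is an element of `Aut_F(V)` after a generated map. -/
def Fac (F : FusionSystem S) (M : FusionSystem T₁) (N : FusionSystem T₂) (p : ℕ)
    (P : Subgroup Ω) (f : Ω → Ω) : Prop :=
  ∃ α ∈ F.autGroup (T₁ ⊓ T₂), ∃ f₀, Gen F M N p P f₀ ∧ ∀ x ∈ P, f x = autFun α (f₀ x)

omit h [Finite S] [Fact p.Prime] in
theorem fac_congr (hf : Fac F M N p P f) (he : ∀ x ∈ P, f x = g x) : Fac F M N p P g := by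
  obtain ⟨α, hα, f₀, hf₀, hfe⟩ := hf
  exact ⟨α, hα, f₀, hf₀, fun x hx => (he x hx).symm.trans (hfe x hx)⟩

theorem fac_restrict (hf : Fac F M N p P f) (hQ : Q ≤ P) : Fac F M N p Q f := by
  obtain ⟨α, hα, f₀, hf₀, hfe⟩ := hf
  exact ⟨α, hα, f₀, gen_restrict h hf₀ hQ, fun x hx => hfe x (hQ hx)⟩

theorem fac_comp (hf : Fac F M N p P f) (hg : Fac F M N p Q g) (hPQ : ∀ x ∈ P, f x ∈ Q) :
    Fac F M N p P fun x => g (f x) := by
  obtain ⟨β, hβ, f₀, hf₀, hfe⟩ := hf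
  obtain ⟨α, hα, g₀, hg₀, hge⟩ := hg
  obtain ⟨k, hk, hke⟩ := gen_transport h hg₀ (inv_mem hβ)
  have hmem : ∀ x ∈ P, f₀ x ∈ img (autFun β⁻¹) Q := fun x hx => by
    have := mem_img_self (autFun β⁻¹) (hPQ x hx)
    rwa [hfe x hx, autFun_inv_apply] at this
  refine ⟨α * β, mul_mem hα hβ, fun x => k (f₀ x), .comp hf₀ hk hmem, fun x hx => ?_⟩
  show g (f x) = autFun (α * β) (k (f₀ x))
  have h1 := hke _ (hPQ x hx)
  rw [show autFun β⁻¹ (f x) = f₀ x by rw [hfe x hx, autFun_inv_apply]] at h1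
  rw [h1, autFun_mul, autFun_apply_inv, hge _ (hPQ x hx)]

theorem fac_inv (hf : Fac F M N p P f) {i : Ω → Ω} (hi : ∀ x ∈ P, i (f x) = x)
    (himg : ∀ y ∈ img f P, ∃ x ∈ P, f x = y) : Fac F M N p (img f P) i := by
  obtain ⟨α, hα, f₀, hf₀, hfe⟩ := hf
  obtain ⟨j, hj, hjf⟩ := gen_inv h hf₀
  obtain ⟨k, hk, hke⟩ := gen_transport h hj hα
  have heq : img (autFun α) (img f₀ P) = img f P := by
    rw [(gen_isMap h hf₀).img_img]
    exact (img_congr hfe).symm
  refine ⟨α⁻¹, inv_mem hα, k, heq ▸ hk, fun y hy => ?_⟩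
  obtain ⟨x, hx, rfl⟩ := himg y hy
  rw [hi x hx, hfe x hx, hke _ (mem_img_self f₀ hx), autFun_inv_apply, hjf x hx]

/-- A fully normalized subgroup outside the family has centralizing elements in `V`. -/
theorem centralizer_not_le (hQV : Q ≤ T₁ ⊓ T₂) (hQ : F.IsFullyNormalized Q)
    (hnot : ¬ Fam F T₁ T₂ Q) : ¬ centralizerIn (T₁ ⊓ T₂) Q ≤ Q := by
  intro hle
  refine hnot ⟨hQV, fun Q' hQ' => ?_⟩
  have hQ'V : Q' ≤ T₁ ⊓ T₂ := by
    obtain ⟨f, hf, rfl⟩ := isConj_iff_map.1 hQ'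
    exact img_le_V h hf le_rfl hQV
  obtain ⟨g, hg, hgQ⟩ := exists_map_to_fullyNormalized h.pg h.sat hQ (isConj_symm hQ')
  have hQN : Q' ≤ normalizerIn S Q' := le_normalizerIn (hQ'V.trans (V_le h))
  intro w hw
  have hwN : w ∈ normalizerIn S Q' :=
    centralizerIn_le_normalizerIn ⟨V_le h hw.1, hw.2⟩
  have hgw : g w ∈ centralizerIn (T₁ ⊓ T₂) Q := by
    refine ⟨mem_V h hg hwN hw.1, ?_⟩
    rw [← hgQ]
    exact hg.mem_centralizer_img hQN hwN hw.2
  obtain ⟨y, hy, hye⟩ := (hg.restrict hQN).mem_img.1 (hgQ.ge (hle hgw))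
  exact hg.inj (hQN hy) hwN hye ▸ hy

/-- At a fully normalized `Q < V` the automorphisms factor, given factorization above `Q`. -/
theorem fac_aut (hQV : Q < T₁ ⊓ T₂) (hQ : F.IsFullyNormalized Q)
    (hbig : ∀ R : Subgroup Ω, R ≤ T₁ ⊓ T₂ → Nat.card Q < Nat.card R →
      ∀ θ : Ω → Ω, IsMap F R θ → Fac F M N p R θ)
    {a : MulAut Q} (ha : a ∈ F.autGroup Q) : Fac F M N p Q (autFun a) := by
  have hQS := hQ.1
  have hV : F.StronglyClosed (T₁ ⊓ T₂) := closed h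
  have hfinV : Finite (T₁ ⊓ T₂ : Subgroup Ω) := finite_of_le hV.1
  have hfinQ : Finite Q := finite_of_le hQS
  by_cases hfam : Fam F T₁ T₂ Q
  swap
  · obtain ⟨θ, hθ, hθe⟩ := exists_extension h.pg h.sat (isMap_of_mem_autGroup hQS ha)
      (by rw [autFun_img]; exact fullyNormalized_fullyCentralized h.pg h.sat hQ)
    set R := Q ⊔ centralizerIn (T₁ ⊓ T₂) Q with hR
    have hRV : R ≤ T₁ ⊓ T₂ := sup_le hQV.le centralizerIn_le
    have hlt : Q < R := left_lt_sup.2 (centralizer_not_le h hQV.le hQ hfam)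
    have hle : R ≤ nSub S Q (autFun a) := sup_le (le_nSub (isMap_of_mem_autGroup hQS ha))
      fun x hx => centralizerIn_le_nSub ⟨V_le h hx.1, hx.2⟩
    have hfinR : Finite R := finite_of_le hRV
    exact fac_congr (fac_restrict h (hbig R hRV (card_lt_card hlt) θ (hθ.restrict hle)) hlt.le) hθe
  have hnorm : ((B F M N p Q).subgroupOf (F.autGroup Q)).Normal :=
    ⟨fun b hb e => Subgroup.mem_subgroupOf.2
      (conj_mem h hQV.le e.2 (Subgroup.mem_subgroupOf.1 hb))⟩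
  set K := (B F M N p Q).subgroupOf (F.autGroup Q) with hK
  have hA : SylIn p ((autInducedBy S Q).subgroupOf (F.autGroup Q)) ⊤ := by
    refine ⟨le_top, (isPGroup_autInducedBy h.pg).comap_of_injective _ Subtype.val_injective, ?_⟩
    rw [Subgroup.relIndex_top_right]
    exact ((fullyAutomized_iff h.pg).1 (fullyNormalized_fullyAutomized h.pg h.sat hQ)).2
  obtain ⟨b, hb, hc⟩ := exists_frattini (K := K) hA ⟨a, ha⟩
  set β := b * ⟨a, ha⟩ with hβ
  have hsplit : a = (b⁻¹ : F.autGroup Q).1 * β.1 := by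
    rw [← Subgroup.coe_mul, hβ, inv_mul_cancel_left]
  have hmβ := isMap_of_mem_autGroup hQS β.2
  obtain ⟨θ, hθ, hθe⟩ := exists_extension h.pg h.sat hmβ
    (by rw [autFun_img]; exact fullyNormalized_fullyCentralized h.pg h.sat hQ)
  have hle : normalizerIn (T₁ ⊓ T₂) Q ≤ nSub S Q (autFun (β : MulAut Q)) := by
    rintro g hg
    have hgS : g ∈ normalizerIn S Q := ⟨hV.1 hg.1, hg.2⟩
    have hcB : conjAut S Q ⟨g, hgS⟩ ∈ B F M N p Q :=
      AV_le h hQV.le (mem_autInducedBy_iff'.2 ⟨g, hg, fun x hx => conjAut_apply _ hx⟩)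
    let c : F.autGroup Q := ⟨conjAut S Q ⟨g, hgS⟩, B_le_F h hQV.le hcB⟩
    have hcA : c ∈ (autInducedBy S Q).subgroupOf (F.autGroup Q) :=
      Subgroup.mem_subgroupOf.2 (mem_autInducedBy_iff'.2 ⟨g, hgS, fun x hx => conjAut_apply _ hx⟩)
    have hcK : c ∈ K := Subgroup.mem_subgroupOf.2 hcB
    obtain ⟨u, hu, he⟩ := mem_autInducedBy_iff'.1 (Subgroup.mem_subgroupOf.1 (hc c ⟨hcA, hcK⟩))
    refine mem_nSub.2 ⟨hV.1 hg.1, hg.2, u, hu.1, fun x hx => ?_⟩
    have h3 := he _ (autFun_mem (β : MulAut Q) hx)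
    rw [Subgroup.coe_mul, Subgroup.coe_mul, Subgroup.coe_inv, autFun_mul, autFun_mul,
      autFun_inv_apply, conjAut_apply ⟨g, hgS⟩ hx] at h3
    exact h3
  have hlt := lt_normalizerIn (h.pg.to_le hV.1) hQV
  have hNV : normalizerIn (T₁ ⊓ T₂) Q ≤ T₁ ⊓ T₂ := normalizerIn_le
  have hfinN : Finite (normalizerIn (T₁ ⊓ T₂) Q) := finite_of_le hNV
  have h1 : Fac F M N p Q (autFun (β : MulAut Q)) :=
    fac_congr (fac_restrict h (hbig _ hNV (card_lt_card hlt) θ (hθ.restrict hle)) hlt.le) hθe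
  have hb' : (b⁻¹ : F.autGroup Q).1 ∈ B F M N p Q := Subgroup.mem_subgroupOf.1 (inv_mem hb)
  have h2 : Fac F M N p Q (autFun (b⁻¹ : F.autGroup Q).1) :=
    ⟨1, one_mem _, _, Gen.auto hfam hb' le_rfl, fun x _ => by rw [autFun_one]; rfl⟩
  refine fac_congr (fac_comp h h1 h2 fun x hx => autFun_mem _ hx) fun x hx => ?_
  rw [← autFun_mul, ← hsplit]

/-- Every map of `F` between subgroups of `V` factors. -/
theorem fac_all (hPV : P ≤ T₁ ⊓ T₂) (hf : IsMap F P f) : Fac F M N p P f := by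
  have hV : F.StronglyClosed (T₁ ⊓ T₂) := closed h
  have hfinV : Finite (T₁ ⊓ T₂ : Subgroup Ω) := finite_of_le hV.1
  induction hn : Nat.card (T₁ ⊓ T₂ : Subgroup Ω) - Nat.card P using Nat.strong_induction_on
    generalizing P f with
  | _ n ih =>
  have hbig : ∀ R : Subgroup Ω, R ≤ T₁ ⊓ T₂ → Nat.card P < Nat.card R →
      ∀ θ : Ω → Ω, IsMap F R θ → Fac F M N p R θ := fun R hR hlt θ hθ => by
    have := card_le_card hR
    exact ih (Nat.card (T₁ ⊓ T₂ : Subgroup Ω) - Nat.card R) (by omega) hR hθ rfl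
  rcases eq_or_lt_of_le hPV with rfl | hlt
  · obtain ⟨α, hα, he⟩ := hf.exists_aut (eq_of_le_card
      (img_le fun x hx => stronglyClosed_mem hV hf hx hx) hf.card_img.ge)
    exact ⟨α, hα, id, gen_id h le_rfl, fun x hx => (he x hx).symm⟩
  obtain ⟨Q, hPQ, hQ⟩ := exists_fullyNormalized (F := F) hf.le
  have hstep : ∀ R : Subgroup Ω, R ≤ T₁ ⊓ T₂ → F.IsConj R P →
      ∃ g, IsMap F R g ∧ img g R = Q ∧ Q ≤ T₁ ⊓ T₂ ∧ Fac F M N p R g := by
    intro R hRV hR
    obtain ⟨g, hg, hgQ⟩ := exists_map_to_fullyNormalized h.pg h.sat hQ (isConj_trans hR hPQ)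
    have hle : normalizerIn (T₁ ⊓ T₂) R ≤ normalizerIn S R := inf_le_inf_right _ hV.1
    have hres := hg.restrict hle
    have hfinR : Finite R := finite_of_le hRV
    have hRlt : R < T₁ ⊓ T₂ := lt_of_le_of_ne hRV fun e => by
      have h1 := card_lt_card hlt
      have h2 := isConj_card hR
      subst e
      omega
    have hNlt := lt_normalizerIn (h.pg.to_le hV.1) hRlt
    have hfinN : Finite (normalizerIn (T₁ ⊓ T₂) R) := finite_of_le normalizerIn_le
    have hcard : Nat.card P < Nat.card (normalizerIn (T₁ ⊓ T₂) R) := by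
      have h1 := card_lt_card hNlt
      have h2 := isConj_card hR
      omega
    refine ⟨g, hres.restrict hNlt.le, hgQ, ?_,
      fac_restrict h (hbig _ normalizerIn_le hcard g hres) hNlt.le⟩
    rw [← hgQ]
    exact img_le fun x hx => stronglyClosed_mem hV hres (hNlt.le hx) (hRV hx)
  have hfP : img f P ≤ T₁ ⊓ T₂ := img_le fun x hx => stronglyClosed_mem hV hf hx (hPV hx)
  obtain ⟨g₁, hg₁, hg₁Q, hQV, hg₁F⟩ := hstep P hPV (isConj_refl hf.le)
  obtain ⟨g₂, hg₂, hg₂Q, -, hg₂F⟩ := hstep (img f P) hfP (isConj_symm hf.isConj)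
  subst hg₁Q
  obtain ⟨i₁, hi₁, hi₁img, hi₁g, -⟩ := hg₁.exists_inv
  obtain ⟨i₂, hi₂, hi₂img, hi₂g, -⟩ := hg₂.exists_inv
  have hmapsto : ∀ x ∈ img g₁ P, i₁ x ∈ P := fun x hx => le_of_eq hi₁img (mem_img_self i₁ hx)
  have hin : IsMap F (img g₁ P) (fun x => f (i₁ x)) := hf.comp hi₁ hmapsto
  have hcomp : IsMap F (img g₁ P) (fun x => g₂ (f (i₁ x))) :=
    hg₂.comp hin fun x hx => mem_img_self f (hmapsto x hx)
  have himg : img (fun x => g₂ (f (i₁ x))) (img g₁ P) = img g₁ P := by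
    rw [← hin.img_img g₂, ← hi₁.img_img f, hi₁img, hg₂Q]
  obtain ⟨α, hα, he⟩ := hcomp.exists_aut himg
  have hQlt : img g₁ P < T₁ ⊓ T₂ := lt_of_le_of_ne hQV fun e => by
    have h1 := card_lt_card hlt
    have h2 := hg₁.card_img
    rw [e] at h2
    omega
  have ha : Fac F M N p (img g₁ P) (autFun α) := fac_aut h hQlt hQ
    (fun R hR hlt' => hbig R hR (by rwa [hg₁.card_img] at hlt')) hα
  have hi₂F : Fac F M N p (img g₁ P) i₂ := by
    rw [← hg₂Q]
    exact fac_inv h hg₂F hi₂g fun y hy => hg₂.mem_img.1 hy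
  refine fac_congr (fac_comp h (fac_comp h hg₁F ha fun x hx => mem_img_self g₁ hx) hi₂F
    fun x hx => autFun_mem α (mem_img_self g₁ hx)) fun x hx => ?_
  show i₂ (autFun α (g₁ x)) = f x
  rw [he _ (mem_img_self g₁ hx), hi₁g x hx, hi₂g _ (mem_img_self f hx)]

section System

variable {D : FusionSystem (T₁ ⊓ T₂)} (hD : ∀ P f, IsMap D P f ↔ Gen F M N p P f)
include hD

theorem sub : D.IsSubsystemOf F := fun P =>
  subset_of_isMap fun f hf => gen_isMap h ((hD P f).1 hf)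

/-- The system is invariant in `F`. -/
theorem invariant : D.IsInvariantIn F := by
  refine invariant_mk (fun P f hf => gen_isMap h ((hD P f).1 hf)) (closed h)
    (fun P f hf α hα => ?_) (fun P f hP hf => ?_)
  · obtain ⟨g, hg, he⟩ := gen_transport h ((hD P f).1 hf) hα
    exact ⟨g, (hD _ _).2 hg, he⟩
  · obtain ⟨α, hα, f₀, hf₀, he⟩ := fac_all h hP hf
    exact ⟨α, hα, f₀, (hD _ _).2 hf₀, he⟩

theorem fam_iff_centric : Fam F T₁ T₂ P ↔ D.IsCentric P := by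
  refine ⟨fun hP => ⟨hP.1, fun Q hQ => hP.2 Q ?_⟩, fun hP => ⟨hP.1, fun P' hP' => ?_⟩⟩
  · obtain ⟨f, hf, rfl⟩ := isConj_iff_map.1 hQ
    exact (isMap_of_subset (sub h hD) hf).isConj
  obtain ⟨f, hf, rfl⟩ := isConj_iff_map.1 hP'
  obtain ⟨α, hα, f₀, hf₀, he⟩ := fac_all h hP.1 hf
  have hαm := isMap_of_mem_autGroup (V_le h) hα
  have h₀ := hP.2 _ ((hD _ _).2 hf₀).isConj
  rw [img_congr he, ← (gen_isMap h hf₀).img_img (autFun α)]
  intro w hw
  have hα' := isMap_of_mem_autGroup (V_le h) (inv_mem hα)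
  have hmem : autFun α⁻¹ w ∈ centralizerIn (T₁ ⊓ T₂) (img f₀ P) := by
    refine ⟨autFun_mem _ hw.1, fun y hy => ?_⟩
    have hyV : y ∈ T₁ ⊓ T₂ := img_le (fun x hx => gen_mem h hf₀ hx) hy
    have h1 := hw.2 _ (mem_img_self (autFun α) hy)
    have h2 := congrArg (autFun α⁻¹) h1
    rwa [autFun_isHom α⁻¹ _ (autFun_mem _ hyV) _ hw.1, autFun_isHom α⁻¹ _ hw.1 _ (autFun_mem _ hyV),
      autFun_inv_apply] at h2
  rw [← autFun_apply_inv α w]
  exact mem_img_self _ (h₀ hmem)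

end System

end Cfsg.Agent.Fusion.Meet
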