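/-
Elements of the automizer of a fully normalized subgroup extend to generated maps on their
extenders in `T₁ ∩ T₂`.
-/
import Mathlib
import Cfsg.Agent.Lib.Fusion.Meet
import Cfsg.Agent.Lib.Fusion.Alperin
import Cfsg.Agent.Lib.Fusion.Group

set_option autoImplicit false
set_option linter.all false

namespace Cfsg.Agent.Fusion.MeetExt

open Cfsg Cfsg.FusionSystem Cfsg.Agent.Fusion.Basic Cfsg.Agent.Fusion.Saturation
  Cfsg.Agent.Fusion.Normal Cfsg.Agent.Fusion.Factor Cfsg.Agent.Fusion.Subsystems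
  Cfsg.Agent.Fusion.KNormalizer Cfsg.Agent.Fusion.SylIn Cfsg.Agent.Fusion.MeetAut
  Cfsg.Agent.Fusion.Meet

variable {Ω : Type*} [Group Ω] {S T₁ T₂ : Subgroup Ω}
variable {F : FusionSystem S} {M : FusionSystem T₁} {N : FusionSystem T₂} {p : ℕ}
  [Finite S] [Fact p.Prime] {Q : Subgroup Ω} {Y Y' Z : Subgroup (MulAut Q)} {b b' : MulAut Q}

/-- `b` extends to a generated map on the elements of `V` inducing `Y`. -/
def Ext (F : FusionSystem S) (M : FusionSystem T₁) (N : FusionSystem T₂) (p : ℕ)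
    (Y : Subgroup (MulAut Q)) (b : MulAut Q) : Prop :=
  ∃ θ, Gen F M N p (kNorm (T₁ ⊓ T₂) Y) θ ∧ ∀ x ∈ Q, θ x = autFun b x

variable (h : Pair F M N p) (hQ : Q ≤ T₁ ⊓ T₂)
include h hQ

theorem le_kNorm (hI : Inn Q ≤ Y) : Q ≤ kNorm (T₁ ⊓ T₂) Y := fun q hq => by
  refine ⟨hQ hq, MulAut.conj (⟨q, hq⟩ : Q), hI ⟨⟨q, hq⟩, rfl⟩, fun x hx => ?_⟩
  rw [autFun_of_mem _ hx]
  rfl

omit h hQ [Finite S] [Fact p.Prime] in
theorem kNorm_mono (hY : Y ≤ Y') : kNorm (T₁ ⊓ T₂) Y ≤ kNorm (T₁ ⊓ T₂) Y' :=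
  fun _ ⟨hw, y, hy, he⟩ => ⟨hw, y, hY hy, he⟩

theorem ext_mono (hb : Ext F M N p Y' b) (hY : Y ≤ Y') : Ext F M N p Y b := by
  obtain ⟨θ, hθ, he⟩ := hb
  exact ⟨θ, gen_restrict h hθ (kNorm_mono hY), he⟩

theorem ext_one : Ext F M N p Y (1 : MulAut Q) :=
  ⟨id, gen_id h kNorm_le_S, fun x _ => by rw [autFun_one]⟩

/-- An element inducing automorphisms of `Y` is carried to one inducing their conjugates. -/
theorem ext_maps {θ : Ω → Ω} (hθ : Gen F M N p (kNorm (T₁ ⊓ T₂) Y) θ)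
    (he : ∀ x ∈ Q, θ x = autFun b x) (hI : Inn Q ≤ Y)
    (hbY : ∀ y ∈ Y, b * y * b⁻¹ ∈ Y') {w : Ω} (hw : w ∈ kNorm (T₁ ⊓ T₂) Y) :
    θ w ∈ kNorm (T₁ ⊓ T₂) Y' := by
  obtain ⟨hwV, y, hy, hye⟩ := hw
  refine ⟨gen_mem h hθ ⟨hwV, y, hy, hye⟩, b * y * b⁻¹, hbY y hy, fun x hx => ?_⟩
  have hwn := (kNorm_le (⟨hwV, y, hy, hye⟩ : w ∈ kNorm (T₁ ⊓ T₂) Y)).2
  have hx' := autFun_mem b⁻¹ hx
  have h1 := (gen_isMap h hθ).map_conj ⟨hwV, y, hy, hye⟩ (le_kNorm h hQ hI hx')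
  rw [he _ hx', autFun_apply_inv, he _ ((Subgroup.mem_normalizer_iff.1 hwn _).1 hx'),
    show w * autFun b⁻¹ x * w⁻¹ = autFun y (autFun b⁻¹ x) from hye _ hx'] at h1
  rw [autFun_mul, autFun_mul]
  exact h1.symm

theorem ext_mul (hI : Inn Q ≤ Y) (hb : Ext F M N p Y b) (hb' : Ext F M N p Y' b')
    (hbY : ∀ y ∈ Y, b * y * b⁻¹ ∈ Y') : Ext F M N p Y (b' * b) := by
  obtain ⟨θ, hθ, he⟩ := hb
  obtain ⟨θ', hθ', he'⟩ := hb'
  refine ⟨fun x => θ' (θ x), .comp hθ hθ' fun w hw => ext_maps h hQ hθ he hI hbY hw,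
    fun x hx => ?_⟩
  show θ' (θ x) = _
  rw [he x hx, he' _ (autFun_mem b hx), autFun_mul]

theorem ext_inv (hQc : centralizerIn (T₁ ⊓ T₂) Q ≤ Q) (hYA : Y ≤ autInducedBy (T₁ ⊓ T₂) Q)
    (hI : Inn Q ≤ Y) (hb : Ext F M N p Y b) (hbY : ∀ y ∈ Y', b⁻¹ * y * b ∈ Y) :
    Ext F M N p Y' b⁻¹ := by
  obtain ⟨θ, hθ, he⟩ := hb
  have hθm := gen_isMap h hθ
  obtain ⟨i, hi, hiθ⟩ := gen_inv h hθ
  refine ⟨i, gen_restrict h hi fun w hw => ?_, fun x hx => ?_⟩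
  swap
  · have hx' := autFun_mem b⁻¹ hx
    rw [← hiθ _ (le_kNorm h hQ hI hx'), he _ hx', autFun_apply_inv]
  obtain ⟨hwV, y', hy', hye'⟩ := hw
  obtain ⟨v, hv, hve⟩ := mem_autInducedBy_iff'.1 (hYA (hbY y' hy'))
  have hvW : v ∈ kNorm (T₁ ⊓ T₂) Y :=
    ⟨hv.1, b⁻¹ * y' * b, hbY y' hy', fun x hx => (hve x hx).symm⟩
  have hwn := (kNorm_le (⟨hwV, y', hy', hye'⟩ : w ∈ kNorm (T₁ ⊓ T₂) Y')).2
  -- `(θ v)⁻¹ w` centralizes `Q`
  have hc : (θ v)⁻¹ * w ∈ Q := by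
    refine hQc ⟨Subgroup.mul_mem _ (Subgroup.inv_mem _ (gen_mem h hθ hvW)) hwV, fun q hq => ?_⟩
    have hq' := autFun_mem b⁻¹ hq
    have h1 := hθm.map_conj hvW (le_kNorm h hQ hI hq')
    rw [he _ hq', autFun_apply_inv, he _ ((Subgroup.mem_normalizer_iff.1 hv.2 _).1 hq'),
      show v * autFun b⁻¹ q * v⁻¹ = autFun (b⁻¹ * y' * b) (autFun b⁻¹ q) from (hve _ hq').symm,
      autFun_mul, autFun_mul, autFun_apply_inv, autFun_apply_inv, ← hye' q hq, cj_apply] at h1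
    calc q * ((θ v)⁻¹ * w) = (θ v)⁻¹ * (θ v * q * (θ v)⁻¹) * w := by group
      _ = (θ v)⁻¹ * (w * q * w⁻¹) * w := by rw [h1]
      _ = (θ v)⁻¹ * w * q := by group
  have hQimg : Q ≤ img θ (kNorm (T₁ ⊓ T₂) Y) := fun q hq => by
    have hq' := autFun_mem b⁻¹ hq
    have := mem_img_self θ (le_kNorm h hQ hI hq')
    rwa [he _ hq', autFun_apply_inv] at this
  have := Subgroup.mul_mem _ (mem_img_self θ hvW) (hQimg hc)
  rwa [mul_inv_cancel_left] at this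

theorem ext_induced {a : MulAut Q} (ha : a ∈ autInducedBy (T₁ ⊓ T₂) Q) :
    Ext F M N p Y a := by
  obtain ⟨v, hv, hve⟩ := mem_autInducedBy_iff'.1 ha
  exact ⟨cj v, .conj kNorm_le_S hv.1, fun x hx => (hve x hx).symm⟩

theorem ext_coprime (hQn : F.IsFullyNormalized Q) (hfam : Fam F T₁ T₂ Q)
    (hYA : Y ≤ autInducedBy (T₁ ⊓ T₂) Q) (hI : Inn Q ≤ Y) (hb : b ∈ B F M N p Q)
    (hbc : (orderOf b).Coprime p) (hbY : ∀ y ∈ Y, b * y * b⁻¹ ∈ Y) : Ext F M N p Y b := by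
  obtain ⟨hQW, e, he, hee⟩ := lift_coprime h hQ hQn (hfam.2 Q (isConj_refl hQn.1)) hYA hI hb hbc hbY
  exact ⟨autFun e, .auto (fam_mono h hfam hQW kNorm_le_S) he le_rfl, hee⟩

/-- A map of the fusion system of the automizer which extends. -/
def GMap (F : FusionSystem S) (M : FusionSystem T₁) (N : FusionSystem T₂) (p : ℕ)
    (Z : Subgroup (MulAut Q)) (f : MulAut Q → MulAut Q) : Prop :=
  Z ≤ autInducedBy (T₁ ⊓ T₂) Q ∧ ∃ b ∈ B F M N p Q, (∀ z ∈ Z, f z = cj b z) ∧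
    (∀ z ∈ Z, cj b z ∈ autInducedBy (T₁ ⊓ T₂) Q) ∧ Ext F M N p (Z ⊔ Inn Q) b

omit h hQ [Finite S] [Fact p.Prime] in
theorem conj_sup (hb : ∀ z ∈ Z, cj b z ∈ Y) :
    ∀ y ∈ Z ⊔ Inn Q, b * y * b⁻¹ ∈ Y ⊔ Inn Q := by
  have hn : (Inn Q).Normal := inferInstance
  have hle : Z ⊔ Inn Q ≤ (Y ⊔ Inn Q).comap (MulAut.conj b).toMonoidHom :=
    sup_le (fun z hz => Subgroup.mem_sup_left (hb z hz))
      (fun z hz => Subgroup.mem_sup_right (hn.conj_mem z hz b))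
  exact fun y hy => hle hy

/-- An element of the automizer normalizing a fully normalized `Z` extends. -/
theorem ext_normalizer (hQn : F.IsFullyNormalized Q) (hfam : Fam F T₁ T₂ Q)
    (hZA : Z ≤ autInducedBy (T₁ ⊓ T₂) Q)
    (hsyl : SylIn p (normalizerIn (autInducedBy (T₁ ⊓ T₂) Q) Z) (normalizerIn (B F M N p Q) Z))
    (hb : b ∈ normalizerIn (B F M N p Q) Z) : Ext F M N p (Z ⊔ Inn Q) b := by
  have hfinQ : Finite Q := finite_of_le hQn.1
  set W := Z ⊔ Inn Q with hW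
  have hWA : W ≤ autInducedBy (T₁ ⊓ T₂) Q := sup_le hZA (inn_le_autInducedBy hQ)
  have hI : Inn Q ≤ W := le_sup_right
  have hnorm : ∀ c ∈ normalizerIn (B F M N p Q) Z, ∀ y ∈ W, c * y * c⁻¹ ∈ W := fun c hc =>
    conj_sup (Y := Z) fun z hz => (Subgroup.mem_normalizer_iff.1 hc.2 z).1 hz
  let L : Subgroup (MulAut Q) :=
    let M₀ : Submonoid (MulAut Q) :=
    { carrier := {c | c ∈ normalizerIn (B F M N p Q) Z ∧ Ext F M N p W c}
      one_mem' := ⟨one_mem _, ext_one h hQ⟩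
      mul_mem' := fun {c d} hc hd =>
        ⟨mul_mem hc.1 hd.1, ext_mul h hQ hI hd.2 hc.2 (hnorm d hd.1)⟩ }
    { M₀ with
      inv_mem' := fun {c} hc => by
        have h1 : c⁻¹ = c ^ (orderOf c - 1) := by
          refine inv_eq_of_mul_eq_one_right ?_
          rw [← pow_succ', Nat.sub_add_cancel (orderOf_pos c), pow_orderOf_eq_one]
        rw [h1]
        exact M₀.pow_mem hc _ }
  set H := normalizerIn (B F M N p Q) Z with hH
  obtain ⟨R, hR⟩ : ∃ R : Sylow p H,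
      (R : Subgroup H) = (normalizerIn (autInducedBy (T₁ ⊓ T₂) Q) Z).subgroupOf H :=
    (sylIn_iff_exists hsyl.1).1 hsyl
  have hle : (R : Subgroup H) ⊔ pResidual p H ≤ L.subgroupOf H := by
    refine sup_le (fun c hc => ?_) ((Subgroup.closure_le _).2 fun c hc => ?_)
    · rw [hR] at hc
      exact Subgroup.mem_subgroupOf.2 ⟨c.2, ext_induced h hQ (Subgroup.mem_subgroupOf.1 hc).1⟩
    · refine Subgroup.mem_subgroupOf.2 ⟨c.2, ext_coprime h hQ hQn hfam hWA hI c.2.1 ?_ ?_⟩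
      · rw [Subgroup.orderOf_coe]
        exact hc
      · exact hnorm c c.2
  exact (Subgroup.mem_subgroupOf.1
    (hle ((Cfsg.Agent.Cores.pResidual_le_sylow_sup R).ge (Subgroup.mem_top (⟨b, hb⟩ : H))))).2

/-- The extending maps form a system on `Aut_V(Q)`. -/
theorem exists_gSys (hfam : Fam F T₁ T₂ Q) :
    ∃ E : FusionSystem (autInducedBy (T₁ ⊓ T₂) Q),
      ∀ Z f, IsMap E Z f ↔ GMap F M N p Z f := by
  have hQS : Q ≤ S := hQ.trans (V_le h)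
  have hQc := hfam.2 Q (isConj_refl hQS)
  let A := autInducedBy (T₁ ⊓ T₂) Q
  have hIA : Inn Q ≤ A := inn_le_autInducedBy hQ
  let E : FusionSystem A :=
    { Hom := fun Z => {φ | GMap F M N p Z (ext φ)}
      le_of_mem := fun {Z φ} ⟨hZ, b, _, he, hm, _⟩ =>
        ⟨hZ, fun z => ext_apply φ z ▸ he z z.2 ▸ hm z z.2⟩
      injective_of_mem := fun {Z φ} ⟨_, b, _, he, _, _⟩ x y hxy => by
        refine Subtype.ext ?_
        have := congrArg (cj b⁻¹) ((he x x.2).symm.trans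
          (((ext_apply φ x).trans hxy).trans ((ext_apply φ y).symm.trans (he y y.2))))
        rwa [cj_inv_cj, cj_inv_cj] at this
      conj_mem := fun {Z a} hZ ha =>
        ⟨hZ, a, AV_le h hQ ha, fun z hz => (ext_of_mem _ hz).trans rfl,
          fun z hz => mul_mem (mul_mem ha (hZ hz)) (inv_mem ha), ext_induced h hQ ha⟩
      comp_mem := by
        rintro Z Z' φ ψ ⟨hZ, b, hb, he, hm, hx⟩ ⟨hZ', b', hb', he', hm', hx'⟩ h'
        have hmaps : ∀ z ∈ Z, cj b z ∈ Z' := fun z hz => by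
          rw [← he z hz, ext_of_mem φ hz]; exact h' _
        refine ⟨hZ, b' * b, mul_mem hb' hb, fun z hz => ?_,
          fun z hz => by rw [cj_mul]; exact hm' _ (hmaps z hz),
          ext_mul h hQ le_sup_right hx hx' (conj_sup hmaps)⟩
        rw [ext_of_mem _ hz, cj_mul, ← he z hz, ext_of_mem φ hz, ← he' _ (h' _),
          ext_of_mem ψ (h' ⟨z, hz⟩)]
        rfl
      inv_mem := by
        rintro Z φ ⟨hZ, b, hb, he, hm, hx⟩
        have hr : ∀ w ∈ φ.range, cj b⁻¹ w ∈ Z := by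
          rintro _ ⟨z, rfl⟩
          rw [← ext_apply φ z, he z z.2, cj_inv_cj]
          exact z.2
        let i : φ.range →* Z := MonoidHom.mk' (fun w => ⟨cj b⁻¹ w, hr w w.2⟩) fun u v =>
          Subtype.ext (by simp [cj, mul_assoc])
        refine ⟨Z.subtype.comp i, ⟨fun w hw => ?_, b⁻¹, inv_mem hb,
          fun w hw => (ext_of_mem _ hw).trans rfl, fun w hw => hZ (hr w hw),
          ext_inv h hQ hQc (sup_le hZ hIA) le_sup_right hx fun y hy => ?_⟩,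
          fun z => ?_⟩
        · obtain ⟨z, rfl⟩ := hw
          rw [← ext_apply φ z, he z z.2]
          exact hm z z.2
        · have := conj_sup (b := b⁻¹) hr y hy
          rwa [inv_inv] at this
        · show cj b⁻¹ (φ z) = _
          rw [← ext_apply φ z, he z z.2, cj_inv_cj] }
  refine ⟨E, fun Z f => ⟨?_, fun hf => ?_⟩⟩
  · rintro ⟨φ, ⟨hZ, b, hb, he, hm, hx⟩, hφf⟩
    exact ⟨hZ, b, hb, fun z hz => by rw [← hφf ⟨z, hz⟩, ← ext_apply φ, he z hz], hm, hx⟩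
  · obtain ⟨hZ, b, hb, he, hm, hx⟩ := hf
    exact ⟨conjHom Z b, ⟨hZ, b, hb, fun z hz => (ext_of_mem _ hz).trans rfl, hm, hx⟩,
      fun z => (he z z.2).symm⟩

/-- Every element of the automizer of a fully normalized subgroup extends to its extender. -/
theorem exists_ext (hQn : F.IsFullyNormalized Q) (hfam : Fam F T₁ T₂ Q) (hb : b ∈ B F M N p Q) :
    ∃ θ, Gen F M N p (nSub (T₁ ⊓ T₂) Q (autFun b)) θ ∧ ∀ x ∈ Q, θ x = autFun b x := by
  have hQS : Q ≤ S := hQn.1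
  have hfinQ : Finite Q := finite_of_le hQS
  have hQc := hfam.2 Q (isConj_refl hQS)
  set A := autInducedBy (T₁ ⊓ T₂) Q with hA
  set G := B F M N p Q with hG
  have hAG : A ≤ G := AV_le h hQ
  have hIA : Inn Q ≤ A := inn_le_autInducedBy hQ
  have hsyl : SylIn p A G := sylow h hQ hQn
  have hAp : IsPGroup p A := hsyl.2.1
  have hsat := Group.sub_saturated hsyl
  obtain ⟨E, hE⟩ := exists_gSys h hQ hfam
  have hFE : fusionSystemOfSubgroup G A hsyl.1 ≤ E := by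
    refine Alperin.alperin hAp hsat fun Z hZ α hα => ?_
    have hZA : Z ≤ A := hZ.elim le_of_eq fun hz => hz.1.1
    have hZn : (fusionSystemOfSubgroup G A hsyl.1).IsFullyNormalized Z := by
      rcases hZ with rfl | hz
      · exact ⟨le_rfl, fun R hR => by
          rw [eq_of_le_card (isConj_le hR).2 (isConj_card hR).ge]⟩
      · exact hz.2.1
    have hs := (Group.fullyNormalized_iff hsyl hZA).1 hZn
    rw [Group.autGroup_sub hsyl.1 hZA] at hα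
    obtain ⟨c, hc, hce⟩ := mem_autInducedBy_iff'.1 hα
    refine (mem_autGroup_iff hZA).2 ((hE _ _).2 ⟨hZA, c, hc.1, hce,
      fun z hz => hce z hz ▸ hZA (autFun_mem α hz), ext_normalizer h hQ hQn hfam hZA hs hc⟩)
  -- the automorphisms carried into `A` by `b`
  set Y := A ⊓ A.comap (MulAut.conj b).toMonoidHom with hY
  have hIY : Inn Q ≤ Y := le_inf hIA fun z hz =>
    hIA ((inferInstance : (Inn Q).Normal).conj_mem z hz b)
  have hYA : Y ≤ A := inf_le_left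
  have hbY : ∀ y ∈ Y, cj b y ∈ A := fun y hy => hy.2
  have hmY : IsMap (fusionSystemOfSubgroup G A hsyl.1) Y (cj b) :=
    Group.isMap_sub_iff.2 ⟨hYA, hbY, b, hb, fun _ _ => rfl⟩
  obtain ⟨-, b', hb', he', hbm', hx'⟩ := (hE _ _).1 (isMap_mono hFE hmY)
  rw [sup_eq_left.2 hIY] at hx'
  -- the centralizing correction
  obtain ⟨Y₀, hY₀, hY₀n⟩ := exists_fullyNormalized (F := fusionSystemOfSubgroup G A hsyl.1) hYA
  obtain ⟨d', hd', hd'e⟩ := isConj_iff_map.1 (isConj_symm hY₀)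
  obtain ⟨hY₀A, d, hd, hde, hdm, hxd⟩ := (hE _ _).1 (isMap_mono hFE hd')
  have hdY : ∀ z ∈ Y₀, cj d z ∈ Y := fun z hz => by
    rw [← hde z hz, ← hd'e]
    exact mem_img_self d' hz
  have hdY' : ∀ y ∈ Y, cj d⁻¹ y ∈ Y₀ := fun y hy => by
    obtain ⟨z, hz, rfl⟩ := hd'.mem_img.1 (hd'e.ge hy)
    rwa [hde z hz, cj_inv_cj]
  set z := b'⁻¹ * b with hz
  have hzG : z ∈ G := mul_mem (inv_mem hb') hb
  have hzfix : ∀ y ∈ Y, cj z y = y := fun y hy => by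
    rw [hz, cj_mul, he' y hy, cj_inv_cj]
  set z₀ := d⁻¹ * z * d with hz₀
  have hz₀fix : ∀ w ∈ Y₀, cj z₀ w = w := fun w hw => by
    rw [hz₀, cj_mul, cj_mul, hzfix _ (hdY w hw), cj_inv_cj]
  have hz₀N : z₀ ∈ normalizerIn G Y₀ := by
    refine ⟨mul_mem (mul_mem (G.inv_mem hd) hzG) hd, mem_normalizer_of_forall fun w hw => ?_⟩
    rw [← cj_apply, hz₀fix w hw]
    exact hw
  have hx₀ := ext_normalizer h hQ hQn hfam hY₀A
    ((Group.fullyNormalized_iff hsyl hY₀A).1 hY₀n) hz₀N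
  have hdinv : Ext F M N p Y d⁻¹ := by
    refine ext_inv h hQ hQc (sup_le hY₀A hIA) le_sup_right hxd fun y hy => ?_
    have h3 : d⁻¹ * y * d = cj d⁻¹ y := by rw [cj_apply, inv_inv]
    rw [h3]
    exact Subgroup.mem_sup_left (hdY' y hy)
  have h1 : Ext F M N p Y (z₀ * d⁻¹) := by
    refine ext_mul h hQ hIY hdinv hx₀ fun y hy => ?_
    rw [← cj_apply]
    exact Subgroup.mem_sup_left (hdY' y hy)
  have h2 : Ext F M N p Y (d * (z₀ * d⁻¹)) := by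
    refine ext_mul h hQ hIY h1 hxd fun y hy => ?_
    rw [← cj_apply, cj_mul, hz₀fix _ (hdY' y hy)]
    exact Subgroup.mem_sup_left (hdY' y hy)
  have h3 : Ext F M N p Y (b' * (d * (z₀ * d⁻¹))) := by
    refine ext_mul h hQ hIY h2 hx' fun y hy => ?_
    rw [← cj_apply, show d * (z₀ * d⁻¹) = z by rw [hz₀]; group, hzfix y hy]
    exact hy
  rw [show b' * (d * (z₀ * d⁻¹)) = b by rw [hz₀, hz]; group] at h3
  obtain ⟨θ, hθ, hθe⟩ := h3
  refine ⟨θ, gen_restrict h hθ fun u hu => ?_, hθe⟩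
  obtain ⟨huV, huN, w, hw, hwe⟩ := hu
  let y := conjAut (T₁ ⊓ T₂) Q ⟨u, huV, huN⟩
  have hyA : y ∈ A := (conjAut_range (T₁ ⊓ T₂) Q).le ⟨_, rfl⟩
  refine ⟨huV, y, ⟨hyA, ?_⟩, fun x hx => (conjAut_apply (K := T₁ ⊓ T₂) ⟨u, huV, huN⟩ hx).symm⟩
  show b * y * b⁻¹ ∈ A
  have hwN : w ∈ Subgroup.normalizer (Q : Set Ω) := mem_normalizer_of_forall fun x hx => by
    rw [← autFun_apply_inv b x, ← hwe _ (autFun_mem _ hx)]
    exact autFun_mem _ ((Subgroup.mem_normalizer_iff.1 huN _).1 (autFun_mem _ hx))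
  refine mem_autInducedBy_iff'.2 ⟨w, ⟨hw, hwN⟩, fun x hx => ?_⟩
  have hx' := autFun_mem b⁻¹ hx
  rw [autFun_mul, autFun_mul, conjAut_apply (K := T₁ ⊓ T₂) ⟨u, huV, huN⟩ hx']
  show autFun b (u * autFun b⁻¹ x * u⁻¹) = _
  rw [hwe _ hx', autFun_apply_inv, cj_apply]

end Cfsg.Agent.Fusion.MeetExt
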