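/-
The system generated by the automizers on `T₁ ∩ T₂` is saturated.
-/
import Mathlib
import Cfsg.Agent.Lib.Fusion.MeetLink
import Cfsg.Agent.Lib.Fusion.MeetExt

set_option autoImplicit false
set_option linter.all false

namespace Cfsg.Agent.Fusion.MeetSat

open Cfsg Cfsg.FusionSystem Cfsg.Agent.Fusion.Basic Cfsg.Agent.Fusion.Saturation
  Cfsg.Agent.Fusion.Normal Cfsg.Agent.Fusion.Factor Cfsg.Agent.Fusion.Subsystems
  Cfsg.Agent.Fusion.KNormalizer Cfsg.Agent.Fusion.SylIn Cfsg.Agent.Fusion.MeetAut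
  Cfsg.Agent.Fusion.Meet Cfsg.Agent.Fusion.MeetLink

variable {Ω : Type*} [Group Ω] {S T₁ T₂ : Subgroup Ω}
variable {F : FusionSystem S} {M : FusionSystem T₁} {N : FusionSystem T₂} {p : ℕ}
  [Finite S] [Fact p.Prime] (h : Pair F M N p) {P Q Q₀ R : Subgroup Ω} {f g : Ω → Ω}
include h

theorem card_V_le {A : Subgroup Ω} (hA : A ≤ T₁ ⊓ T₂) (hAQ : F.IsConj A Q₀)
    (hQ₀ : F.IsFullyNormalized Q₀) :
    Nat.card (normalizerIn (T₁ ⊓ T₂) A) ≤ Nat.card (normalizerIn (T₁ ⊓ T₂) Q₀) := by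
  obtain ⟨g, hg, hgQ⟩ := exists_map_to_fullyNormalized h.pg h.sat hQ₀ hAQ
  have hle : normalizerIn (T₁ ⊓ T₂) A ≤ normalizerIn S A := inf_le_inf_right _ (V_le h)
  have hfinV : Finite (T₁ ⊓ T₂ : Subgroup Ω) := finite_of_le (V_le h)
  have : Finite (normalizerIn (T₁ ⊓ T₂) Q₀) := finite_of_le normalizerIn_le
  rw [← (hg.restrict hle).card_img]
  refine card_le_card (img_le fun x hx => ⟨mem_V h hg (hle hx) hx.1, ?_⟩)
  rw [← hgQ]
  exact hg.mem_normalizer_img (le_normalizerIn (hA.trans (V_le h))) (hle hx) hx.2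

theorem card_transfer {α : MulAut (T₁ ⊓ T₂ : Subgroup Ω)} (hα : α ∈ F.autGroup (T₁ ⊓ T₂))
    (hQ : Q ≤ T₁ ⊓ T₂) (he : img (autFun α) Q = Q₀) :
    Nat.card (centralizerIn (T₁ ⊓ T₂) Q) ≤ Nat.card (centralizerIn (T₁ ⊓ T₂) Q₀) ∧
      Nat.card (normalizerIn (T₁ ⊓ T₂) Q) ≤ Nat.card (normalizerIn (T₁ ⊓ T₂) Q₀) := by
  have hm := isMap_of_mem_autGroup (V_le h) hα
  have hfinV : Finite (T₁ ⊓ T₂ : Subgroup Ω) := finite_of_le (V_le h)
  have : Finite (centralizerIn (T₁ ⊓ T₂) Q₀) := finite_of_le centralizerIn_le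
  have : Finite (normalizerIn (T₁ ⊓ T₂) Q₀) := finite_of_le normalizerIn_le
  refine ⟨?_, ?_⟩
  · rw [← (hm.restrict centralizerIn_le).card_img]
    refine card_le_card (img_le fun x hx => ⟨autFun_mem α hx.1, ?_⟩)
    rw [← he]
    exact hm.mem_centralizer_img hQ hx.1 hx.2
  · rw [← (hm.restrict normalizerIn_le).card_img]
    refine card_le_card (img_le fun x hx => ⟨autFun_mem α hx.1, ?_⟩)
    rw [← he]
    exact hm.mem_normalizer_img hQ hx.1 hx.2

theorem img_back {α : MulAut (T₁ ⊓ T₂ : Subgroup Ω)} (hα : α ∈ F.autGroup (T₁ ⊓ T₂))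
    (hQ : Q ≤ T₁ ⊓ T₂) (he : img (autFun α) Q = Q₀) : img (autFun α⁻¹) Q₀ = Q := by
  rw [← he, ((isMap_of_mem_autGroup (V_le h) hα).restrict hQ).img_img,
    img_congr (g := id) fun x _ => autFun_inv_apply α x, img_id]

theorem card_B_le (hP : P ≤ T₁ ⊓ T₂) (hg : IsMap F P g) (hgQ : img g P = Q) :
    Nat.card (B F M N p P) ≤ Nat.card (B F M N p Q) := by
  subst hgQ
  have : Finite (img g P) := finite_of_le hg.img_le_S
  choose e he hee using fun a : B F M N p P => transport h hP hg a.2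
  refine Nat.card_le_card_of_injective (fun a => (⟨e a, he a⟩ : B F M N p (img g P)))
    fun a b hab => ?_
  have h1 : e a = e b := congrArg Subtype.val hab
  refine Subtype.ext (autFun_ext fun x hx => hg.inj (autFun_mem _ hx) (autFun_mem _ hx) ?_)
  rw [← hee a x hx, ← hee b x hx, h1]

variable {D : FusionSystem (T₁ ⊓ T₂)} (hD : ∀ P f, IsMap D P f ↔ Gen F M N p P f)
include hD

theorem B_le_aut (hP : Fam F T₁ T₂ P) : B F M N p P ≤ D.autGroup P := fun _ ha =>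
  (mem_autGroup_iff hP.1).2 ((hD _ _).2 (.auto hP ha le_rfl))

/-- The generated maps on `V` are elements of its automizer. -/
theorem aut_top (hf : Gen F M N p P f) :
    T₁ ⊓ T₂ ≤ P → ∃ b ∈ B F M N p (T₁ ⊓ T₂), ∀ x ∈ T₁ ⊓ T₂, f x = autFun b x := by
  have hfinV : Finite (T₁ ⊓ T₂ : Subgroup Ω) := finite_of_le (V_le h)
  induction hf with
  | @auto P X a hX ha hPX =>
    intro hP
    obtain rfl : X = T₁ ⊓ T₂ := le_antisymm hX.1 (hP.trans hPX)
    exact ⟨a, ha, fun x _ => rfl⟩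
  | @conj P v hP' hv =>
    intro hP
    obtain ⟨b, hb, hbe⟩ := (isMap_cj (F := D) le_rfl hv).exists_aut
      (eq_of_le_card ((isMap_cj (F := D) le_rfl hv).img_le_S)
        (isMap_cj (F := D) le_rfl hv).card_img.ge)
    refine ⟨b, AV_le h le_rfl (mem_autInducedBy_iff'.2
      ⟨v, ⟨hv, Subgroup.le_normalizer hv⟩, hbe⟩), fun x hx => (hbe x hx).symm⟩
  | @comp P Q f g hf hg hPQ ihf ihg =>
    intro hP
    obtain ⟨b, hb, hbe⟩ := ihf hP
    have hQ : T₁ ⊓ T₂ ≤ Q := fun x hx => by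
      rw [← autFun_apply_inv b x, ← hbe _ (autFun_mem _ hx)]
      exact hPQ _ (hP (autFun_mem _ hx))
    obtain ⟨c, hc, hce⟩ := ihg hQ
    refine ⟨c * b, mul_mem hc hb, fun x hx => ?_⟩
    show g (f x) = _
    rw [hbe x hx, hce _ (autFun_mem _ hx), autFun_mul]
  | @congr P f g hf he ih =>
    intro hP
    obtain ⟨b, hb, hbe⟩ := ih hP
    exact ⟨b, hb, fun x hx => (he x (hP hx)).symm.trans (hbe x hx)⟩

theorem above_top :
    D.autGroup (T₁ ⊓ T₂) ≤ B F M N p (T₁ ⊓ T₂) ∧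
      SaturationCriterion.Good D p (T₁ ⊓ T₂) := by
  have hfinV : Finite (T₁ ⊓ T₂ : Subgroup Ω) := finite_of_le (V_le h)
  have hVp : IsPGroup p (T₁ ⊓ T₂ : Subgroup Ω) := h.pg.to_le (V_le h)
  have hle : D.autGroup (T₁ ⊓ T₂) ≤ B F M N p (T₁ ⊓ T₂) := fun a ha => by
    obtain ⟨b, hb, hbe⟩ := aut_top h hD ((hD _ _).1 (isMap_of_mem_autGroup le_rfl ha)) le_rfl
    rwa [autFun_ext hbe]
  have hcl : ∀ R, F.IsConj (T₁ ⊓ T₂) R → R = T₁ ⊓ T₂ := fun R hR => by
    obtain ⟨g, hg, rfl⟩ := isConj_iff_map.1 hR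
    exact eq_of_le_card (img_le_V h hg le_rfl le_rfl) hg.card_img.ge
  have hn : F.IsFullyNormalized (T₁ ⊓ T₂) := ⟨V_le h, fun R hR => by rw [hcl R hR]⟩
  have hs := sylow h le_rfl hn
  refine ⟨hle, _, isConj_refl le_rfl, (fullyAutomized_iff hVp).2 ⟨le_rfl, fun hdvd => hs.2.2 ?_⟩,
    isReceptive_iff.2 ⟨le_rfl, fun R f hf hfR => ?_⟩⟩
  · have hge : B F M N p (T₁ ⊓ T₂) ≤ D.autGroup (T₁ ⊓ T₂) := B_le_aut h hD
      ⟨le_rfl, fun R hR => by rw [hcl R hR]; exact centralizerIn_le⟩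
    rwa [le_antisymm hle hge] at hdvd
  · have hR : R = T₁ ⊓ T₂ := eq_of_le_card hf.le (by rw [← hf.card_img, hfR])
    subst hR
    exact ⟨f, hf.restrict ((nSub_le _ _ _).trans normalizerIn_le), fun x _ => rfl⟩

set_option maxHeartbeats 800000 in
/-- The classes of order `n` are good, if all bigger ones are. -/
theorem above_class {n : ℕ} (hab : Above F M N p D n) (hP : Fam F T₁ T₂ P) (hPn : Nat.card P = n)
    (hn : n < Nat.card (T₁ ⊓ T₂ : Subgroup Ω)) :
    D.autGroup P ≤ B F M N p P ∧ SaturationCriterion.Good D p P := by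
  have hfinV : Finite (T₁ ⊓ T₂ : Subgroup Ω) := finite_of_le (V_le h)
  have hVp : IsPGroup p (T₁ ⊓ T₂ : Subgroup Ω) := h.pg.to_le (V_le h)
  obtain ⟨Q₀, hPQ₀, hQ₀⟩ := exists_fullyNormalized (F := F) (hP.1.trans (V_le h))
  obtain ⟨θ, hθ, hθQ⟩ := isConj_iff_map.1 hPQ₀
  obtain ⟨α, hα, f₀, hf₀, hfe⟩ := fac_all h hP.1 hθ
  set Q := img f₀ P with hQdef
  have hf₀D : IsMap D P f₀ := (hD _ _).2 hf₀
  have hQfam : Fam F T₁ T₂ Q := fam_map h hP (gen_isMap h hf₀)
  have hQn : Nat.card Q = n := by rw [hf₀D.card_img, hPn]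
  have hαm := isMap_of_mem_autGroup (V_le h) hα
  have hαQ : img (autFun α) Q = Q₀ := by
    rw [(gen_isMap h hf₀).img_img, ← hθQ]
    exact (img_congr hfe).symm
  have hQ₀fam : Fam F T₁ T₂ Q₀ := hαQ ▸ fam_map h hQfam (hαm.restrict hQfam.1)
  have hback := img_back h hα hQfam.1 hαQ
  have hαi := inv_mem hα
  have hαim := isMap_of_mem_autGroup (V_le h) hαi
  -- the normalizer of `Q` is as big as possible
  have hmax : ∀ A, A ≤ T₁ ⊓ T₂ → F.IsConj A Q →
      Nat.card (normalizerIn (T₁ ⊓ T₂) A) ≤ Nat.card (normalizerIn (T₁ ⊓ T₂) Q) := fun A hA hAQ =>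
    (card_V_le h hA (isConj_trans hAQ (hαQ ▸ (hαm.restrict hQfam.1).isConj)) hQ₀).trans
      (card_transfer h hαi hQ₀fam.1 hback).2
  have hfinN : Finite (normalizerIn (T₁ ⊓ T₂) Q) := finite_of_le normalizerIn_le
  have hQlt : Q < normalizerIn (T₁ ⊓ T₂) Q := lt_normalizerIn hVp
    (lt_of_le_of_ne hQfam.1 fun e => by rw [e] at hQn; omega)
  -- maps onto `Q` give maps of normalizers
  have hlink : ∀ A f, Fam F T₁ T₂ A → Nat.card A = n → IsMap D A f → img f A = Q →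
      ∃ g, IsMap D (normalizerIn (T₁ ⊓ T₂) A) g ∧ img g A = Q ∧
        ∃ τ ∈ B F M N p Q, ∀ x ∈ A, f x = autFun τ (g x) := by
    intro A f hA hAn hf hfQ
    obtain ⟨C, u, k, τ, hu, hk, huC, hkC, hτ, hl⟩ :=
      link_all h hD hab hn ((hD _ _).1 hf) A le_rfl hA hAn
    rw [hfQ] at hk hkC
    have hQN : Q ≤ normalizerIn (T₁ ⊓ T₂) Q := hQlt.le
    have hkQ := hk.restrict hQN
    have hC : C ≤ T₁ ⊓ T₂ := hkC ▸ hkQ.img_le_S
    have : Finite (normalizerIn (T₁ ⊓ T₂) C) := finite_of_le normalizerIn_le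
    have hkN : img k (normalizerIn (T₁ ⊓ T₂) Q) = normalizerIn (T₁ ⊓ T₂) C := by
      refine eq_of_le_card (hkC ▸ hk.img_normalizerIn_le hQN le_rfl) ?_
      rw [hk.card_img]
      exact hmax C hC (hkC ▸ isConj_symm (toF h hD hkQ).isConj)
    obtain ⟨i, hi, hiimg, hik, -⟩ := hk.exists_inv
    rw [hkN] at hi
    have hAN : A ≤ normalizerIn (T₁ ⊓ T₂) A := le_normalizerIn hA.1
    have huN : ∀ x ∈ normalizerIn (T₁ ⊓ T₂) A, u x ∈ normalizerIn (T₁ ⊓ T₂) C := fun x hx =>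
      huC ▸ hu.img_normalizerIn_le hAN le_rfl (mem_img_self u hx)
    have hiC : img i C = Q := by
      rw [← hkC, hkQ.img_img, img_congr (g := id) fun x hx => hik x (hQN hx), img_id]
    obtain ⟨τ', hτ', hτe⟩ := transport_to h hC
      (toF h hD (hi.restrict (le_normalizerIn hC))) hiC hτ
    refine ⟨fun x => i (u x), hi.comp hu huN, ?_, τ', hτ', fun x hx => ?_⟩
    · rw [← (hu.restrict hAN).img_img, huC, hiC]
    · show f x = autFun τ' (i (u x))
      rw [hτe _ (huC ▸ mem_img_self u hx), ← hl x hx, hik _ (hQN (hfQ ▸ mem_img_self f hx))]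
  -- the automorphisms of `Q`
  have hautQ : D.autGroup Q ≤ B F M N p Q := by
    intro a ha
    obtain ⟨g, hg, hgQ, τ, hτ, he⟩ :=
      hlink Q _ hQfam hQn (isMap_of_mem_autGroup hQfam.1 ha) (autFun_img a)
    have himg : img g (normalizerIn (T₁ ⊓ T₂) Q) = normalizerIn (T₁ ⊓ T₂) Q := by
      refine eq_of_le_card ?_ hg.card_img.ge
      have := hg.img_normalizerIn_le hQlt.le le_rfl
      rwa [hgQ] at this
    obtain ⟨ψ, hψ, hψe⟩ := hg.exists_aut himg
    have hψB : ψ ∈ B F M N p (normalizerIn (T₁ ⊓ T₂) Q) :=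
      (hab _ (fam_mono h hQfam hQlt.le normalizerIn_le) (hQn ▸ card_lt_card hQlt)).1 hψ
    obtain ⟨b, hb, hbe⟩ := restrict h normalizerIn_le hQlt.le hψB fun x hx => by
      rw [hψe x (hQlt.le hx)]
      exact hgQ.le (mem_img_self g hx)
    have : a = τ * b := autFun_ext fun x hx => by
      rw [autFun_mul, hbe x hx, hψe x (hQlt.le hx), he x hx]
    rw [this]
    exact mul_mem hτ hb
  refine ⟨fun a ha => ?_, Q, hf₀D.isConj, ?_, ?_⟩
  · obtain ⟨e, hee⟩ := hf₀D.exists_autEquiv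
    have hfinP : Finite P := finite_of_le hP.1
    obtain ⟨i, hi, hiimg, hif, -⟩ := hf₀D.exists_inv
    obtain ⟨a', ha', ha'e⟩ := transport_to h hQfam.1 (toF h hD hi) hiimg
      (hautQ (e ⟨a, ha⟩).2)
    have : a = a' := autFun_ext fun x hx => by
      have h1 := ha'e _ (mem_img_self f₀ hx)
      rw [hif x hx, hee ⟨a, ha⟩ x hx, hif _ (autFun_mem a hx)] at h1
      exact h1.symm
    rwa [this]
  · -- `Q` is fully automized
    refine (fullyAutomized_iff hVp).2 ⟨hQfam.1, fun hdvd => ?_⟩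
    rw [le_antisymm hautQ (B_le_aut h hD hQfam)] at hdvd
    have hfinQ : Finite Q := finite_of_le hQfam.1
    have hfinQ₀ : Finite Q₀ := finite_of_le hQ₀fam.1
    have hs := sylow h hQ₀fam.1 hQ₀
    apply hs.2.2
    have key : ∀ {X : Type _} [_root_.Group X] {A B : Subgroup X}, A ≤ B →
        A.relIndex B * Nat.card A = Nat.card B := by
      intro X _ A B hAB
      rw [Subgroup.relIndex, ← Nat.card_congr (Subgroup.subgroupOfEquivOfLe hAB).toEquiv]
      exact Subgroup.index_mul_card _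
    have e1 := key (AV_le h hQfam.1)
    have e2 := key (AV_le h hQ₀fam.1)
    have eB : Nat.card (B F M N p Q) = Nat.card (B F M N p Q₀) :=
      le_antisymm (card_B_le h hQfam.1 (hαm.restrict hQfam.1) hαQ)
        (card_B_le h hQ₀fam.1 (hαim.restrict hQ₀fam.1) hback)
    have eC : Nat.card (centralizerIn (T₁ ⊓ T₂) Q) = Nat.card (centralizerIn (T₁ ⊓ T₂) Q₀) :=
      le_antisymm (card_transfer h hα hQfam.1 hαQ).1 (card_transfer h hαi hQ₀fam.1 hback).1
    have eN : Nat.card (normalizerIn (T₁ ⊓ T₂) Q) = Nat.card (normalizerIn (T₁ ⊓ T₂) Q₀) :=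
      le_antisymm (card_transfer h hα hQfam.1 hαQ).2 (card_transfer h hαi hQ₀fam.1 hback).2
    have a1 : Nat.card (autInducedBy (T₁ ⊓ T₂) Q) * Nat.card (centralizerIn (T₁ ⊓ T₂) Q) =
        Nat.card (normalizerIn (T₁ ⊓ T₂) Q) := card_autInducedBy_mul _ Q
    have a2 : Nat.card (autInducedBy (T₁ ⊓ T₂) Q₀) * Nat.card (centralizerIn (T₁ ⊓ T₂) Q₀) =
        Nat.card (normalizerIn (T₁ ⊓ T₂) Q₀) := card_autInducedBy_mul _ Q₀
    have eA : Nat.card (autInducedBy (T₁ ⊓ T₂) Q) = Nat.card (autInducedBy (T₁ ⊓ T₂) Q₀) := by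
      have : Finite (centralizerIn (T₁ ⊓ T₂) Q₀) := finite_of_le centralizerIn_le
      rw [eC, eN, ← a2] at a1
      exact Nat.eq_of_mul_eq_mul_right Nat.card_pos a1
    rw [eA, eB, ← e2] at e1
    rwa [← Nat.eq_of_mul_eq_mul_right Nat.card_pos e1]
  · -- `Q` is receptive
    refine isReceptive_iff.2 ⟨hQfam.1, fun R f hf hfR => ?_⟩
    have hRfam : Fam F T₁ T₂ R := by
      obtain ⟨i, hi, hiimg, -, -⟩ := hf.exists_inv
      rw [hfR] at hi hiimg
      exact hiimg ▸ fam_map h hQfam (toF h hD hi)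
    have hRn : Nat.card R = n := by rw [← hQn, ← hfR, hf.card_img]
    obtain ⟨g, hg, hgQ, τ, hτ, he⟩ := hlink R f hRfam hRn hf hfR
    obtain ⟨τ₀, hτ₀, hτ₀e⟩ := transport_to h hQfam.1 (hαm.restrict hQfam.1) hαQ hτ
    obtain ⟨θ₀, hθ₀, hθ₀e⟩ := MeetExt.exists_ext h hQ₀fam.1 hQ₀ hQ₀fam hτ₀
    obtain ⟨θ', hθ', hθ'e⟩ := gen_transport h hθ₀ hαi
    have hRN : R ≤ normalizerIn (T₁ ⊓ T₂) R := le_normalizerIn hRfam.1
    have hmem : ∀ u ∈ nSub (T₁ ⊓ T₂) R f,
        autFun α (g u) ∈ nSub (T₁ ⊓ T₂) Q₀ (autFun τ₀) := by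
      intro u hu
      have huN := nSub_le _ R f hu
      have hguV : g u ∈ T₁ ⊓ T₂ := hg.mem huN
      have hgun : g u ∈ Subgroup.normalizer (Q : Set Ω) :=
        hgQ ▸ hg.mem_normalizer_img hRN huN huN.2
      obtain ⟨-, hun, w, hw, hwe⟩ := hu
      refine ⟨autFun_mem α hguV, ?_, autFun α w, autFun_mem α hw, fun y hy => ?_⟩
      · rw [← hαQ]
        exact hαm.mem_normalizer_img hQfam.1 hguV hgun
      rw [← hαQ] at hy
      obtain ⟨z, hz, rfl⟩ := (hαm.restrict hQfam.1).mem_img.1 hy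
      obtain ⟨x, hx, rfl⟩ := (hg.restrict hRN).mem_img.1 (hgQ.ge hz)
      have hux : u * x * u⁻¹ ∈ R := (Subgroup.mem_normalizer_iff.1 hun x).1 hx
      rw [← (autFun_isHom α).map_conj hguV (hQfam.1 hz), ← hg.map_conj huN (hRN hx),
        hτ₀e _ (hgQ ▸ mem_img_self g hux), hτ₀e _ hz, ← he _ hux, ← he x hx, hwe x hx,
        (autFun_isHom α).map_conj hw (hf.mem hx)]
    refine ⟨fun u => θ' (g u), ((hD _ _).2 hθ').comp (hg.restrict (nSub_le _ R f))
      fun u hu => ?_, fun x hx => ?_⟩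
    · have h1 := mem_img_self (autFun α⁻¹) (hmem u hu)
      rwa [autFun_inv_apply] at h1
    · show θ' (g x) = f x
      have hgx : g x ∈ Q := hgQ ▸ mem_img_self g hx
      have hαgx : autFun α (g x) ∈ Q₀ := hαQ ▸ mem_img_self _ hgx
      have h1 := hθ'e _ (le_nSub ((hD _ _).2 (Gen.auto hQ₀fam hτ₀ le_rfl)) hαgx)
      rw [autFun_inv_apply, hθ₀e _ hαgx, hτ₀e _ hgx, autFun_inv_apply, ← he x hx] at h1
      exact h1

/-- All classes in the family are good, and the automorphism groups are the automizers. -/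
theorem above (hP : Fam F T₁ T₂ P) :
    D.autGroup P ≤ B F M N p P ∧ SaturationCriterion.Good D p P := by
  have hfinV : Finite (T₁ ⊓ T₂ : Subgroup Ω) := finite_of_le (V_le h)
  induction hn : Nat.card (T₁ ⊓ T₂ : Subgroup Ω) - Nat.card P using Nat.strong_induction_on
    generalizing P with
  | _ d ih =>
  rcases eq_or_lt_of_le hP.1 with rfl | hlt
  · exact above_top h hD
  refine above_class h hD (fun R hR hlt' => ?_) hP rfl (card_lt_card hlt)
  have := card_le_card hR.1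
  exact ih _ (by omega) hR rfl

theorem autGroup_eq (hP : Fam F T₁ T₂ P) : D.autGroup P = B F M N p P :=
  le_antisymm (above h hD hP).1 (B_le_aut h hD hP)

/-- The system is saturated. -/
theorem saturated : D.IsSaturated p := by
  have hfinV : Finite (T₁ ⊓ T₂ : Subgroup Ω) := finite_of_le (V_le h)
  refine SaturationCriterion.saturated_of_family (ℋ := {P | Fam F T₁ T₂ P}) (h.pg.to_le (V_le h))
    (fun P hP Q hQ => ?_) (fun P hP => (above h hD hP).2) (fun E hE => ?_)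
    (fun P hP hnot => absurd ((fam_iff_centric h hD).2 hP) hnot)
  · obtain ⟨f, hf, rfl⟩ := isConj_iff_map.1 hQ
    exact fam_map h hP (toF h hD hf)
  refine le_of_isMap fun P f hf => ?_
  have hg := (hD P f).1 hf
  clear hf
  induction hg with
  | @auto P X a hX ha hPX =>
    have hm : IsMap D X (autFun a) := (hD _ _).2 (.auto hX ha le_rfl)
    obtain ⟨φ, hφ, hφe⟩ := hm
    exact (IsMap.congr (IsMap.of_hom (hE X hX hφ)) fun x hx => by
      rw [ext_of_mem φ hx]; exact hφe ⟨x, hx⟩).restrict hPX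
  | conj hP hv => exact isMap_cj hP hv
  | comp _ _ hPQ ihf ihg => exact ihg.comp ihf hPQ
  | congr _ he ih => exact ih.congr he

/-- The system is weakly normal in `F`. -/
theorem weaklyNormal : D.IsWeaklyNormalIn F p :=
  ⟨saturated h hD, h.sat, invariant h hD⟩

end Cfsg.Agent.Fusion.MeetSat
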