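/-
Two weakly normal subsystems over the same subgroup share their `O^{p'}`.
-/
import Mathlib
import Cfsg.Agent.Lib.Fusion.PPrimeNormal

set_option autoImplicit false
set_option linter.unusedSectionVars false

namespace Cfsg.Agent.Fusion.PPrimeMinimal

open Cfsg Cfsg.FusionSystem Cfsg.Agent.Fusion.Basic Cfsg.Agent.Fusion.Saturation
  Cfsg.Agent.Fusion.CentricExt Cfsg.Agent.Fusion.PPrimeGen Cfsg.Agent.Fusion.PPrimeResidual
  Cfsg.Agent.Fusion.Subsystems Cfsg.Agent.Fusion.WeaklyNormalTop Cfsg.Agent.Fusion.PPrimeNormal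

variable {Ω : Type*} [Group Ω] {S T P Q R U : Subgroup Ω} {F : FusionSystem S}
  {E₁ E₂ : FusionSystem T} {p : ℕ} {f : Ω → Ω}

section

variable {E : FusionSystem T} [Finite S] [hp : Fact p.Prime] (hS : IsPGroup p S)
  (hF : F.IsSaturated p) (hE : E.IsInvariantIn F) (hEs : E.IsSaturated p)
include hS hF hE hEs

/-- An element of `Aut_F(T)` whose restriction to a centric subgroup is a map of `E` has a
`p`-power in `Aut_E(T)`. -/
theorem climb_pow {a : MulAut T} (haA : a ∈ F.autGroup T) (hR : E.IsCentric R)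
    (ha : IsMap E R (autFun a)) : ∃ k, a ^ p ^ k ∈ E.autGroup T := by
  have hTS : T ≤ S := subsystem_le hE.1
  have hfinT : Finite T := finite_of_le hTS
  have hTp : IsPGroup p T := hS.to_le hTS
  induction hn : Nat.card T - Nat.card R using Nat.strong_induction_on generalizing R a with
  | _ n ih =>
  rcases eq_or_lt_of_le hR.1 with rfl | hlt
  · exact ⟨0, by rw [pow_zero, pow_one]; exact (mem_autGroup_iff le_rfl).2 ha⟩
  set R₁ := normalizerIn T R with hR₁
  have hRR₁ : R < R₁ := lt_normalizerIn hTp hlt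
  have hR₁T : R₁ ≤ T := normalizerIn_le
  have : Finite R₁ := finite_of_le hR₁T
  have haF : IsMap F T (autFun a) := isMap_of_mem_autGroup hTS haA
  obtain ⟨θ, hθ, hθe⟩ := exists_extension hTp hEs ha
    (centric_fullyCentralized (centric_conj hR ha.isConj))
  have hN : R₁ ≤ nSub T R (autFun a) := fun x hx => mem_nSub.2
    ⟨hx.1, hx.2, _, autFun_mem _ hx.1, fun y hy => haF.map_conj hx.1 (hR.1 hy)⟩
  have hd : IsMap E R₁ θ := hθ.restrict hN
  obtain ⟨a', e, he, hde⟩ := frattini hTp hEs hd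
  have ha'F : IsMap F T (autFun (a' : MulAut T)) :=
    isMap_of_subset hE.1 (isMap_of_mem_autGroup le_rfl a'.2)
  set c : MulAut T := (a' : MulAut T)⁻¹ * a with hcdef
  have hcF : c ∈ F.autGroup T :=
    mul_mem (Subgroup.inv_mem _ ((mem_autGroup_iff hTS).2 ha'F)) ((mem_autGroup_iff hTS).2 haF)
  have hcm : IsMap F T (autFun c) := isMap_of_mem_autGroup hTS hcF
  have hce : ∀ r ∈ R, autFun c r = e r := fun r hr => by
    rw [hcdef, autFun_mul, ← hθe r hr, hde r (hRR₁.le hr), autFun_inv_apply]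
  have hcR₁ : ∀ x ∈ R₁, autFun c x ∈ img e R₁ := by
    have hle : img e R₁ ≤ img (autFun c) R₁ := by
      refine img_le fun x hx => ?_
      have hexT : e x ∈ T := he.isMap.mem hx
      have hN' : e x ∈ Subgroup.normalizer (img (autFun c) R : Set Ω) := by
        rw [img_congr hce]
        exact he.isMap.mem_normalizer_img hRR₁.le hx hx.2
      have hy : autFun c⁻¹ (e x) ∈ R₁ := by
        refine ⟨autFun_mem _ hexT, ?_⟩
        have hci : IsMap F T (autFun c⁻¹) :=
          isMap_of_mem_autGroup hTS (Subgroup.inv_mem _ hcF)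
        have h := hci.mem_normalizer_img (img_le fun r hr => autFun_mem _ (hR.1 hr)) hexT hN'
        rwa [(hcm.restrict hR.1).img_img, img_congr (g := id) fun r _ => autFun_inv_apply c r,
          img_id] at h
      have h2 := mem_img_self (autFun c) hy
      rwa [autFun_apply_inv] at h2
    have heq : img e R₁ = img (autFun c) R₁ := by
      have : Finite (img (autFun c) R₁) :=
        finite_of_le (img_le fun x hx => autFun_mem c (hR₁T hx) : img (autFun c) R₁ ≤ T)
      refine eq_of_le_card hle ?_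
      rw [he.isMap.card_img, (hcm.restrict hR₁T).card_img]
    exact fun x hx => heq.symm ▸ mem_img_self _ hx
  obtain ⟨j, hj, hje⟩ := he.exists_inv
  set η : Ω → Ω := fun x => j (autFun c x) with hηdef
  have hη : IsMap F R₁ η :=
    (isMap_of_subset hE.1 hj.isMap).comp (hcm.restrict hR₁T) hcR₁
  have hjm : ∀ y ∈ img e R₁, j y ∈ R₁ := fun y hy => by
    obtain ⟨x, hx, rfl⟩ := he.isMap.mem_img.1 hy
    rwa [hje x hx]
  have hηm : ∀ x ∈ R₁, η x ∈ R₁ := fun x hx => hjm _ (hcR₁ x hx)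
  have hηfix : ∀ r ∈ R, η r = r := fun r hr => by
    show j (autFun c r) = r
    rw [hce r hr, hje r (hRR₁.le hr)]
  have hz : ∀ g ∈ R₁, η g * g⁻¹ ∈ R := by
    intro g hg
    refine centric_centralizerIn_le hR
      ⟨mul_mem (hR₁T (hηm g hg)) (Subgroup.inv_mem _ hg.1), fun r hr => ?_⟩
    have hr' : g⁻¹ * r * g ∈ R := by
      simpa using (Subgroup.mem_normalizer_iff.1 (Subgroup.inv_mem _ hg.2) r).1 hr
    have h1 := hη.map_conj hg (hRR₁.le hr')
    rw [show g * (g⁻¹ * r * g) * g⁻¹ = r by group, hηfix r hr, hηfix _ hr'] at h1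
    calc r * (η g * g⁻¹) = η g * (g⁻¹ * r * g) * (η g)⁻¹ * (η g * g⁻¹) := by rw [← h1]
      _ = η g * g⁻¹ * r := by group
  have : Finite R := finite_of_le hR.1
  obtain ⟨m, hm⟩ := IsPGroup.iff_card.1 (hTp.to_le hR.1)
  have hfix₁ : ∀ g ∈ R₁, η^[p ^ m] g = g := by
    intro g hg
    have hpw : ∀ i : ℕ, η^[i] g = (η g * g⁻¹) ^ i * g := by
      intro i
      induction i with
      | zero => simp
      | succ i ihi =>
        have hzj := Subgroup.pow_mem R (hz g hg) i
        rw [Function.iterate_succ', Function.comp_apply, ihi,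
          hη.map_mul (hRR₁.le hzj) hg, hηfix _ hzj, pow_succ, mul_assoc, inv_mul_cancel_right]
    have : (η g * g⁻¹) ^ p ^ m = 1 := by
      have h : (⟨_, hz g hg⟩ : R) ^ Nat.card R = 1 := pow_card_eq_one'
      rw [hm] at h
      simpa using congrArg Subtype.val h
    rw [hpw, this, one_mul]
  -- powers of `c` are generated up to powers of `η`
  have hkey : ∀ i : ℕ, ∃ G, Gen E p (img (autFun (c ^ i)) R₁) G ∧
      ∀ x ∈ R₁, η^[i] x = G (autFun (c ^ i) x) := by
    intro i
    induction i with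
    | zero =>
      refine ⟨id, Gen.ident ?_, fun x _ => by simp [autFun_one]⟩
      rw [pow_zero, autFun_one, img_id]
      exact hR₁T
    | succ i ihi =>
      obtain ⟨G, hG, hGe⟩ := ihi
      have hci := isMap_of_mem_autGroup hTS (pow_mem hcF i)
      have hGt := gen_transport hE hS hF hEs hcF hG
      have himg : img (autFun c) (img (autFun (c ^ i)) R₁) = img (autFun (c ^ (i + 1))) R₁ := by
        rw [(hci.restrict hR₁T).img_img]
        exact img_congr fun x _ => by rw [pow_succ', autFun_mul c (c ^ i)]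
      rw [himg] at hGt
      have hmem : ∀ y ∈ img (autFun (c ^ (i + 1))) R₁,
          autFun c (G (autFun c⁻¹ y)) ∈ img e R₁ := by
        intro y hy
        obtain ⟨x, hx, rfl⟩ := ((isMap_of_mem_autGroup hTS (pow_mem hcF (i + 1))).restrict
          hR₁T).mem_img.1 hy
        rw [pow_succ', autFun_mul c (c ^ i), autFun_inv_apply, ← hGe x hx]
        exact hcR₁ _ ((isMap_iterate hη hηm i).2 x hx)
      refine ⟨_, hGt.comp hj hmem, fun x hx => ?_⟩
      show _ = j (autFun c (G (autFun c⁻¹ (autFun (c ^ (i + 1)) x))))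
      rw [Function.iterate_succ', Function.comp_apply, hGe x hx, pow_succ', autFun_mul c (c ^ i),
        autFun_inv_apply]
  obtain ⟨G, hG, hGe⟩ := hkey (p ^ m)
  obtain ⟨Gi, hGi, hGie⟩ := hG.exists_inv
  have himgG : img G (img (autFun (c ^ p ^ m)) R₁) = R₁ := by
    rw [((isMap_of_mem_autGroup hTS (pow_mem hcF (p ^ m))).restrict hR₁T).img_img,
      img_congr (g := id) fun x hx => by rw [← hGe x hx, hfix₁ x hx]; rfl, img_id]
  rw [himgG] at hGi
  have hcn : IsMap E R₁ (autFun (c ^ p ^ m)) := hGi.isMap.congr fun x hx => by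
    have h1 := hGie _ (mem_img_self (autFun (c ^ p ^ m)) hx)
    rwa [← hGe x hx, hfix₁ x hx] at h1
  -- `a ^ n` differs from `c ^ n` by an automorphism in `E`
  have hN2 := autGroup_normal hE (le_refl T)
  set A := F.autGroup T with hA
  set N2 := (E.autGroup T).subgroupOf A with hN2def
  let cc : A := ⟨c, hcF⟩
  let aa : A := ⟨a, (mem_autGroup_iff hTS).2 haF⟩
  have hq : QuotientGroup.mk' N2 cc = QuotientGroup.mk' N2 aa := by
    let bb : A := ⟨a', (mem_autGroup_iff hTS).2 ha'F⟩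
    have hcc : cc = bb⁻¹ * aa := Subtype.ext hcdef
    have hbb : QuotientGroup.mk' N2 bb = 1 :=
      (QuotientGroup.eq_one_iff _).2 (Subgroup.mem_subgroupOf.2 a'.2)
    rw [hcc, map_mul, map_inv, hbb, inv_one, one_mul]
  have hq' : QuotientGroup.mk' N2 (cc ^ p ^ m) = QuotientGroup.mk' N2 (aa ^ p ^ m) := by
    rw [map_pow, map_pow, hq]
  have hu : (aa ^ p ^ m) * (cc ^ p ^ m)⁻¹ ∈ N2 := by
    rw [← QuotientGroup.eq_one_iff]
    show QuotientGroup.mk' N2 _ = 1
    rw [map_mul, map_inv, hq', mul_inv_cancel]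
  have han : IsMap E R₁ (autFun (a ^ p ^ m)) := by
    have h3 := (isMap_of_mem_autGroup (F := E) le_rfl (Subgroup.mem_subgroupOf.1 hu)).comp hcn
      fun x hx => autFun_mem _ (hR₁T hx)
    refine h3.congr fun x hx => ?_
    simp only [Subgroup.coe_mul, Subgroup.coe_inv, SubmonoidClass.coe_pow, aa, cc]
    rw [← autFun_mul, inv_mul_cancel_right]
  obtain ⟨k, hk⟩ := ih _ (by
    have := card_lt_card hRR₁
    have := card_le_card hR₁T
    omega) (pow_mem haA _) (centric_mono hR hRR₁.le hR₁T) han rfl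
  exact ⟨m + k, by rwa [pow_add, pow_mul]⟩

end

variable [Finite S] [hp : Fact p.Prime] (hS : IsPGroup p S) (hF : F.IsSaturated p)
  (h₁ : E₁.IsInvariantIn F) (h₁s : E₁.IsSaturated p)
  (h₂ : E₂.IsInvariantIn F) (h₂s : E₂.IsSaturated p)
include hS hF h₁ h₁s h₂ h₂s

/-- An automorphism of `p`-power order of one subsystem lies in the other. -/
theorem pElement (hU : U ≤ T) (β : E₁.autGroup U) {k : ℕ} (hk : β ^ p ^ k = 1) :
    (β : MulAut U) ∈ E₂.autGroup U := by
  obtain ⟨θ, t, hθ, -, ht, hkey⟩ := exists_conjElt h₁ hS hF h₁s hU β hk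
  have hT' : img θ U ≤ T := img_le_T h₁ hU hθ
  obtain ⟨i, hi, hiimg, hiθ, -⟩ := hθ.exists_inv
  obtain ⟨g, hg, hge⟩ := conj_transport h₂ hi hT' (isMap_cj (F := E₂) hT' ht.1) le_rfl
    fun y hy => (Subgroup.mem_normalizer_iff.1 ht.2 y).1 hy
  rw [hiimg] at hg
  refine (mem_autGroup_iff hU).2 (hg.congr fun x hx => ?_)
  have h3 := hge _ (mem_img_self θ hx)
  rw [hiθ x hx, cj_apply, ← hkey x hx, hiθ _ (autFun_mem _ hx)] at h3
  exact h3

theorem centric_transfer (hU : E₁.IsCentric U) : E₂.IsCentric U :=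
  ⟨hU.1, fun Q hQ => by
    obtain ⟨q, hq, rfl⟩ := isConj_iff_map.1 hQ
    exact cent_le h₁ hU (isMap_of_subset h₂.1 hq)⟩

/-- The generated maps of one subsystem are maps of the other. -/
theorem gen_isMap (hf : Gen E₁ p P f) : IsMap E₂ P f := by
  induction hf with
  | @base P V α k hV hα hP =>
    exact (isMap_of_mem_autGroup hV.1 (pElement hS hF h₁ h₁s h₂ h₂s hV.1 α hα)).restrict hP
  | ident hP => exact isMap_id hP
  | comp _ _ hPQ ihf ihg => exact ihg.comp ihf hPQ
  | congr _ he ih => exact ih.congr he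

/-- An element of `Aut_{E₁}(T)` whose restriction to a centric subgroup is a map of `E₂` lies in
`Aut_{E₂}(T)`. -/
theorem climb (hR : E₁.IsCentric R) (a : E₁.autGroup T)
    (ha : IsMap E₂ R (autFun (a : MulAut T))) : (a : MulAut T) ∈ E₂.autGroup T := by
  have hTS : T ≤ S := subsystem_le h₁.1
  have hfinT : Finite T := finite_of_le hTS
  have hTp : IsPGroup p T := hS.to_le hTS
  obtain ⟨m, hpow'⟩ := climb_pow hS hF h₂ h₂s
    ((mem_autGroup_iff hTS).2 (isMap_of_subset h₁.1 (isMap_of_mem_autGroup le_rfl a.2)))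
    (centric_transfer hS hF h₁ h₁s h₂ h₂s hR) ha
  have hpow : ((a ^ p ^ m : E₁.autGroup T) : MulAut T) ∈ E₂.autGroup T := by
    rwa [SubmonoidClass.coe_pow]
  set A := F.autGroup T with hA
  have hN2 := autGroup_normal h₂ (le_refl T)
  -- descend from `a ^ n`
  have hinn : autInducedBy T T ≤ E₂.autGroup T := autInducedBy_le le_rfl
  set K : Subgroup (E₁.autGroup T) := (E₂.autGroup T).subgroupOf (E₁.autGroup T) with hK
  have hKn : K.Normal := ⟨fun b hb g => by
    have hgF : (g : MulAut T) ∈ A :=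
      (mem_autGroup_iff hTS).2 (isMap_of_subset h₁.1 (isMap_of_mem_autGroup le_rfl g.2))
    have hbF : (b : MulAut T) ∈ A :=
      (mem_autGroup_iff hTS).2 (isMap_of_subset h₁.1 (isMap_of_mem_autGroup le_rfl b.2))
    exact Subgroup.mem_subgroupOf.2 (Subgroup.mem_subgroupOf.1
      (hN2.conj_mem ⟨b, hbF⟩ (Subgroup.mem_subgroupOf.2 (Subgroup.mem_subgroupOf.1 hb))
        ⟨g, hgF⟩))⟩
  have hfnT : E₁.IsFullyNormalized T := by
    refine ⟨le_rfl, fun Q hQ => ?_⟩
    rw [Alperin.eq_top_of_card le_rfl hQ rfl]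
  obtain ⟨Sy, hSy⟩ := (fullyNormalized_fullyAutomized hTp h₁s hfnT).2
  have hle : (Sy : Subgroup (E₁.autGroup T)) ≤ K := by
    rw [hSy]
    exact fun b hb => Subgroup.mem_subgroupOf.2 (hinn (Subgroup.mem_subgroupOf.1 hb))
  have hcop : K.index.Coprime p :=
    Nat.Coprime.coprime_dvd_left (Subgroup.index_dvd_of_le hle)
      ((Fact.out : p.Prime).coprime_iff_not_dvd.2 Sy.not_dvd_index).symm
  set am := QuotientGroup.mk' K a with ham
  have hord : (p ^ m).Coprime (orderOf am) :=
    (Nat.Coprime.pow_right m (hcop.coprime_dvd_left (orderOf_dvd_natCard am))).symm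
  obtain ⟨i, hi⟩ := exists_pow_eq_self_of_coprime hord
  have h1 : am ^ p ^ m = 1 := by
    rw [ham, ← map_pow]
    exact (QuotientGroup.eq_one_iff _).2 (Subgroup.mem_subgroupOf.2 hpow)
  rw [h1, one_pow] at hi
  exact Subgroup.mem_subgroupOf.1 ((QuotientGroup.eq_one_iff _).1 hi.symm)

/-- The value-one system of one subsystem lies in the other. -/
theorem sub_of_val [Finite T] {D : FusionSystem T}
    (hD : ∀ (P : Subgroup Ω) (f : Ω → Ω), IsMap D P f ↔ Val E₁ p P f 1) :
    D.IsSubsystemOf E₂ := fun P => subset_of_isMap fun f hf => by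
  obtain ⟨a, ha, e, he, hfe⟩ := (hD P f).1 hf
  have hA : A0 E₁ p ≤ (E₂.autGroup T).subgroupOf (E₁.autGroup T) := by
    refine (Subgroup.closure_le _).2 fun c hc => Subgroup.mem_subgroupOf.2 ?_
    obtain ⟨R, hR, hg⟩ := hc
    exact climb hS hF h₁ h₁s h₂ h₂s hR c (gen_isMap hS hF h₁ h₁s h₂ h₂s hg)
  have ha2 := Subgroup.mem_subgroupOf.1 (hA ((QuotientGroup.eq_one_iff a).1 ha))
  exact ((isMap_of_mem_autGroup le_rfl ha2).comp (gen_isMap hS hF h₁ h₁s h₂ h₂s he)
    fun x hx => he.isMap.mem hx).congr fun x hx => (hfe x hx).symm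

end Cfsg.Agent.Fusion.PPrimeMinimal
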