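/-
The normal subsystem of index prime to `p` given by a `p'`-quotient of `Aut_F(T)` trivial on
`Aut_E(T)`, for an invariant saturated subsystem `E` over `T`.
-/
import Mathlib
import Cfsg.Agent.Lib.Fusion.PPrimeMinimal

set_option autoImplicit false
set_option linter.unusedSectionVars false

namespace Cfsg.Agent.Fusion.PPrimeIndex

open Cfsg Cfsg.FusionSystem Cfsg.Agent.Fusion.Basic Cfsg.Agent.Fusion.Saturation
  Cfsg.Agent.Fusion.CentricExt Cfsg.Agent.Fusion.PPrimeGen Cfsg.Agent.Fusion.PPrimeResidual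
  Cfsg.Agent.Fusion.Subsystems Cfsg.Agent.Fusion.WeaklyNormalTop Cfsg.Agent.Fusion.PPrimeNormal
  Cfsg.Agent.Fusion.KNormalizer

universe u v

variable {Ω : Type u} [Group Ω] {S T P Q R U W : Subgroup Ω} {F : FusionSystem S}
  {E : FusionSystem T} {p : ℕ} {f g : Ω → Ω}
  {Δ : Type v} [Group Δ] [Finite Δ] {δ δ' : Δ}

theorem eq_one_of_pow [hp : Fact p.Prime] (hcop : (Nat.card Δ).Coprime p) {d : Δ} {k : ℕ}
    (h : d ^ p ^ k = 1) : d = 1 :=
  orderOf_eq_one_iff.1 (Nat.eq_one_of_dvd_coprimes (hcop.pow_right k) (orderOf_dvd_natCard d)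
    (orderOf_dvd_of_pow_eq_one h))

/-! ### Values of maps on centric subgroups of `E` -/

/-- `f` on `W` is an automorphism of `T` of value `δ` after a map of `E`. -/
def CVal (E : FusionSystem T) (χ : F.autGroup T →* Δ) (W : Subgroup Ω) (f : Ω → Ω) (δ : Δ) :
    Prop :=
  ∃ α : F.autGroup T, χ α = δ ∧ ∃ e, IsMap E W e ∧ ∀ x ∈ W, f x = autFun (α : MulAut T) (e x)

variable [Finite S] [hp : Fact p.Prime] (hS : IsPGroup p S) (hF : F.IsSaturated p)
  (hE : E.IsInvariantIn F) (hEs : E.IsSaturated p) (hcop : (Nat.card Δ).Coprime p)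
  (χ : F.autGroup T →* Δ) (hker : (E.autGroup T).subgroupOf (F.autGroup T) ≤ χ.ker)
include hS hF hE hEs hcop hker

theorem cval_id (hW : W ≤ T) : CVal E χ W id 1 :=
  ⟨1, map_one χ, id, isMap_id hW, fun x _ => by rw [OneMemClass.coe_one, autFun_one]; rfl⟩

theorem CVal.comp' (hf : CVal E χ W f δ) (hg : CVal E χ Q g δ') (hWQ : ∀ x ∈ W, f x ∈ Q) :
    CVal E χ W (fun x => g (f x)) (δ' * δ) := by
  obtain ⟨α, rfl, e, he, hfe⟩ := hf
  obtain ⟨β, rfl, d, hd, hgd⟩ := hg
  obtain ⟨k, hk, hke⟩ := invariant_transport hE hd.le hd (Subgroup.inv_mem _ α.2)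
  have hmem : ∀ x ∈ W, e x ∈ img (autFun (α : MulAut T)⁻¹) Q := fun x hx => by
    have := mem_img_self (autFun (α : MulAut T)⁻¹) (hWQ x hx)
    rwa [hfe x hx, autFun_inv_apply] at this
  refine ⟨β * α, map_mul χ _ _, fun x => k (e x), hk.comp he hmem, fun x hx => ?_⟩
  show g (f x) = autFun _ (k (e x))
  have h1 := hke _ (hWQ x hx)
  rw [show autFun (α : MulAut T)⁻¹ (f x) = e x by rw [hfe x hx, autFun_inv_apply]] at h1
  rw [h1, Subgroup.coe_mul, autFun_mul, autFun_apply_inv, hgd _ (hWQ x hx)]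

theorem CVal.unique' (hW : E.IsCentric W) (h : CVal E χ W f δ) (h' : CVal E χ W f δ') :
    δ = δ' := by
  obtain ⟨α, rfl, e, he, hfe⟩ := h
  obtain ⟨β, rfl, d, hd, hfd⟩ := h'
  have : Finite T := finite_of_le (subsystem_le hE.1)
  obtain ⟨ei, hei, -, hee, -⟩ := he.exists_inv
  have hmaps : ∀ y ∈ img e W, ei y ∈ W := fun y hy => by
    obtain ⟨x, hx, rfl⟩ := he.mem_img.1 hy
    rwa [hee x hx]
  have hm : IsMap E (img e W) (autFun ((β⁻¹ * α : F.autGroup T) : MulAut T)) := by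
    refine (hd.comp hei hmaps).congr fun y hy => ?_
    obtain ⟨x, hx, rfl⟩ := he.mem_img.1 hy
    rw [hee x hx, Subgroup.coe_mul, Subgroup.coe_inv, autFun_mul, ← hfe x hx, hfd x hx,
      autFun_inv_apply]
  obtain ⟨k, hk⟩ := PPrimeMinimal.climb_pow hS hF hE hEs (β⁻¹ * α : F.autGroup T).2
    (centric_conj hW he.isConj) hm
  have h1 : χ (β⁻¹ * α) ^ p ^ k = 1 := by
    rw [← map_pow]
    exact hker (Subgroup.mem_subgroupOf.2 (by rwa [SubmonoidClass.coe_pow]))
  have h2 := eq_one_of_pow hcop h1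
  rw [map_mul, map_inv, inv_mul_eq_one] at h2
  exact h2.symm

theorem CVal.restrict' (h : CVal E χ W f δ) (hU : U ≤ W) : CVal E χ U f δ := by
  obtain ⟨α, hα, e, he, hfe⟩ := h
  exact ⟨α, hα, e, he.restrict hU, fun x hx => hfe x (hU hx)⟩

/-- Generated maps of `F` have value one on centric subgroups of `E`. -/
theorem gen_cval (hf : Gen F p P f) (hW : E.IsCentric W) (hWP : W ≤ P) : CVal E χ W f 1 := by
  induction hf generalizing W with
  | @base P V β k hV hβ hP =>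
    set W' := V ⊓ T with hW'def
    have hWW' : W ≤ W' := le_inf (hWP.trans hP) hW.1
    have hW' : E.IsCentric W' := by
      have : Finite T := finite_of_le (subsystem_le hE.1)
      exact centric_mono hW hWW' inf_le_right
    have hm : IsMap F W' (autFun (β : MulAut V)) :=
      (isMap_of_mem_autGroup hV.1 β.2).restrict inf_le_left
    have hmaps : ∀ x ∈ W', autFun (β : MulAut V) x ∈ W' := fun x hx =>
      ⟨autFun_mem _ hx.1, Normal.stronglyClosed_mem hE.2.1 hm hx hx.2⟩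
    obtain ⟨α, hα, e, he, hfe⟩ := invariant_frattini hE inf_le_right hm
    have hv : CVal E χ W' (autFun (β : MulAut V)) (χ ⟨α, hα⟩) :=
      ⟨⟨α, hα⟩, rfl, e, he, hfe⟩
    have hpow : ∀ i : ℕ, CVal E χ W' (autFun ((β : MulAut V) ^ i)) (χ ⟨α, hα⟩ ^ i) ∧
        ∀ x ∈ W', autFun ((β : MulAut V) ^ i) x ∈ W' := by
      intro i
      induction i with
      | zero =>
        rw [pow_zero, pow_zero, autFun_one]
        exact ⟨cval_id hS hF hE hEs hcop χ hker inf_le_right, fun x hx => hx⟩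
      | succ i ih =>
        have h1 := CVal.comp' hS hF hE hEs hcop χ hker ih.1 hv ih.2
        rw [← pow_succ'] at h1
        refine ⟨?_, fun x hx => ?_⟩
        · obtain ⟨a, ha, d, hd, hfd⟩ := h1
          exact ⟨a, ha, d, hd, fun x hx => by rw [pow_succ', autFun_mul]; exact hfd x hx⟩
        · rw [pow_succ', autFun_mul]
          exact hmaps _ (ih.2 x hx)
    have h1 := (hpow (p ^ k)).1
    have h2 : (β : MulAut V) ^ p ^ k = 1 := by
      rw [← SubmonoidClass.coe_pow, hβ, OneMemClass.coe_one]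
    rw [h2, autFun_one] at h1
    have h3 := CVal.unique' hS hF hE hEs hcop χ hker hW' h1
      (cval_id hS hF hE hEs hcop χ hker inf_le_right)
    rw [eq_one_of_pow hcop h3] at hv
    exact CVal.restrict' hS hF hE hEs hcop χ hker hv hWW'
  | ident hP => exact cval_id hS hF hE hEs hcop χ hker hW.1
  | @comp P Q f g hf hg hPQ ihf ihg =>
    have hm : IsMap F W f := hf.isMap.restrict hWP
    have h2 := ihg (centric_map hE hW hm) (img_le fun x hx => hPQ x (hWP hx))
    have h1 := CVal.comp' hS hF hE hEs hcop χ hker (ihf hW hWP) h2 fun x hx => mem_img_self f hx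
    rwa [mul_one] at h1
  | @congr P f g hf he ih =>
    obtain ⟨a, ha, d, hd, hfd⟩ := ih hW hWP
    exact ⟨a, ha, d, hd, fun x hx => (he x (hWP hx)).symm.trans (hfd x hx)⟩

/-! ### The homomorphism on `Aut_F(S)` -/

omit hF hEs hcop χ hker hp hS in
theorem exists_res : ∃ r : F.autGroup S →* F.autGroup T, ∀ a : F.autGroup S, ∀ x ∈ T,
    autFun (r a : MulAut T) x = autFun (a : MulAut S) x := by
  have hTS : T ≤ S := subsystem_le hE.1
  have hex : ∀ a : F.autGroup S, ∃ b : F.autGroup T, ∀ x ∈ T,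
      autFun (b : MulAut T) x = autFun (a : MulAut S) x := fun a => by
    have hm := (isMap_aut a).restrict hTS
    obtain ⟨b, hb, hbe⟩ := hm.exists_aut (Normal.stronglyClosed_img hE.2.1 hm le_rfl)
    exact ⟨⟨b, hb⟩, hbe⟩
  choose r hr using hex
  refine ⟨MonoidHom.mk' r fun a b => Subtype.ext (autFun_ext fun x hx => ?_), hr⟩
  rw [Subgroup.coe_mul, autFun_mul, hr (a * b) x hx, hr b x hx,
    hr a _ (by rw [← hr b x hx]; exact autFun_mem _ hx), Subgroup.coe_mul, autFun_mul]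

variable (r : F.autGroup S →* F.autGroup T)
  (hr : ∀ a : F.autGroup S, ∀ x ∈ T, autFun (r a : MulAut T) x = autFun (a : MulAut S) x)
include hr

omit hS hF hE hEs hcop hker hp hr in
/-- `f` on `P` is an automorphism of `S` of value `δ` after a generated map. -/
def WVal (p : ℕ) (χ : F.autGroup T →* Δ) (r : F.autGroup S →* F.autGroup T) (P : Subgroup Ω)
    (f : Ω → Ω) (δ : Δ) : Prop :=
  ∃ a : F.autGroup S, χ (r a) = δ ∧ ∃ e, Gen F p P e ∧ ∀ x ∈ P, f x = autFun (a : MulAut S) (e x)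

omit hS hF hE hEs hcop hker hr hp in
theorem WVal.isMap (h : WVal p χ r P f δ) : IsMap F P f := by
  obtain ⟨a, -, e, he, hfe⟩ := h
  exact Fac.isMap ⟨a, e, he, hfe⟩

omit hS hF hE hEs hcop hker hr [Finite S] hp in
theorem WVal.congr (h : WVal p χ r P f δ) (he : ∀ x ∈ P, f x = g x) : WVal p χ r P g δ := by
  obtain ⟨a, ha, e, hgen, hfe⟩ := h
  exact ⟨a, ha, e, hgen, fun x hx => (he x hx).symm.trans (hfe x hx)⟩

omit hS hF hE hEs hcop hker hr [Finite S] hp in
theorem WVal.restrict (h : WVal p χ r P f δ) (hR : R ≤ P) : WVal p χ r R f δ := by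
  obtain ⟨a, ha, e, hgen, hfe⟩ := h
  exact ⟨a, ha, e, hgen.restrict hR, fun x hx => hfe x (hR hx)⟩

omit hS hF hE hEs hcop hker hr [Finite S] hp in
theorem wval_gen (h : Gen F p P f) : WVal p χ r P f 1 :=
  ⟨1, by rw [map_one, map_one], f, h, fun x _ => by rw [OneMemClass.coe_one, autFun_one]; rfl⟩

omit hS hF hE hEs hcop hker hr in
theorem WVal.comp (hf : WVal p χ r P f δ) (hg : WVal p χ r Q g δ') (hPQ : ∀ x ∈ P, f x ∈ Q) :
    WVal p χ r P (fun x => g (f x)) (δ' * δ) := by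
  obtain ⟨a, rfl, e, he, hfe⟩ := hf
  obtain ⟨b, rfl, d, hd, hgd⟩ := hg
  obtain ⟨c, hc, hce⟩ := fac_comp (b := b) he hd fun x hx => hfe x hx ▸ hPQ x hx
  refine ⟨b * a, by rw [map_mul, map_mul], c, hc, fun x hx => ?_⟩
  show g (f x) = _
  rw [hgd _ (hPQ x hx), hfe x hx, hce x hx]

omit hE hEs hcop hker hr in
theorem exists_wval (hf : IsMap F P f) : ∃ δ, WVal p χ r P f δ := by
  obtain ⟨a, e, he, hfe⟩ := frattini hS hF hf
  exact ⟨_, a, rfl, e, he, hfe⟩

/-- Seeds on `R` have value one. -/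
def SeedOne (F : FusionSystem S) (p : ℕ) (χ : F.autGroup T →* Δ)
    (r : F.autGroup S →* F.autGroup T) (R : Subgroup Ω) : Prop :=
  ∀ a : F.autGroup S, Gen F p R (autFun (a : MulAut S)) → χ (r a) = 1

omit hS hF hE hEs hcop hker hr in
theorem WVal.unique (hR : ∀ R' : Subgroup Ω, F.IsConj P R' → SeedOne F p χ r R')
    (h : WVal p χ r P f δ) (h' : WVal p χ r P f δ') : δ = δ' := by
  obtain ⟨a, rfl, e, he, hfe⟩ := h
  obtain ⟨b, rfl, d, hd, hfd⟩ := h'
  obtain ⟨ei, hei, hee⟩ := he.exists_inv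
  have hmaps : ∀ y ∈ img e P, ei y ∈ P := fun y hy => by
    obtain ⟨x, hx, rfl⟩ := he.isMap.mem_img.1 hy
    rwa [hee x hx]
  have h1 := hR _ he.isMap.isConj (b⁻¹ * a) ((hei.comp hd hmaps).congr fun y hy => by
    obtain ⟨x, hx, rfl⟩ := he.isMap.mem_img.1 hy
    rw [hee x hx, Subgroup.coe_mul, autFun_mul, ← hfe x hx, hfd x hx, inv_apply])
  rw [map_mul, map_mul, map_inv, map_inv, inv_mul_eq_one] at h1
  exact h1.symm

/-- Seeds on subgroups meeting `T` in a centric subgroup of `E` have value one. -/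
theorem seedOne_centric (hR : E.IsCentric (R ⊓ T)) : SeedOne F p χ r R := by
  intro a ha
  refine (CVal.unique' hS hF hE hEs hcop χ hker (f := autFun (a : MulAut S)) hR ?_
    (gen_cval hS hF hE hEs hcop χ hker ha hR inf_le_left))
  exact ⟨r a, rfl, id, isMap_id inf_le_right, fun x hx => (hr a x hx.2).symm⟩

omit χ hker hr r hcop in
/-- If a centric fully normalized subgroup meets `T` in a subgroup that is not centric in `E`, all
its automorphisms extend to a common larger subgroup. -/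
theorem exists_common (hR : F.IsCentric R) (hfn : F.IsFullyNormalized R)
    (hnc : ¬ E.IsCentric (R ⊓ T)) :
    ∃ g ∈ S, g ∉ R ∧ g ∈ Subgroup.normalizer (R : Set Ω) ∧
      (∀ α : F.autGroup R, g ∈ nSub S R (autFun (α : MulAut R))) ∧
      ∃ γ ∈ pCore p (F.autGroup R), ∀ x ∈ R, autFun (γ : MulAut R) x = g * x * g⁻¹ := by
  have hTS : T ≤ S := subsystem_le hE.1
  have : Finite T := finite_of_le hTS
  have hTn : S ≤ Subgroup.normalizer (T : Set Ω) := Normal.le_normalizer_of_stronglyClosed hE.2.1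
  set U := R ⊓ T with hU
  have hUS : U ≤ S := inf_le_left.trans hR.1
  obtain ⟨U₁, hUU₁, hU₁⟩ := exists_fullyNormalized (F := F) hUS
  obtain ⟨θ, hθ, hθimg⟩ := exists_map_to_fullyNormalized hS hF hU₁ hUU₁
  have hRN : R ≤ normalizerIn S U := fun x hx => ⟨hR.1 hx, by
    have h1 : x ∈ Subgroup.normalizer (R : Set Ω) := Subgroup.le_normalizer hx
    have h2 := hTn (hR.1 hx)
    rw [Subgroup.mem_normalizer_iff] at h1 h2
    exact Subgroup.mem_normalizer_iff.2 fun y => and_congr (h1 y) (h2 y)⟩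
  have hθR : IsMap F R θ := hθ.restrict hRN
  set R₁ := img θ R with hR₁def
  have hR₁ : F.IsCentric R₁ := centric_conj hR hθR.isConj
  have hU₁T : U₁ ≤ T := hθimg ▸ img_le_T hE inf_le_right (hθR.restrict inf_le_left)
  have hU₁R : U₁ ≤ R₁ := hθimg ▸ img_mono θ inf_le_left
  have hR₁T : R₁ ⊓ T ≤ U₁ := by
    rintro y ⟨hy, hyT⟩
    obtain ⟨x, hx, rfl⟩ := hθR.mem_img.1 hy
    obtain ⟨i, hi, -, hiθ, -⟩ := hθR.exists_inv
    have hxT : x ∈ T := hiθ x hx ▸ Normal.stronglyClosed_mem hE.2.1 hi hy hyT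
    rw [← hθimg]
    exact mem_img_self θ ⟨hx, hxT⟩
  -- `U₁` does not contain its centralizer in `T`
  have hncU : ¬ E.IsCentric U₁ := by
    intro hc
    obtain ⟨i, hi, hiimg, -, -⟩ := (hθR.restrict (inf_le_left : U ≤ R)).exists_inv
    rw [hθimg] at hi hiimg
    have h := centric_map hE hc hi
    rw [hiimg] at h
    exact hnc h
  have hC : ¬ centralizerIn T U₁ ≤ U₁ := by
    intro hle
    refine hncU ⟨hU₁T, fun Q hQ => ?_⟩
    obtain ⟨q, hq, rfl⟩ := isConj_iff_map.1 hQ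
    obtain ⟨g, hg, hgimg⟩ := exists_map_to_fullyNormalized hS hF hU₁
      (isConj_symm (isMap_of_subset hE.1 hq).isConj)
    intro y hy
    have hqS : img q U₁ ≤ S := hq.img_le_S.trans hTS
    have hyN : y ∈ normalizerIn S (img q U₁) :=
      ⟨hTS hy.1, Subgroup.centralizer_le_normalizer _ hy.2⟩
    have h1 := hg.mem_centralizer_img (le_normalizerIn hqS) hyN hy.2
    rw [hgimg] at h1
    have h2 : g y ∈ img g (img q U₁) :=
      hgimg.symm ▸ hle ⟨Normal.stronglyClosed_mem hE.2.1 hg hyN hy.1, h1⟩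
    obtain ⟨x, hx, hxe⟩ := (hg.restrict (le_normalizerIn hqS)).mem_img.1 h2
    exact hg.inj (le_normalizerIn hqS hx) hyN hxe ▸ hx
  set C := centralizerIn T U₁ with hCdef
  have hR₁n : ∀ x ∈ R₁, x ∈ Subgroup.normalizer (C : Set Ω) := by
    intro x hx
    have h2 := hTn (hR₁.1 hx)
    have h3 : x ∈ Subgroup.normalizer (U₁ : Set Ω) := by
      obtain ⟨z, hz, rfl⟩ := hθR.mem_img.1 hx
      rw [← hθimg]
      exact hθ.mem_normalizer_img (le_normalizerIn hUS) (hRN hz) (hRN hz).2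
    have : Finite C := finite_of_le (inf_le_left : C ≤ T)
    refine mem_normalizer_of_forall fun c hc =>
      ⟨(Subgroup.mem_normalizer_iff.1 h2 c).1 hc.1, fun u hu => ?_⟩
    have hu' : x⁻¹ * u * x⁻¹⁻¹ ∈ U₁ :=
      (Subgroup.mem_normalizer_iff.1 (Subgroup.inv_mem _ h3) u).1 hu
    have h4 := hc.2 _ hu'
    calc u * (x * c * x⁻¹) = x * (x⁻¹ * u * x⁻¹⁻¹ * c) * x⁻¹ := by group
      _ = x * (c * (x⁻¹ * u * x⁻¹⁻¹)) * x⁻¹ := by rw [h4]
      _ = x * c * x⁻¹ * u := by group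
  have hAS : R₁ ⊔ C ≤ S := sup_le hR₁.1 (inf_le_left.trans hTS)
  have : Finite (R₁ ⊔ C : Subgroup Ω) := finite_of_le hAS
  have hlt : R₁ < R₁ ⊔ C := by
    refine lt_of_le_of_ne le_sup_left fun he => hC ?_
    intro c hc
    exact hR₁T ⟨he ▸ Subgroup.mem_sup_right hc, hc.1⟩
  obtain ⟨b, hb, hbR⟩ := exists_mem_normalizer_not_mem (hS.to_le hAS) hlt
  have hbm : b ∈ ((R₁ ⊔ C : Subgroup Ω) : Set Ω) := hb.1
  rw [Subgroup.coe_mul_of_left_le_normalizer_right R₁ C hR₁n] at hbm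
  obtain ⟨x, hx, c, hc, rfl⟩ := Set.mem_mul.1 hbm
  have hcR : c ∉ R₁ := fun h => hbR (mul_mem hx h)
  have hcN : c ∈ Subgroup.normalizer (R₁ : Set Ω) := by
    have := Subgroup.mul_mem _ (Subgroup.inv_mem _ (Subgroup.le_normalizer hx)) hb.2
    rwa [inv_mul_cancel_left] at this
  -- back to `R`
  have hcS : c ∈ S := hTS hc.1
  let cc : F.autGroup R₁ := ⟨conjAut S R₁ ⟨c, hcS, hcN⟩,
    autInducedBy_le hR₁.1 (conjAut_range S R₁ ▸ ⟨_, rfl⟩)⟩
  obtain ⟨e, he⟩ := hθR.exists_autEquiv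
  set γ : F.autGroup R := e.symm cc with hγ
  have heγ : e γ = cc := e.apply_symm_apply cc
  have : Finite R := finite_of_le hR.1
  -- the automorphisms acting trivially on `U` and on `R / U`
  let K : Subgroup (F.autGroup R) :=
    { carrier := {q | (∀ u ∈ U, autFun (q : MulAut R) u = u) ∧
        ∀ x ∈ R, autFun (q : MulAut R) x * x⁻¹ ∈ U}
      one_mem' := ⟨fun u _ => by simp [autFun_one], fun x _ => by simp [autFun_one]⟩
      mul_mem' := by
        rintro q q' ⟨hu, hx⟩ ⟨hu', hx'⟩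
        refine ⟨fun u h => by rw [Subgroup.coe_mul, autFun_mul, hu' u h, hu u h],
          fun y hy => ?_⟩
        have h1 := hx' y hy
        rw [Subgroup.coe_mul, autFun_mul,
          show autFun (q' : MulAut R) y = autFun (q' : MulAut R) y * y⁻¹ * y from
            (inv_mul_cancel_right _ _).symm,
          autFun_isHom (q : MulAut R) _ h1.1 _ hy, hu _ h1, mul_assoc]
        exact mul_mem h1 (hx y hy)
      inv_mem' := by
        rintro q ⟨hu, hx⟩
        have hu' : ∀ u ∈ U, autFun ((q⁻¹ : F.autGroup R) : MulAut R) u = u := fun u h => by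
          rw [Subgroup.coe_inv]
          conv_lhs => rw [← hu u h]
          exact autFun_inv_apply _ _
        refine ⟨hu', fun y hy => ?_⟩
        rw [Subgroup.coe_inv] at hu' ⊢
        have hy' : autFun (q : MulAut R)⁻¹ y ∈ R := autFun_mem _ hy
        have h1 := hx _ hy'
        rw [autFun_apply_inv] at h1
        have h2 := Subgroup.inv_mem _ h1
        rwa [mul_inv_rev, inv_inv] at h2 }
  have hKp : IsPGroup p K := by
    rintro ⟨q, hu, hx⟩
    have : Finite U := finite_of_le hUS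
    obtain ⟨m, hm⟩ := IsPGroup.iff_card.1 ((hS.to_le hUS) : IsPGroup p U)
    have hpw : ∀ i : ℕ, ∀ y ∈ R,
        autFun ((q : MulAut R) ^ i) y = (autFun (q : MulAut R) y * y⁻¹) ^ i * y := by
      intro i
      induction i with
      | zero => intro y _; simp [autFun_one]
      | succ i ih =>
        intro y hy
        have h1 := Subgroup.pow_mem U (hx y hy) i
        rw [pow_succ', autFun_mul, ih y hy, autFun_isHom (q : MulAut R) _ h1.1 _ hy, hu _ h1,
          pow_succ, mul_assoc, inv_mul_cancel_right]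
    refine ⟨m, Subtype.ext (Subtype.ext (autFun_ext fun y hy => ?_))⟩
    rw [SubmonoidClass.coe_pow, SubmonoidClass.coe_pow]
    show autFun ((q : MulAut R) ^ p ^ m) y = _
    rw [hpw _ y hy]
    have : Finite U := finite_of_le hUS
    have h : (⟨_, hx y hy⟩ : U) ^ Nat.card U = 1 := pow_card_eq_one'
    rw [hm] at h
    have h' : (autFun (q : MulAut R) y * y⁻¹) ^ p ^ m = 1 := by
      simpa using congrArg Subtype.val h
    simp [h', autFun_one]
  have hγval : ∀ x ∈ R, θ (autFun (γ : MulAut R) x) = c * θ x * c⁻¹ := by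
    intro x hx
    rw [← he γ x hx, heγ]
    exact conjAut_apply ⟨c, hcS, hcN⟩ (mem_img_self θ hx)
  have hγK : γ ∈ K := by
    refine ⟨fun u hu => ?_, fun x hx => ?_⟩
    · refine hθR.inj (autFun_mem _ hu.1) hu.1 ?_
      rw [hγval u hu.1, ← hc.2 _ (hθimg ▸ mem_img_self θ hu), mul_inv_cancel_right]
    · have hmem : autFun (γ : MulAut R) x * x⁻¹ ∈ R :=
        R.mul_mem (autFun_mem _ hx) (R.inv_mem hx)
      have h1 : θ (autFun (γ : MulAut R) x * x⁻¹) ∈ U₁ := by
        refine hR₁T ⟨mem_img_self θ hmem, ?_⟩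
        rw [hθR.map_mul (autFun_mem _ hx) (R.inv_mem hx), hθR.map_inv hx, hγval x hx]
        have h2 := hTn (hθR.mem hx)
        have h3 := T.mul_mem hc.1 ((Subgroup.mem_normalizer_iff.1 h2 _).1 (T.inv_mem hc.1))
        simpa [mul_assoc] using h3
      rw [← hθimg] at h1
      obtain ⟨u, hu, hue⟩ := (hθR.restrict (inf_le_left : U ≤ R)).mem_img.1 h1
      exact hθR.inj hu.1 hmem hue ▸ hu
  have hKn : K.Normal := by
    refine ⟨fun q hq b => ?_⟩
    have hbU : ∀ u ∈ U, autFun ((b : MulAut R)) u ∈ U := fun u hu =>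
      ⟨autFun_mem _ hu.1,
        Normal.stronglyClosed_mem hE.2.1 (isMap_of_mem_autGroup hR.1 b.2) hu.1 hu.2⟩
    have hbiU : ∀ u ∈ U, autFun ((b : MulAut R)⁻¹) u ∈ U := fun u hu =>
      ⟨autFun_mem _ hu.1, Normal.stronglyClosed_mem hE.2.1
        (isMap_of_mem_autGroup hR.1 (Subgroup.inv_mem _ b.2)) hu.1 hu.2⟩
    refine ⟨fun u hu => ?_, fun x hx => ?_⟩
    · rw [Subgroup.coe_mul, Subgroup.coe_mul, Subgroup.coe_inv, autFun_mul, autFun_mul,
        hq.1 _ (hbiU u hu), autFun_apply_inv]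
    · rw [Subgroup.coe_mul, Subgroup.coe_mul, Subgroup.coe_inv, autFun_mul, autFun_mul]
      set y := autFun (b : MulAut R)⁻¹ x with hy
      have hyR : y ∈ R := autFun_mem _ hx
      have hxy : x = autFun (b : MulAut R) y := (autFun_apply_inv _ x).symm
      have h1 := hbU _ (hq.2 y hyR)
      rw [autFun_isHom (b : MulAut R) _ (autFun_mem _ hyR) _ (R.inv_mem hyR),
        (autFun_isHom (b : MulAut R)).map_inv hyR, ← hxy] at h1
      exact h1
  obtain ⟨Sy, hSy⟩ := (fullyNormalized_fullyAutomized hS hF hfn).2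
  obtain ⟨c₀, hc₀⟩ := exists_conj_le_sylow Sy hKp
  have hKS : ∀ q ∈ K, q ∈ (Sy : Subgroup (F.autGroup R)) := fun q hq => by
    have h1 := hc₀ _ (hKn.conj_mem q hq c₀⁻¹)
    rwa [inv_inv, mul_assoc, mul_assoc, mul_assoc, mul_inv_cancel, mul_one, mul_inv_cancel_left]
      at h1
  rw [hSy] at hKS
  obtain ⟨g, hg, hge⟩ := mem_autInducedBy_iff'.1 (Subgroup.mem_subgroupOf.1 (hKS γ hγK))
  refine ⟨g, hg.1, fun hgR => hcR ?_, hg.2, fun α => ?_, γ,
    le_sSup (show K ∈ {N : Subgroup (F.autGroup R) | N.Normal ∧ IsPGroup p N} from ⟨hKn, hKp⟩) hγK,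
    fun x hx => hge x hx⟩
  · have hθg : θ g ∈ R₁ := mem_img_self θ hgR
    have h1 : (θ g)⁻¹ * c ∈ centralizerIn S R₁ := by
      refine inv_mul_mem hR₁ hcS (hR₁.1 hθg) fun y hy => ?_
      obtain ⟨x, hx, rfl⟩ := hθR.mem_img.1 hy
      rw [← hγval x hx, hge x hx, cj_apply, hθR.map_conj hgR hx]
    have h2 := R₁.mul_mem hθg (centric_centralizerIn_le hR₁ h1)
    rwa [mul_inv_cancel_left] at h2
  · obtain ⟨h, hh, hhe⟩ := mem_autInducedBy_iff'.1
      (Subgroup.mem_subgroupOf.1 (hKS _ (hKn.conj_mem γ hγK α)))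
    refine mem_nSub.2 ⟨hg.1, hg.2, h, hh.1, fun x hx => ?_⟩
    have h2 := hhe _ (autFun_mem (α : MulAut R) hx)
    rw [Subgroup.coe_mul, Subgroup.coe_mul, Subgroup.coe_inv, autFun_mul, autFun_mul,
      autFun_inv_apply, hge x hx, cj_apply] at h2
    exact h2

/-- Seeds on centric subgroups have value one. -/
theorem seedOne (hR : F.IsCentric R) : SeedOne F p χ r R := by
  induction hn : Nat.card S - Nat.card R using Nat.strong_induction_on generalizing R with
  | _ n ih =>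
  have hTS : T ≤ S := subsystem_le hE.1
  have hfinR : Finite R := finite_of_le hR.1
  -- uniqueness of values on larger subgroups
  have uniq : ∀ {M : Subgroup Ω} {f : Ω → Ω} {δ δ' : Δ}, F.IsCentric M →
      Nat.card R < Nat.card M → WVal p χ r M f δ → WVal p χ r M f δ' → δ = δ' := by
    intro M f δ δ' hM hlt h h'
    refine h.unique χ r (fun R' hR' => ?_) h'
    have h1 := isConj_card hR'
    have h2 : Nat.card R' ≤ Nat.card S := card_le_card (isConj_le hR').2
    exact ih _ (by omega) (centric_conj hM hR') rfl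
  by_cases hc : E.IsCentric (R ⊓ T)
  · exact seedOne_centric hS hF hE hEs hcop χ hker r hr hc
  obtain ⟨R₀, hRR₀, hR₀⟩ := exists_fullyNormalized (F := F) hR.1
  have hR₀c : F.IsCentric R₀ := centric_conj hR hRR₀
  have hfinR₀ : Finite R₀ := finite_of_le hR₀.1
  have hcard₀ : Nat.card R₀ = Nat.card R := isConj_card hRR₀
  have hnc₀ : ¬ E.IsCentric (R₀ ⊓ T) := by
    intro h
    obtain ⟨θ, hθ, hθimg⟩ := isConj_iff_map.1 (isConj_symm hRR₀)
    refine hc ?_
    have h1 := centric_map hE h (hθ.restrict inf_le_left)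
    suffices img θ (R₀ ⊓ T) = R ⊓ T from this ▸ h1
    refine le_antisymm (img_le fun x hx => ⟨hθimg ▸ mem_img_self θ hx.1,
      Normal.stronglyClosed_mem hE.2.1 hθ hx.1 hx.2⟩) ?_
    rintro y ⟨hy, hyT⟩
    rw [← hθimg] at hy
    obtain ⟨x, hx, rfl⟩ := hθ.mem_img.1 hy
    obtain ⟨i, hi, -, hiθ, -⟩ := hθ.exists_inv
    exact mem_img_self θ ⟨hx, hiθ x hx ▸ Normal.stronglyClosed_mem hE.2.1 hi hy hyT⟩
  obtain ⟨g₀, hg₀S, hg₀R, hg₀N, hg₀, -⟩ := exists_common hS hF hE hEs hR₀c hR₀ hnc₀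
  set M : Subgroup Ω := ⨅ α : F.autGroup R₀, nSub S R₀ (autFun (α : MulAut R₀)) with hMdef
  have hRM : R₀ ≤ M := le_iInf fun α => le_nSub (isMap_of_mem_autGroup hR₀.1 α.2)
  have hMα : ∀ α : F.autGroup R₀, M ≤ nSub S R₀ (autFun (α : MulAut R₀)) := fun α => iInf_le _ α
  have hMN : M ≤ normalizerIn S R₀ := (hMα 1).trans (nSub_le _ _ _)
  have hMS : M ≤ S := hMN.trans normalizerIn_le
  have hMlt : Nat.card R < Nat.card M := by
    have : Finite M := finite_of_le hMS
    rw [← hcard₀]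
    refine card_lt_card (lt_of_le_of_ne hRM fun he => hg₀R ?_)
    rw [he]
    exact Subgroup.mem_iInf.2 hg₀
  have hMc : F.IsCentric M := centric_mono hR₀c hRM hMS
  have hR₀fc := fullyNormalized_fullyCentralized hS hF hR₀
  -- maps on `M` agreeing on `R₀` have the same value
  have sameM : ∀ {N : Subgroup Ω} {u v : Ω → Ω} {δ δ' : Δ} {Q : Subgroup Ω}, F.IsCentric Q →
      Q ≤ N → Nat.card R < Nat.card N → WVal p χ r N u δ → WVal p χ r N v δ' →
      (∀ x ∈ Q, u x = v x) → δ = δ' := by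
    intro N u v δ δ' Q hQ hQN hlt hu hv he
    obtain ⟨z, hz, -, hze⟩ := agree_on_centric hS hF hQ hQN hu.isMap hv.isMap he
    have hcj : WVal p χ r N (cj z) 1 :=
      wval_gen χ r (gen_cj hS hu.isMap.le (hu.isMap.le (hQN hz)))
    have h1 := hcj.comp χ r hu fun y hy =>
      N.mul_mem (N.mul_mem (hQN hz) hy) (N.inv_mem (hQN hz))
    rw [mul_one] at h1
    exact uniq (centric_mono hQ hQN hu.isMap.le) hlt (h1.congr χ r fun y hy => (hze y hy).symm) hv
  -- invariance of `M`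
  have hMinv : ∀ (u : Ω → Ω), IsMap F M u → (∀ x ∈ R₀, u x ∈ R₀) → ∀ y ∈ M, u y ∈ M := by
    intro u hu huR y hy
    obtain ⟨α, hα, hαe⟩ := (hu.restrict hRM).exists_aut
      (eq_of_le_card (img_le huR) (by rw [(hu.restrict hRM).card_img]))
    refine Subgroup.mem_iInf.2 fun γ => ?_
    obtain ⟨-, -, h, hh, hhe⟩ := mem_nSub.1 (hMα (γ * ⟨α, hα⟩) hy)
    have hyN := (hMN hy).2
    have huN : u y ∈ Subgroup.normalizer (R₀ : Set Ω) := by
      have h1 := hu.mem_normalizer_img hRM hy hyN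
      rwa [eq_of_le_card (img_le huR) (by rw [(hu.restrict hRM).card_img])] at h1
    refine mem_nSub.2 ⟨hu.mem hy, huN, h, hh, fun z hz => ?_⟩
    obtain ⟨x, hx, rfl⟩ := (hu.restrict hRM).mem_img.1
      ((eq_of_le_card (img_le huR) (by rw [(hu.restrict hRM).card_img])).symm ▸ hz)
    have hxy : y * x * y⁻¹ ∈ R₀ := (Subgroup.mem_normalizer_iff.1 hyN x).1 hx
    have h2 := hhe x hx
    rw [Subgroup.coe_mul, autFun_mul, autFun_mul] at h2
    rwa [hαe _ hxy, hαe x hx, hu.map_conj hy (hRM hx)] at h2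
  -- the value of an automorphism of `R₀` read off on `M`
  have hext : ∀ (w : Ω → Ω) (R' : Subgroup Ω) (θ θ' : Ω → Ω), IsMap F R' w →
      IsMap F (normalizerIn S R') θ → IsMap F (normalizerIn S (img w R')) θ' →
      img θ R' = R₀ → img θ' (img w R') = R₀ →
      ∃ (N : Subgroup Ω) (u : Ω → Ω), IsMap F N u ∧ M ≤ N ∧ (∀ x ∈ R', u (θ x) = θ' (w x)) ∧
        (∀ x ∈ R₀, u x ∈ R₀) ∧
        ∀ n ∈ normalizerIn S R', (∃ s ∈ S, ∀ x ∈ R', w (n * x * n⁻¹) = s * w x * s⁻¹ ∧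
          s ∈ Subgroup.normalizer (img w R' : Set Ω)) → θ n ∈ N := by
    intro w R' θ θ' hw hθ hθ' hθi hθ'i
    have hR'S : R' ≤ S := hw.le
    have hθR := hθ.restrict (le_normalizerIn hR'S)
    obtain ⟨i, hi, hiimg, hiθ, hθi'⟩ := hθR.exists_inv
    rw [hθi] at hi hiimg hθi'
    have hiR : ∀ y ∈ R₀, i y ∈ R' := fun y hy => hiimg.le (mem_img_self i hy)
    have hwi : IsMap F R₀ (fun y => θ' (w (i y))) :=
      (hθ'.restrict (le_normalizerIn hw.img_le_S)).comp (hw.comp hi hiR) fun y hy =>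
        mem_img_self w (hiR y hy)
    have hwiR : ∀ y ∈ R₀, θ' (w (i y)) ∈ R₀ := fun y hy =>
      hθ'i.le (mem_img_self θ' (mem_img_self w (hiR y hy)))
    have : Finite R₀ := finite_of_le hR₀.1
    have himg := eq_of_le_card (img_le hwiR) (by rw [hwi.card_img])
    obtain ⟨α, hα, hαe⟩ := hwi.exists_aut himg
    have hαm := isMap_of_mem_autGroup hR₀.1 hα
    obtain ⟨u, hu, hue⟩ := exists_extension hS hF hαm ((autFun_img α).symm ▸ hR₀fc)
    refine ⟨_, u, hu, hMα ⟨α, hα⟩, fun x hx => ?_, fun x hx => ?_, ?_⟩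
    · have hxR : θ x ∈ R₀ := hθi.le (mem_img_self θ hx)
      rw [hue _ hxR, hαe _ hxR, hiθ x hx]
    · rw [hue x hx]; exact autFun_mem _ hx
    · rintro n hn ⟨s, hs, hse⟩
      have hsN : s ∈ normalizerIn S (img w R') := ⟨hs, (hse 1 (one_mem _)).2⟩
      refine mem_nSub.2 ⟨hθ.mem hn, hθi ▸ hθ.mem_normalizer_img (le_normalizerIn hR'S) hn hn.2,
        θ' s, hθ'.mem hsN, fun y hy => ?_⟩
      obtain ⟨x, hx, rfl⟩ := hθR.mem_img.1 (hθi.symm ▸ hy)
      have hnx : n * x * n⁻¹ ∈ R' := (Subgroup.mem_normalizer_iff.1 hn.2 x).1 hx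
      rw [← hθ.map_conj hn (le_normalizerIn hR'S hx), hαe _ (hθi.le (mem_img_self θ hnx)),
        hαe _ (hθi.le (mem_img_self θ hx)), hiθ _ hnx, hiθ _ hx, (hse x hx).1,
        hθ'.map_conj hsN (le_normalizerIn hw.img_le_S (mem_img_self w hx))]
  -- a map of a larger subgroup
  have rel_big : ∀ {w : Ω → Ω} {N R' : Subgroup Ω} {d t t' δ₀ : Δ} {θ θ' u : Ω → Ω},
      F.IsCentric R' → R' < N → N ≤ normalizerIn S R' → Nat.card R' = Nat.card R →
      WVal p χ r N w d → WVal p χ r (normalizerIn S R') θ t →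
      WVal p χ r (normalizerIn S (img w R')) θ' t' → img θ R' = R₀ → img θ' (img w R') = R₀ →
      WVal p χ r M u δ₀ → (∀ x ∈ R', u (θ x) = θ' (w x)) → δ₀ * t = t' * d := by
    intro w N R' d t t' δ₀ θ θ' u hR' hlt hNN hcard hw hθ hθ' hθi hθ'i hu hue
    have hR'N : R' ≤ N := hlt.le
    have : Finite N := finite_of_le hw.isMap.le
    obtain ⟨N', v, hv, hMN', hve, -, hnv⟩ :=
      hext w R' θ θ' (hw.isMap.restrict hR'N) hθ.isMap hθ'.isMap hθi hθ'i
    obtain ⟨δ₁, hδ₁⟩ := exists_wval hS hF χ r hv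
    have hdδ : δ₀ = δ₁ := by
      refine sameM hR₀c hRM hMlt hu (hδ₁.restrict χ r hMN') fun y hy => ?_
      obtain ⟨x, hx, rfl⟩ :=
        (hθ.isMap.restrict (le_normalizerIn hR'.1)).mem_img.1 (hθi.symm ▸ hy)
      rw [hue x hx, hve x hx]
    have hwN : ∀ n ∈ N, w n ∈ normalizerIn S (img w R') := fun n hn =>
      ⟨hw.isMap.mem hn, hw.isMap.mem_normalizer_img hR'N hn (hNN hn).2⟩
    have hθN : ∀ n ∈ N, θ n ∈ N' := fun n hn =>
      hnv n (hNN hn) ⟨w n, hw.isMap.mem hn, fun x hx =>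
        ⟨hw.isMap.map_conj hn (hR'N hx), (hwN n hn).2⟩⟩
    have h1 := (hθ.restrict χ r hNN).comp χ r hδ₁ hθN
    have h2 := hw.comp χ r hθ' hwN
    rw [hdδ]
    exact sameM hR' hR'N (hcard ▸ card_lt_card hlt) h1 h2 fun x hx => hve x hx
  -- the relation for generated maps
  have rel : ∀ {P : Subgroup Ω} {w : Ω → Ω}, Gen F p P w → ∀ {R' : Subgroup Ω} {t t' δ₀ : Δ}
      {θ θ' u : Ω → Ω}, R' ≤ P → F.IsConj R R' →
      WVal p χ r (normalizerIn S R') θ t → WVal p χ r (normalizerIn S (img w R')) θ' t' →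
      img θ R' = R₀ → img θ' (img w R') = R₀ →
      WVal p χ r M u δ₀ → (∀ x ∈ R', u (θ x) = θ' (w x)) → δ₀ * t = t' := by
    intro P w hw
    induction hw with
    | @base P V β k hV hβ hP =>
      intro R' t t' δ₀ θ θ' u hR'P hR' hθ hθ' hθi hθ'i hu hue
      have hR'c := centric_conj hR hR'
      have hR'V : R' ≤ V := hR'P.trans hP
      have : Finite V := finite_of_le hV.1
      rcases eq_or_lt_of_le hR'V with hRV | hlt
      · subst hRV
        have : Finite R' := finite_of_le hV.1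
        have himgβ : img (autFun (β : MulAut R')) R' = R' := autFun_img _
        rw [himgβ] at hθ' hθ'i
        have hβm : IsMap F R' (autFun (β : MulAut R')) := isMap_of_mem_autGroup hV.1 β.2
        obtain ⟨N₀, v, hv, hMN₀, hve, hvR, -⟩ := hext (autFun (β : MulAut R')) R' θ θ hβm
          hθ.isMap (himgβ.symm ▸ hθ.isMap) hθi (himgβ.symm ▸ hθi)
        obtain ⟨d₀, hd₀⟩ := exists_wval hS hF χ r (hv.restrict hMN₀)
        have hit : ∀ i : ℕ, WVal p χ r M v^[i] (d₀ ^ i) ∧ (∀ y ∈ M, v^[i] y ∈ M) ∧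
            ∀ x ∈ R', v^[i] (θ x) = θ (autFun ((β : MulAut R') ^ i) x) := by
          intro i
          induction i with
          | zero =>
            rw [pow_zero, pow_zero]
            exact ⟨wval_gen χ r (Gen.ident hMS), fun y hy => hy, fun x _ => by simp [autFun_one]⟩
          | succ i ihi =>
            obtain ⟨h1, h2, h3⟩ := ihi
            rw [Function.iterate_succ', pow_succ', pow_succ']
            refine ⟨h1.comp χ r hd₀ h2,
              fun y hy => hMinv v (hv.restrict hMN₀) hvR _ (h2 y hy), fun x hx => ?_⟩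
            rw [Function.comp_apply, h3 x hx, autFun_mul,
              hve _ (autFun_mem _ hx)]
        obtain ⟨hp1, -, hp3⟩ := hit (p ^ k)
        have hd1 : d₀ ^ p ^ k = 1 := by
          refine sameM hR₀c hRM hMlt hp1 (wval_gen χ r (Gen.ident hMS)) fun y hy => ?_
          obtain ⟨x, hx, rfl⟩ :=
            (hθ.isMap.restrict (le_normalizerIn hV.1)).mem_img.1 (hθi.symm ▸ hy)
          rw [hp3 x hx, ← SubmonoidClass.coe_pow, hβ, OneMemClass.coe_one, autFun_one]
          rfl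
        rw [eq_one_of_pow hcop hd1] at hd₀
        rcases eq_or_lt_of_le hR'c.1 with hRS | hlt'
        · exact absurd (isConj_card hR') (by
            have h1 : Nat.card M ≤ Nat.card S := card_le_card hMS
            have h2 : Nat.card R' = Nat.card S := congrArg (fun H : Subgroup Ω => Nat.card H) hRS
            omega)
        -- change of the normalized map
        have hNlt : R' < normalizerIn S R' := lt_normalizerIn hS hlt'
        obtain ⟨N₁, v₁, hv₁, hMN₁, hv₁e, -, -⟩ := hext id R' θ θ'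
          (isMap_id hV.1) hθ.isMap ((img_id R').symm ▸ hθ'.isMap) hθi ((img_id R').symm ▸ hθ'i)
        obtain ⟨d₁, hd₁⟩ := exists_wval hS hF χ r (hv₁.restrict hMN₁)
        have h1 := rel_big hR'c hNlt le_rfl (isConj_card hR')
          (wval_gen χ r (Gen.ident normalizerIn_le)) hθ ((img_id R').symm ▸ hθ') hθi
          ((img_id R').symm ▸ hθ'i) hd₁ hv₁e
        rw [mul_one] at h1
        have h2 := hd₀.comp χ r hd₁ (hMinv v (hv.restrict hMN₀) hvR)
        rw [mul_one] at h2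
        rw [← h1]
        congr 1
        refine sameM hR₀c hRM hMlt hu h2 fun y hy => ?_
        obtain ⟨x, hx, rfl⟩ :=
          (hθ.isMap.restrict (le_normalizerIn hV.1)).mem_img.1 (hθi.symm ▸ hy)
        rw [hue x hx, hve x hx, hv₁e _ (autFun_mem _ hx)]
        rfl
      · have hN : R' < normalizerIn V R' := lt_normalizerIn (hS.to_le hV.1) hlt
        have hNV : normalizerIn V R' ≤ V := normalizerIn_le
        have h1 := rel_big hR'c hN (inf_le_inf_right _ hV.1) (isConj_card hR')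
          (wval_gen χ r (Gen.base β k hV hβ hNV)) hθ hθ' hθi hθ'i hu hue
        rwa [mul_one] at h1
    | @ident P hP =>
      intro R' t t' δ₀ θ θ' u hR'P hR' hθ hθ' hθi hθ'i hu hue
      rcases eq_or_lt_of_le (hR'P.trans hP) with hRS | hlt'
      · exact absurd (isConj_card hR') (by
          have h1 : Nat.card M ≤ Nat.card S := card_le_card hMS
          have h2 : Nat.card R' = Nat.card S := congrArg (fun H : Subgroup Ω => Nat.card H) hRS
          omega)
      have h1 := rel_big (centric_conj hR hR') (lt_normalizerIn hS hlt') le_rfl (isConj_card hR')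
        (wval_gen χ r (Gen.ident normalizerIn_le)) hθ hθ' hθi hθ'i hu hue
      rwa [mul_one] at h1
    | @comp P Q f₁ f₂ hf₁ hf₂ hPQ ih₁ ih₂ =>
      intro R' t t' δ₀ θ θ' u hR'P hR' hθ hθ' hθi hθ'i hu hue
      have hf := hf₁.isMap.restrict hR'P
      have himg : img f₂ (img f₁ R') = img (fun x => f₂ (f₁ x)) R' := hf.img_img f₂
      have hQ' : img f₁ R' ≤ Q := img_le fun x hx => hPQ x (hR'P hx)
      obtain ⟨θm, hθm, hθmi⟩ := exists_map_to_fullyNormalized hS hF hR₀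
        (isConj_trans (isConj_symm hf.isConj) (isConj_trans (isConj_symm hR') hRR₀))
      obtain ⟨tm, htm⟩ := exists_wval hS hF χ r hθm
      obtain ⟨N₁, u₁, hu₁, hMN₁, hu₁e, hu₁R, -⟩ := hext f₁ R' θ θm hf hθ.isMap hθm hθi hθmi
      obtain ⟨N₂, u₂, hu₂, hMN₂, hu₂e, -, -⟩ := hext f₂ (img f₁ R') θm θ'
        (hf₂.isMap.restrict hQ') hθm (himg.symm ▸ hθ'.isMap) hθmi (himg.symm ▸ hθ'i)
      obtain ⟨d₁, hd₁⟩ := exists_wval hS hF χ r (hu₁.restrict hMN₁)
      obtain ⟨d₂, hd₂⟩ := exists_wval hS hF χ r (hu₂.restrict hMN₂)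
      have e₁ := ih₁ hR'P hR' hθ htm hθi hθmi hd₁ hu₁e
      have e₂ := ih₂ hQ' (isConj_trans hR' hf.isConj) htm (himg.symm ▸ hθ') hθmi
        (himg.symm ▸ hθ'i) hd₂ hu₂e
      have h2 := hd₁.comp χ r hd₂ (hMinv u₁ (hu₁.restrict hMN₁) hu₁R)
      rw [← e₂, ← e₁, ← mul_assoc]
      congr 1
      refine sameM hR₀c hRM hMlt hu h2 fun y hy => ?_
      obtain ⟨x, hx, rfl⟩ :=
        (hθ.isMap.restrict (le_normalizerIn hf.le)).mem_img.1 (hθi.symm ▸ hy)
      rw [hue x hx, hu₁e x hx, hu₂e _ (mem_img_self f₁ hx)]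
    | @congr P f₁ f₂ hf₁ he ih =>
      intro R' t t' δ₀ θ θ' u hR'P hR' hθ hθ' hθi hθ'i hu hue
      have himg : img f₁ R' = img f₂ R' := img_congr fun x hx => he x (hR'P hx)
      exact ih hR'P hR' hθ (himg.symm ▸ hθ') hθi (himg.symm ▸ hθ'i) hu fun x hx => by
        rw [hue x hx, he x (hR'P hx)]
  intro a ha
  have hRlt : R < S := lt_of_le_of_ne hR.1 fun he => by
    have h1 : Nat.card M ≤ Nat.card S := card_le_card hMS
    have h2 : Nat.card R = Nat.card S := congrArg (fun H : Subgroup Ω => Nat.card H) he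
    omega
  have haR : IsMap F R (autFun (a : MulAut S)) := (isMap_aut a).restrict hR.1
  obtain ⟨θ, hθ, hθi⟩ := exists_map_to_fullyNormalized hS hF hR₀ hRR₀
  obtain ⟨θ', hθ', hθ'i⟩ := exists_map_to_fullyNormalized hS hF hR₀
    (isConj_trans (isConj_symm haR.isConj) hRR₀)
  obtain ⟨t, ht⟩ := exists_wval hS hF χ r hθ
  obtain ⟨t', ht'⟩ := exists_wval hS hF χ r hθ'
  obtain ⟨N', u, hu, hMN', hue, -, -⟩ := hext (autFun (a : MulAut S)) R θ θ' haR hθ hθ' hθi hθ'i
  obtain ⟨d, hd⟩ := exists_wval hS hF χ r (hu.restrict hMN')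
  have e1 := rel ha le_rfl (isConj_refl hR.1) ht ht' hθi hθ'i hd hue
  have e2 := rel_big (d := χ (r a)) hR (lt_normalizerIn hS hRlt) le_rfl rfl
    ⟨a, rfl, id, Gen.ident normalizerIn_le, fun x _ => rfl⟩ ht ht' hθi hθ'i hd hue
  rw [e1] at e2
  exact mul_left_cancel (a := t') (by rw [mul_one]; exact e2.symm)

/-- The seeds of `O^{p'}(F)` lie in the kernel of the value. -/
theorem a0_le : A0 F p ≤ (χ.comp r).ker := (Subgroup.closure_le _).2 fun a ha => by
  obtain ⟨R, hR, hg⟩ := ha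
  exact seedOne hS hF hE hEs hcop χ hker r hr hR a hg

/-! ### The system -/

omit hF hE hEs hcop hker hr in
theorem exists_sys : ∃ F₀ : FusionSystem S,
    ∀ (P : Subgroup Ω) (f : Ω → Ω), IsMap F₀ P f ↔ WVal p χ r P f 1 := by
  have hgen : ∀ {P : Subgroup Ω} {φ : P →* Ω}, WVal p χ r P (ext φ) 1 → φ ∈ F.Hom P :=
    fun h => hom_mem_iff.2 h.isMap
  let F₀ : FusionSystem S :=
    { Hom := fun P => {φ | WVal p χ r P (ext φ) 1}
      le_of_mem := fun h => F.le_of_mem (hgen h)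
      injective_of_mem := fun h => F.injective_of_mem (hgen h)
      conj_mem := fun {P g} hP hg =>
        (wval_gen χ r (gen_cj hS hP hg)).congr χ r fun x hx => by rw [ext_of_mem _ hx]; rfl
      comp_mem := by
        rintro P Q φ ψ hφ hψ h
        have hφQ : ∀ x ∈ P, ext φ x ∈ Q := fun x hx => ext_of_mem φ hx ▸ h ⟨x, hx⟩
        have h1 := hφ.comp χ r hψ hφQ
        rw [one_mul] at h1
        refine h1.congr χ r fun x hx => ?_
        show ext ψ (ext φ x) = _
        rw [ext_of_mem φ hx, ext_of_mem ψ (h ⟨x, hx⟩), ext_of_mem _ hx]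
        rfl
      inv_mem := by
        rintro P φ hφ
        obtain ⟨ψ, hψ, hψe⟩ := F.inv_mem (hgen hφ)
        refine ⟨ψ, ?_, hψe⟩
        have hi : ∀ x ∈ P, ext ψ (ext φ x) = x := fun x hx => by
          rw [ext_of_mem φ hx, ext_of_mem ψ ⟨⟨x, hx⟩, rfl⟩, hψe]
        obtain ⟨a, ha, e, he, hfe⟩ := hφ
        obtain ⟨c, hc, hce⟩ := fac_inv he hfe
        suffices h1 : WVal p χ r (img (ext φ) P) (ext ψ) 1 by
          rw [← range_eq_img] at h1
          exact h1
        refine ⟨a⁻¹, by rw [map_inv, map_inv, ha, inv_one], c, hc, fun y hy => ?_⟩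
        obtain ⟨x, hx, rfl⟩ :=
          (IsMap.of_hom (hgen ⟨a, ha, e, he, hfe⟩)).mem_img.1 hy
        rw [hce x hx, hi x hx] }
  refine ⟨F₀, fun P f => ⟨?_, fun h => ?_⟩⟩
  · rintro ⟨φ, hφ, hφf⟩
    exact WVal.congr χ r hφ fun x hx => by rw [ext_of_mem φ hx, hφf ⟨x, hx⟩]
  · refine ⟨h.isMap.hom, h.congr χ r fun x hx => ?_, fun x => rfl⟩
    rw [ext_of_mem _ hx, IsMap.hom_apply]

variable {F₀ : FusionSystem S}
  (hF₀ : ∀ (P : Subgroup Ω) (f : Ω → Ω), IsMap F₀ P f ↔ WVal p χ r P f 1)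
include hF₀

omit hS hF hE hEs hcop hker hr hp in
theorem sub : F₀.IsSubsystemOf F := fun P =>
  subset_of_isMap fun f hf => ((hF₀ P f).1 hf).isMap

omit hE hEs hcop hker hr in
theorem primeIndex : F₀.HasPrimeToPIndexIn F p :=
  ⟨sub χ r hF₀, fun _ hP =>
    primeIndex_of_gen hS hF (fun P f hf => (hF₀ P f).2 (wval_gen χ r hf)) hP⟩

theorem saturated : F₀.IsSaturated p := by
  let ψ : Val0 F p →* Δ := QuotientGroup.lift _ (χ.comp r)
    (a0_le hS hF hE hEs hcop χ hker r hr)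
  have toW : ∀ {P : Subgroup Ω} {f : Ω → Ω} {u : Val0 F p},
      Val F p P f u → WVal p χ r P f (ψ u) := by
    rintro P f u ⟨a, rfl, e, he, hfe⟩
    exact ⟨a, rfl, e, he, hfe⟩
  have toV : ∀ {P : Subgroup Ω} {f : Ω → Ω} {d : Δ},
      WVal p χ r P f d → ∃ u, ψ u = d ∧ Val F p P f u := by
    rintro P f d ⟨a, rfl, e, he, hfe⟩
    exact ⟨_, rfl, a, rfl, e, he, hfe⟩
  intro P hP
  obtain ⟨Q₀, hPQ₀, hQ₀⟩ := exists_fullyNormalized (F := F) hP
  obtain ⟨f, hf, rfl⟩ := isConj_iff_map.1 hPQ₀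
  obtain ⟨a, e, he, hfe⟩ := frattini hS hF hf
  have himg : img f P = img (autFun (a : MulAut S)) (img e P) := by
    rw [he.isMap.img_img, img_congr hfe]
  have hQ : F.IsFullyNormalized (img e P) := fn_aut he.isMap.img_le_S a (himg ▸ hQ₀)
  refine ⟨img e P, ((hF₀ _ _).2 (wval_gen χ r he)).isConj, ?_, ?_⟩
  · rw [fullyAutomized_iff hS]
    refine ⟨hQ.1, fun hdvd => ?_⟩
    have hA := ((fullyAutomized_iff hS).1 (fullyNormalized_fullyAutomized hS hF hQ)).2
    refine hA (hdvd.trans ?_)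
    have hle : F₀.autGroup (img e P) ≤ F.autGroup (img e P) := fun α hα =>
      (mem_autGroup_iff hQ.1).2
        (isMap_of_subset (sub χ r hF₀) (isMap_of_mem_autGroup hQ.1 hα))
    rw [← Subgroup.relIndex_mul_relIndex (autInducedBy S (img e P)) (F₀.autGroup (img e P))
      (F.autGroup (img e P)) (autInducedBy_le hQ.1) hle]
    exact dvd_mul_right _ _
  · set Q := img e P with hQdef
    refine isReceptive_iff.2 ⟨hQ.1, fun R φ hφ himgφ => ?_⟩
    obtain ⟨v, hv1, hφ1⟩ := toV ((hF₀ R φ).1 hφ)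
    have hφF : IsMap F R φ := hφ1.isMap
    have hfc := fullyNormalized_fullyCentralized hS hF hQ
    obtain ⟨ρ, hρ, hρe⟩ := exists_extension hS hF hφF (himgφ ▸ hfc)
    set N := nSub S R φ with hN
    have hRN : R ≤ N := le_nSub hφF
    obtain ⟨u, hu⟩ := exists_val hS hF hρ
    obtain ⟨i, -, -, hiφ, -⟩ := hφF.exists_inv
    have hiQ : ∀ y ∈ Q, i y ∈ R := fun y hy => by
      obtain ⟨x, hx, rfl⟩ := hφF.mem_img.1 (himgφ.symm ▸ hy)
      rwa [hiφ x hx]
    have hid : Val F p Q id (u * v⁻¹) := by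
      have h := (hφ1.inv hiφ).comp hu fun y hy => hRN (hiQ y (himgφ ▸ hy))
      rw [himgφ] at h
      refine h.congr fun y hy => ?_
      obtain ⟨x, hx, rfl⟩ := hφF.mem_img.1 (himgφ.symm ▸ hy)
      show ρ (i (φ x)) = φ x
      rw [hiφ x hx, hρe x hx]
    obtain ⟨γ, hγ, hγfix⟩ := (consistent hS hF hQ hid).inv
    set V := img ρ N with hVdef
    have hρR : img ρ R = Q := by rw [img_congr hρe, himgφ]
    have hQV : Q ≤ V := hρR ▸ img_mono ρ hRN
    have hVN : V ≤ normalizerIn S Q := by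
      refine img_le fun x hx => ⟨hρ.mem hx, ?_⟩
      rw [← hρR]
      exact hρ.mem_normalizer_img hRN hx (nSub_le S R φ hx).2
    have hVS : V ≤ S := hVN.trans normalizerIn_le
    have hXN : cen S Q ≤ kNorm S (autInducedBy V Q) := by
      refine sup_le (fun x hx => ?_) fun x hx => ?_
      · exact ⟨hQ.1 hx, conjAut V Q ⟨x, hQV hx, Subgroup.le_normalizer hx⟩,
          conjAut_range V Q ▸ ⟨_, rfl⟩, fun q hq => (conjAut_apply (⟨x, hQV hx,
            Subgroup.le_normalizer hx⟩ : ↥(V ⊓ Subgroup.normalizer (Q : Set Ω))) hq).symm⟩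
      · refine ⟨hx.1, 1, Subgroup.one_mem _, fun q hq => ?_⟩
        rw [autFun_one, id, cj_apply, mul_inv_eq_iff_eq_mul]
        exact (hx.2 q hq).symm
    have hγX : ∀ x ∈ cen S Q, γ x ∈ kNorm S (autInducedBy V Q) := fun x hx =>
      hXN (maps_cen hγ.isMap hγfix ▸ mem_img_self γ hx)
    obtain ⟨r', z, -, hr', hz, hzfix⟩ := exists_global hS hF hfc hQV hVN hγ.isMap le_sup_left hXN
      hγX hγfix
    rw [hr'.unique (cen_centric hS hF hfc) hγ] at hz
    have hNZ : ∀ x ∈ N, ρ x ∈ kNorm S (autInducedBy V Q) := fun x hx => by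
      have hxV : ρ x ∈ V := mem_img_self ρ hx
      exact ⟨hVS hxV, conjAut V Q ⟨ρ x, hxV, (hVN hxV).2⟩, conjAut_range V Q ▸ ⟨_, rfl⟩,
        fun q hq => (conjAut_apply (⟨ρ x, hxV, (hVN hxV).2⟩ :
          ↥(V ⊓ Subgroup.normalizer (Q : Set Ω))) hq).symm⟩
    have h1 := toW (hu.comp hz hNZ)
    rw [map_mul, map_inv, map_mul, map_inv, hv1, inv_one, mul_one, inv_mul_cancel] at h1
    refine ⟨fun x => z (ρ x), (hF₀ _ _).2 h1, fun x hx => ?_⟩
    show z (ρ x) = φ x
    rw [hρe x hx, hzfix _ (himgφ ▸ mem_img_self φ hx)]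

theorem isNormalIn : F₀.IsNormalIn F p := by
  have hsc : F.StronglyClosed S := ⟨le_rfl, fun R _ φ hφ x => (F.le_of_mem hφ).2 x⟩
  refine ⟨⟨saturated hS hF hE hEs hcop χ hker r hr hF₀, hF,
    ⟨sub χ r hF₀, hsc, fun P hPS φ hφ α hα => ?_, fun P hPS φ hφ => ?_⟩⟩, fun α hα => ?_⟩
  · obtain ⟨a, ha, e, he, hfe⟩ := (hF₀ P _).1 (IsMap.of_hom hφ)
    set A : F.autGroup S := ⟨α, hα⟩ with hA
    have hdom : (P.subgroupOf S).map (S.subtype.comp α.toMonoidHom) = img (autFun α) P :=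
      map_subgroupOf_eq_img (fun x => (autFun_apply α x).symm) hPS
    set g : Ω → Ω := fun y => autFun ((A * a * A⁻¹ : F.autGroup S) : MulAut S)
      (PPrimeGen.tw A e y) with hg
    have hval : IsMap F₀ ((P.subgroupOf S).map (S.subtype.comp α.toMonoidHom)) g := by
      rw [hdom, hF₀]
      exact ⟨A * a * A⁻¹, by simp [map_mul, map_inv, ha], _, he.tw A, fun y _ => rfl⟩
    refine ⟨hval.hom, hval.hom_mem_self, fun x hφx hαx => ?_⟩
    rw [IsMap.hom_apply]
    show g ((α ⟨x, hPS x.2⟩ : S) : Ω) = _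
    rw [← autFun_of_mem α (hPS x.2), ← autFun_of_mem α hφx, ← ext_apply φ x, hfe x x.2]
    show autFun ((A * a * A⁻¹ : F.autGroup S) : MulAut S)
      (PPrimeGen.tw A e (autFun (A : MulAut S) x)) = _
    rw [PPrimeGen.tw_apply, Subgroup.coe_mul, Subgroup.coe_mul, Subgroup.coe_inv, autFun_mul,
      autFun_mul, autFun_inv_apply]
  · obtain ⟨a, e, he, hfe⟩ := frattini hS hF (IsMap.of_hom hφ)
    have hm : IsMap F₀ P e := (hF₀ P e).2 (wval_gen χ r he)
    refine ⟨a, a.2, hm.hom, hm.hom_mem_self, fun x hx => ?_⟩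
    rw [← autFun_of_mem _ hx, IsMap.hom_apply, ← ext_apply φ x, hfe x x.2]
  · have hαF : IsMap F S (autFun α) :=
      isMap_of_subset (sub χ r hF₀) (isMap_of_mem_autGroup le_rfl hα)
    have hSC : S ⊔ centralizerIn S S = S := sup_eq_left.2 centralizerIn_le
    have hm : IsMap F (S ⊔ centralizerIn S S) (autFun α) := hSC.symm ▸ hαF
    obtain ⟨β, hβ, hβe⟩ := hm.exists_aut (by rw [hSC]; exact autFun_img α)
    refine ⟨β, hβ, fun x => ?_, fun c hc => ?_⟩
    · rw [← autFun_apply β, ← autFun_apply α]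
      exact hβe x (Subgroup.mem_sup_left x.2)
    · rw [← autFun_apply β, hβe c c.2]
      have h1 := hαF.mem_centralizer_img le_rfl (hc.1) hc.2
      rw [autFun_img] at h1
      exact ⟨S.mul_mem (S.inv_mem hc.1) (autFun_mem _ hc.1),
        Subgroup.mul_mem _ (Subgroup.inv_mem _ hc.2) h1⟩

omit hF₀ in
/-- Automorphisms of `T` and values of maps of `F` on `T`. -/
theorem value_top {α : MulAut T} (hα : α ∈ F.autGroup T) (h : WVal p χ r T (autFun α) δ) :
    χ ⟨α, hα⟩ = δ := by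
  obtain ⟨a, rfl, e, he, hfe⟩ := h
  have hTS : T ≤ S := subsystem_le hE.1
  have : Finite T := finite_of_le hTS
  have hTc : E.IsCentric T := centric_top
  have h1 := gen_cval hS hF hE hEs hcop χ hker he hTc le_rfl
  have h2 : CVal E χ T (autFun (a : MulAut S)) (χ (r a)) :=
    ⟨r a, rfl, id, isMap_id le_rfl, fun x hx => (hr a x hx).symm⟩
  have h3 := CVal.comp' hS hF hE hEs hcop χ hker h1 h2 fun x hx =>
    Normal.stronglyClosed_mem hE.2.1 he.isMap hx hx
  rw [mul_one] at h3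
  refine CVal.unique' hS hF hE hEs hcop χ hker hTc (f := autFun α)
    ⟨⟨α, hα⟩, rfl, id, isMap_id le_rfl, fun _ _ => rfl⟩ ?_
  obtain ⟨b, hb, d, hd, hde⟩ := h3
  exact ⟨b, hb, d, hd, fun x hx => (hfe x hx).trans (hde x hx)⟩

theorem e_sub : E.IsSubsystemOf F₀ := fun P => subset_of_isMap fun f hf => by
  have hTS : T ≤ S := subsystem_le hE.1
  have hfinT : Finite T := finite_of_le hTS
  have hTp : IsPGroup p T := hS.to_le hTS
  obtain ⟨a, e, he, hfe⟩ := frattini hTp hEs hf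
  have hgen : ∀ {P : Subgroup Ω} {e : Ω → Ω}, Gen E p P e → IsMap F₀ P e := by
    intro P e he
    induction he with
    | @base P V β k hV hβ hP =>
      have hVS : V ≤ S := hV.1.trans hTS
      have hβF : (β : MulAut V) ∈ F.autGroup V :=
        (mem_autGroup_iff hVS).2 (isMap_of_subset hE.1 (isMap_of_mem_autGroup hV.1 β.2))
      exact ((hF₀ _ _).2 (wval_gen χ r (gen_of_pPower hS hF hVS ⟨β, hβF⟩
        (k := k) (Subtype.ext (congrArg Subtype.val hβ :))))).restrict hP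
    | ident hP => exact isMap_id (hP.trans hTS)
    | comp _ _ hPQ ihf ihg => exact ihg.comp ihf hPQ
    | congr _ he ih => exact ih.congr he
  have haF : (a : MulAut T) ∈ F.autGroup T :=
    (mem_autGroup_iff hTS).2 (isMap_of_subset hE.1 (isMap_of_mem_autGroup le_rfl a.2))
  have haF₀ : IsMap F₀ T (autFun (a : MulAut T)) := by
    obtain ⟨d, hd⟩ := exists_wval hS hF χ r (isMap_of_mem_autGroup hTS haF)
    have h1 : χ ⟨a, haF⟩ = 1 := hker (Subgroup.mem_subgroupOf.2 a.2)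
    have h2 := value_top hS hF hE hEs hcop χ hker r hr haF hd
    rw [h1] at h2
    rw [← h2] at hd
    exact (hF₀ _ _).2 hd
  exact (haF₀.comp (hgen he) fun x hx => he.isMap.mem hx).congr fun x hx => (hfe x hx).symm

theorem aut_iff (a : MulAut S) :
    a ∈ F₀.autGroup S ↔ ∃ h : a ∈ F.autGroup S, χ (r ⟨a, h⟩) = 1 := by
  refine ⟨fun ha => ?_, fun ⟨h, h1⟩ => (mem_autGroup_iff le_rfl).2
    ((hF₀ _ _).2 ⟨⟨a, h⟩, h1, id, Gen.ident le_rfl, fun _ _ => rfl⟩)⟩
  have hw := (hF₀ _ _).1 (isMap_of_mem_autGroup le_rfl ha)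
  have haF : a ∈ F.autGroup S := (mem_autGroup_iff le_rfl).2 hw.isMap
  refine ⟨haF, (WVal.unique (f := autFun a) χ r (fun R' hR' => ?_)
    (⟨⟨a, haF⟩, rfl, id, Gen.ident le_rfl, fun _ _ => rfl⟩ : WVal p χ r S (autFun a) _) hw)⟩
  exact seedOne hS hF hE hEs hcop χ hker r hr (centric_conj PPrimeGen.centric_top hR')

theorem ne_top [Nontrivial Δ] (hsurj : Function.Surjective χ) :
    ¬ ∀ P : Subgroup Ω, F₀.Hom P = F.Hom P := by
  intro hall
  have hTS : T ≤ S := subsystem_le hE.1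
  obtain ⟨d, hd⟩ := exists_ne (1 : Δ)
  obtain ⟨α, rfl⟩ := hsurj d
  have hm : IsMap F T (autFun (α : MulAut T)) := isMap_of_mem_autGroup hTS α.2
  have hm₀ : IsMap F₀ T (autFun (α : MulAut T)) := by
    obtain ⟨φ, hφ, hφe⟩ := hm
    exact ⟨φ, (hall T).symm ▸ hφ, hφe⟩
  exact hd (value_top hS hF hE hEs hcop χ hker r hr α.2 ((hF₀ _ _).1 hm₀))

end Cfsg.Agent.Fusion.PPrimeIndex
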