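/-
The intersection of two normal subsystems: the largest subsystem on `T₁ ∩ T₂` normal in `F` and in
both.
-/
import Mathlib
import Cfsg.Agent.Lib.Fusion.MeetSat
import Cfsg.Agent.Lib.Fusion.PPrimeIndex
import Cfsg.Agent.Lib.Fusion.ComponentExists

set_option autoImplicit false
set_option linter.all false

namespace Cfsg.Agent.Fusion.MeetNormal

open Cfsg Cfsg.FusionSystem Cfsg.Agent.Fusion.Basic Cfsg.Agent.Fusion.Saturation
  Cfsg.Agent.Fusion.Normal Cfsg.Agent.Fusion.Factor Cfsg.Agent.Fusion.Subsystems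
  Cfsg.Agent.Fusion.SylIn Cfsg.Agent.Fusion.MeetAut Cfsg.Agent.Fusion.Meet
  Cfsg.Agent.Fusion.MeetSat Cfsg.Agent.Fusion.PPrimeNormal Cfsg.Agent.Fusion.CentricExt Cfsg.Agent.Fusion.PPrimeResidual

section General

variable {Ω : Type*} [Group Ω] {S T U : Subgroup Ω} {F : FusionSystem S} {p : ℕ}
  [Finite S] [Fact p.Prime]

/-- An automorphism of a strongly closed `T ≤ U` extends to `T C_U(T)`. -/
theorem exists_gamma (hS : IsPGroup p S) (hF : F.IsSaturated p) (hT : F.StronglyClosed T)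
    (hU : F.StronglyClosed U) (hTU : T ≤ U) {α : MulAut T} (hα : α ∈ F.autGroup T) :
    ∃ γ ∈ F.autGroup (cen U T), ∀ x ∈ T, autFun γ x = autFun α x := by
  have hm := isMap_of_mem_autGroup hT.1 hα
  have hfn : F.IsFullyNormalized T := by
    refine ⟨hT.1, fun Q hQ => ?_⟩
    obtain ⟨q, hq, rfl⟩ := isConj_iff_map.1 hQ
    rw [Normal.stronglyClosed_img hT hq le_rfl]
  obtain ⟨θ, hθ, hθe⟩ := exists_extension hS hF hm
    (by rw [autFun_img]; exact fullyNormalized_fullyCentralized hS hF hfn)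
  have hθ' : IsMap F (cen U T) θ := hθ.restrict (sup_le (le_nSub hm)
    fun x hx => centralizerIn_le_nSub ⟨hU.1 hx.1, hx.2⟩)
  have hfinU : Finite U := finite_of_le hU.1
  have hfin : Finite (cen U T) := finite_of_le (sup_le hTU centralizerIn_le)
  have himg : img θ (cen U T) = cen U T := by
    refine eq_of_le_card ?_ hθ'.card_img.ge
    rw [cen, IsMap.img_sup hθ']
    refine sup_le ?_ (img_le fun x hx => Subgroup.mem_sup_right ?_)
    · exact (Normal.stronglyClosed_img hT hθ' le_sup_left).le.trans le_sup_left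
    · have h1 := hθ'.mem_centralizer_img le_sup_left (Subgroup.mem_sup_right hx) hx.2
      rw [Normal.stronglyClosed_img hT hθ' le_sup_left] at h1
      exact ⟨stronglyClosed_mem hU hθ' (Subgroup.mem_sup_right hx) hx.1, h1⟩
  obtain ⟨γ, hγ, hγe⟩ := hθ'.exists_aut himg
  exact ⟨γ, hγ, fun x hx => by rw [hγe x (Subgroup.mem_sup_left hx), hθe x hx]⟩

omit [Finite S] [Fact p.Prime] in
/-- Good automorphisms are permuted by the extendable ones. -/
theorem good_conj {G : FusionSystem U} [Finite U] {γ : MulAut (cen U T)} {α c : MulAut T}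
    (hn : ∀ b ∈ G.autGroup (cen U T), γ * b * γ⁻¹ ∈ G.autGroup (cen U T))
    (hγ : ∀ x ∈ T, autFun γ x = autFun α x)
    (hγC : ∀ x ∈ centralizerIn U T, autFun γ⁻¹ x ∈ centralizerIn U T)
    (hc : c ∈ good (F := G) (T := T)) : α * c * α⁻¹ ∈ good (F := G) (T := T) := by
  obtain ⟨β, hβ, hβc, hβx⟩ := hc
  have hγi : ∀ x ∈ T, autFun γ⁻¹ x = autFun α⁻¹ x := fun x hx => by
    conv_lhs => rw [← autFun_apply_inv α x, ← hγ _ (autFun_mem _ hx)]
    exact autFun_inv_apply _ _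
  refine ⟨γ * β * γ⁻¹, hn β hβ, fun x hx => ?_, fun x hx => ?_⟩
  · rw [autFun_mul, autFun_mul, autFun_mul, autFun_mul, hγi x hx, hβc _ (autFun_mem _ hx),
      hγ _ (autFun_mem _ (autFun_mem _ hx))]
  · set y := autFun γ⁻¹ x with hy
    have hyC := hγC x hx
    have ht := hβx y hyC
    rw [autFun_mul, autFun_mul, ← hy,
      show autFun β y = y * (y⁻¹ * autFun β y) from (mul_inv_cancel_left _ _).symm,
      autFun_isHom γ _ (Subgroup.mem_sup_right hyC) _ (Subgroup.mem_sup_left ht),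
      show autFun γ y = x from autFun_apply_inv γ x, inv_mul_cancel_left, hγ _ ht]
    exact autFun_mem α ht

/-- The automorphisms of a normal subsystem are good. -/
theorem good_of_normal {E : FusionSystem T} (hE : E.IsNormalIn F p) {α : MulAut T}
    (hα : α ∈ E.autGroup T) : α ∈ good (F := F) (T := T) := by
  obtain ⟨β, hβ, hβT, hβC⟩ := hE.2 α hα
  refine ⟨β, hβ, fun x hx => ?_, fun x hx => ?_⟩
  · rw [autFun_of_mem _ (show x ∈ cen S T from Subgroup.mem_sup_left hx), autFun_of_mem _ hx]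
    exact hβT ⟨x, hx⟩
  · rw [autFun_of_mem _ (show x ∈ cen S T from Subgroup.mem_sup_right hx)]
    exact (hβC ⟨x, Subgroup.mem_sup_right hx⟩ hx).1

/-- A saturated system with automorphisms `X` over generated maps of a weakly normal one is
normal, if `X` is good. -/
theorem normal_of_sub (hS : IsPGroup p S) {E : FusionSystem T} (hE : E.IsWeaklyNormalIn F p)
    {D : FusionSystem T} (hsat : D.IsSaturated p) {X : Subgroup (MulAut T)}
    (hXE : X ≤ E.autGroup T) (hXg : X ≤ good (F := F) (T := T))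
    (hXc : ∀ α ∈ F.autGroup T, ∀ a ∈ X, α * a * α⁻¹ ∈ X)
    (hmap : ∀ P f, IsMap D P f ↔
      ∃ a ∈ X, ∃ e, PPrimeGen.Gen E p P e ∧ ∀ x ∈ P, f x = autFun a (e x))
    (htop : D.autGroup T ≤ X) : D.IsNormalIn F p := by
  have hTS : T ≤ S := subsystem_le hE.2.2.1
  have hfinT : Finite T := finite_of_le hTS
  have hTp : IsPGroup p T := hS.to_le hTS
  have hDE : ∀ P f, IsMap D P f → IsMap E P f := fun P f hf => by
    obtain ⟨a, ha, e, he, hfe⟩ := (hmap P f).1 hf
    exact ((isMap_of_mem_autGroup le_rfl (hXE ha)).comp he.isMap fun x hx => he.isMap.mem hx).congr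
      fun x hx => (hfe x hx).symm
  refine ⟨⟨hsat, hE.2.1, invariant_mk (fun P f hf => isMap_of_subset hE.2.2.1 (hDE P f hf))
    hE.2.2.2.1 (fun P f hf α hα => ?_) (fun P f hP hf => ?_)⟩, fun α hα => ?_⟩
  · obtain ⟨a, ha, e, he, hfe⟩ := (hmap P f).1 hf
    refine ⟨fun y => autFun (α * a * α⁻¹) (autFun α (e (autFun α⁻¹ y))), (hmap _ _).2
      ⟨_, hXc α hα a ha, _, PPrimeNormal.gen_transport hE.2.2 hS hE.2.1 hE.1 hα he,
        fun y _ => rfl⟩, fun x hx => ?_⟩
    show autFun (α * a * α⁻¹) (autFun α (e (autFun α⁻¹ (autFun α x)))) = _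
    rw [autFun_inv_apply, autFun_mul, autFun_mul, autFun_inv_apply, hfe x hx]
  · obtain ⟨α, hα, f₀, hf₀, he⟩ := invariant_frattini hE.2.2 hP hf
    obtain ⟨a, e, hge, hae⟩ := PPrimeGen.frattini hTp hE.1 hf₀
    have haF : (a : MulAut T) ∈ F.autGroup T :=
      (mem_autGroup_iff hTS).2 (isMap_of_subset hE.2.2.1 (isMap_of_mem_autGroup le_rfl a.2))
    refine ⟨α * a, mul_mem hα haF, e, (hmap _ _).2 ⟨1, one_mem _, e, hge, fun x _ => by
      rw [autFun_one]; rfl⟩, fun x hx => ?_⟩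
    rw [he x hx, hae x hx, autFun_mul]
  · obtain ⟨β, hβ, hβT, hβX⟩ := hXg (htop hα)
    refine ⟨β, hβ, fun x => ?_, fun c hc => ⟨?_, ?_⟩⟩
    · rw [← autFun_apply β, ← autFun_apply α]; exact hβT x x.2
    · rw [← autFun_apply β]; exact hβX c hc
    · refine Subgroup.mul_mem _ (Subgroup.inv_mem _ hc.2) ?_
      rw [← autFun_apply β]
      have hm := isMap_of_mem_autGroup (sup_le hTS centralizerIn_le) hβ
      have h2 := hm.mem_centralizer_img le_sup_left (Subgroup.mem_sup_right hc) hc.2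
      rwa [Normal.stronglyClosed_img hE.2.2.2.1 hm le_sup_left] at h2

end General

variable {Ω : Type*} [Group Ω] {S T₁ T₂ : Subgroup Ω}
variable {F : FusionSystem S} {M : FusionSystem T₁} {N : FusionSystem T₂} {p : ℕ}
  [Finite S] [Fact p.Prime] (h : Pair F M N p) {D : FusionSystem (T₁ ⊓ T₂)}
  (hD : ∀ P f, IsMap D P f ↔ Gen F M N p P f) {P W : Subgroup Ω}
include h hD

/-- The system is weakly normal in each system between it and `F`. -/
theorem weaklyNormal_in {U : Subgroup Ω} {G : FusionSystem U} (hUS : U ≤ S)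
    (hGF : G.IsSubsystemOf F) (hG : G.IsSaturated p) (hDG : ∀ P f, IsMap D P f → IsMap G P f) :
    D.IsWeaklyNormalIn G p := by
  have hfinU : Finite U := finite_of_le hUS
  have hVU : T₁ ⊓ T₂ ≤ U := (hDG _ _ (isMap_id le_rfl)).le
  have hV : G.StronglyClosed (T₁ ⊓ T₂) :=
    ⟨hVU, fun R hR φ hφ x => (closed h).2 R hR φ (hGF R hφ) x⟩
  have hsub : D.IsSubsystemOf G := fun P => subset_of_isMap fun f hf => hDG P f hf
  have hst := InvariantCriterion.strong_of_invariant (invariant h hD)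
  have hstG : InvariantCriterion.Strong G D := fun P Q φ ψ hPQ hQ hφ hm hψ =>
    hst P Q φ ψ hPQ hQ hφ hm (isMap_of_subset hGF hψ)
  refine ⟨saturated h hD, hG, invariant_mk (fun P f hf => hDG P f hf) hV
    (fun P f hf α hα => ?_) (fun P f hP hf => ?_)⟩
  · exact invariant_transport (invariant h hD) hf.le hf
      ((mem_autGroup_iff (V_le h)).2 (isMap_of_subset hGF (isMap_of_mem_autGroup hVU hα)))
  · exact InvariantCriterion.fac_of_strong (h.pg.to_le hUS) hG hV hsub hstG hP hf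

theorem weaklyNormal_left : D.IsWeaklyNormalIn M p :=
  weaklyNormal_in h hD (T₁_le h) h.left.1.2.2.1 h.left.1.1
    fun P f hf => (gen_sub h ((hD P f).1 hf)).1

theorem weaklyNormal_right : D.IsWeaklyNormalIn N p :=
  weaklyNormal_in h hD (T₂_le h) h.right.1.2.2.1 h.right.1.1
    fun P f hf => (gen_sub h ((hD P f).1 hf)).2

section Largest

variable {D' : FusionSystem (T₁ ⊓ T₂)} (hF' : D'.IsNormalIn F p) (hM' : D'.IsNormalIn M p)
  (hN' : D'.IsNormalIn N p)
include hF' hM' hN'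

omit hD in
/-- The automorphism groups of a common normal subsystem are in the automizers. -/
theorem aut_sub (hW : W ≤ T₁ ⊓ T₂) : D'.autGroup W ≤ B F M N p W := by
  intro a ha
  have hV : T₁ ⊓ T₂ ≤ S := V_le h
  have hfinV : Finite (T₁ ⊓ T₂ : Subgroup Ω) := finite_of_le hV
  have hWS : W ≤ S := hW.trans hV
  have hfinW : Finite W := finite_of_le hWS
  obtain ⟨e, m, hm, hem⟩ :=
    Nat.exists_eq_pow_mul_and_not_dvd (orderOf_pos a).ne' p (Fact.out : p.Prime).ne_one
  have hmc : m.Coprime p := ((Fact.out : p.Prime).coprime_iff_not_dvd.2 hm).symm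
  refine GoodExtension.mem_of_pow_mem (m := p ^ e) (n := m) (Nat.Coprime.pow_left e hmc.symm) ?_ ?_
  · -- the part of order prime to `p`
    refine Subgroup.subset_closure (Or.inl ⟨⟨?_, ?_⟩, ?_⟩)
    · exact (mem_autGroup_iff (hW.trans inf_le_left)).2
        (isMap_of_subset hM'.1.2.2.1 (isMap_of_mem_autGroup hW (pow_mem ha _)))
    · exact (mem_autGroup_iff (hW.trans inf_le_right)).2
        (isMap_of_subset hN'.1.2.2.1 (isMap_of_mem_autGroup hW (pow_mem ha _)))
    · refine Nat.Coprime.coprime_dvd_left (orderOf_dvd_of_pow_eq_one ?_) hmc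
      rw [← pow_mul, ← hem, pow_orderOf_eq_one]
  · -- the part of `p`-power order
    have hb : (⟨a ^ m, pow_mem ha m⟩ : D'.autGroup W) ^ p ^ e = 1 := by
      refine Subtype.ext ?_
      rw [SubmonoidClass.coe_pow]
      show (a ^ m) ^ p ^ e = 1
      rw [← pow_mul, mul_comm, ← hem, pow_orderOf_eq_one]
    obtain ⟨θ, t, hθ, -, ht, hte⟩ :=
      exists_conjElt hF'.1.2.2 h.pg h.sat hF'.1.1 hW ⟨a ^ m, pow_mem ha m⟩ hb
    exact Subgroup.subset_closure (Or.inr ⟨θ, hθ, t, ht, hte⟩)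

/-- The centric subgroups of a common normal subsystem are in the family. -/
theorem fam_of_centric (hW : D'.IsCentric W) : Fam F T₁ T₂ W := by
  refine ⟨hW.1, fun W' hW' => ?_⟩
  obtain ⟨g, hg, rfl⟩ := isConj_iff_map.1 hW'
  exact cent_le hF'.1.2.2 hW hg

end Largest

/-- The intersection: the largest subsystem normal in `F`, `M` and `N`. -/
theorem exists_meet : ∃ D₀ : FusionSystem (T₁ ⊓ T₂),
    (D₀.IsNormalIn F p ∧ D₀.IsNormalIn M p ∧ D₀.IsNormalIn N p) ∧
      ∀ D' : FusionSystem (T₁ ⊓ T₂), D'.IsNormalIn F p → D'.IsNormalIn M p →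
        D'.IsNormalIn N p → D'.IsSubsystemOf D₀ := by
  classical
  have hV := V_le h
  have hfinV : Finite (T₁ ⊓ T₂ : Subgroup Ω) := finite_of_le hV
  have hVp : IsPGroup p (T₁ ⊓ T₂ : Subgroup Ω) := h.pg.to_le hV
  have hfin₁ : Finite T₁ := finite_of_le (T₁_le h)
  have hfin₂ : Finite T₂ := finite_of_le (T₂_le h)
  have hp₁ : IsPGroup p T₁ := h.pg.to_le (T₁_le h)
  have hp₂ : IsPGroup p T₂ := h.pg.to_le (T₂_le h)
  have hwF : D.IsWeaklyNormalIn F p := MeetSat.weaklyNormal h hD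
  have hwM := weaklyNormal_left h hD
  have hwN := weaklyNormal_right h hD
  obtain ⟨R, hR⟩ := PPrimeResidual.exists_residual (F := D) (p := p) hVp hwF.1
  have hRD : R.IsNormalIn D p :=
    ComponentExists.residual_isNormal hVp hwF.1 (ComponentExists.weaklyNormal_refl hwF.1) hR
  have hRF := ComponentExists.residual_isNormal h.pg h.sat hwF hR
  have hRM := ComponentExists.residual_isNormal hp₁ h.left.1.1 hwM hR
  have hRN := ComponentExists.residual_isNormal hp₂ h.right.1.1 hwN hR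
  set X : Subgroup (MulAut (T₁ ⊓ T₂ : Subgroup Ω)) :=
    D.autGroup (T₁ ⊓ T₂) ⊓ (good (F := F) (T := T₁ ⊓ T₂) ⊓
      (good (F := M) (T := T₁ ⊓ T₂) ⊓ good (F := N) (T := T₁ ⊓ T₂))) with hX
  have hRX : ∀ a ∈ R.autGroup (T₁ ⊓ T₂), a ∈ X := fun a ha =>
    ⟨(mem_autGroup_iff le_rfl).2 (isMap_of_subset hRD.1.2.2.1 (isMap_of_mem_autGroup le_rfl ha)),
      good_of_normal hRF ha, good_of_normal hRM ha, good_of_normal hRN ha⟩
  have hsc : F.StronglyClosed S := ⟨le_rfl, fun R _ φ hφ x => (F.le_of_mem hφ).2 x⟩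
  -- `X` is stable under `Aut_F(V)`
  have hXc : ∀ α ∈ F.autGroup (T₁ ⊓ T₂), ∀ a ∈ X, α * a * α⁻¹ ∈ X := by
    intro α hα a ha
    refine ⟨?_, ?_, ?_, ?_⟩
    · have hn := InvariantCriterion.autGroup_conj hV hwF.2.2.1
        (InvariantCriterion.strong_of_invariant hwF.2.2) (le_refl (T₁ ⊓ T₂))
      have haF : a ∈ F.autGroup (T₁ ⊓ T₂) :=
        (mem_autGroup_iff hV).2 (isMap_of_subset hwF.2.2.1 (isMap_of_mem_autGroup le_rfl ha.1))
      exact Subgroup.mem_subgroupOf.1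
        (hn.conj_mem ⟨a, haF⟩ (Subgroup.mem_subgroupOf.2 ha.1) ⟨α, hα⟩)
    · obtain ⟨γ, hγ, hγe⟩ := exists_gamma h.pg h.sat (closed h) hsc hV hα
      refine good_conj (fun b hb => mul_mem (mul_mem hγ hb) (Subgroup.inv_mem _ hγ)) hγe ?_ ha.2.1
      intro x hx
      have hm := isMap_of_mem_autGroup (sup_le hV centralizerIn_le) (Subgroup.inv_mem _ hγ)
      have h1 := hm.mem_centralizer_img le_sup_left (Subgroup.mem_sup_right hx) hx.2
      rw [Normal.stronglyClosed_img (closed h) hm le_sup_left] at h1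
      exact ⟨hm.mem (Subgroup.mem_sup_right hx), h1⟩
    all_goals
      have key : ∀ {U : Subgroup Ω} (G : FusionSystem U), G.IsNormalIn F p → T₁ ⊓ T₂ ≤ U →
          a ∈ good (F := G) (T := T₁ ⊓ T₂) → α * a * α⁻¹ ∈ good (F := G) (T := T₁ ⊓ T₂) := by
        intro U G hG hVU hga
        have hUsc := hG.1.2.2.2.1
        have hfinU : Finite U := finite_of_le hUsc.1
        have hcU : cen U (T₁ ⊓ T₂) ≤ U := sup_le hVU centralizerIn_le
        obtain ⟨γ, hγ, hγe⟩ := exists_gamma h.pg h.sat (closed h) hUsc hVU hα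
        refine good_conj (fun b hb => ?_) hγe (fun x hx => ?_) hga
        · have hn := InvariantCriterion.autGroup_conj hUsc.1 hG.1.2.2.1
            (InvariantCriterion.strong_of_invariant hG.1.2.2) hcU
          have hbF : b ∈ F.autGroup (cen U (T₁ ⊓ T₂)) := (mem_autGroup_iff (hcU.trans hUsc.1)).2
            (isMap_of_subset hG.1.2.2.1 (isMap_of_mem_autGroup hcU hb))
          exact Subgroup.mem_subgroupOf.1
            (hn.conj_mem ⟨b, hbF⟩ (Subgroup.mem_subgroupOf.2 hb) ⟨γ, hγ⟩)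
        · have hm := isMap_of_mem_autGroup (hcU.trans hUsc.1) (Subgroup.inv_mem _ hγ)
          have h1 := hm.mem_centralizer_img le_sup_left (Subgroup.mem_sup_right hx) hx.2
          rw [Normal.stronglyClosed_img (closed h) hm le_sup_left] at h1
          exact ⟨stronglyClosed_mem hUsc hm (Subgroup.mem_sup_right hx) hx.1, h1⟩
    · exact key M h.left inf_le_left ha.2.2.1
    · exact key N h.right inf_le_right ha.2.2.2
  have hDF : ∀ α ∈ D.autGroup (T₁ ⊓ T₂), α ∈ F.autGroup (T₁ ⊓ T₂) := fun α hα =>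
    (mem_autGroup_iff hV).2 (isMap_of_subset hwF.2.2.1 (isMap_of_mem_autGroup le_rfl hα))
  -- the quotient
  set K := X.subgroupOf (D.autGroup (T₁ ⊓ T₂)) with hK
  have hKn : K.Normal := ⟨fun a ha b => Subgroup.mem_subgroupOf.2
    (hXc b (hDF b b.2) a (Subgroup.mem_subgroupOf.1 ha))⟩
  have hVfn : D.IsFullyNormalized (T₁ ⊓ T₂) := ⟨le_rfl, fun Q hQ => by
    rw [Alperin.eq_top_of_card le_rfl hQ rfl]⟩
  have hRn : R.IsFullyNormalized (T₁ ⊓ T₂) := ⟨le_rfl, fun Q hQ => by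
    rw [Alperin.eq_top_of_card le_rfl hQ rfl]⟩
  obtain ⟨Sy, hSy⟩ := (fullyNormalized_fullyAutomized hVp hwF.1 hVfn).2
  have hcop : (Nat.card (D.autGroup (T₁ ⊓ T₂) ⧸ K)).Coprime p := by
    refine ((Fact.out : p.Prime).coprime_iff_not_dvd.2 fun hdvd => Sy.not_dvd_index ?_).symm
    refine dvd_trans hdvd (Subgroup.index_dvd_of_le (K := K) ?_)
    rw [hSy]
    intro a ha
    exact Subgroup.mem_subgroupOf.2
      (hRX _ (autInducedBy_le (F := R) le_rfl (Subgroup.mem_subgroupOf.1 ha)))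
  set χ := QuotientGroup.mk' K with hχ
  have hker : (R.autGroup (T₁ ⊓ T₂)).subgroupOf (D.autGroup (T₁ ⊓ T₂)) ≤ χ.ker := fun a ha => by
    rw [hχ, QuotientGroup.ker_mk']
    exact Subgroup.mem_subgroupOf.2 (hRX _ (Subgroup.mem_subgroupOf.1 ha))
  set r := MonoidHom.id (D.autGroup (T₁ ⊓ T₂)) with hr
  have hre : ∀ a : D.autGroup (T₁ ⊓ T₂), ∀ x ∈ T₁ ⊓ T₂,
      autFun (r a : MulAut (T₁ ⊓ T₂ : Subgroup Ω)) x =
        autFun (a : MulAut (T₁ ⊓ T₂ : Subgroup Ω)) x := fun a x _ => rfl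
  obtain ⟨D₀, hD₀⟩ := PPrimeIndex.exists_sys hVp χ r
  have hsat := PPrimeIndex.saturated hVp hwF.1 hRD.1.2.2 hRD.1.1 hcop χ hker r hre hD₀
  have hmap : ∀ P f, IsMap D₀ P f ↔
      ∃ a ∈ X, ∃ e, PPrimeGen.Gen D p P e ∧ ∀ x ∈ P, f x = autFun a (e x) := by
    intro P f
    rw [hD₀]
    refine ⟨fun ⟨a, ha, e, he, hfe⟩ => ⟨a, ?_, e, he, hfe⟩, fun ⟨a, ha, e, he, hfe⟩ => ?_⟩
    · exact Subgroup.mem_subgroupOf.1 ((QuotientGroup.eq_one_iff a).1 ha)
    · exact ⟨⟨a, ha.1⟩, (QuotientGroup.eq_one_iff _).2 (Subgroup.mem_subgroupOf.2 ha), e, he, hfe⟩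
  have htop : D₀.autGroup (T₁ ⊓ T₂) ≤ X := fun a ha => by
    obtain ⟨ha', h1⟩ :=
      (PPrimeIndex.aut_iff hVp hwF.1 hRD.1.2.2 hRD.1.1 hcop χ hker r hre hD₀ a).1 ha
    exact Subgroup.mem_subgroupOf.1 ((QuotientGroup.eq_one_iff _).1 h1)
  refine ⟨D₀, ⟨normal_of_sub h.pg hwF hsat inf_le_left (inf_le_right.trans inf_le_left) hXc hmap htop,
    normal_of_sub hp₁ hwM hsat inf_le_left (inf_le_right.trans (inf_le_right.trans inf_le_left)) (fun α hα => hXc α ?_) hmap htop,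
    normal_of_sub hp₂ hwN hsat inf_le_left (inf_le_right.trans (inf_le_right.trans inf_le_right)) (fun α hα => hXc α ?_) hmap htop⟩,
    fun D' hF' hM' hN' => ?_⟩
  · exact (mem_autGroup_iff hV).2
      (isMap_of_subset h.left.1.2.2.1 (isMap_of_mem_autGroup inf_le_left hα))
  · exact (mem_autGroup_iff hV).2
      (isMap_of_subset h.right.1.2.2.1 (isMap_of_mem_autGroup inf_le_right hα))
  -- the largest one
  intro P
  refine subset_of_isMap fun f hf => ?_
  obtain ⟨a, e, he, hfe⟩ := PPrimeGen.frattini hVp hF'.1.1 hf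
  have hVfam : Fam F T₁ T₂ (T₁ ⊓ T₂) := fam_of_centric h hD hF' hM' hN' PPrimeGen.centric_top
  have haX : (a : MulAut (T₁ ⊓ T₂ : Subgroup Ω)) ∈ X :=
    ⟨B_le_aut h hD hVfam (aut_sub h hF' hM' hN' le_rfl a.2),
      good_of_normal hF' a.2, good_of_normal hM' a.2, good_of_normal hN' a.2⟩
  have hge : ∀ {P e}, PPrimeGen.Gen D' p P e → PPrimeGen.Gen D p P e := by
    intro P e he
    induction he with
    | @base P W β k hW hβ hP =>
      have hWf := fam_of_centric h hD hF' hM' hN' hW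
      have hβD : (β : MulAut W) ∈ D.autGroup W :=
        B_le_aut h hD hWf (aut_sub h hF' hM' hN' hW.1 β.2)
      exact PPrimeGen.Gen.base (⟨_, hβD⟩ : D.autGroup W) k ((fam_iff_centric h hD).1 hWf)
        (Subtype.ext (congrArg Subtype.val hβ :)) hP
    | ident hP => exact .ident hP
    | comp _ _ hPQ ihf ihg => exact ihf.comp ihg hPQ
    | congr _ he ih => exact ih.congr he
  exact (hmap P f).2 ⟨a, haX, e, hge he, hfe⟩

end Cfsg.Agent.Fusion.MeetNormal
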