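/-
A normal subsystem of a quasisimple system is central or everything.
-/
import Mathlib
import Cfsg.Agent.Lib.Fusion.CentralQuot
import Cfsg.Agent.Lib.Fusion.ComponentExists
import Cfsg.Agent.Lib.Fusion.Meet

set_option autoImplicit false
set_option linter.all false

namespace Cfsg.Agent.Fusion.QuasisimpleNormal

open Cfsg Cfsg.FusionSystem Cfsg.Agent.Fusion.Basic Cfsg.Agent.Fusion.Saturation
  Cfsg.Agent.Fusion.Normal Cfsg.Agent.Fusion.Factor Cfsg.Agent.Fusion.Subsystems
  Cfsg.Agent.Fusion.CentralQuot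

variable {Ω : Type*} [Group Ω] {S T : Subgroup Ω} {F : FusionSystem S} {N : FusionSystem T}
  {p : ℕ} [Finite S] [Fact p.Prime]

theorem central_or_all (hS : IsPGroup p S) (hq : F.Quasisimple p) (hN : N.IsNormalIn F p) :
    T ≤ F.center ∨ (T = S ∧ ∀ P : Subgroup Ω, F.Hom P ⊆ N.Hom P) := by
  obtain ⟨hF, hhyp, hsimp⟩ := hq
  have hinv : N.IsInvariantIn F := hN.1.2.2
  have hTsc : F.StronglyClosed T := hinv.2.1
  have hTS : T ≤ S := hTsc.1
  have hfinT : Finite T := finite_of_le hTS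
  have hTp : IsPGroup p T := hS.to_le hTS
  have hZ : F.IsCentral F.center := center_isCentral
  obtain ⟨F', hF'⟩ := FactorExists.exists_factorSystem (F := F) (S' := ⊤)
    (θ := QuotientGroup.mk' ((F.center).subgroupOf S)) (normal_stronglyClosed (central_normal hZ))
    (fun s => by rw [QuotientGroup.mk'_apply, QuotientGroup.eq_one_iff]; rfl)
    (MonoidHom.range_eq_top.2 (QuotientGroup.mk'_surjective _))
  have hsim := hsimp F' hF'
  have hq := isQuot_of_factorSystem (normal_stronglyClosed (central_normal hZ)) hF'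
  set θ := QuotientGroup.mk' ((F.center).subgroupOf S) with hθdef
  set Z := F.center with hZdef
  have hfin' : Finite (⊤ : Subgroup (S ⧸ Z.subgroupOf S)) := hq.finite
  -- the factor system of `N`
  set θT : T →* (S ⧸ Z.subgroupOf S) := θ.comp (Subgroup.inclusion hTS) with hθT
  have hal : ∀ x ∈ T, along θT x = along θ x := fun x hx => by
    rw [along_of_mem θT hx, along_of_mem θ (hTS hx)]
    rfl
  have hsc₀ : N.StronglyClosed (Z ⊓ T) := ⟨inf_le_right, fun R hR φ hφ x => by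
    have hx := hR x.2
    rw [← ext_apply φ x, fix_of_central hZ (isMap_of_subset hinv.1 (IsMap.of_hom hφ)) x.2 hx.1]
    exact hx⟩
  set T' := imageAlong θ T with hT'
  have hrange : θT.range = T' := by
    rw [hT']
    ext y
    rw [mem_imageAlong]
    constructor
    · rintro ⟨x, rfl⟩
      exact ⟨x, x.2, hTS x.2, (along_of_mem θ (hTS x.2)).trans rfl⟩
    · rintro ⟨x, hx, hxS, rfl⟩
      exact ⟨⟨x, hx⟩, (along_of_mem θ hxS).symm⟩
  obtain ⟨N', hN'⟩ := FactorExists.exists_factorSystem (F := N) (θ := θT) hsc₀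
    (fun t => ⟨fun h => ⟨(hq.ker_iff ⟨t, hTS t.2⟩).1 h, t.2⟩,
      fun h => (hq.ker_iff ⟨t, hTS t.2⟩).2 h.1⟩) hrange
  have hqN := isQuot_of_factorSystem hsc₀ hN'
  -- preimages
  have hdec : ∀ {P' : Subgroup (S ⧸ Z.subgroupOf S)}, P' ≤ T' → ∀ x ∈ preimageAlong θ P',
      ∃ t ∈ preimageAlong θT P', ∃ z ∈ Z, t * z = x := by
    intro P' hP' x hx
    obtain ⟨hxS, hx'⟩ := mem_preimageAlong.1 hx
    obtain ⟨t, ht, htS, he⟩ := mem_imageAlong.1 (hP' hx')
    exact ⟨t, mem_preimageAlong.2 ⟨ht, by rw [hal t ht, he]; exact hx'⟩, t⁻¹ * x,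
      (along_eq_iff hq.ker_iff htS hxS).1 he, mul_inv_cancel_left t x⟩
  have hle : ∀ {P' : Subgroup (S ⧸ Z.subgroupOf S)},
      preimageAlong θT P' ≤ preimageAlong θ P' := fun {P'} x hx => by
    obtain ⟨hxT, hx'⟩ := mem_preimageAlong.1 hx
    exact mem_preimageAlong.2 ⟨hTS hxT, by rw [← hal x hxT]; exact hx'⟩
  have hsub : ∀ P' f', IsMap N' P' f' → IsMap F' P' f' := by
    intro P' f' hf'
    obtain ⟨f, hf, hfe⟩ := hqN.lift P' f' hf'
    obtain ⟨g, hg, hge, hgZ⟩ := (isCentral_iff.1 hZ).2 _ f (isMap_of_subset hinv.1 hf)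
    have hP' : P' ≤ T' := hf'.le
    have hpre : preimageAlong θ P' ≤ preimageAlong θT P' ⊔ Z := fun x hx => by
      obtain ⟨t, ht, z, hz, rfl⟩ := hdec hP' x hx
      exact Subgroup.mul_mem_sup ht hz
    obtain ⟨g', hg', hg'e⟩ := hq.descend P' g le_top (hg.restrict hpre)
    refine hg'.congr fun y hy => ?_
    obtain ⟨t, htT, -, rfl⟩ := mem_imageAlong.1 (hP' hy)
    have ht : t ∈ preimageAlong θT P' := mem_preimageAlong.2 ⟨htT, by rwa [hal t htT]⟩
    have hft := hf.mem ht
    rw [hg'e t (hle ht), hge t ht, ← hal _ hft, ← hfe t ht, hal t htT]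
  have hT'sc : F'.StronglyClosed T' := by
    refine ⟨le_top, fun R hR φ hφ y => ?_⟩
    obtain ⟨f, hf, hfe⟩ := hq.lift R _ (IsMap.of_hom hφ)
    obtain ⟨t, ht, htS, he⟩ := mem_imageAlong.1 (hR y.2)
    have htR : t ∈ preimageAlong θ R := mem_preimageAlong.2 ⟨htS, by rw [he]; exact y.2⟩
    have h1 := hfe t htR
    rw [he, ext_apply] at h1
    rw [h1]
    exact mem_image hTS (stronglyClosed_mem hTsc hf htR ht)
  have htopT : preimageAlong θ T' ≤ T ⊔ Z := fun x hx => by
    obtain ⟨t, ht, z, hz, rfl⟩ := hdec le_rfl x hx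
    exact Subgroup.mul_mem_sup ((mem_preimageAlong.1 ht).1) hz
  have hTpre : T ≤ preimageAlong θ T' := fun x hx =>
    mem_preimageAlong.2 ⟨hTS hx, mem_image hTS hx⟩
  have hinv' : N'.IsInvariantIn F' := by
    refine Meet.invariant_mk hsub hT'sc (fun P' f' hf' α hα => ?_) (fun P' g' hP' hg' => ?_)
    · obtain ⟨f, hf, hfe⟩ := hqN.lift P' f' hf'
      obtain ⟨a, ha, hae⟩ := hq.lift T' _ (isMap_of_mem_autGroup le_top hα)
      have haT := ha.restrict hTpre
      obtain ⟨a₀, ha₀, ha₀e⟩ := haT.exists_aut (eq_of_le_card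
        (img_le fun x hx => stronglyClosed_mem hTsc ha (hTpre hx) hx) haT.card_img.ge)
      obtain ⟨g, hg, hge⟩ := invariant_transport hinv (preimageAlong_le _) hf ha₀
      have hP' : P' ≤ T' := hf'.le
      have hαe : ∀ x ∈ T, autFun α (along θT x) = along θT (autFun a₀ x) := fun x hx => by
        rw [hal x hx, hal _ (autFun_mem _ hx), ha₀e x hx, hae x (hTpre hx)]
      have hαP : img (autFun α) P' ≤ T' := img_le fun y hy => autFun_mem α (hP' hy)
      have hαm := isMap_of_mem_autGroup (P := T') le_top hα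
      have hpre : preimageAlong θT (img (autFun α) P') ≤ img (autFun a₀) (preimageAlong θT P') := by
        intro y hy
        obtain ⟨hyT, hy'⟩ := mem_preimageAlong.1 hy
        obtain ⟨z, hz, hze⟩ := (hαm.restrict hP').mem_img.1 hy'
        have hx : autFun a₀⁻¹ y ∈ preimageAlong θT P' := by
          refine mem_preimageAlong.2 ⟨autFun_mem _ hyT, ?_⟩
          have h1 := hαe _ (autFun_mem a₀⁻¹ hyT)
          rw [autFun_apply_inv, ← hze] at h1
          rw [hαm.inj (along_mem hrange (autFun_mem _ hyT)) (hP' hz) h1]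
          exact hz
        have := mem_img_self (autFun a₀) hx
        rwa [autFun_apply_inv] at this
      obtain ⟨g', hg', hg'e⟩ := hqN.descend _ g hαP (hg.restrict hpre)
      refine ⟨g', hg', fun y hy => ?_⟩
      obtain ⟨x, hxT, hxy⟩ := exists_along_eq hrange (hP' hy)
      subst hxy
      have hx : x ∈ preimageAlong θT P' := mem_preimageAlong.2 ⟨hxT, hy⟩
      have hax : autFun a₀ x ∈ preimageAlong θT (img (autFun α) P') :=
        mem_preimageAlong.2 ⟨autFun_mem _ hxT, by rw [← hαe x hxT]; exact mem_img_self _ hy⟩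
      rw [hαe x hxT, hg'e _ hax, hge x hx, hfe x hx, hαe _ (hf.mem hx)]
    · obtain ⟨g, hg, hge⟩ := hq.lift P' g' hg'
      have hgT := hg.restrict (hle (P' := P'))
      obtain ⟨a, ha, f₀, hf₀, he⟩ := invariant_frattini hinv (preimageAlong_le _) hgT
      obtain ⟨b, hb, hbe, -⟩ := (isCentral_iff.1 hZ).2 T _ (isMap_of_mem_autGroup hTS ha)
      obtain ⟨a', ha', ha'e⟩ := hq.descend T' b le_top (hb.restrict htopT)
      have himg : img a' T' = T' := eq_of_le_card
        (img_le fun y hy => stronglyClosed_mem hT'sc ha' hy hy) ha'.card_img.ge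
      obtain ⟨α, hα, hαe⟩ := ha'.exists_aut himg
      obtain ⟨f', hf', hf'e⟩ := hqN.descend P' f₀ hP' hf₀
      refine ⟨α, hα, f', hf', fun y hy => ?_⟩
      obtain ⟨x, hxT, hxy⟩ := exists_along_eq hrange (hP' hy)
      subst hxy
      have hx : x ∈ preimageAlong θT P' := mem_preimageAlong.2 ⟨hxT, hy⟩
      have hfx := hf₀.mem hx
      rw [hf'e x hx, hαe _ (along_mem hrange hfx), hal x hxT, hal _ hfx,
        ha'e _ (hTpre hfx), hbe _ hfx, hge x (hle hx), he x hx]
  have hw : N'.IsWeaklyNormalIn F' p :=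
    ⟨hqN.saturated hTp hN.1.1, hq.saturated hS hF, hinv'⟩
  obtain ⟨D, hD, hDN, -⟩ :=
    ComponentExists.exists_normal_below (hq.isPGroup hS) (hq.saturated hS hF) hw
  rcases hsim.2.2 T' D hD with hbot | ⟨htop, hmaps⟩
  · left
    intro x hx
    have h1 := mem_image (θ := θ) hTS hx
    rw [← hT', hbot, Subgroup.mem_bot, along_of_mem θ (hTS hx)] at h1
    exact (hq.ker_iff ⟨x, hTS hx⟩).1 h1
  right
  have hall : ∀ P' f', IsMap F' P' f' → IsMap N' P' f' := fun P' f' hf' => by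
    obtain ⟨φ, hφ, he⟩ := hf'
    exact ⟨φ, hDN P' ((hmaps P').ge hφ), he⟩
  -- `S = T Z` and the hyperfocal subgroup is in `T`
  have hTeq : T = S := by
    refine le_antisymm hTS (hhyp ▸ Hyperfocal.hyp_le_of fun R hR a _ x hx => ?_)
    obtain ⟨g, hg, hge, hgZ⟩ := (isCentral_iff.1 hZ).2 R _ (isMap_of_mem_autGroup hR a.2)
    obtain ⟨t, ht, z, hz, rfl⟩ := hdec (P' := T') le_rfl x
      (mem_preimageAlong.2 ⟨hR hx, htop ▸ Subgroup.mem_top _⟩)
    have htT : t ∈ T := (mem_preimageAlong.1 ht).1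
    have htR : t ∈ R ⊔ Z := by
      rw [← mul_inv_cancel_right t z]
      exact Subgroup.mul_mem_sup hx (Z.inv_mem hz)
    have hgt := stronglyClosed_mem hTsc hg htR htT
    rw [← hge _ hx, hg.map_mul htR (Subgroup.mem_sup_right hz), hgZ z hz,
      show (t * z)⁻¹ * (g t * z) = z⁻¹ * (t⁻¹ * g t) * z by group, mul_assoc,
      ← commute_of_central hZ hz (S.mul_mem (S.inv_mem (hTS htT)) (hTS hgt)),
      inv_mul_cancel_left]
    exact T.mul_mem (T.inv_mem htT) hgt
  refine ⟨hTeq, ?_⟩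
  subst hTeq
  suffices hFN : F ≤ N from fun P => hFN P
  refine Alperin.le_of_autGroup hS hF fun R hR hcase a ha => ?_
  have hRc : F.IsCentric R := by
    rcases eq_or_lt_of_le hR.1 with rfl | hlt
    · exact PPrimeGen.centric_top
    · exact ((Alperin.essential_iff hS hF hlt hR).2 (hcase.resolve_left hlt.ne)).1
  have hZR : Z ≤ R := fun z hz => centric_centralizerIn_le hRc
    ⟨hZ.1 hz, fun w hw => (commute_of_central hZ hz (hR.1 hw)).symm⟩
  obtain ⟨π, -, hπe⟩ := exists_hom hq hZR hR.1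
  have hπN := hall _ _ (isMap_of_mem_autGroup (image_le hq R) (π ⟨a, ha⟩).2)
  obtain ⟨f, hf, hfe⟩ := hqN.lift _ _ hπN
  have hRpre : R ≤ preimageAlong θT (imageAlong θ R) := fun x hx =>
    mem_preimageAlong.2 ⟨hR.1 hx, by rw [hal x (hR.1 hx)]; exact mem_image hR.1 hx⟩
  have hfR := hf.restrict hRpre
  have hfF := isMap_of_subset hinv.1 hfR
  have hrel : ∀ x ∈ R, along θ (f x) = along θ (autFun a x) := fun x hx => by
    rw [← hal _ (hfR.mem hx), ← hfe x (hRpre hx), hal x (hR.1 hx), hπe _ x hx]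
  have hfinR : Finite R := finite_of_le hR.1
  have himg : img f R = R := by
    refine eq_of_le_card (img_le fun x hx => ?_) hfR.card_img.ge
    rw [← mul_inv_cancel_left (autFun a x) (f x)]
    exact R.mul_mem (autFun_mem a hx) (hZR
      ((along_eq_iff hq.ker_iff (hR.1 (autFun_mem a hx)) (hfF.mem hx)).1 (hrel x hx).symm))
  obtain ⟨b, hb, hbe⟩ := hfR.exists_aut himg
  have hbF : b ∈ F.autGroup R :=
    (mem_autGroup_iff hR.1).2 (isMap_of_subset hinv.1 (isMap_of_mem_autGroup hR.1 hb))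
  have hk : (⟨b, hbF⟩⁻¹ * ⟨a, ha⟩ : F.autGroup R) ∈ kerMod F hZ hR.1 := by
    refine mem_kerMod_of_along hq fun x hx => ?_
    obtain ⟨y, hy, hye⟩ : ∃ y ∈ R, y = autFun b⁻¹ (autFun a x) :=
      ⟨_, autFun_mem _ (autFun_mem _ hx), rfl⟩
    have h1 : along θ (f y) = along θ (autFun a x) := by
      rw [← hbe y hy, hye, autFun_apply_inv]
    rw [hrel y hy] at h1
    rw [Subgroup.coe_mul, Subgroup.coe_inv, autFun_mul, ← hye]
    have h2 : autFun (π ⟨a, ha⟩ : MulAut (imageAlong θ R)) (along θ y) =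
        autFun (π ⟨a, ha⟩ : MulAut (imageAlong θ R)) (along θ x) := by
      rw [hπe _ y hy, hπe _ x hx]
      exact h1
    have h3 := congrArg (autFun (π ⟨a, ha⟩ : MulAut (imageAlong θ R))⁻¹) h2
    rwa [autFun_inv_apply, autFun_inv_apply] at h3
  have h4 := kerMod_le_autInducedBy hS hF hZ hR hk
  have h5 : b * (b⁻¹ * a) ∈ N.autGroup R :=
    mul_mem hb (autInducedBy_le hR.1 h4)
  rwa [mul_inv_cancel_left] at h5

end Cfsg.Agent.Fusion.QuasisimpleNormal
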