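/-
A component is contained in a normal subsystem or centralizes it; the layer exists.
-/
import Mathlib
import Cfsg.Agent.Lib.Fusion.QuasisimpleNormal
import Cfsg.Agent.Lib.Fusion.FixExt
import Cfsg.Agent.Lib.Fusion.MeetNormal
import Cfsg.Agent.S5148

set_option autoImplicit false
set_option linter.all false

namespace Cfsg.Agent.Fusion.Component

open Cfsg Cfsg.FusionSystem Cfsg.Agent.Fusion.Basic Cfsg.Agent.Fusion.Saturation
  Cfsg.Agent.Fusion.Normal Cfsg.Agent.Fusion.Subsystems Cfsg.Agent.Fusion.FixExt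
  Cfsg.Agent.Fusion.MeetAut Cfsg.Agent.Fusion.ComponentExists

variable {Ω : Type*} [Group Ω] {S T T₁ T₂ U : Subgroup Ω} {F : FusionSystem S}
  {M : FusionSystem T₁} {N : FusionSystem T₂} {C : FusionSystem U} {p : ℕ}
  [Finite S] [Fact p.Prime]

/-- A saturated system is normal in itself. -/
theorem normal_self (hF : F.IsSaturated p) : F.IsNormalIn F p := by
  refine ⟨weaklyNormal_refl hF, fun α hα => ?_⟩
  have e : S = S ⊔ centralizerIn S S := (sup_eq_left.2 centralizerIn_le).symm
  have key : ∀ A : Subgroup Ω, S = A → ∃ β ∈ F.autGroup A,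
      ∀ x ∈ A, autFun β x = autFun α x := by
    rintro _ rfl
    exact ⟨α, hα, fun _ _ => rfl⟩
  obtain ⟨β, hβ, hβe⟩ := key _ e
  refine ⟨β, hβ, fun x => ?_, fun c hc => ⟨?_, ?_⟩⟩
  · rw [← autFun_apply β, ← autFun_apply α]
    exact hβe x (Subgroup.mem_sup_left x.2)
  · exact S.mul_mem (S.inv_mem hc.1) (e.ge (β c).2)
  · refine Subgroup.mul_mem _ (Subgroup.inv_mem _ hc.2) ?_
    rw [← autFun_apply β, hβe c c.2]
    intro s hs
    have h1 := hc.2 _ (autFun_mem α⁻¹ hs)
    have h2 := congrArg (autFun α) h1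
    rwa [autFun_isHom α _ (autFun_mem _ hs) _ hc.1, autFun_isHom α _ hc.1 _ (autFun_mem _ hs),
      autFun_apply_inv] at h2

/-- The intersection of two normal subsystems. -/
theorem exists_inter (h : Pair F M N p) : ∃ K : FusionSystem (T₁ ⊓ T₂),
    K.IsNormalIn F p ∧ K.IsNormalIn M p ∧ K.IsNormalIn N p := by
  obtain ⟨D, hD⟩ := Meet.exists_sys h
  obtain ⟨K, hK, -⟩ := MeetNormal.exists_meet h hD
  exact ⟨K, hK⟩

/-- A component is a component of a normal subsystem, or centralizes it. -/
theorem dichotomy (hsub : C.IsSubnormalIn F p) (hfin : Finite S) (hp : Fact p.Prime)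
    (hS : IsPGroup p S) (hF : F.IsSaturated p) (hqs : C.Quasisimple p) {T : Subgroup Ω}
    {N : FusionSystem T} (hN : N.IsNormalIn F p) :
    (C.IsSubsystemOf N ∧ C.IsSubnormalIn N p) ∨
      (U ≤ Subgroup.centralizer (T : Set Ω) ∧ Fixes F C T) := by
  induction hsub generalizing T with
  | refl F' p' =>
    rcases QuasisimpleNormal.central_or_all hS hqs hN with hz | ⟨rfl, hmaps⟩
    · refine Or.inr ⟨fun s hs t ht => ?_, fixes_center hz⟩
      exact (F'.center_le_centralizer (hz ht) s hs).symm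
    · obtain rfl : F' = N := fs_ext fun P => Set.Subset.antisymm (hmaps P) (hN.1.2.2.1 P)
      exact Or.inl ⟨fun P => subset_rfl, FusionSystem.IsSubnormalIn.refl F' p'⟩
  | step hsub hDn ih =>
    rename_i U' S' C' M' F' p'
    have h : Pair F' M' N p' := ⟨hS, hF, hDn, hN⟩
    have hU'S : U' ≤ S' := T₁_le h
    have hfinU' : Finite U' := finite_of_le hU'S
    obtain ⟨K, -, hKM, hKN⟩ := exists_inter h
    have hUU' : U ≤ U' := (subnormal_facts hsub hDn.1.1).1
    rcases ih hfinU' hp (hS.to_le hU'S) hDn.1.1 hqs hKM with ⟨hCK, hCKsub⟩ | ⟨-, hfix⟩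
    · exact Or.inl ⟨fun P => (hCK P).trans (hKN.1.2.2.1 P),
        subnormal_trans hCKsub (normal_subnormal hKN)⟩
    · have hco := fixesCoprime_step h hUU' hfix
      have hn := le_normalizer_of_stronglyClosed (closed₂ h)
      have hUT : U ≤ Subgroup.centralizer (T : Set Ω) := by
        have h1 := hyp_le hn (hUU'.trans hU'S) hco
        rwa [hqs.2.1] at h1
      exact Or.inr ⟨hUT, fixes_of_coprime hS hqs.1 (hUU'.trans hU'S) (T₂_le h) hn hUT hco⟩

/-- The group of a component is not abelian. -/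
theorem not_centralizing (hS : IsPGroup p S) (hUS : U ≤ S) (hqs : C.Quasisimple p)
    (hUT : U ≤ T) : ¬ U ≤ Subgroup.centralizer (T : Set Ω) := fun hc => by
  have : Finite U := finite_of_le hUS
  exact S5148.result p (hS.to_le hUS) C hqs
    ⟨⟨fun a b => Subtype.ext (hc b.2 a (hUT a.2))⟩⟩

/-- A component inside a normal subsystem is a component of it. -/
theorem component_of_subsystem (hS : IsPGroup p S) (hF : F.IsSaturated p)
    (hC : C.IsComponentIn F p) {N : FusionSystem T} (hN : N.IsNormalIn F p) (hUT : U ≤ T) :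
    C.IsSubsystemOf N ∧ C.IsComponentIn N p := by
  have hUS := (subnormal_facts hC.1 hF).1
  rcases dichotomy hC.1 inferInstance inferInstance hS hF hC.2 hN with ⟨h1, h2⟩ | ⟨h1, -⟩
  · exact ⟨h1, h2, hC.2⟩
  · exact absurd h1 (not_centralizing hS hUS hC.2 hUT)

/-- A normal subsystem contains all components of `F`. -/
def HasComponents (F : FusionSystem S) (p : ℕ) (E : FusionSystem T) : Prop :=
  ∀ (U : Subgroup Ω) (C : FusionSystem U), C.IsComponentIn F p → C.IsSubsystemOf E

omit [Finite S] [Fact p.Prime] in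
theorem subsystem_of_subnormal (hsub : C.IsSubnormalIn F p) : C.IsSubsystemOf F := by
  induction hsub with
  | refl => exact fun P => subset_rfl
  | step _ hN ih => exact fun P => (ih P).trans (hN.1.2.2.1 P)

/-- The layer exists. -/
theorem exists_layer (hS : IsPGroup p S) (hF : F.IsSaturated p) :
    ∃ (T : Subgroup Ω) (E : FusionSystem T), E.IsLayerOf F p := by
  suffices hmain : ∀ n m, ∀ (T : Subgroup Ω) (E : FusionSystem T), Nat.card T = n → size E = m →
      E.IsNormalIn F p → HasComponents F p E →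
      ∃ (T : Subgroup Ω) (E : FusionSystem T), E.IsLayerOf F p from
    hmain _ _ S F rfl rfl (normal_self hF) fun U C hC => subsystem_of_subnormal hC.1
  intro n
  induction n using Nat.strong_induction_on with
  | _ n ihn =>
  intro m
  induction m using Nat.strong_induction_on with
  | _ m ihm =>
  intro T E hn hm hE hEc
  by_cases hleast : ∀ (R : Subgroup Ω) (D : FusionSystem R), D.IsNormalIn F p →
      HasComponents F p D → E.IsSubsystemOf D
  · exact ⟨T, E, hE, hEc, hleast⟩
  push Not at hleast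
  obtain ⟨R, D, hD, hDc, hnot⟩ := hleast
  have h : Pair F E D p := ⟨hS, hF, hE, hD⟩
  obtain ⟨K, hKF, hKE, hKD⟩ := exists_inter h
  have hfinT : Finite T := finite_of_le (T₁_le h)
  have hKc : HasComponents F p K := by
    intro U C hC
    have hUT : U ≤ T := subsystem_le (hEc U C hC)
    have hUR : U ≤ R := subsystem_le (hDc U C hC)
    obtain ⟨-, hCE⟩ := component_of_subsystem hS hF hC hE hUT
    exact (component_of_subsystem (hS.to_le (T₁_le h)) hE.1.1 hCE hKE (le_inf hUT hUR)).1
  have hcases : T ⊓ R = T ∨ T ⊓ R < T := eq_or_lt_of_le inf_le_left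
  rcases hcases with he | hlt
  · have key : ∀ V : Subgroup Ω, T ⊓ R = V → ∃ K' : FusionSystem V, K'.IsNormalIn F p ∧
        HasComponents F p K' ∧ K'.IsSubsystemOf D ∧ ∀ P, K'.Hom P = K.Hom P := by
      rintro _ rfl
      exact ⟨K, hKF, hKc, hKD.1.2.2.1, fun P => rfl⟩
    obtain ⟨K', hK'F, hK'c, hK'D, hK'⟩ := key T he
    have hK'E : K'.IsSubsystemOf E := fun P => by
      rw [hK' P]
      exact hKE.1.2.2.1 P
    have hne : ¬ ∀ P : Subgroup Ω, K'.Hom P = E.Hom P := fun heq =>
      hnot fun P => heq P ▸ hK'D P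
    exact ihm (size K') (hm ▸ size_lt hK'E hne) T K' hn rfl hK'F hK'c
  · exact ihn _ (hn ▸ card_lt_card hlt) _ _ K rfl rfl hKF hKc

end Cfsg.Agent.Fusion.Component
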