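/-
A normal subsystem over a strongly closed subgroup containing the hyperfocal subgroup of a normal
subsystem.
-/
import Mathlib
import Cfsg.Agent.Lib.Fusion.PPowerNormal
import Cfsg.Agent.Lib.Fusion.Component

set_option autoImplicit false
set_option linter.all false

namespace Cfsg.Agent.Fusion.BalanceBelow

open Cfsg Cfsg.FusionSystem Cfsg.Agent.Fusion.Basic Cfsg.Agent.Fusion.Saturation
  Cfsg.Agent.Fusion.Normal Cfsg.Agent.Fusion.Subsystems

variable {Ω : Type*} [Group Ω] {S U T₀ : Subgroup Ω} {F : FusionSystem S} {M : FusionSystem U}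
  {E : FusionSystem T₀} {p : ℕ} [Finite S] [Fact p.Prime]

/-- The automorphisms of `U` in `F` permute the maps of a subsystem of `p`-power index. -/
theorem stable (hS : IsPGroup p S) (hM : M.IsInvariantIn F) (hT₀ : F.StronglyClosed T₀)
    (hTU : T₀ ≤ U) (hE : E.IsSaturated p) (hEi : E.HasPPowerIndexIn M p) {α : MulAut U}
    (hα : α ∈ F.autGroup U) {P : Subgroup Ω} {f : Ω → Ω} (hf : IsMap E P f) :
    IsMap E (img (autFun α) P) fun y => autFun α (f (autFun α⁻¹ y)) := by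
  have hUS : U ≤ S := subsystem_le hM.1
  have hTS := hT₀.1
  have hfinT : Finite T₀ := finite_of_le hTS
  have hαm := isMap_of_mem_autGroup hUS hα
  have hαT := hαm.restrict hTU
  obtain ⟨a, ha, hae⟩ := hαT.exists_aut (eq_of_le_card
    (img_le fun x hx => stronglyClosed_mem hT₀ hαm (hTU hx) hx) hαT.card_img.ge)
  have hae' : ∀ x ∈ T₀, autFun a⁻¹ x = autFun α⁻¹ x := fun x hx => by
    conv_rhs => rw [← autFun_apply_inv a x, hae _ (autFun_mem _ hx), autFun_inv_apply]
  have hsub : ∀ {P : Subgroup Ω} {f : Ω → Ω}, IsMap E P f → IsMap F P f :=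
    fun hf => isMap_of_subset hM.1 (isMap_of_subset hEi.1 hf)
  suffices hall : E ≤ PPowerNormal.conjSystem F E hTS a by
    obtain ⟨φ, hφ, he⟩ := hf
    have hP : P ≤ T₀ := (E.le_of_mem hφ).1
    have h1 := PPowerNormal.isMap_conjSystem ⟨φ, hall P hφ, he⟩
    rw [img_congr fun x hx => hae x (hP hx)] at h1
    refine h1.congr fun y hy => ?_
    obtain ⟨x, hx, rfl⟩ := ((hαT.restrict hP)).mem_img.1 hy
    rw [autFun_inv_apply α, ← hae x (hP hx), autFun_inv_apply a]
    refine hae _ ?_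
    have := (E.le_of_mem hφ).2 ⟨x, hx⟩
    rwa [he ⟨x, hx⟩] at this
  refine Alperin.le_of_autGroup (hS.to_le hTS) hE fun P hP _ => ?_
  have hfinP : Finite P := finite_of_le hP.1
  obtain ⟨R, hR⟩ := (fullyNormalized_fullyAutomized (hS.to_le hTS) hE hP).2
  set C := PPowerNormal.conjSystem F E hTS a with hC
  have htop := LayerCentralizer.eq_top_of_parts ((C.autGroup P).subgroupOf (E.autGroup P)) R ?_ ?_
  · intro c hc
    exact Subgroup.mem_subgroupOf.1
      (show (⟨c, hc⟩ : E.autGroup P) ∈ (C.autGroup P).subgroupOf (E.autGroup P) from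
        htop.ge (Subgroup.mem_top _))
  · rw [hR]
    exact Subgroup.comap_mono (autInducedBy_le hP.1)
  intro c hcc
  have hcm := isMap_of_mem_autGroup hP.1 c.2
  have haP : IsMap F P (autFun a) := (isMap_of_mem_autGroup hTS ha).restrict hP.1
  have hP₁ : img (autFun a) P ≤ T₀ := img_le fun x hx => autFun_mem _ (hP.1 hx)
  obtain ⟨e, he⟩ := haP.exists_autEquiv
  set c₁ := e ⟨(c : MulAut P), (mem_autGroup_iff (hP.1.trans hTS)).2 (hsub hcm)⟩ with hc₁
  have hc₁e : ∀ x ∈ P, autFun (c₁ : MulAut (img (autFun a) P)) (autFun a x) =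
      autFun a (autFun (c : MulAut P) x) := fun x hx => he _ x hx
  have hc₁M : (c₁ : MulAut (img (autFun a) P)) ∈ M.autGroup (img (autFun a) P) := by
    obtain ⟨g, hg, hge⟩ := invariant_transport hM (hP.1.trans hTU) (isMap_of_subset hEi.1 hcm) hα
    rw [img_congr fun x hx => (hae x (hP.1 hx)).symm] at hg
    refine (mem_autGroup_iff (hP₁.trans hTU)).2 (hg.congr fun y hy => ?_)
    obtain ⟨x, hx, rfl⟩ := haP.mem_img.1 hy
    rw [hc₁e x hx, hae x (hP.1 hx), hge x hx, hae _ (hP.1 (autFun_mem _ hx))]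
  have hc₁c : (orderOf (c₁ : MulAut (img (autFun a) P))).Coprime p := by
    rw [Subgroup.orderOf_coe, hc₁, MulEquiv.orderOf_eq, Subgroup.orderOf_mk, Subgroup.orderOf_coe]
    exact hcc
  have hc₁E := isMap_of_mem_autGroup hP₁ (PPowerNormal.pPrime_mem hEi hP₁ hc₁M hc₁c)
  refine Subgroup.mem_subgroupOf.2 ((mem_autGroup_iff hP.1).2 ?_)
  refine ⟨(hsub hcm).hom, ⟨(hsub hcm).hom_mem_self, hP.1, fun x => hcm.mem x.2, ?_⟩, fun _ => rfl⟩
  refine hc₁E.congr fun y hy => ?_
  obtain ⟨x, hx, rfl⟩ := haP.mem_img.1 hy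
  rw [hc₁e x hx, autFun_inv_apply, ext_of_mem _ hx]
  rfl

/-- A normal subsystem of `F` over `T₀`. -/
theorem exists_normal_over (hS : IsPGroup p S) (hF : F.IsSaturated p) (hM : M.IsNormalIn F p)
    (hT₀ : F.StronglyClosed T₀) (hTU : T₀ ≤ U) (hhyp : M.hyperfocalSubgroup p ≤ T₀) :
    ∃ L : FusionSystem T₀, L.IsNormalIn F p := by
  have hMi : M.IsInvariantIn F := hM.1.2.2
  have hUS : U ≤ S := subsystem_le hMi.1
  have hfinU : Finite U := finite_of_le hUS
  have hfinT : Finite T₀ := finite_of_le hTU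
  have hUp : IsPGroup p U := hS.to_le hUS
  have hTS : T₀ ≤ S := hTU.trans hUS
  obtain ⟨E, hE, hEi⟩ := PPowerIndex.exists_pPowerIndex hUp hM.1.1 hTU hhyp
  have hEn := PPowerNormal.isNormalIn_of_pPowerIndex hUp hM.1.1 hTU
    (fun a ha x hx => (Subgroup.mem_normalizer_iff.1
      (le_normalizer_of_stronglyClosed hT₀ (hUS ha)) x).1 hx) hE hEi
  have hEi' : E.IsInvariantIn M := hEn.1.2.2
  have hrestr : ∀ α ∈ F.autGroup U, ∃ a ∈ F.autGroup T₀, ∀ x ∈ T₀, autFun a x = autFun α x := by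
    intro α hα
    have hαm := isMap_of_mem_autGroup hUS hα
    have hm := hαm.restrict hTU
    exact hm.exists_aut (eq_of_le_card
      (img_le fun x hx => stronglyClosed_mem hT₀ hαm (hTU hx) hx) hm.card_img.ge)
  have hwn : E.IsWeaklyNormalIn F p := by
    refine ⟨hE, hF, Meet.invariant_mk (fun P f hf =>
      isMap_of_subset hMi.1 (isMap_of_subset hEi.1 hf)) hT₀ (fun P f hf a ha => ?_)
      fun P f hP hf => ?_⟩
    · obtain ⟨α, hα, f₀, hf₀, hae⟩ :=
        invariant_frattini hMi hTU (isMap_of_mem_autGroup hTS ha)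
      obtain ⟨a₀, ha₀, ha₀e⟩ := hf₀.exists_aut (eq_of_le_card
        (img_le fun x hx => stronglyClosed_mem hEi'.2.1 hf₀ hx hx) hf₀.card_img.ge)
      obtain ⟨g₀, hg₀, hg₀e⟩ := invariant_transport hEi' hf.le hf ha₀
      have hg := stable hS hMi hT₀ hTU hE hEi hα hg₀
      have hdom : img (autFun a) P = img (autFun α) (img (autFun a₀) P) := by
        rw [((isMap_of_mem_autGroup hTU ha₀).restrict hf.le).img_img]
        refine img_congr fun x hx => ?_
        rw [hae x (hf.le hx), ha₀e x (hf.le hx)]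
      refine ⟨_, hdom ▸ hg, fun x hx => ?_⟩
      rw [hae x (hf.le hx), autFun_inv_apply, ← ha₀e x (hf.le hx), hg₀e x hx,
        hae _ (hf.mem hx), ← ha₀e _ (hf.mem hx)]
    · obtain ⟨α, hα, f₀, hf₀, hfe⟩ := invariant_frattini hMi (hP.trans hTU) hf
      obtain ⟨b, hb, f₁, hf₁, hf₀e⟩ := invariant_frattini hEi' hP hf₀
      obtain ⟨a, ha, hae⟩ := hrestr α hα
      refine ⟨a * b, mul_mem ha (Focal.autGroup_mono hMi.1 T₀ hb), f₁, hf₁, fun x hx => ?_⟩
      rw [autFun_mul, hae _ (autFun_mem b (hf₁.mem hx)), hfe x hx, hf₀e x hx]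
  obtain ⟨L, hL⟩ := PPrimeResidual.exists_residual (F := E) (hS.to_le hTS) hE
  exact ⟨L, ComponentExists.residual_isNormal hS hF hwn hL⟩

end Cfsg.Agent.Fusion.BalanceBelow
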