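/-
For a normal subsystem `E` over `T`: the automorphisms of subgroups `P ≤ S` moving the elements by
elements of `T` and lying in `E` on `P ∩ T`; the automizers of the products `E R`.
-/
import Mathlib
import Cfsg.Agent.Lib.Fusion.MeetTwist
import Cfsg.Agent.Lib.Fusion.PPrimeNormal

set_option autoImplicit false
set_option linter.all false

namespace Cfsg.Agent.Fusion.Prod

open Cfsg Cfsg.FusionSystem Cfsg.Agent.Fusion.Basic Cfsg.Agent.Fusion.Saturation
  Cfsg.Agent.Fusion.Normal Cfsg.Agent.Fusion.Factor Cfsg.Agent.Fusion.Subsystems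
  Cfsg.Agent.Fusion.KNormalizer Cfsg.Agent.Fusion.SylIn

variable {Ω : Type*} [Group Ω] {S T : Subgroup Ω}

/-- A normal subsystem of a saturated system. -/
structure Base (F : FusionSystem S) (E : FusionSystem T) (p : ℕ) : Prop where
  pg : IsPGroup p S
  sat : F.IsSaturated p
  norm : E.IsNormalIn F p

/-- `f` moves the elements of `P` by elements of `T`. -/
def Moves (T P : Subgroup Ω) (f : Ω → Ω) : Prop := ∀ x ∈ P, x⁻¹ * f x ∈ T

/-- The subgroup meets `T` in a centric subgroup of `E`. -/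
def Cen (S : Subgroup Ω) (E : FusionSystem T) (P : Subgroup Ω) : Prop :=
  P ≤ S ∧ E.IsCentric (P ⊓ T)

/-- The automorphisms moving by `T` whose restriction to `P ∩ T` lies in `E`. -/
def InHat (F : FusionSystem S) (E : FusionSystem T) (P : Subgroup Ω) (a : MulAut P) : Prop :=
  a ∈ F.autGroup P ∧ Moves T P (autFun a) ∧
    ∃ b ∈ E.autGroup (P ⊓ T), ∀ x ∈ P ⊓ T, autFun b x = autFun a x

/-- The group generated by the such automorphisms of order prime to `p`. -/
def A (F : FusionSystem S) (E : FusionSystem T) (p : ℕ) (P : Subgroup Ω) : Subgroup (MulAut P) :=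
  Subgroup.closure {a | InHat F E P a ∧ (orderOf a).Coprime p}

/-- With the automorphisms induced by `T`. -/
def K (F : FusionSystem S) (E : FusionSystem T) (p : ℕ) (P : Subgroup Ω) : Subgroup (MulAut P) :=
  A F E p P ⊔ autInducedBy T P

/-- The normalizer in `T` is as big as possible in the class in `F`. -/
def TMax (F : FusionSystem S) (T P : Subgroup Ω) : Prop :=
  P ≤ S ∧ ∀ P' : Subgroup Ω, F.IsConj P P' →
    Nat.card (normalizerIn T P') ≤ Nat.card (normalizerIn T P)

variable {F : FusionSystem S} {E : FusionSystem T} {p : ℕ} [Finite S] [Fact p.Prime]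
  (h : Base F E p) {P P' Q X : Subgroup Ω} {f g : Ω → Ω} {a b : MulAut P}
include h

theorem inv : E.IsInvariantIn F := h.norm.1.2.2

theorem closed : F.StronglyClosed T := (inv h).2.1

theorem T_le : T ≤ S := (closed h).1

theorem finT : Finite T := finite_of_le (T_le h)

theorem Tp : IsPGroup p T := h.pg.to_le (T_le h)

theorem Esat : E.IsSaturated p := h.norm.1.1

theorem strong : InvariantCriterion.Strong F E := InvariantCriterion.strong_of_invariant (inv h)

theorem S_norm : S ≤ Subgroup.normalizer (T : Set Ω) := le_normalizer_of_stronglyClosed (closed h)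

theorem conj_T {s t : Ω} (hs : s ∈ S) (ht : t ∈ T) : s * t * s⁻¹ ∈ T :=
  (Subgroup.mem_normalizer_iff.1 (S_norm h hs) t).1 ht

theorem isMap_E (hf : IsMap E P f) : IsMap F P f := isMap_of_subset (inv h).1 hf

omit h in
theorem moves_mem {x : Ω} (hf : Moves T P f) (hx : x ∈ P) : ∃ t ∈ T, f x = x * t :=
  ⟨x⁻¹ * f x, hf x hx, (mul_inv_cancel_left _ _).symm⟩

omit h in
theorem moves_congr (hf : Moves T P f) (he : ∀ x ∈ P, f x = g x) : Moves T P g :=
  fun x hx => he x hx ▸ hf x hx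

omit h in
theorem moves_one : Moves T P (autFun (1 : MulAut P)) := fun x _ => by
  rw [autFun_one, id, inv_mul_cancel]; exact T.one_mem

omit h in
/-- Moving maps compose. -/
theorem moves_comp (hf : Moves T P f) (hg : Moves T Q g) (hPQ : ∀ x ∈ P, f x ∈ Q) :
    Moves T P fun x => g (f x) := fun x hx => by
  have h1 := T.mul_mem (hf x hx) (hg _ (hPQ x hx))
  rwa [mul_assoc, mul_inv_cancel_left] at h1

omit h in
theorem moves_mul (ha : Moves T P (autFun a)) (hb : Moves T P (autFun b)) :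
    Moves T P (autFun (a * b)) :=
  moves_congr (moves_comp hb ha fun x hx => autFun_mem b hx) fun x _ => (autFun_mul a b x).symm

/-- A map carries an automorphism moving by `T` to one moving by `T`. -/
theorem moves_transport (hg : IsMap F X g) (hPX : P ≤ X) {a' : MulAut (img g P : Subgroup Ω)}
    (hae : ∀ x ∈ P, autFun a' (g x) = g (autFun a x)) (ha : Moves T P (autFun a)) :
    Moves T (img g P) (autFun a') := by
  intro y hy
  obtain ⟨x, hx, rfl⟩ := (hg.restrict hPX).mem_img.1 hy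
  have hx' := autFun_mem a hx
  rw [hae x hx, ← hg.map_inv (hPX hx), ← hg.map_mul (X.inv_mem (hPX hx)) (hPX hx')]
  exact stronglyClosed_mem (closed h) hg (X.mul_mem (X.inv_mem (hPX hx)) (hPX hx')) (ha x hx)

theorem img_inf_T (hg : IsMap F P g) : img g (P ⊓ T) = img g P ⊓ T := by
  refine le_antisymm (img_le fun x hx => ⟨mem_img_self g hx.1,
    stronglyClosed_mem (closed h) hg hx.1 hx.2⟩) ?_
  rintro y ⟨hy, hyT⟩
  obtain ⟨x, hx, rfl⟩ := hg.mem_img.1 hy
  refine mem_img_self g ⟨hx, ?_⟩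
  obtain ⟨i, hi, -, hig, -⟩ := hg.exists_inv
  rw [← hig x hx]
  exact stronglyClosed_mem (closed h) hi hy hyT

theorem autE_le (hQ : Q ≤ T) : E.autGroup Q ≤ F.autGroup Q := fun a ha =>
  (mem_autGroup_iff (hQ.trans (T_le h))).2 (isMap_E h (isMap_of_mem_autGroup hQ ha))

theorem autE_conj (hQ : Q ≤ T) {a b : MulAut Q} (ha : a ∈ F.autGroup Q)
    (hb : b ∈ E.autGroup Q) : a * b * a⁻¹ ∈ E.autGroup Q :=
  Subgroup.mem_subgroupOf.1 ((InvariantCriterion.autGroup_conj (T_le h) (inv h).1 (strong h) hQ).conj_mem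
    ⟨b, autE_le h hQ hb⟩ (Subgroup.mem_subgroupOf.2 hb) ⟨a, ha⟩)

theorem inHat_one (hP : P ≤ S) : InHat F E P (1 : MulAut P) :=
  ⟨one_mem _, moves_one, 1, one_mem _, fun x _ => by rw [autFun_one, autFun_one]⟩

theorem inHat_mul (ha : InHat F E P a) (hb : InHat F E P b) : InHat F E P (a * b) := by
  obtain ⟨haF, haM, a', ha', hae⟩ := ha
  obtain ⟨hbF, hbM, b', hb', hbe⟩ := hb
  refine ⟨mul_mem haF hbF, moves_mul haM hbM, a' * b', mul_mem ha' hb', fun x hx => ?_⟩
  rw [autFun_mul, autFun_mul, ← hbe x hx, hae _ (autFun_mem _ hx)]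

/-- The automorphisms of `InHat`. -/
theorem exists_hat (hP : P ≤ S) : ∃ H : Subgroup (MulAut P), ∀ a, a ∈ H ↔ InHat F E P a := by
  have : Finite P := finite_of_le hP
  refine ⟨{ carrier := {a | InHat F E P a}
            one_mem' := inHat_one h hP
            mul_mem' := fun ha hb => inHat_mul h ha hb
            inv_mem' := fun {a} ha => ?_ }, fun a => Iff.rfl⟩
  have h1 : a⁻¹ = a ^ (orderOf a - 1) := by
    refine inv_eq_of_mul_eq_one_right ?_
    rw [← pow_succ', Nat.sub_add_cancel (orderOf_pos a), pow_orderOf_eq_one]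
  have : ∀ n : ℕ, InHat F E P (a ^ n) := by
    intro n
    induction n with
    | zero => rw [pow_zero]; exact inHat_one h hP
    | succ n ih => rw [pow_succ]; exact inHat_mul h ih ha
  show InHat F E P a⁻¹
  rw [h1]
  exact this _

theorem inHat_transport (hg : IsMap F P g) (hgP : img g P = P') (ha : InHat F E P a) :
    ∃ a' : MulAut P', InHat F E P' a' ∧ ∀ x ∈ P, autFun a' (g x) = g (autFun a x) := by
  subst hgP
  obtain ⟨haF, haM, b, hb, hbe⟩ := ha
  obtain ⟨e, he⟩ := hg.exists_autEquiv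
  set a' : MulAut (img g P : Subgroup Ω) := (e ⟨a, haF⟩ : MulAut (img g P : Subgroup Ω))
  have hae : ∀ x ∈ P, autFun a' (g x) = g (autFun a x) := he ⟨a, haF⟩
  refine ⟨a', ⟨(e ⟨a, haF⟩).2, moves_transport h hg le_rfl hae haM, ?_⟩, hae⟩
  obtain ⟨χ, hχ, hχe⟩ := strong h (P ⊓ T) (P ⊓ T) _ g le_rfl inf_le_right
    (isMap_of_mem_autGroup inf_le_right hb) (fun x hx => autFun_mem _ hx) (hg.restrict inf_le_left)
  rw [img_inf_T h hg] at hχ
  have hag : ∀ y ∈ img g P ⊓ T, χ y = autFun a' y := fun y hy => by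
    obtain ⟨x, hx, rfl⟩ := (hg.restrict inf_le_left).mem_img.1 ((img_inf_T h hg).ge hy)
    rw [hχe x hx, hbe x hx, hae x hx.1]
  have : Finite (img g P ⊓ T : Subgroup Ω) := finite_of_le (inf_le_left.trans hg.img_le_S)
  obtain ⟨b', hb', hbe'⟩ := hχ.exists_aut (eq_of_le_card (img_le fun y hy => by
    refine ⟨?_, hχ.mem hy⟩
    rw [hag y hy]
    exact autFun_mem a' hy.1) hχ.card_img.ge)
  exact ⟨b', hb', fun y hy => by rw [hbe' y hy, hag y hy]⟩

theorem A_le_hat (hP : P ≤ S) (ha : a ∈ A F E p P) : InHat F E P a := by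
  obtain ⟨H, hH⟩ := exists_hat h hP
  exact (hH a).1 ((Subgroup.closure_le H).2 (fun b hb => (hH b).2 hb.1) ha)

theorem A_le_F (hP : P ≤ S) : A F E p P ≤ F.autGroup P := fun a ha => (A_le_hat h hP ha).1

/-- The groups `A(P)` are permuted by the maps of `F`. -/
theorem A_transport (hg : IsMap F P g) (hgP : img g P = P') (ha : a ∈ A F E p P) :
    ∃ a' ∈ A F E p P', ∀ x ∈ P, autFun a' (g x) = g (autFun a x) := by
  subst hgP
  obtain ⟨e, he⟩ := hg.exists_autEquiv
  have hle := A_le_F h hg.le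
  suffices hall : ∀ b (hb : b ∈ A F E p P),
      ((e ⟨b, hle hb⟩ : F.autGroup (img g P)) : MulAut (img g P : Subgroup Ω)) ∈
        A F E p (img g P) from ⟨_, hall a ha, he ⟨a, hle ha⟩⟩
  intro b hb
  induction hb using Subgroup.closure_induction with
  | mem b hb =>
    refine Subgroup.subset_closure ⟨?_, ?_⟩
    · obtain ⟨b', hb', hb'e⟩ := inHat_transport h hg rfl hb.1
      rwa [autFun_ext (α := (e ⟨b, hle (Subgroup.subset_closure hb)⟩ :
          MulAut (img g P : Subgroup Ω))) (β := b') fun y hy => by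
        obtain ⟨x, hx, rfl⟩ := hg.mem_img.1 hy
        rw [he ⟨b, _⟩ x hx, hb'e x hx]]
    · rw [Subgroup.orderOf_coe, MulEquiv.orderOf_eq, Subgroup.orderOf_mk]
      exact hb.2
  | one =>
    rw [show (⟨1, hle (one_mem _)⟩ : F.autGroup P) = 1 from rfl, map_one]
    exact one_mem _
  | mul b c hb hc ihb ihc =>
    rw [show (⟨b * c, hle (mul_mem hb hc)⟩ : F.autGroup P) = ⟨b, hle hb⟩ * ⟨c, hle hc⟩ from rfl,
      map_mul]
    exact mul_mem ihb ihc
  | inv b hb ihb =>
    rw [show (⟨b⁻¹, hle (inv_mem hb)⟩ : F.autGroup P) = ⟨b, hle hb⟩⁻¹ from rfl, map_inv]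
    exact inv_mem ihb

/-- `A(P)` is normal in `Aut_F(P)`. -/
theorem A_conj (hP : P ≤ S) (ha : a ∈ F.autGroup P) (hb : b ∈ A F E p P) :
    a * b * a⁻¹ ∈ A F E p P := by
  obtain ⟨c, hc, hce⟩ := A_transport h (isMap_of_mem_autGroup hP ha) (autFun_img a) hb
  have : a * b * a⁻¹ = c := by
    refine autFun_ext fun x hx => ?_
    have h1 := hce _ (autFun_mem a⁻¹ hx)
    rw [autFun_apply_inv] at h1
    rw [autFun_mul, autFun_mul, h1]
  rwa [this]

omit h in
/-- Restriction of an automorphism to a stabilized subgroup, to powers. -/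
theorem pow_stable {a : MulAut X} (hst : ∀ x ∈ P, autFun a x ∈ P) (n : ℕ) :
    ∀ x ∈ P, autFun (a ^ n) x ∈ P := by
  induction n with
  | zero => intro x hx; rw [pow_zero, autFun_one]; exact hx
  | succ n ih => intro x hx; rw [pow_succ', autFun_mul]; exact hst _ (ih x hx)

/-- The generators restrict to stabilized subgroups. -/
theorem restrict_gen (hX : X ≤ S) (hPX : P ≤ X) {a : MulAut X} (ha : InHat F E X a)
    (hac : (orderOf a).Coprime p) (hst : ∀ x ∈ P, autFun a x ∈ P) :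
    ∃ c ∈ A F E p P, (orderOf c).Coprime p ∧ ∀ x ∈ P, autFun c x = autFun a x := by
  have hPS := hPX.trans hX
  have : Finite P := finite_of_le hPS
  have : Finite (P ⊓ T : Subgroup Ω) := finite_of_le (inf_le_left.trans hPS)
  obtain ⟨haF, haM, b, hb, hbe⟩ := ha
  have hm := (isMap_of_mem_autGroup hX haF).restrict hPX
  obtain ⟨c, hc, hce⟩ := hm.exists_aut (eq_of_le_card (img_le hst) hm.card_img.ge)
  have hord : (orderOf c).Coprime p := by
    refine Nat.Coprime.coprime_dvd_left (orderOf_dvd_of_pow_eq_one ?_) hac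
    refine autFun_ext fun x hx => ?_
    rw [← GoodExtension.pow_agree hPX (fun y hy => (hce y hy).symm) _ x hx,
      pow_orderOf_eq_one, autFun_one, autFun_one]
  refine ⟨c, Subgroup.subset_closure ⟨⟨hc, fun x hx => hce x hx ▸ haM x (hPX hx), ?_⟩, hord⟩,
    hord, hce⟩
  have hm' := (isMap_of_mem_autGroup inf_le_right hb).restrict (inf_le_inf_right T hPX)
  obtain ⟨b', hb', hbe'⟩ := hm'.exists_aut (eq_of_le_card (img_le fun x hx => by
    refine ⟨?_, hm'.mem hx⟩
    rw [hbe x ⟨hPX hx.1, hx.2⟩]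
    exact hst x hx.1) hm'.card_img.ge)
  exact ⟨b', hb', fun x hx => by rw [hbe' x hx, hbe x ⟨hPX hx.1, hx.2⟩, hce x hx.1]⟩

/-- The automorphisms induced by `T`. -/
theorem autT_le_hat (hP : P ≤ S) (ha : a ∈ autInducedBy T P) : InHat F E P a := by
  have : Finite (P ⊓ T : Subgroup Ω) := finite_of_le (inf_le_left.trans hP)
  obtain ⟨t, ht, hte⟩ := mem_autInducedBy_iff'.1 ha
  refine ⟨(mem_autGroup_iff hP).2 ((isMap_cj hP (T_le h ht.1)).congr fun x hx => (hte x hx).symm),
    fun x hx => ?_, ?_⟩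
  · rw [hte x hx, cj_apply, ← mul_assoc, ← mul_assoc]
    refine T.mul_mem ?_ (T.inv_mem ht.1)
    simpa using conj_T h (S.inv_mem (hP hx)) ht.1
  · have htn : t ∈ normalizerIn T (P ⊓ T) := ⟨ht.1, mem_normalizer_of_forall fun x hx =>
      ⟨(Subgroup.mem_normalizer_iff.1 ht.2 x).1 hx.1,
        T.mul_mem (T.mul_mem ht.1 hx.2) (T.inv_mem ht.1)⟩⟩
    exact ⟨conjAut T (P ⊓ T) ⟨t, htn⟩,
      autInducedBy_le inf_le_right ((conjAut_range T (P ⊓ T)).le ⟨_, rfl⟩), fun x hx => by
        rw [conjAut_apply (K := T) ⟨t, htn⟩ hx, hte x hx.1]⟩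

theorem K_le_hat (hP : P ≤ S) (ha : a ∈ K F E p P) : InHat F E P a := by
  obtain ⟨H, hH⟩ := exists_hat h hP
  exact (hH a).1 ((sup_le (fun b hb => (hH b).2 (A_le_hat h hP hb))
    fun b hb => (hH b).2 (autT_le_hat h hP hb) : K F E p P ≤ H) ha)

theorem cen_mono (hP : Cen S E P) (hPX : P ≤ X) (hX : X ≤ S) : Cen S E X := by
  have := finT h
  exact ⟨hX, CentricExt.centric_mono hP.2 (inf_le_inf_right T hPX) inf_le_right⟩

theorem cen_map (hP : Cen S E P) (hg : IsMap F P g) : Cen S E (img g P) :=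
  ⟨hg.img_le_S, GoodExtension.centric_conj_invariant (inv h) hP.2
    (img_inf_T h hg ▸ (hg.restrict inf_le_left).isConj)⟩

theorem cen_T (hP : Cen S E P) : centralizerIn T (P ⊓ T) ≤ P ⊓ T :=
  hP.2.2 _ (isConj_refl hP.2.1)

theorem cen_self (hP : P ≤ S) (hTP : T ≤ P) : Cen S E P := by
  have := finT h
  refine ⟨hP, ?_⟩
  rw [inf_eq_right.2 hTP]
  exact PPrimeGen.centric_top

end Cfsg.Agent.Fusion.Prod
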