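/-
An automorphism in `A(P)` of order prime to `p` normalizing a group of automorphisms induced on `P`
extends into `A` of the elements inducing them.
-/
import Mathlib
import Cfsg.Agent.Lib.Fusion.Prod

set_option autoImplicit false
set_option linter.all false

namespace Cfsg.Agent.Fusion.ProdLift

open Cfsg Cfsg.FusionSystem Cfsg.Agent.Fusion.Basic Cfsg.Agent.Fusion.Saturation
  Cfsg.Agent.Fusion.Normal Cfsg.Agent.Fusion.Factor Cfsg.Agent.Fusion.Subsystems
  Cfsg.Agent.Fusion.KNormalizer Cfsg.Agent.Fusion.SylIn Cfsg.Agent.Fusion.Prod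

/-- An element of order prime to `p` is in `L` if it is so up to a normalizing element of
`p`-power order. -/
theorem mem_of_mul_pTorsion {G : Type*} [Group G] {p : ℕ} {L : Subgroup G} {a d b : G}
    (ha : a ∈ L) (hd : d ∈ Subgroup.normalizer (L : Set G)) (hb : b = a * d) {n : ℕ}
    (hn : d ^ p ^ n ∈ L) (hc : (orderOf b).Coprime p) : b ∈ L := by
  subst hb
  refine GoodExtension.mem_of_pow_mem (W := L) (hc.pow_right n)
    (by rw [pow_orderOf_eq_one]; exact one_mem _) ?_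
  set N := Subgroup.normalizer (L : Set G) with hN
  have : (L.subgroupOf N).Normal := Subgroup.normal_in_normalizer
  have haN : a ∈ N := Subgroup.le_normalizer ha
  let π := QuotientGroup.mk' (L.subgroupOf N)
  have h1 : π ((⟨a, haN⟩ * ⟨d, hd⟩ : N) ^ p ^ n) = 1 := by
    rw [map_pow, map_mul,
      show π ⟨a, haN⟩ = 1 from (QuotientGroup.eq_one_iff _).2 (Subgroup.mem_subgroupOf.2 ha),
      one_mul, ← map_pow]
    refine (QuotientGroup.eq_one_iff _).2 (Subgroup.mem_subgroupOf.2 ?_)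
    rw [Subgroup.coe_pow]
    exact hn
  have h2 := Subgroup.mem_subgroupOf.1 ((QuotientGroup.eq_one_iff _).1 h1)
  rwa [Subgroup.coe_pow, Subgroup.coe_mul] at h2

variable {Ω : Type*} [Group Ω] {S T : Subgroup Ω}

/-- A map fixing `Q` pointwise and moving the elements by elements of `Q` is of `p`-power order. -/
theorem fix_pow {W Q : Subgroup Ω} [Finite Q] {p : ℕ} [Fact p.Prime] (hQp : IsPGroup p Q)
    (hQW : Q ≤ W) {d : MulAut W} (hfix : ∀ x ∈ Q, autFun d x = x)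
    (hmv : ∀ w ∈ W, w⁻¹ * autFun d w ∈ Q) : ∃ n : ℕ, d ^ p ^ n = 1 := by
  obtain ⟨n, hn⟩ := IsPGroup.iff_card.1 hQp
  have hpow : ∀ j : ℕ, ∀ w ∈ W, autFun (d ^ j) w = w * (w⁻¹ * autFun d w) ^ j := by
    intro j
    induction j with
    | zero => intro w _; rw [pow_zero, pow_zero, autFun_one, mul_one]; rfl
    | succ j ih =>
      intro w hw
      have hz := hmv w hw
      rw [pow_succ', autFun_mul, ih w hw,
        autFun_isHom d _ hw _ (hQW (Q.pow_mem hz j)), hfix _ (Q.pow_mem hz j), pow_succ',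
        ← mul_assoc w (w⁻¹ * autFun d w), mul_inv_cancel_left]
  refine ⟨n, autFun_ext fun w hw => ?_⟩
  rw [hpow _ w hw, autFun_one, id]
  have h1 : (⟨_, hmv w hw⟩ : Q) ^ p ^ n = 1 := hn ▸ pow_card_eq_one'
  rw [show (w⁻¹ * autFun d w) ^ p ^ n = 1 from congrArg Subtype.val h1, mul_one]

/-- The automorphisms moving by `T` and fixing `P ∩ T` pointwise. -/
def Delta (F : FusionSystem S) (T P : Subgroup Ω) : Subgroup (MulAut P) where
  carrier := {a | a ∈ F.autGroup P ∧ Moves T P (autFun a) ∧ ∀ x ∈ P ⊓ T, autFun a x = x}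
  one_mem' := ⟨one_mem _, moves_one, fun x _ => by rw [autFun_one]; rfl⟩
  mul_mem' ha hb := ⟨mul_mem ha.1 hb.1, moves_mul ha.2.1 hb.2.1,
    fun x hx => by rw [autFun_mul, hb.2.2 x hx, ha.2.2 x hx]⟩
  inv_mem' := fun {a} ha => ⟨inv_mem ha.1, fun x hx => by
      have h1 := T.inv_mem (ha.2.1 _ (autFun_mem a⁻¹ hx))
      rwa [mul_inv_rev, inv_inv, autFun_apply_inv] at h1,
    fun x hx => by conv_lhs => rw [← ha.2.2 x hx, autFun_inv_apply]⟩

variable {F : FusionSystem S} {E : FusionSystem T} {p : ℕ} [Finite S] [Fact p.Prime]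
  (h : Base F E p) {P P' Q X R : Subgroup Ω} {f g : Ω → Ω}
include h

theorem delta_pGroup (hP : P ≤ S) : IsPGroup p (Delta F T P) := by
  rintro ⟨a, -, hm, hfix⟩
  have : Finite (P ⊓ T : Subgroup Ω) := finite_of_le (inf_le_left.trans hP)
  obtain ⟨n, hn⟩ := fix_pow (h.pg.to_le (inf_le_left.trans hP)) inf_le_left hfix
    (fun w hw => ⟨P.mul_mem (P.inv_mem hw) (autFun_mem a hw), hm w hw⟩)
  exact ⟨n, Subtype.ext hn⟩

theorem delta_conj (hP : P ≤ S) {a d : MulAut P} (ha : a ∈ F.autGroup P) (hd : d ∈ Delta F T P) :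
    a * d * a⁻¹ ∈ Delta F T P := by
  have hm := isMap_of_mem_autGroup hP ha
  have key : ∀ Q : Subgroup Ω, img (autFun a) P = Q → Q = P → ∀ c : MulAut P,
      (∀ x ∈ P, autFun c (autFun a x) = autFun a (autFun d x)) → Moves T P (autFun c) := by
    rintro _ rfl hQ c hc
    intro y hy
    obtain ⟨x, hx, rfl⟩ := hm.mem_img.1 (hQ.ge hy)
    rw [hc x hx, ← hm.map_inv hx, ← hm.map_mul (P.inv_mem hx) (autFun_mem d hx)]
    exact stronglyClosed_mem (closed h) hm (P.mul_mem (P.inv_mem hx) (autFun_mem d hx))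
      (hd.2.1 x hx)
  refine ⟨mul_mem (mul_mem ha hd.1) (inv_mem ha), key _ (autFun_img a) rfl _ fun x hx => by
    rw [autFun_mul, autFun_mul, autFun_inv_apply], fun x hx => ?_⟩
  have hx' : autFun a⁻¹ x ∈ P ⊓ T := ⟨autFun_mem _ hx.1,
    stronglyClosed_mem (closed h) (isMap_of_mem_autGroup hP (inv_mem ha)) hx.1 hx.2⟩
  rw [autFun_mul, autFun_mul, hd.2.2 _ hx', autFun_apply_inv]

/-- At a fully normalized subgroup a normal `p`-group of automorphisms is induced by `S`. -/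
theorem normal_le_autS (hPn : F.IsFullyNormalized P) {D : Subgroup (MulAut P)}
    (hD : D ≤ F.autGroup P) (hDp : IsPGroup p D)
    (hn : ∀ a ∈ F.autGroup P, ∀ d ∈ D, a * d * a⁻¹ ∈ D) : D ≤ autInducedBy S P := by
  have : Finite P := finite_of_le hPn.1
  have hs : SylIn p (autInducedBy S P) (F.autGroup P) :=
    ⟨autInducedBy_le hPn.1, isPGroup_autInducedBy h.pg,
      ((fullyAutomized_iff h.pg).1 (fullyNormalized_fullyAutomized h.pg h.sat hPn)).2⟩
  obtain ⟨b, hb, hle⟩ := hs.exists_conj hD hDp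
  intro d hd
  have h1 := hle (mem_img_self (cj b) (hn _ (inv_mem hb) d hd))
  rw [cj_apply, inv_inv] at h1
  simpa [mul_assoc] using h1

/-- Fully normalized together with the intersection with `T`. -/
theorem exists_both (hP : P ≤ S) : ∃ θ, IsMap F (normalizerIn S P) θ ∧
    F.IsFullyNormalized (img θ P) ∧ F.IsFullyNormalized (img θ P ⊓ T) := by
  obtain ⟨P₁, hPP₁, hP₁⟩ := exists_fullyNormalized (F := F) hP
  obtain ⟨θ₁, hθ₁, hθ₁P⟩ := exists_map_to_fullyNormalized h.pg h.sat hP₁ hPP₁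
  obtain ⟨Q₂, hQ₂, hQ₂n⟩ := exists_fullyNormalized (F := F) (inf_le_left.trans hP₁.1 : P₁ ⊓ T ≤ S)
  obtain ⟨θ₂, hθ₂, hθ₂Q⟩ := exists_map_to_fullyNormalized h.pg h.sat hQ₂n hQ₂
  have : Finite (P₁ ⊓ T : Subgroup Ω) := finite_of_le (inf_le_left.trans hP₁.1)
  have hle : normalizerIn S P₁ ≤ normalizerIn S (P₁ ⊓ T) := fun x hx =>
    ⟨hx.1, mem_normalizer_of_forall fun y hy =>
      ⟨(Subgroup.mem_normalizer_iff.1 hx.2 y).1 hy.1, conj_T h hx.1 hy.2⟩⟩
  have hPN := le_normalizerIn (S := S) hP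
  have hP₁N := le_normalizerIn (S := S) hP₁.1
  have hmaps : ∀ x ∈ normalizerIn S P, θ₁ x ∈ normalizerIn S (P₁ ⊓ T) := fun x hx =>
    hle (hθ₁P ▸ hθ₁.img_normalizerIn_le hPN le_rfl (mem_img_self θ₁ hx))
  have hθ₂' := hθ₂.restrict hle
  have e : img (fun x => θ₂ (θ₁ x)) P = img θ₂ P₁ := by
    rw [← (hθ₁.restrict hPN).img_img, hθ₁P]
  refine ⟨fun x => θ₂ (θ₁ x), hθ₂.comp hθ₁ hmaps, ?_, ?_⟩
  · rw [e]
    refine ⟨(hθ₂'.restrict hP₁N).img_le_S, fun Q hQ => ?_⟩
    refine (hP₁.2 Q (isConj_trans (hθ₂'.restrict hP₁N).isConj hQ)).trans ?_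
    have : Finite (normalizerIn S (img θ₂ P₁)) := finite_of_le normalizerIn_le
    rw [← hθ₂'.card_img]
    exact card_le_card (hθ₂'.img_normalizerIn_le hP₁N le_rfl)
  · rwa [e, ← img_inf_T h (hθ₂'.restrict hP₁N), hθ₂Q]

theorem normalizerT_map (hg : IsMap F X g) (hPX : P ≤ X) (hX : normalizerIn T P ≤ X) :
    img g (normalizerIn T P) ≤ normalizerIn T (img g P) :=
  img_le fun x hx => ⟨stronglyClosed_mem (closed h) hg (hX hx) hx.1,
    hg.mem_normalizer_img hPX (hX hx) hx.2⟩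

theorem TMax_of_fn (hP : F.IsFullyNormalized P) : TMax F T P := by
  refine ⟨hP.1, fun P' hP' => ?_⟩
  obtain ⟨g, hg, hgP⟩ := exists_map_to_fullyNormalized h.pg h.sat hP (isConj_symm hP')
  have hle : normalizerIn T P' ≤ normalizerIn S P' := inf_le_inf_right _ (T_le h)
  have := finT h
  have : Finite (normalizerIn T P) := finite_of_le normalizerIn_le
  rw [← (hg.restrict hle).card_img]
  refine card_le_card ?_
  rw [← hgP]
  exact normalizerT_map h hg (le_normalizerIn (isConj_le hP').2) hle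

theorem TMax_img (hP : TMax F T P) (hg : IsMap F X g) (hPX : P ≤ X) (hX : normalizerIn T P ≤ X) :
    img g (normalizerIn T P) = normalizerIn T (img g P) := by
  have := finT h
  have : Finite (normalizerIn T (img g P)) := finite_of_le normalizerIn_le
  refine eq_of_le_card (normalizerT_map h hg hPX hX) ?_
  rw [(hg.restrict hX).card_img]
  exact hP.2 _ (hg.restrict hPX).isConj

set_option maxHeartbeats 800000 in
/-- Lifting at a fully normalized subgroup. -/
theorem lift_fn (hP : Cen S E P) (hPn : F.IsFullyNormalized P)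
    (hQn : F.IsFullyNormalized (P ⊓ T)) {Y : Subgroup (MulAut P)} (hY : Y ≤ autInducedBy S P)
    (hInn : Inn P ≤ Y) {b : MulAut P} (hb : b ∈ A F E p P) (hbc : (orderOf b).Coprime p)
    (hbY : ∀ y ∈ Y, b * y * b⁻¹ ∈ Y) :
    ∃ κ, InHat F E (kNorm S (Y ⊔ Delta F T P)) κ ∧ (orderOf κ).Coprime p ∧
      ∀ x ∈ P, autFun κ x = autFun b x := by
  classical
  have hPS := hP.1
  have hfinP : Finite P := finite_of_le hPS
  have hfinT := finT h
  set Q := P ⊓ T with hQdef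
  have hQP : Q ≤ P := inf_le_left
  have hQT : Q ≤ T := inf_le_right
  have hfinQ : Finite Q := finite_of_le (hQP.trans hPS)
  have hQc := cen_T h hP
  obtain ⟨hbF, hbM, β, hβ, hβb⟩ := A_le_hat h hPS hb
  have hβc : (orderOf β).Coprime p := by
    refine Nat.Coprime.coprime_dvd_left (orderOf_dvd_of_pow_eq_one ?_) hbc
    refine autFun_ext fun x hx => ?_
    rw [← GoodExtension.pow_agree hQP (fun y hy => (hβb y hy).symm) _ x hx,
      pow_orderOf_eq_one, autFun_one, autFun_one]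
  set Y' := Y ⊔ Delta F T P with hY'def
  have hΔS : Delta F T P ≤ autInducedBy S P := normal_le_autS h hPn (fun d hd => hd.1)
    (delta_pGroup h hPS) fun a ha d hd => delta_conj h hPS ha hd
  have hY'S : Y' ≤ autInducedBy S P := sup_le hY hΔS
  have hbY' : ∀ y ∈ Y', b * y * b⁻¹ ∈ Y' := by
    have hle : Y' ≤ Y'.comap (MulAut.conj b).toMonoidHom := sup_le
      (fun y hy => Subgroup.mem_sup_left (hbY y hy))
      fun y hy => Subgroup.mem_sup_right (delta_conj h hPS hbF hy)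
    exact fun y hy => hle hy
  set W := kNorm S Y' with hWdef
  have hWS : W ≤ S := kNorm_le_S
  have hfinW : Finite W := finite_of_le hWS
  have hmemW : ∀ {s : Ω} {y : MulAut P}, s ∈ S → y ∈ Y' →
      (∀ x ∈ P, autFun y x = cj s x) → s ∈ W := fun hs hy hye =>
    ⟨hs, _, hy, fun x hx => (hye x hx).symm⟩
  have hPW : P ≤ W := fun x hx => hmemW (hPS hx)
    (Subgroup.mem_sup_left (hInn ⟨⟨x, hx⟩, rfl⟩)) fun z hz => by
      rw [autFun_of_mem _ hz]; rfl
  have hWQ : ∀ w ∈ W, w ∈ Subgroup.normalizer (Q : Set Ω) := fun w hw =>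
    mem_normalizer_of_forall fun y hy =>
      ⟨(Subgroup.mem_normalizer_iff.1 (kNorm_le hw).2 y).1 hy.1, conj_T h (hWS hw) hy.2⟩
  -- the automorphisms induced on `Q`
  set Yq := autInducedBy W Q with hYqdef
  have hWk : W ≤ kNorm S Yq := fun w hw => ⟨hWS hw, conjAut W Q ⟨w, hw, hWQ w hw⟩,
    (conjAut_range W Q).le ⟨_, rfl⟩, fun x hx => (conjAut_apply (K := W) ⟨w, hw, hWQ w hw⟩ hx).symm⟩
  have hβY : ∀ y ∈ Yq, β * y * β⁻¹ ∈ Yq := by
    intro y hy
    obtain ⟨w, hw, hwe⟩ := mem_autInducedBy_iff'.1 hy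
    obtain ⟨-, z, hz, hze⟩ := hw.1
    obtain ⟨s, hs, hse⟩ := mem_autInducedBy_iff'.1 (hY'S (hbY' z hz))
    refine mem_autInducedBy_iff'.2 ⟨s, ⟨hmemW hs.1 (hbY' z hz) hse, ?_⟩, fun x hx => ?_⟩
    · exact hWQ s (hmemW hs.1 (hbY' z hz) hse)
    · have hx' : autFun β⁻¹ x ∈ Q := autFun_mem _ hx
      have e1 : autFun b⁻¹ x = autFun β⁻¹ x := by
        conv_lhs => rw [← autFun_apply_inv β x, hβb _ hx', autFun_inv_apply]
      rw [← hse x (hQP hx), autFun_mul, autFun_mul, autFun_mul, autFun_mul, e1,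
        hwe _ hx', hze _ (hQP hx'), hβb _ ?_]
      rw [← hze _ (hQP hx')]
      exact (Subgroup.mem_normalizer_iff.1 (hWQ w hw.1) _).1 hx'
  obtain ⟨η, hη, hηβ, -, hηT⟩ := MeetTwist.exists_twist h.pg h.sat h.norm hQT hQn
    (fun y hy => by
      obtain ⟨w, hw, hwe⟩ := mem_autInducedBy_iff'.1 hy
      exact mem_autInducedBy_iff'.2 ⟨w, ⟨hWS hw.1, hw.2⟩, hwe⟩ : Yq ≤ autInducedBy S Q)
    (inn_le_autInducedBy (hQP.trans hPW)) hβ hβc hβY
  have hηW := hη.restrict hWk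
  have hηm : ∀ w ∈ W, w⁻¹ * η w ∈ T := fun w hw => by
    have := conj_T h (S.inv_mem (hWS hw)) (hηT w (hWk hw))
    rwa [inv_inv, ← mul_assoc, inv_mul_cancel_right] at this
  -- `η` stabilizes `P`
  have hηP : ∀ x ∈ P, η x ∈ P := by
    intro x hx
    have hc : (autFun b x)⁻¹ * η x ∈ Q := by
      refine hQc ⟨?_, fun q hq => ?_⟩
      · have h1 := T.mul_mem (T.inv_mem (hbM x hx)) (hηm x (hPW hx))
        rwa [mul_inv_rev, inv_inv, mul_assoc, mul_inv_cancel_left] at h1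
      have hq' : autFun β⁻¹ q ∈ Q := autFun_mem _ hq
      have hxq : x * autFun β⁻¹ q * x⁻¹ ∈ Q :=
        (Subgroup.mem_normalizer_iff.1 (hWQ x (hPW hx)) _).1 hq'
      have h1 := hηW.map_conj (hPW hx) (hQP.trans hPW hq')
      rw [hηβ _ hxq, hηβ _ hq', autFun_apply_inv, hβb _ hxq,
        (autFun_isHom b).map_conj hx (hQP hq'), ← hβb _ hq', autFun_apply_inv] at h1
      calc q * ((autFun b x)⁻¹ * η x)
          = (autFun b x)⁻¹ * (autFun b x * q * (autFun b x)⁻¹) * η x := by group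
        _ = (autFun b x)⁻¹ * (η x * q * (η x)⁻¹) * η x := by rw [h1]
        _ = (autFun b x)⁻¹ * η x * q := by group
    have := P.mul_mem (autFun_mem b hx) (hQP hc)
    rwa [mul_inv_cancel_left] at this
  have hηPm := hηW.restrict hPW
  obtain ⟨a, haF, hae⟩ := hηPm.exists_aut (eq_of_le_card (img_le hηP) hηPm.card_img.ge)
  have haM : Moves T P (autFun a) := fun x hx => hae x hx ▸ hηm x (hPW hx)
  have hδ : b⁻¹ * a ∈ Delta F T P := by
    obtain ⟨H, hH⟩ := exists_hat h hPS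
    refine ⟨mul_mem (inv_mem hbF) haF,
      moves_mul ((hH _).1 (inv_mem ((hH b).2 ⟨hbF, hbM, β, hβ, hβb⟩))).2.1 haM, fun x hx => ?_⟩
    rw [autFun_mul, hae x hx.1, hηβ x hx, hβb x hx, autFun_inv_apply]
  set δ := b⁻¹ * a with hδdef
  have hδY' : δ ∈ Y' := Subgroup.mem_sup_right hδ
  have haY' : ∀ y ∈ Y', a * y * a⁻¹ ∈ Y' := fun y hy => by
    have := hbY' _ (mul_mem (mul_mem hδY' hy) (inv_mem hδY'))
    rw [hδdef] at this
    convert this using 1
    group
  -- `η` stabilizes `W`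
  have hηWW : ∀ w ∈ W, η w ∈ W := by
    intro w hwm
    obtain ⟨-, y, hy, hye⟩ := id hwm
    refine hmemW (hηW.mem hwm) (haY' y hy) fun x hx => ?_
    have hx' := autFun_mem a⁻¹ hx
    have hwx : w * autFun a⁻¹ x * w⁻¹ ∈ P :=
      (Subgroup.mem_normalizer_iff.1 (kNorm_le hwm).2 _).1 hx'
    rw [autFun_mul, autFun_mul, ← hye _ hx', cj_apply, hae _ hwx,
      hηW.map_conj hwm (hPW hx'), ← hae _ hx', autFun_apply_inv]
    rfl
  obtain ⟨κ₀, hκ₀, hκ₀e⟩ := hηW.exists_aut (eq_of_le_card (img_le hηWW) hηW.card_img.ge)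
  -- the automorphisms of `P` extending to moving automorphisms of `W`
  let L : Subgroup (MulAut P) :=
    { carrier := {c | ∃ κ ∈ F.autGroup W, Moves T W (autFun κ) ∧
        ∀ x ∈ P, autFun κ x = autFun c x}
      one_mem' := ⟨1, one_mem _, moves_one, fun x _ => by rw [autFun_one, autFun_one]⟩
      mul_mem' := by
        rintro c d ⟨κ, hκ, hκm, hκe⟩ ⟨μ, hμ, hμm, hμe⟩
        refine ⟨κ * μ, mul_mem hκ hμ, moves_mul hκm hμm, fun x hx => ?_⟩
        rw [autFun_mul, autFun_mul, hμe x hx, hκe _ (autFun_mem _ hx)]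
      inv_mem' := by
        rintro c ⟨κ, hκ, hκm, hκe⟩
        refine ⟨κ⁻¹, inv_mem hκ, fun w hw => ?_, fun x hx => ?_⟩
        · have h1 := T.inv_mem (hκm _ (autFun_mem κ⁻¹ hw))
          rwa [mul_inv_rev, inv_inv, autFun_apply_inv] at h1
        · conv_lhs => rw [← autFun_apply_inv c x, ← hκe _ (autFun_mem _ hx), autFun_inv_apply] }
  have hL : ∀ {c}, c ∈ L ↔ ∃ κ ∈ F.autGroup W, Moves T W (autFun κ) ∧
      ∀ x ∈ P, autFun κ x = autFun c x := Iff.rfl
  have haL : a ∈ L := hL.2 ⟨κ₀, hκ₀, fun w hw => hκ₀e w hw ▸ hηm w hw, fun x hx => by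
    rw [hκ₀e x (hPW hx), hae x hx]⟩
  have hΔL : ∀ d ∈ Delta F T P, ∀ c ∈ L, d * c * d⁻¹ ∈ L := by
    intro d hd c hc
    obtain ⟨s, hs, hse⟩ := mem_autInducedBy_iff'.1 (hΔS hd)
    have hsW : s ∈ W := hmemW hs.1 (Subgroup.mem_sup_right hd) hse
    obtain ⟨κ, hκ, hκm, hκe⟩ := hL.1 hc
    set k := conjAut W W ⟨s, hsW, Subgroup.le_normalizer hsW⟩ with hk
    have hkF : k ∈ F.autGroup W := (mem_autGroup_iff hWS).2 ((isMap_cj hWS (hWS hsW)).congr
      fun x hx => (conjAut_apply (K := W) ⟨s, hsW, Subgroup.le_normalizer hsW⟩ hx).symm)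
    have hke : ∀ x ∈ W, autFun k x = cj s x := fun x hx =>
      conjAut_apply (K := W) ⟨s, hsW, Subgroup.le_normalizer hsW⟩ hx
    refine hL.2 ⟨k * κ * k⁻¹, mul_mem (mul_mem hkF hκ) (inv_mem hkF), fun w hw => ?_, fun x hx => ?_⟩
    · have hu : autFun k⁻¹ w ∈ W := autFun_mem _ hw
      obtain ⟨t, ht, hte⟩ := moves_mem hκm hu
      rw [autFun_mul, autFun_mul, hte, hke _ (hte ▸ autFun_mem κ hu)]
      have hw' : w = s * autFun k⁻¹ w * s⁻¹ := by
        conv_lhs => rw [← autFun_apply_inv k w, hke _ hu]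
        rfl
      have := conj_T h (hWS hsW) ht
      have e2 : ∀ u : Ω, w = s * u * s⁻¹ → w⁻¹ * cj s (u * t) = s * t * s⁻¹ := by
        rintro u rfl
        rw [cj_apply]
        group
      rw [e2 _ hw']
      exact this
    · have hx' := autFun_mem d⁻¹ hx
      have e1 : autFun k⁻¹ x = autFun d⁻¹ x := by
        conv_lhs => rw [← autFun_apply_inv d x, hse _ hx', ← hke _ (hPW hx'), autFun_inv_apply]
      rw [autFun_mul, autFun_mul, autFun_mul, autFun_mul, e1, hκe _ hx',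
        hke _ (hPW (autFun_mem _ hx')), ← hse _ (autFun_mem _ hx')]
  have hbL : b ∈ L := by
    obtain ⟨n, hn⟩ := delta_pGroup h hPS ⟨δ⁻¹, inv_mem hδ⟩
    refine mem_of_mul_pTorsion haL (d := δ⁻¹) ?_ (by rw [hδdef]; group) (n := n) ?_ hbc
    · rw [Subgroup.mem_normalizer_iff]
      refine fun c => ⟨fun hc => hΔL _ (inv_mem hδ) c hc, fun hc => ?_⟩
      have := hΔL δ hδ _ hc
      simpa [mul_assoc] using this
    · rw [show δ⁻¹ ^ p ^ n = 1 from congrArg Subtype.val hn]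
      exact one_mem _
  obtain ⟨κ₁, hκ₁, hκ₁m, hκ₁e⟩ := hL.1 hbL
  obtain ⟨i, hic, hiP⟩ := GoodExtension.exists_pow_coprime (p := p) hPW hκ₁e hbc
  set κ := κ₁ ^ i with hκdef
  have hκF : κ ∈ F.autGroup W := pow_mem hκ₁ i
  have hκM : Moves T W (autFun κ) := by
    have : ∀ n : ℕ, Moves T W (autFun (κ₁ ^ n)) := by
      intro n
      induction n with
      | zero => rw [pow_zero]; exact moves_one
      | succ n ih => rw [pow_succ]; exact moves_mul ih hκ₁m
    exact this i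
  -- on `W ∩ T`
  set Q₁ := W ⊓ T with hQ₁
  have hQQ₁ : Q ≤ Q₁ := le_inf (hQP.trans hPW) hQT
  have hfinQ₁ : Finite Q₁ := finite_of_le (inf_le_left.trans hWS)
  have hκQ : ∀ x ∈ Q, autFun κ x = autFun β x := fun x hx => by
    rw [hiP x (hQP hx), hβb x hx]
  have hκst : ∀ w ∈ Q₁, autFun κ w ∈ Q₁ := fun w hw => ⟨autFun_mem κ hw.1, by
    have := T.mul_mem hw.2 (hκM w hw.1)
    rwa [mul_inv_cancel_left] at this⟩
  have hκm := isMap_of_mem_autGroup hWS hκF
  have hκQ₁m := hκm.restrict (inf_le_left : Q₁ ≤ W)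
  obtain ⟨k, hk, hke⟩ := hκQ₁m.exists_aut (eq_of_le_card (img_le hκst) hκQ₁m.card_img.ge)
  have hkc : (orderOf k).Coprime p := by
    refine Nat.Coprime.coprime_dvd_left (orderOf_dvd_of_pow_eq_one ?_) hic
    refine autFun_ext fun x hx => ?_
    rw [← GoodExtension.pow_agree inf_le_left (fun y hy => (hke y hy).symm) _ x hx,
      pow_orderOf_eq_one, autFun_one, autFun_one]
  have hQE := fullyNormalized_of_subsystem h.pg h.sat (closed h) (inv h).1 hQT hQn
  obtain ⟨e, he, hee⟩ := exists_extension (Tp h) (Esat h) (isMap_of_mem_autGroup hQT hβ)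
    (by rw [autFun_img]; exact fullyNormalized_fullyCentralized (Tp h) (Esat h) hQE)
  have hQ₁n : Q₁ ≤ nSub T Q (autFun β) := fun w hw => by
    refine mem_nSub.2 ⟨hw.2, hWQ w hw.1, autFun κ w, (hκst w hw).2, fun x hx => ?_⟩
    rw [← hκQ _ ((Subgroup.mem_normalizer_iff.1 (hWQ w hw.1) x).1 hx),
      hκm.map_conj hw.1 (hPW (hQP hx)), hκQ x hx]
  have heQ₁ := he.restrict hQ₁n
  have hdiff : ∀ w ∈ Q₁, (autFun κ w)⁻¹ * e w ∈ Q := by
    intro w hw
    refine hQc ⟨T.mul_mem (T.inv_mem (hκst w hw).2) (heQ₁.mem hw), fun q hq => ?_⟩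
    have hq' : autFun β⁻¹ q ∈ Q := autFun_mem _ hq
    have hwq := (Subgroup.mem_normalizer_iff.1 (hWQ w hw.1) _).1 hq'
    have h1 := heQ₁.map_conj hw (hQQ₁ hq')
    rw [hee _ hwq, hee _ hq', autFun_apply_inv, ← hκQ _ hwq, hκm.map_conj hw.1 (hPW (hQP hq')),
      hκQ _ hq', autFun_apply_inv] at h1
    calc q * ((autFun κ w)⁻¹ * e w)
        = (autFun κ w)⁻¹ * (autFun κ w * q * (autFun κ w)⁻¹) * e w := by group
      _ = (autFun κ w)⁻¹ * (e w * q * (e w)⁻¹) * e w := by rw [h1]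
      _ = (autFun κ w)⁻¹ * e w * q := by group
  obtain ⟨e', he', he'e⟩ := heQ₁.exists_aut (eq_of_le_card (img_le fun w hw => by
    have := Q₁.mul_mem (hκst w hw) (hQQ₁ (hdiff w hw))
    rwa [mul_inv_cancel_left] at this) heQ₁.card_img.ge)
  have he'F := autE_le h inf_le_right he'
  have hd : ∀ x ∈ Q₁, x⁻¹ * autFun (k⁻¹ * e') x ∈ Q := by
    intro x hx
    have h1 := hdiff x hx
    set z := (autFun κ x)⁻¹ * e x with hz
    have e3 : autFun e' x = autFun k x * z := by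
      rw [he'e x hx, hke x hx, hz, mul_inv_cancel_left]
    have hz' : autFun k⁻¹ z = autFun β⁻¹ z := by
      have hzq : autFun β⁻¹ z ∈ Q := autFun_mem _ h1
      conv_lhs => rw [← autFun_apply_inv β z, ← hκQ _ hzq, ← hke _ (hQQ₁ hzq), autFun_inv_apply]
    rw [autFun_mul, e3, autFun_isHom k⁻¹ _ (autFun_mem k hx) _ (hQQ₁ h1), autFun_inv_apply,
      inv_mul_cancel_left, hz']
    exact autFun_mem _ h1
  have hdfix : ∀ x ∈ Q, autFun (k⁻¹ * e') x = x := fun x hx => by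
    rw [autFun_mul, he'e x (hQQ₁ hx), hee x hx, ← hκQ x hx, ← hke x (hQQ₁ hx), autFun_inv_apply]
  obtain ⟨n, hn⟩ := fix_pow (h.pg.to_le (hQP.trans hPS)) hQQ₁ hdfix hd
  have hkE : k ∈ E.autGroup Q₁ := by
    refine mem_of_mul_pTorsion he' (d := (k⁻¹ * e')⁻¹) ?_ (by group) (n := n) ?_ hkc
    · have hmem : (k⁻¹ * e')⁻¹ ∈ F.autGroup Q₁ := inv_mem (mul_mem (inv_mem hk) he'F)
      rw [Subgroup.mem_normalizer_iff]
      refine fun c => ⟨fun hc => autE_conj h inf_le_right hmem hc, fun hc => ?_⟩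
      have := autE_conj h inf_le_right (inv_mem hmem) hc
      simpa [mul_assoc] using this
    · rw [inv_pow, hn, inv_one]
      exact one_mem _
  exact ⟨κ, ⟨hκF, hκM, k, hkE, hke⟩, hic, hiP⟩

/-- The restriction to a stabilized subgroup of a lift, pulled back. -/
theorem lift (hP : Cen S E P) (hPm : TMax F T P) (hTR : T ≤ R) (hRS : R ≤ S) (hPR : P ≤ R)
    {Y : Subgroup (MulAut P)} (hY : Y ≤ autInducedBy R P) (hInn : Inn P ≤ Y) {b : MulAut P}
    (hb : b ∈ A F E p P) (hbc : (orderOf b).Coprime p) (hbY : ∀ y ∈ Y, b * y * b⁻¹ ∈ Y) :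
    P ≤ kNorm R Y ∧ ∃ κ ∈ A F E p (kNorm R Y), (orderOf κ).Coprime p ∧
      ∀ x ∈ P, autFun κ x = autFun b x := by
  classical
  have hPS := hP.1
  set W := kNorm R Y with hWdef
  have hWR : W ≤ R := kNorm_le_S
  have hWS : W ≤ S := hWR.trans hRS
  have hfinP : Finite P := finite_of_le hPS
  have hfinW : Finite W := finite_of_le hWS
  have hPW : P ≤ W := fun x hx => ⟨hPR hx, MulAut.conj (⟨x, hx⟩ : P), hInn ⟨⟨x, hx⟩, rfl⟩,
    fun z hz => by rw [autFun_of_mem _ hz]; rfl⟩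
  refine ⟨hPW, ?_⟩
  obtain ⟨θ, hθ, hfn, hQn⟩ := exists_both h hPS
  have hWN : W ≤ normalizerIn S P := fun w hw => ⟨hWS hw, (kNorm_le hw).2⟩
  have hPN : P ≤ normalizerIn S P := le_normalizerIn hPS
  have hθP := hθ.restrict hPN
  have : Finite (img θ P) := finite_of_le hθP.img_le_S
  obtain ⟨e, he⟩ := hθP.exists_autEquiv
  have hYF : Y ≤ F.autGroup P := fun y hy => by
    obtain ⟨r, hr, hre⟩ := mem_autInducedBy_iff'.1 (hY hy)
    exact autInducedBy_le hPS (mem_autInducedBy_iff'.2 ⟨r, ⟨hRS hr.1, hr.2⟩, hre⟩)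
  set Y₀ : Subgroup (MulAut (img θ P : Subgroup Ω)) :=
    ((Y.subgroupOf (F.autGroup P)).map e.toMonoidHom).map (F.autGroup (img θ P)).subtype with hY₀
  have hY₀S : Y₀ ≤ autInducedBy S (img θ P) := by
    rintro _ ⟨_, ⟨a, ha, rfl⟩, rfl⟩
    obtain ⟨r, hr, hre⟩ := mem_autInducedBy_iff'.1 (hY ha)
    have hrN : r ∈ normalizerIn S P := ⟨hRS hr.1, hr.2⟩
    refine mem_autInducedBy_iff'.2
      ⟨θ r, ⟨hθ.mem hrN, hθ.mem_normalizer_img hPN hrN hr.2⟩, fun y hy => ?_⟩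
    obtain ⟨x, hx, rfl⟩ := hθP.mem_img.1 hy
    show autFun (e a : MulAut (img θ P : Subgroup Ω)) (θ x) = _
    rw [he a x hx, show autFun (a : MulAut P) x = cj r x from hre x hx, cj_apply,
      hθ.map_conj hrN (hPN hx)]
    rfl
  have hθY : ∀ w ∈ W, θ w ∈ kNorm S Y₀ := by
    intro w hw
    have hw' := hWN hw
    obtain ⟨hwR, y, hy, hye⟩ := hw
    refine ⟨hθ.mem hw', (e ⟨y, hYF hy⟩ : MulAut (img θ P : Subgroup Ω)),
      ⟨_, ⟨⟨y, hYF hy⟩, hy, rfl⟩, rfl⟩, fun z hz => ?_⟩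
    obtain ⟨x, hx, rfl⟩ := hθP.mem_img.1 hz
    rw [he _ x hx, ← hye x hx, cj_apply, cj_apply, ← hθ.map_conj hw' (hPN hx)]
  have hInn₀ : Inn (img θ P) ≤ Y₀ := by
    intro a ha
    obtain ⟨x₀, hx₀, hxe⟩ := mem_inn_iff.1 ha
    obtain ⟨x, hx, rfl⟩ := hθP.mem_img.1 hx₀
    obtain ⟨-, y₀, hy₀, hy₀e⟩ := hθY x (hPW hx)
    rwa [show a = y₀ from autFun_ext fun z hz => (hxe z hz).trans (hy₀e z hz)]
  have hbF := A_le_F h hPS hb
  obtain ⟨b', hb', hb'e⟩ := A_transport h hθP rfl hb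
  have hbe : b' = (e ⟨b, hbF⟩ : MulAut (img θ P : Subgroup Ω)) := autFun_ext fun y hy => by
    obtain ⟨x, hx, rfl⟩ := hθP.mem_img.1 hy
    rw [hb'e x hx, he ⟨b, hbF⟩ x hx]
  have hb'c : (orderOf b').Coprime p := by
    rw [hbe, Subgroup.orderOf_coe, MulEquiv.orderOf_eq, Subgroup.orderOf_mk]
    exact hbc
  have hb'Y : ∀ y ∈ Y₀, b' * y * b'⁻¹ ∈ Y₀ := by
    rintro _ ⟨_, ⟨a, ha, rfl⟩, rfl⟩
    refine ⟨_, ⟨⟨b, hbF⟩ * a * ⟨b, hbF⟩⁻¹, hbY _ ha, rfl⟩, ?_⟩
    simp [hbe]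
  obtain ⟨κ, hκ, hκc, hκe⟩ := lift_fn h (cen_map h hP hθP) hfn hQn hY₀S hInn₀ hb' hb'c hb'Y
  have hθW₀ : img θ W ≤ (kNorm S (Y₀ ⊔ Delta F T (img θ P))) := img_le fun w hw => by
    obtain ⟨h1, y, hy, hye⟩ := hθY w hw
    exact ⟨h1, y, Subgroup.mem_sup_left hy, hye⟩
  have hθWm := hθ.restrict hWN
  have hW₀S : (kNorm S (Y₀ ⊔ Delta F T (img θ P))) ≤ S := kNorm_le_S
  have hκm := isMap_of_mem_autGroup hW₀S hκ.1
  have hNT : normalizerIn T P ≤ normalizerIn S P := inf_le_inf_right _ (T_le h)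
  have hTimg := TMax_img h hPm hθ hPN hNT
  have hst : ∀ y ∈ img θ W, autFun κ y ∈ img θ W := by
    intro y hy
    obtain ⟨w, hw, rfl⟩ := hθWm.mem_img.1 hy
    have hθw := hθW₀ (mem_img_self θ hw)
    obtain ⟨t, ht, hte⟩ := moves_mem hκ.2.1 hθw
    have hκw : autFun κ (θ w) ∈ (kNorm S (Y₀ ⊔ Delta F T (img θ P))) := autFun_mem κ hθw
    have htN : t ∈ normalizerIn T (img θ P) := by
      refine ⟨ht, ?_⟩
      have h1 := Subgroup.mul_mem _ (Subgroup.inv_mem _ (kNorm_le hθw).2) (kNorm_le hκw).2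
      rwa [hte, inv_mul_cancel_left] at h1
    obtain ⟨u, hu, hue⟩ := (hθ.restrict hNT).mem_img.1 (hTimg.ge htN)
    have huN := hNT hu
    rw [hte, ← hue, ← hθ.map_mul (hWN hw) huN]
    refine mem_img_self θ ?_
    obtain ⟨hwR, y, hy, hye⟩ := hw
    refine ⟨R.mul_mem hwR (hTR hu.1), b * y * b⁻¹, hbY y hy, fun x hx => ?_⟩
    have hwN := hWN (⟨hwR, y, hy, hye⟩ : w ∈ W)
    have hx' := autFun_mem b⁻¹ hx
    have hwx : w * autFun b⁻¹ x * w⁻¹ ∈ P := (Subgroup.mem_normalizer_iff.1 hwN.2 _).1 hx'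
    have hmulN : w * u ∈ normalizerIn S P := Subgroup.mul_mem _ hwN huN
    refine hθ.inj (hPN ((Subgroup.mem_normalizer_iff.1 hmulN.2 x).1 hx))
      (hPN (autFun_mem _ hx)) ?_
    rw [autFun_mul, autFun_mul, ← hye _ hx', cj_apply, cj_apply, ← hb'e _ hwx,
      ← hκe _ (mem_img_self θ hwx),
      hθ.map_conj hmulN (hPN hx), hθ.map_conj hwN (hPN hx'), hθ.map_mul hwN huN, hue, ← hte,
      hκm.map_conj hθw (hθW₀ (mem_img_self θ (hPW hx'))),
      hκe _ (mem_img_self θ hx'), hb'e _ hx', autFun_apply_inv]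
  have : Finite (kNorm S (Y₀ ⊔ Delta F T (img θ P))) := finite_of_le hW₀S
  obtain ⟨c, hc, hcc, hce⟩ := restrict_gen h hW₀S hθW₀ hκ hκc hst
  obtain ⟨j, hj, hjimg, hjθ, -⟩ := hθWm.exists_inv
  obtain ⟨c', hc', hc'e⟩ := A_transport h hj hjimg hc
  obtain ⟨i, hic, hiP⟩ := GoodExtension.exists_pow_coprime (p := p) hPW (a := c') (d := b)
    (fun x hx => by
      have hθx : θ x ∈ img θ W := mem_img_self θ (hPW hx)
      have h1 := hc'e _ hθx
      rw [hjθ x (hPW hx), hce _ hθx, hκe _ (mem_img_self θ hx), hb'e x hx,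
        hjθ _ (hPW (autFun_mem b hx))] at h1
      exact h1) hbc
  exact ⟨c' ^ i, pow_mem hc' i, hic, hiP⟩

/-- Automorphisms in `A(P)` induced by `S` are induced by `T`, at a fully normalized subgroup. -/
theorem A_inf (hP : Cen S E P) (hPn : F.IsFullyNormalized P) (hQn : F.IsFullyNormalized (P ⊓ T))
    {a : MulAut P} (ha : a ∈ A F E p P) (haS : a ∈ autInducedBy S P) : a ∈ autInducedBy T P := by
  classical
  have hPS := hP.1
  have hfinP : Finite P := finite_of_le hPS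
  set G := A F E p P with hG
  have hs : SylIn p (autInducedBy S P ⊓ G) G := by
    refine SylIn.inf_normal (B := F.autGroup P) ⟨autInducedBy_le hPS, isPGroup_autInducedBy h.pg,
      ((fullyAutomized_iff h.pg).1 (fullyNormalized_fullyAutomized h.pg h.sat hPn)).2⟩
      (A_le_F h hPS) fun e he => mem_normalizer_of_forall fun b hb => A_conj h hPS he hb
  obtain ⟨R', hR'⟩ : ∃ R' : Sylow p G,
      (R' : Subgroup G) = (autInducedBy S P ⊓ G).subgroupOf G := (sylIn_iff_exists inf_le_right).1 hs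
  have hres : pResidual p G = ⊤ := by
    refine eq_top_iff.2 fun x _ => ?_
    have key : ∀ y (hy : y ∈ G), (⟨y, hy⟩ : G) ∈ pResidual p G := by
      intro y hy
      induction hy using Subgroup.closure_induction with
      | mem b hb =>
        refine Subgroup.subset_closure (show (orderOf (⟨b, _⟩ : G)).Coprime p from ?_)
        rw [← orderOf_injective G.subtype Subtype.val_injective]
        exact hb.2
      | one => exact one_mem _
      | mul b c hb hc ihb ihc => exact mul_mem ihb ihc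
      | inv b hb ihb => exact inv_mem ihb
    exact key x.1 x.2
  have hmem : (⟨a, ha⟩ : G) ∈ (R' : Subgroup G) ⊓ pResidual p G := by
    refine ⟨?_, hres ▸ Subgroup.mem_top _⟩
    rw [hR']
    exact Subgroup.mem_subgroupOf.2 ⟨haS, ha⟩
  rw [← Focal.hyp_group R'] at hmem
  revert hmem
  suffices hsub : (groupFusionSystem (R' : Subgroup G)).hyperfocalSubgroup p ≤
      (autInducedBy T P).subgroupOf G from fun hmem => Subgroup.mem_subgroupOf.1 (hsub hmem)
  refine Hyperfocal.hyp_le_of fun Z hZ α hα x hx => ?_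
  obtain ⟨-, -, b₀, hb₀⟩ := Group.isMap_group_iff.1 (isMap_of_mem_autGroup hZ α.2)
  obtain ⟨k, m, hdvd, hm, hk⟩ :=
    Hyperfocal.exists_exp (p := p) (n := orderOf b₀) (orderOf_pos b₀).ne' hα
  set b := b₀ ^ k with hbdef
  have hbc : (orderOf (b : MulAut P)).Coprime p := by
    refine Nat.Coprime.coprime_dvd_left (orderOf_dvd_of_pow_eq_one ?_) hm
    rw [← Subgroup.coe_pow, hbdef, ← pow_mul, orderOf_dvd_iff_pow_eq_one.1 hdvd]
    rfl
  have hbα : ∀ z ∈ Z, autFun (α : MulAut Z) z = b * z * b⁻¹ := by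
    have hpow : ∀ n : ℕ, ∀ z ∈ Z, autFun ((α : MulAut Z) ^ n) z = cj (b₀ ^ n) z := by
      intro n
      induction n with
      | zero => intro z _; rw [pow_zero, autFun_one, pow_zero, cj_one]
      | succ n ih =>
        intro z hz
        rw [pow_succ', autFun_mul, hb₀ _ (autFun_mem _ hz), ih z hz, pow_succ', cj_mul]
    intro z hz
    have hαk : (α : MulAut Z) ^ k = α := by
      have : α ^ k = α := by rw [← pow_mod_orderOf, hk, pow_mod_orderOf, pow_one]
      exact congrArg Subtype.val this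
    rw [← hαk, hpow k z hz]
    rfl
  set Y := Z.map G.subtype ⊔ Inn P with hYdef
  have hZS : Z.map G.subtype ≤ autInducedBy S P := by
    rintro _ ⟨z, hz, rfl⟩
    exact (Subgroup.mem_subgroupOf.1 (hR'.le (hZ hz))).1
  have hbY : ∀ y ∈ Y, (b : MulAut P) * y * (b : MulAut P)⁻¹ ∈ Y := by
    have hle : Y ≤ Y.comap (MulAut.conj (b : MulAut P)).toMonoidHom := by
      refine sup_le ?_ fun c hc => Subgroup.mem_sup_right
        ((inferInstance : (Inn P).Normal).conj_mem c hc _)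
      rintro _ ⟨z, hz, rfl⟩
      refine Subgroup.mem_sup_left ⟨autFun (α : MulAut Z) z, autFun_mem _ hz, ?_⟩
      rw [hbα z hz]
      rfl
    exact fun y hy => hle hy
  have hYS : Y ≤ autInducedBy S P := sup_le hZS (inn_le_autInducedBy hPS)
  obtain ⟨hPW, κ, hκ, -, hκe⟩ :=
    lift h hP (TMax_of_fn h hPn) (T_le h) le_rfl hPS hYS le_sup_right b.2 hbc hbY
  set z := ((x⁻¹ : G) : MulAut P) with hz
  have hzY : z ∈ Y := Subgroup.mem_sup_left ⟨x⁻¹, Z.inv_mem hx, rfl⟩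
  obtain ⟨s, hs, hse⟩ := mem_autInducedBy_iff'.1 (hYS hzY)
  have hsW : s ∈ kNorm S Y := ⟨hs.1, z, hzY, fun w hw => (hse w hw).symm⟩
  have hκW := isMap_of_mem_autGroup kNorm_le_S (A_le_F h kNorm_le_S hκ)
  have hκs : autFun κ s ∈ kNorm S Y := autFun_mem κ hsW
  -- `[b, z]` is induced by `κ(s) s⁻¹`
  have hcomm : (b : MulAut P) * z * (b : MulAut P)⁻¹ * z⁻¹ ∈ autInducedBy T P := by
    refine mem_autInducedBy_iff'.2 ⟨autFun κ s * s⁻¹, ⟨?_,
      Subgroup.mul_mem _ (kNorm_le hκs).2 (Subgroup.inv_mem _ hs.2)⟩, fun w hw => ?_⟩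
    · have := conj_T h hs.1 ((A_le_hat h kNorm_le_S hκ).2.1 s hsW)
      simpa [mul_assoc] using this
    · have hu : autFun z⁻¹ w ∈ P := autFun_mem _ hw
      have e1 : autFun z⁻¹ w = cj s⁻¹ w := by
        conv_rhs => rw [← autFun_apply_inv z w, hse _ hu, cj_inv_cj]
      have hu' : autFun (b : MulAut P)⁻¹ (autFun z⁻¹ w) ∈ P := autFun_mem _ hu
      rw [autFun_mul, autFun_mul, autFun_mul, hse _ hu', cj_apply,
        ← hκe _ ((Subgroup.mem_normalizer_iff.1 hs.2 _).1 hu'), hκW.map_conj hsW (hPW hu'),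
        hκe _ hu', autFun_apply_inv, e1, cj_mul, cj_apply]
      rfl
  refine Subgroup.mem_subgroupOf.2 ?_
  have h2 := inv_mem hcomm
  rw [hbα x hx]
  convert h2 using 1
  simp [hz, mul_assoc, mul_inv_rev]

/-- At a subgroup of largest normalizer in `T`, `A(P)` meets `Aut_T(P)` in a Sylow subgroup. -/
theorem A_sylow (hP : Cen S E P) (hPm : TMax F T P) :
    SylIn p (autInducedBy T P ⊓ A F E p P) (A F E p P) := by
  classical
  have hPS := hP.1
  have hfinP : Finite P := finite_of_le hPS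
  obtain ⟨θ, hθ, hfn, hQn⟩ := exists_both h hPS
  have hPN := le_normalizerIn (S := S) hPS
  have hθP := hθ.restrict hPN
  have : Finite (img θ P) := finite_of_le hθP.img_le_S
  have hPT := isPGroup_autInducedBy (P := P) (Tp h)
  refine ⟨inf_le_right, hPT.to_le inf_le_left, ?_⟩
  refine (sylIn_of_card_max inf_le_right (hPT.to_le inf_le_left) fun M hM hMp => ?_).2.2
  obtain ⟨e, he⟩ := hθP.exists_autEquiv
  have hs : SylIn p (autInducedBy S (img θ P) ⊓ A F E p (img θ P)) (A F E p (img θ P)) := by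
    refine SylIn.inf_normal (B := F.autGroup (img θ P)) ⟨autInducedBy_le hθP.img_le_S,
      isPGroup_autInducedBy h.pg,
      ((fullyAutomized_iff h.pg).1 (fullyNormalized_fullyAutomized h.pg h.sat hfn)).2⟩
      (A_le_F h hθP.img_le_S) fun a ha => mem_normalizer_of_forall fun b hb =>
        A_conj h hθP.img_le_S ha hb
  have hAF := A_le_F h hPS
  -- transport `M`
  set M₀ : Subgroup (MulAut (img θ P : Subgroup Ω)) :=
    ((M.subgroupOf (F.autGroup P)).map e.toMonoidHom).map (F.autGroup (img θ P)).subtype with hM₀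
  have hM₀A : M₀ ≤ A F E p (img θ P) := by
    rintro _ ⟨_, ⟨a, ha, rfl⟩, rfl⟩
    obtain ⟨a', ha', ha'e⟩ := A_transport h hθP rfl (hM ha)
    rwa [show ((F.autGroup (img θ P)).subtype (e.toMonoidHom a)) = a' from autFun_ext fun y hy => by
      obtain ⟨x, hx, rfl⟩ := hθP.mem_img.1 hy
      exact (he a x hx).trans (ha'e x hx).symm]
  have hM₀p : IsPGroup p M₀ :=
    ((hMp.comap_of_injective (F.autGroup P).subtype Subtype.val_injective).map _).map _
  have hcard : Nat.card M₀ = Nat.card M := by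
    rw [hM₀, Subgroup.card_map_of_injective Subtype.val_injective,
      Subgroup.card_map_of_injective e.injective]
    exact Nat.card_congr (Subgroup.subgroupOfEquivOfLe (hM.trans hAF)).toEquiv
  rw [← hcard]
  refine (hs.card_le hM₀A hM₀p).trans ?_
  have hback : ∀ a ∈ autInducedBy S (img θ P) ⊓ A F E p (img θ P),
      ∃ c ∈ autInducedBy T P ⊓ A F E p P,
        ∀ x ∈ P, autFun a (θ x) = θ (autFun c x) := by
    rintro a ⟨haS, haA⟩
    obtain ⟨t, ht, hte⟩ := mem_autInducedBy_iff'.1 (A_inf h (cen_map h hP hθP) hfn hQn haA haS)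
    have hNT : normalizerIn T P ≤ normalizerIn S P := inf_le_inf_right _ (T_le h)
    obtain ⟨u, hu, hue⟩ := (hθ.restrict hNT).mem_img.1 ((TMax_img h hPm hθ hPN hNT).ge ht)
    obtain ⟨j, hj, hjimg, hjθ, -⟩ := hθP.exists_inv
    obtain ⟨c, hc, hce⟩ := A_transport h hj hjimg haA
    have hcu : ∀ x ∈ P, autFun a (θ x) = θ (cj u x) := fun x hx => by
      rw [hte _ (mem_img_self θ hx), cj_apply, cj_apply, hθ.map_conj (hNT hu) (hPN hx), hue]
    have hcc : ∀ x ∈ P, autFun c x = cj u x := fun x hx => by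
      have h1 := hce _ (mem_img_self θ hx)
      rwa [hjθ x hx, hcu x hx,
        hjθ (cj u x) ((Subgroup.mem_normalizer_iff.1 hu.2 x).1 hx)] at h1
    exact ⟨c, ⟨mem_autInducedBy_iff'.2 ⟨u, hu, hcc⟩, hc⟩, fun x hx => by rw [hcc x hx, hcu x hx]⟩
  choose c hc hce using hback
  refine Nat.card_le_card_of_injective
    (fun a : (autInducedBy S (img θ P) ⊓ A F E p (img θ P) : Subgroup _) =>
      (⟨c a a.2, hc a a.2⟩ : (autInducedBy T P ⊓ A F E p P : Subgroup _))) fun a b hab => ?_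
  refine Subtype.ext (autFun_ext fun y hy => ?_)
  obtain ⟨x, hx, rfl⟩ := hθP.mem_img.1 hy
  rw [hce a a.2 x hx, hce b b.2 x hx]
  exact congrArg θ (congrArg (fun z : (autInducedBy T P ⊓ A F E p P : Subgroup _) =>
    autFun (z : MulAut P) x) hab)

end Cfsg.Agent.Fusion.ProdLift
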