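/-
An automorphism of order prime to `p` fixing `X` and `V ∩ Q` extends to `V Q` fixing `Q` when
`C_Q(X) ≤ V`.
-/
import Mathlib
import Cfsg.Agent.Lib.Fusion.ProdLift

set_option autoImplicit false
set_option linter.all false

namespace Cfsg.Agent.Fusion.BalanceFix

open Cfsg Cfsg.FusionSystem Cfsg.Agent.Fusion.Basic Cfsg.Agent.Fusion.Saturation
  Cfsg.Agent.Fusion.Normal Cfsg.Agent.Fusion.Subsystems Cfsg.Agent.Fusion.SylIn
  Cfsg.Agent.Fusion.Prod

variable {Ω : Type*} [Group Ω] {S Q V X : Subgroup Ω} {F : FusionSystem S} {p : ℕ}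
  [Finite S] [Fact p.Prime]

omit [Fact p.Prime] in
theorem card_cen (hQ : F.StronglyClosed Q) {R : Subgroup Ω} {g : Ω → Ω} (hg : IsMap F R g)
    {Z : Subgroup Ω} (hZ : Z ≤ R) (hC : centralizerIn Q Z ≤ R) :
    img g (centralizerIn Q Z) ≤ centralizerIn Q (img g Z) :=
  img_le fun x hx => ⟨stronglyClosed_mem hQ hg (hC hx) hx.1,
    hg.mem_centralizer_img hZ (hC hx) hx.2⟩

/-- At a fully normalized subgroup the centralizer in `Q` is as large as possible. -/
theorem cmax_of_fn (hS : IsPGroup p S) (hF : F.IsSaturated p) (hQ : F.StronglyClosed Q)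
    (hX : F.IsFullyNormalized X) :
    ∀ Z, F.IsConj X Z → Nat.card (centralizerIn Q Z) ≤ Nat.card (centralizerIn Q X) := by
  intro Z hZ
  obtain ⟨g, hg, hgX⟩ := exists_map_to_fullyNormalized hS hF hX (isConj_symm hZ)
  have hC : centralizerIn Q Z ≤ normalizerIn S Z := fun x hx =>
    ⟨hQ.1 hx.1, Subgroup.centralizer_le_normalizer _ hx.2⟩
  have : Finite (centralizerIn Q X) := finite_of_le (centralizerIn_le.trans hQ.1)
  rw [← (hg.restrict hC).card_img]
  refine card_le_card ?_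
  have h1 := card_cen hQ hg (le_normalizerIn (isConj_le hZ).2) hC
  rwa [hgX] at h1

/-- The extension by `N_Q(V)`. -/
theorem fix_step (hS : IsPGroup p S) (hF : F.IsSaturated p) (hQ : F.StronglyClosed Q)
    (hmax : ∀ Z, F.IsConj X Z → Nat.card (centralizerIn Q Z) ≤ Nat.card (centralizerIn Q X))
    (hV : V ≤ S) (hXV : X ≤ V) (hC : centralizerIn Q X ≤ V) {β : MulAut V}
    (hβ : β ∈ F.autGroup V) (hβc : (orderOf β).Coprime p)
    (hβX : ∀ x ∈ X, autFun β x = x) (hβQ : ∀ x ∈ V ⊓ Q, autFun β x = x) :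
    ∃ γ ∈ F.autGroup (V ⊔ normalizerIn Q V), (orderOf γ).Coprime p ∧
      (∀ x ∈ V, autFun γ x = autFun β x) ∧ ∀ u ∈ normalizerIn Q V, autFun γ u = u := by
  classical
  have hQn := le_normalizer_of_stronglyClosed hQ
  obtain ⟨V₁, hVV₁, hV₁⟩ := exists_fullyNormalized (F := F) hV
  obtain ⟨θ, hθ, hθV⟩ := exists_map_to_fullyNormalized hS hF hV₁ hVV₁
  subst hθV
  have hVN := le_normalizerIn (S := S) hV
  have hθV' := hθ.restrict hVN
  set V₁ := img θ V with hV₁def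
  have hV₁S : V₁ ≤ S := hV₁.1
  have hfinV : Finite V := finite_of_le hV
  have hfinV₁ : Finite V₁ := finite_of_le hV₁S
  obtain ⟨e, he⟩ := hθV'.exists_autEquiv
  obtain ⟨b, hb, hbc, hbe⟩ : ∃ b ∈ F.autGroup V₁, (orderOf b).Coprime p ∧
      ∀ x ∈ V, autFun b (θ x) = θ (autFun β x) :=
    ⟨_, (e ⟨β, hβ⟩).2, by rwa [Subgroup.orderOf_coe, MulEquiv.orderOf_eq, Subgroup.orderOf_mk],
      he ⟨β, hβ⟩⟩
  have hbm := isMap_of_mem_autGroup hV₁S hb
  obtain ⟨i, hi, hii, hiθ, -⟩ := hθV'.exists_inv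
  have hbQ : ∀ y ∈ V₁ ⊓ Q, autFun b y = y := by
    rintro y ⟨hy, hyQ⟩
    obtain ⟨x, hx, rfl⟩ := hθV'.mem_img.1 hy
    have hxQ : x ∈ Q := by
      have := stronglyClosed_mem hQ hi hy hyQ
      rwa [hiθ x hx] at this
    rw [hbe x hx, hβQ x ⟨hx, hxQ⟩]
  set X₁ := img θ X with hX₁
  have hX₁V : X₁ ≤ V₁ := img_mono θ hXV
  have hbX : ∀ y ∈ X₁, autFun b y = y := by
    intro y hy
    obtain ⟨x, hx, rfl⟩ := (hθV'.restrict hXV).mem_img.1 hy
    rw [hbe x (hXV hx), hβX x hx]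
  have hC₁ : centralizerIn Q X₁ ≤ V₁ := by
    have hm := hθV'.restrict hC
    have : Finite (centralizerIn Q X₁) := finite_of_le (centralizerIn_le.trans hQ.1)
    rw [← eq_of_le_card (card_cen hQ hθV' hXV hC) (hm.card_img.symm ▸
      hmax _ (hθV'.restrict hXV).isConj)]
    exact img_mono θ hC
  -- the extension
  set W := V₁ ⊔ normalizerIn Q V₁ with hW
  have hΔp : IsPGroup p (ProdLift.Delta F Q V₁) := by
    rintro ⟨a, -, hm, hfix⟩
    have : Finite (V₁ ⊓ Q : Subgroup Ω) := finite_of_le (inf_le_left.trans hV₁S)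
    obtain ⟨n, hn⟩ := ProdLift.fix_pow (hS.to_le (inf_le_left.trans hV₁S)) inf_le_left hfix
      (fun w hw => ⟨V₁.mul_mem (V₁.inv_mem hw) (autFun_mem a hw), hm w hw⟩)
    exact ⟨n, Subtype.ext hn⟩
  have hconj : ∀ a ∈ F.autGroup V₁, ∀ d : MulAut V₁, Moves Q V₁ (autFun d) →
      Moves Q V₁ (autFun (a * d * a⁻¹)) := by
    intro a ha d hd y hy
    have hm := isMap_of_mem_autGroup hV₁S ha
    set x := autFun a⁻¹ y with hx
    have hxV : x ∈ V₁ := autFun_mem _ hy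
    rw [autFun_mul, autFun_mul, ← hx, show y = autFun a x from (autFun_apply_inv a y).symm,
      ← hm.map_inv hxV, ← hm.map_mul (V₁.inv_mem hxV) (autFun_mem d hxV)]
    exact stronglyClosed_mem hQ hm (V₁.mul_mem (V₁.inv_mem hxV) (autFun_mem d hxV)) (hd x hxV)
  have hΔS : ProdLift.Delta F Q V₁ ≤ autInducedBy S V₁ := by
    have hs : SylIn p (autInducedBy S V₁) (F.autGroup V₁) :=
      ⟨autInducedBy_le hV₁S, isPGroup_autInducedBy hS,
        ((fullyAutomized_iff hS).1 (fullyNormalized_fullyAutomized hS hF hV₁)).2⟩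
    obtain ⟨c, hc, hle⟩ := hs.exists_conj (M := ProdLift.Delta F Q V₁) (fun d (hd : d ∈ ProdLift.Delta F Q V₁) => hd.1) hΔp
    intro d hd
    have hcd : c⁻¹ * d * c⁻¹⁻¹ ∈ ProdLift.Delta F Q V₁ := by
      have hc' := Subgroup.inv_mem _ hc
      refine ⟨mul_mem (mul_mem hc' hd.1) (inv_mem hc'), hconj _ hc' d hd.2.1, fun x hx => ?_⟩
      have hx' : autFun c⁻¹⁻¹ x ∈ V₁ ⊓ Q := ⟨autFun_mem _ hx.1, stronglyClosed_mem hQ
        (isMap_of_mem_autGroup hV₁S (inv_mem hc')) hx.1 hx.2⟩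
      rw [autFun_mul, autFun_mul, hd.2.2 _ hx', autFun_apply_inv]
    have h1 := hle (mem_img_self (cj c) hcd)
    rw [cj_apply, inv_inv] at h1
    simpa [mul_assoc] using h1
  have hWN : W ≤ nSub S V₁ (autFun b) := by
    refine sup_le (le_nSub hbm) fun u hu => ?_
    have huS : u ∈ normalizerIn S V₁ := ⟨hQ.1 hu.1, hu.2⟩
    set c := conjAut S V₁ ⟨u, huS⟩ with hc
    have hcF : c ∈ F.autGroup V₁ := autInducedBy_le hV₁S ((conjAut_range S V₁).le ⟨_, rfl⟩)
    have hcV : ∀ x ∈ V₁, autFun c x = u * x * u⁻¹ := fun x hx =>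
      conjAut_apply (K := S) ⟨u, huS⟩ hx
    have hcm : Moves Q V₁ (autFun c) := fun x hx => by
      rw [hcV x hx, show x⁻¹ * (u * x * u⁻¹) = x⁻¹ * u * x⁻¹⁻¹ * u⁻¹ by group]
      exact Q.mul_mem ((Subgroup.mem_normalizer_iff.1 (hQn (S.inv_mem (hV₁S hx))) u).1 hu.1)
        (Q.inv_mem hu.1)
    have hci : Moves Q V₁ (autFun c⁻¹) := fun x hx => by
      have h1 := Q.inv_mem (hcm _ (autFun_mem c⁻¹ hx))
      rwa [mul_inv_rev, inv_inv, autFun_apply_inv] at h1
    set d := b * c * b⁻¹ * c⁻¹ with hd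
    have hdΔ : d ∈ ProdLift.Delta F Q V₁ := by
      refine ⟨mul_mem (mul_mem (mul_mem hb hcF) (inv_mem hb)) (inv_mem hcF),
        moves_mul (hconj b hb c hcm) hci, fun x hx => ?_⟩
      have h1 : autFun c⁻¹ x ∈ V₁ ⊓ Q := ⟨autFun_mem _ hx.1,
        stronglyClosed_mem hQ (isMap_of_mem_autGroup hV₁S (inv_mem hcF)) hx.1 hx.2⟩
      have h2 : autFun b⁻¹ (autFun c⁻¹ x) = autFun c⁻¹ x := by
        conv_lhs => rw [← hbQ _ h1, autFun_inv_apply]
      rw [hd, autFun_mul, autFun_mul, autFun_mul, h2, autFun_apply_inv, hbQ x hx]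
    obtain ⟨s, hs, hse⟩ := mem_autInducedBy_iff'.1 (hΔS hdΔ)
    refine ⟨hQ.1 hu.1, hu.2, s * u, S.mul_mem hs.1 (hQ.1 hu.1), fun x hx => ?_⟩
    have hy := autFun_mem b hx
    have h2 := hse _ (autFun_mem c hy)
    rw [hd, autFun_mul, autFun_mul, autFun_mul, autFun_inv_apply, autFun_inv_apply,
      hcV x hx, hcV _ hy, cj_apply] at h2
    rw [h2]
    group
  obtain ⟨g, hg, hge⟩ := exists_extension hS hF hbm
    (by rw [autFun_img]; exact fullyNormalized_fullyCentralized hS hF hV₁)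
  have hg' := hg.restrict hWN
  have hWS : W ≤ S := hg'.le
  have hfinW : Finite W := finite_of_le hWS
  have himg : img g W = W := by
    refine eq_of_le_card ?_ hg'.card_img.ge
    rw [hW, hg'.img_sup, img_congr hge, autFun_img]
    refine sup_le_sup_left (img_le fun u hu => ?_) _
    refine ⟨stronglyClosed_mem hQ hg' (Subgroup.mem_sup_right hu) hu.1, ?_⟩
    have h1 := hg'.mem_normalizer_img le_sup_left (Subgroup.mem_sup_right hu) hu.2
    rwa [img_congr hge, autFun_img] at h1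
  obtain ⟨a₀, ha₀, ha₀e⟩ := hg'.exists_aut himg
  obtain ⟨k, hkc, hkV⟩ := GoodExtension.exists_pow_coprime (p := p) (le_sup_left : V₁ ≤ W)
    (a := a₀) (d := b) (fun x hx => by rw [ha₀e x (Subgroup.mem_sup_left hx), hge x hx]) hbc
  set a := a₀ ^ k with ha
  have haF : a ∈ F.autGroup W := pow_mem ha₀ k
  have ham := isMap_of_mem_autGroup hWS haF
  have hfix : ∀ u ∈ normalizerIn Q V₁, autFun a u = u := by
    intro u hu
    have huW : u ∈ W := Subgroup.mem_sup_right hu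
    have hu' := stronglyClosed_mem hQ ham huW hu.1
    set u' := autFun a u with hu'd
    set w := u⁻¹ * u' with hw
    have hwQ : w ∈ Q := Q.mul_mem (Q.inv_mem hu.1) hu'
    have hwX : w ∈ Subgroup.centralizer (X₁ : Set Ω) := by
      intro x hx
      have hxV := hX₁V hx
      have hxW : x ∈ W := Subgroup.mem_sup_left hxV
      have hz : x * u * x⁻¹ * u⁻¹ ∈ V₁ ⊓ Q := by
        refine ⟨?_, Q.mul_mem ((Subgroup.mem_normalizer_iff.1 (hQn (hV₁S hxV)) u).1 hu.1)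
          (Q.inv_mem hu.1)⟩
        rw [show x * u * x⁻¹ * u⁻¹ = x * (u * x⁻¹ * u⁻¹) by group]
        exact V₁.mul_mem hxV ((Subgroup.mem_normalizer_iff.1 hu.2 _).1 (V₁.inv_mem hxV))
      have h1 := hkV _ hz.1
      rw [hbQ _ hz, ham.map_mul (W.mul_mem (W.mul_mem hxW huW) (W.inv_mem hxW)) (W.inv_mem huW),
        ham.map_conj hxW huW, ham.map_inv huW, ← hu'd, hkV x hxV, hbX x hx] at h1
      have h2 : u' * x⁻¹ * u'⁻¹ = u * x⁻¹ * u⁻¹ := by
        calc u' * x⁻¹ * u'⁻¹ = x⁻¹ * (x * u' * x⁻¹ * u'⁻¹) := by group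
          _ = x⁻¹ * (x * u * x⁻¹ * u⁻¹) := by rw [h1]
          _ = u * x⁻¹ * u⁻¹ := by group
      have h3 : w * x⁻¹ = x⁻¹ * w := by
        calc w * x⁻¹ = u⁻¹ * (u' * x⁻¹ * u'⁻¹) * u' := by rw [hw]; group
          _ = u⁻¹ * (u * x⁻¹ * u⁻¹) * u' := by rw [h2]
          _ = x⁻¹ * w := by rw [hw]; group
      calc x * w = x * (w * x⁻¹) * x := by group
        _ = x * (x⁻¹ * w) * x := by rw [h3]
        _ = w * x := by group
    have hwV : w ∈ V₁ ⊓ Q := ⟨hC₁ ⟨hwQ, hwX⟩, hwQ⟩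
    have hpow : ∀ n : ℕ, autFun (a ^ n) u = u * w ^ n := by
      intro n
      induction n with
      | zero => rw [pow_zero, autFun_one, pow_zero, mul_one]; rfl
      | succ n ih =>
        have hwn : w ^ n ∈ V₁ ⊓ Q := Subgroup.pow_mem _ hwV n
        rw [pow_succ', autFun_mul, ih, ham.map_mul huW (Subgroup.mem_sup_left hwn.1),
          hkV _ hwn.1, hbQ _ hwn, ← hu'd, pow_succ', ← mul_assoc, hw, mul_inv_cancel_left]
    have h1 := hpow (orderOf a)
    rw [pow_orderOf_eq_one, autFun_one, id] at h1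
    obtain ⟨l, hl⟩ := hS ⟨w, hQ.1 hwQ⟩
    have h3 : w = 1 := Elementwise.eq_one_of_coprime_pow ⟨l, congrArg Subtype.val hl⟩ hkc
      (mul_eq_left.1 h1.symm)
    rw [hw, inv_mul_eq_one] at h3
    exact h3.symm
  -- back to `V`
  set U := V ⊔ normalizerIn Q V with hU
  have hUN : U ≤ normalizerIn S V := sup_le hVN (inf_le_inf_right _ hQ.1)
  have hθU := hθ.restrict hUN
  have hUW : ∀ u ∈ normalizerIn Q V, θ u ∈ normalizerIn Q V₁ := fun u hu =>
    ⟨stronglyClosed_mem hQ hθU (Subgroup.mem_sup_right hu) hu.1,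
      hθU.mem_normalizer_img le_sup_left (Subgroup.mem_sup_right hu) hu.2⟩
  have hθUW : img θ U ≤ W := by
    rw [hU, hθU.img_sup]
    exact sup_le_sup_left (img_le hUW) _
  obtain ⟨j, hj, hji, hjθ, -⟩ := hθU.exists_inv
  have ham' := ham.restrict hθUW
  have haimg : img (autFun a) (img θ U) = img θ U := by
    rw [hU, hθU.img_sup] at ham' ⊢
    rw [ham'.img_sup, img_congr hkV, autFun_img, img_congr (g := id) fun y hy => ?_, img_id]
    obtain ⟨u, hu, rfl⟩ := (hθU.restrict le_sup_right).mem_img.1 hy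
    exact hfix _ (hUW u hu)
  have hm : IsMap F U fun x => j (autFun a (θ x)) :=
    hj.comp (ham'.comp hθU fun x hx => mem_img_self θ hx)
      fun x hx => haimg.le (mem_img_self _ (mem_img_self θ hx))
  have hfinU : Finite U := finite_of_le (hUN.trans normalizerIn_le)
  have hmU : img (fun x => j (autFun a (θ x))) U = U := by
    refine eq_of_le_card (img_le fun x hx => ?_) hm.card_img.ge
    exact hji.le (mem_img_self j (haimg.le (mem_img_self _ (mem_img_self θ hx))))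
  obtain ⟨γ₀, hγ₀, hγ₀e⟩ := hm.exists_aut hmU
  have hγV : ∀ x ∈ V, autFun γ₀ x = autFun β x := fun x hx => by
    rw [hγ₀e x (Subgroup.mem_sup_left hx), hkV _ (mem_img_self θ hx), hbe x hx,
      hjθ _ (Subgroup.mem_sup_left (autFun_mem β hx))]
  obtain ⟨l, hlc, hlV⟩ := GoodExtension.exists_pow_coprime (p := p) (le_sup_left : V ≤ U)
    hγV hβc
  refine ⟨γ₀ ^ l, pow_mem hγ₀ l, hlc, hlV, fun u hu => ?_⟩
  have h1 : autFun γ₀ u = u := by
    rw [hγ₀e u (Subgroup.mem_sup_right hu), hfix _ (hUW u hu), hjθ u (Subgroup.mem_sup_right hu)]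
  clear hlc hlV
  induction l with
  | zero => rw [pow_zero, autFun_one]; rfl
  | succ n ih => rw [pow_succ, autFun_mul, h1, ih]

/-- The extension to `V Q`. -/
theorem fix_ext (hS : IsPGroup p S) (hF : F.IsSaturated p) (hQ : F.StronglyClosed Q)
    (hmax : ∀ Z, F.IsConj X Z → Nat.card (centralizerIn Q Z) ≤ Nat.card (centralizerIn Q X))
    (hV : V ≤ S) (hXV : X ≤ V) (hC : centralizerIn Q X ≤ V) {β : MulAut V}
    (hβ : β ∈ F.autGroup V) (hβc : (orderOf β).Coprime p)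
    (hβX : ∀ x ∈ X, autFun β x = x) (hβQ : ∀ x ∈ V ⊓ Q, autFun β x = x) :
    ∃ g, IsMap F (V ⊔ Q) g ∧ (∀ x ∈ V, g x = autFun β x) ∧ ∀ q ∈ Q, g q = q := by
  induction hn : Nat.card S - Nat.card V using Nat.strong_induction_on generalizing V with
  | _ n ih =>
  by_cases hQV : Q ≤ V
  · refine ⟨autFun β, ?_, fun x _ => rfl, fun q hq => hβQ q ⟨hQV hq, hq⟩⟩
    rw [sup_eq_left.2 hQV]
    exact isMap_of_mem_autGroup hV hβ
  obtain ⟨γ, hγ, hγc, hγV, hγQ⟩ := fix_step hS hF hQ hmax hV hXV hC hβ hβc hβX hβQ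
  let U := V ⊔ normalizerIn Q V
  have hUS : U ≤ S := sup_le hV (normalizerIn_le.trans hQ.1)
  have hlt : V < U := by
    refine left_lt_sup.2 fun hle => ?_
    have hVQ : V ⊔ Q ≤ S := sup_le hV hQ.1
    have : Finite (V ⊔ Q : Subgroup Ω) := finite_of_le hVQ
    obtain ⟨w, hw, hwV⟩ := exists_mem_normalizer_not_mem (hS.to_le hVQ) (left_lt_sup.2 hQV)
    obtain ⟨x, hx, t, ht, he⟩ : ∃ x ∈ V, ∃ t ∈ Q, x * t = w := by
      have h1 : w ∈ ((V ⊔ Q : Subgroup Ω) : Set Ω) := hw.1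
      rwa [Subgroup.coe_mul_of_left_le_normalizer_right V Q
        (hV.trans (le_normalizer_of_stronglyClosed hQ))] at h1
    refine hwV (he ▸ V.mul_mem hx (hle ⟨ht, ?_⟩))
    rw [show t = x⁻¹ * w by rw [← he, inv_mul_cancel_left]]
    exact Subgroup.mul_mem _ (Subgroup.inv_mem _ (Subgroup.le_normalizer hx)) hw.2
  have hfinU : Finite U := finite_of_le hUS
  have h1 := card_lt_card hlt
  have h2 := card_le_card hUS
  have hUQ : ∀ x ∈ U ⊓ Q, autFun γ x = x := by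
    rintro x ⟨hxU, hxQ⟩
    obtain ⟨v, hv, w, hw, rfl⟩ : ∃ v ∈ V, ∃ w ∈ normalizerIn Q V, v * w = x := by
      have h1 : x ∈ ((V ⊔ normalizerIn Q V : Subgroup Ω) : Set Ω) := hxU
      rwa [Subgroup.coe_mul_of_right_le_normalizer_left _ _
        (fun u hu => hu.2 : normalizerIn Q V ≤ _)] at h1
    have hvQ : v ∈ Q := by
      have := Q.mul_mem hxQ (Q.inv_mem hw.1)
      rwa [mul_inv_cancel_right] at this
    rw [autFun_isHom γ _ (Subgroup.mem_sup_left hv) _ (Subgroup.mem_sup_right hw), hγV v hv,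
      hβQ v ⟨hv, hvQ⟩, hγQ w hw]
  obtain ⟨g, hg, hge, hgQ⟩ := ih (Nat.card S - Nat.card U) (by omega) hUS (hXV.trans le_sup_left)
    (hC.trans le_sup_left) hγ hγc
    (fun x hx => by rw [hγV x (hXV hx), hβX x hx]) hUQ rfl
  refine ⟨g, hg.restrict (sup_le_sup_right le_sup_left Q), fun x hx => ?_, hgQ⟩
  rw [hge x (Subgroup.mem_sup_left hx), hγV x hx]

end Cfsg.Agent.Fusion.BalanceFix
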