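/-
The maps composed of the automorphisms in `A(X)` and of conjugations by elements of `T`; with
conjugations by `R` they form a fusion system on `R`.
-/
import Mathlib
import Cfsg.Agent.Lib.Fusion.ProdLift

set_option autoImplicit false
set_option linter.all false

namespace Cfsg.Agent.Fusion.ProdSys

open Cfsg Cfsg.FusionSystem Cfsg.Agent.Fusion.Basic Cfsg.Agent.Fusion.Saturation
  Cfsg.Agent.Fusion.Normal Cfsg.Agent.Fusion.Factor Cfsg.Agent.Fusion.Subsystems
  Cfsg.Agent.Fusion.KNormalizer Cfsg.Agent.Fusion.SylIn Cfsg.Agent.Fusion.Prod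

variable {Ω : Type*} [Group Ω] {S T : Subgroup Ω}

/-- The maps composed of the automorphisms in `A(X)` and of conjugations by elements of `T`. -/
inductive Y (F : FusionSystem S) (E : FusionSystem T) (p : ℕ) : Subgroup Ω → (Ω → Ω) → Prop
  | auto {P X : Subgroup Ω} {a : MulAut X} : Cen S E X → a ∈ A F E p X → P ≤ X → X ≤ P ⊔ T →
      Y F E p P (autFun a)
  | conj {P : Subgroup Ω} {t : Ω} : P ≤ S → t ∈ T → Y F E p P (cj t)
  | comp {P : Subgroup Ω} {f g : Ω → Ω} : Y F E p P f → Y F E p (img f P) g →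
      Y F E p P (fun x => g (f x))
  | congr {P : Subgroup Ω} {f g : Ω → Ω} : Y F E p P f → (∀ x ∈ P, f x = g x) → Y F E p P g

/-- Composed with a conjugation by an element of `R`. -/
def DMap (F : FusionSystem S) (E : FusionSystem T) (p : ℕ) (R P : Subgroup Ω) (f : Ω → Ω) : Prop :=
  P ≤ R ∧ ∃ r ∈ R, ∃ y, Y F E p P y ∧ ∀ x ∈ P, f x = cj r (y x)

variable {F : FusionSystem S} {E : FusionSystem T} {p : ℕ} [Finite S] [Fact p.Prime]
  (h : Base F E p) {P P' Q X R : Subgroup Ω} {f g : Ω → Ω}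
include h

theorem conj_moves {t x : Ω} (hx : x ∈ S) (ht : t ∈ T) : x⁻¹ * cj t x ∈ T := by
  have h1 := T.mul_mem (conj_T h (S.inv_mem hx) ht) (T.inv_mem ht)
  rw [inv_inv] at h1
  rwa [cj_apply, ← mul_assoc, ← mul_assoc]

theorem isMap (hf : Y F E p P f) : IsMap F P f := by
  induction hf with
  | auto hX ha hPX _ => exact (isMap_of_mem_autGroup hX.1 (A_le_F h hX.1 ha)).restrict hPX
  | conj hP ht => exact isMap_cj hP (T_le h ht)
  | comp _ _ ihf ihg => exact ihg.comp ihf fun x hx => mem_img_self _ hx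
  | congr _ he ih => exact ih.congr he

theorem moves (hf : Y F E p P f) : Moves T P f := by
  induction hf with
  | auto hX ha hPX _ => exact fun x hx => (A_le_hat h hX.1 ha).2.1 x (hPX hx)
  | conj hP ht => exact fun x hx => conj_moves h (hP hx) ht
  | comp _ _ ihf ihg => exact moves_comp ihf ihg fun x hx => mem_img_self _ hx
  | congr _ he ih => exact moves_congr ih he

omit h in
theorem img_le_sup (hm : Moves T P f) : img f P ≤ P ⊔ T := img_le fun x hx => by
  obtain ⟨t, ht, hte⟩ := moves_mem hm hx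
  exact hte ▸ Subgroup.mul_mem_sup hx ht

theorem sup_eq (hf : Y F E p P f) : img f P ⊔ T = P ⊔ T := by
  refine le_antisymm (sup_le (img_le_sup (moves h hf)) le_sup_right)
    (sup_le (fun x hx => ?_) le_sup_right)
  obtain ⟨t, ht, hte⟩ := moves_mem (moves h hf) hx
  rw [← mul_inv_cancel_right x t, ← hte]
  exact Subgroup.mul_mem_sup (mem_img_self f hx) (T.inv_mem ht)

theorem isMapE (hf : Y F E p P f) : IsMap E (P ⊓ T) f := by
  induction hf with
  | @auto P X a hX ha hPX _ =>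
    obtain ⟨-, -, b, hb, hbe⟩ := A_le_hat h hX.1 ha
    exact ((isMap_of_mem_autGroup inf_le_right hb).restrict (inf_le_inf_right T hPX)).congr
      fun x hx => hbe x ⟨hPX hx.1, hx.2⟩
  | conj _ ht => exact isMap_cj inf_le_right ht
  | comp _ _ ihf ihg =>
    exact ihg.comp ihf fun x hx => ⟨mem_img_self _ hx.1, ihf.mem hx⟩
  | congr _ he ih => exact ih.congr fun x hx => he x hx.1

/-- `A(X)` restricts to the subgroups cut out by overgroups of `T`. -/
theorem A_restrict {U : Subgroup Ω} (hTU : T ≤ U) (hX : X ≤ S) {a : MulAut X}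
    (ha : a ∈ A F E p X) :
    ∃ c ∈ A F E p (X ⊓ U), ∀ x ∈ X ⊓ U, autFun c x = autFun a x := by
  induction ha using Subgroup.closure_induction with
  | mem b hb =>
    obtain ⟨c, hc, -, hce⟩ := restrict_gen h hX (inf_le_left : X ⊓ U ≤ X) hb.1 hb.2 fun x hx => by
      obtain ⟨t, ht, hte⟩ := moves_mem hb.1.2.1 hx.1
      exact ⟨autFun_mem b hx.1, hte ▸ U.mul_mem hx.2 (hTU ht)⟩
    exact ⟨c, hc, hce⟩
  | one => exact ⟨1, one_mem _, fun x _ => by rw [autFun_one, autFun_one]⟩
  | mul a b _ _ iha ihb =>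
    obtain ⟨c, hc, hce⟩ := iha
    obtain ⟨d, hd, hde⟩ := ihb
    refine ⟨c * d, mul_mem hc hd, fun x hx => ?_⟩
    rw [autFun_mul, autFun_mul, ← hde x hx, hce _ (autFun_mem d hx)]
  | inv a _ iha =>
    obtain ⟨c, hc, hce⟩ := iha
    refine ⟨c⁻¹, inv_mem hc, fun x hx => ?_⟩
    conv_rhs => rw [← autFun_apply_inv c x, hce _ (autFun_mem _ hx), autFun_inv_apply]

theorem restrict (hf : Y F E p P f) : ∀ Q ≤ P, Y F E p Q f := by
  induction hf with
  | @auto P X a hX ha hPX _ =>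
    intro Q hQP
    obtain ⟨c, hc, hce⟩ := A_restrict h (le_sup_right : T ≤ Q ⊔ T) hX.1 ha
    have hle : X ⊓ T ≤ (X ⊓ (Q ⊔ T)) ⊓ T :=
      le_inf (inf_le_inf_left X le_sup_right) inf_le_right
    have hX' : Cen S E (X ⊓ (Q ⊔ T)) := by
      refine ⟨inf_le_left.trans hX.1, ?_⟩
      rw [le_antisymm (inf_le_inf_right T inf_le_left) hle]
      exact hX.2
    have hQX : Q ≤ X ⊓ (Q ⊔ T) := le_inf (hQP.trans hPX) le_sup_left
    exact (Y.auto hX' hc hQX inf_le_right).congr fun x hx => hce x (hQX hx)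
  | conj hP ht => exact fun Q hQP => .conj (hQP.trans hP) ht
  | comp _ _ ihf ihg =>
    exact fun Q hQP => .comp (ihf Q hQP) (ihg _ (img_mono _ hQP))
  | congr _ he ih => exact fun Q hQP => (ih Q hQP).congr fun x hx => he x (hQP hx)

theorem id_map (hP : P ≤ S) : Y F E p P id :=
  (Y.conj hP T.one_mem).congr fun x _ => by rw [cj_one]

theorem auto_self (hX : Cen S E X) {a : MulAut X} (ha : a ∈ A F E p X) :
    Y F E p X (autFun a) :=
  .auto hX ha le_rfl le_sup_left

theorem inv_map (hf : Y F E p P f) :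
    ∃ i, Y F E p (img f P) i ∧ ∀ x ∈ P, i (f x) = x := by
  induction hf with
  | @auto P X a hX ha hPX hXP =>
    refine ⟨autFun a⁻¹, .auto hX (inv_mem ha) (img_le fun x hx => autFun_mem a (hPX hx)) ?_,
      fun x _ => autFun_inv_apply a x⟩
    rwa [sup_eq h (Y.auto hX ha hPX hXP)]
  | @conj P t hP ht =>
    exact ⟨cj t⁻¹, .conj (isMap_cj (F := F) hP (T_le h ht)).img_le_S (T.inv_mem ht),
      fun x _ => cj_inv_cj t x⟩
  | @comp P f g hf hg ihf ihg =>
    obtain ⟨i, hi, hif⟩ := ihf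
    obtain ⟨j, hj, hjg⟩ := ihg
    have hfm := isMap h hf
    have e : img g (img f P) = img (fun x => g (f x)) P := hfm.img_img g
    rw [e] at hj
    have e' : img j (img (fun x => g (f x)) P) = img f P := by
      rw [← e, (isMap h hg).img_img, img_congr (g := id) hjg, img_id]
    refine ⟨fun z => i (j z), .comp hj (e'.symm ▸ hi), fun x hx => ?_⟩
    show i (j (g (f x))) = x
    rw [hjg _ (mem_img_self f hx), hif x hx]
  | @congr P f g _ he ih =>
    obtain ⟨i, hi, hif⟩ := ih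
    rw [img_congr he] at hi
    exact ⟨i, hi, fun x hx => he x hx ▸ hif x hx⟩

omit h in
/-- A map defined on `T` permutes its elements. -/
theorem img_T {h : Base F E p} (hg : IsMap F X g) (hT : T ≤ X) : img g T = T :=
  Normal.stronglyClosed_img (closed h) hg hT

theorem transport {γ : Ω → Ω} (hf : Y F E p P f) (hγ : IsMap F (P ⊔ T) γ) :
    ∃ f', Y F E p (img γ P) f' ∧ ∀ x ∈ P, f' (γ x) = γ (f x) := by
  induction hf generalizing γ with
  | @auto P X a hX ha hPX hXP =>
    have hγX := hγ.restrict hXP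
    obtain ⟨a', ha', ha'e⟩ := A_transport h hγX rfl ha
    refine ⟨autFun a', .auto (cen_map h hX hγX) ha' (img_mono γ hPX) ?_, fun x hx => ha'e x (hPX hx)⟩
    refine (img_mono γ hXP).trans ?_
    rw [IsMap.img_sup hγ, img_T (h := h) hγ le_sup_right]
  | @conj P t hP ht =>
    have htm : t ∈ P ⊔ T := Subgroup.mem_sup_right ht
    exact ⟨cj (γ t), .conj (hγ.restrict le_sup_left).img_le_S
      (stronglyClosed_mem (closed h) hγ htm ht), fun x hx =>
        (hγ.map_conj htm (Subgroup.mem_sup_left hx)).symm⟩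
  | @comp P f g hf hg ihf ihg =>
    obtain ⟨f', hf', hf'e⟩ := ihf hγ
    obtain ⟨g', hg', hg'e⟩ := ihg ((sup_eq h hf).symm ▸ hγ)
    have e : img f' (img γ P) = img γ (img f P) := by
      rw [(hγ.restrict le_sup_left).img_img, (isMap h hf).img_img, img_congr hf'e]
    refine ⟨fun z => g' (f' z), .comp hf' (e.symm ▸ hg'), fun x hx => ?_⟩
    show g' (f' (γ x)) = _
    rw [hf'e x hx, hg'e _ (mem_img_self f hx)]
  | @congr P f g _ he ih =>
    obtain ⟨f', hf', hf'e⟩ := ih hγ
    exact ⟨f', hf', fun x hx => by rw [hf'e x hx, he x hx]⟩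

/-- Conjugations permute the maps. -/
theorem transport_cj {s : Ω} (hs : s ∈ S) (hf : Y F E p P f) :
    ∃ f', Y F E p (img (cj s) P) f' ∧ ∀ x ∈ P, f' (cj s x) = cj s (f x) :=
  transport h hf (isMap_cj (sup_le (isMap h hf).le (T_le h)) hs)

variable (hTR : T ≤ R) (hRS : R ≤ S)
include hTR hRS

theorem dmap_isMap (hf : DMap F E p R P f) : IsMap F P f := by
  obtain ⟨-, r, hr, y, hy, he⟩ := hf
  have hm := isMap h hy
  exact ((isMap_cj hm.img_le_S (hRS hr)).comp hm fun x hx => mem_img_self y hx).congr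
    fun x hx => (he x hx).symm

theorem dmap_mem (hf : DMap F E p R P f) {x : Ω} (hx : x ∈ P) : f x ∈ R := by
  obtain ⟨hPR, r, hr, y, hy, he⟩ := hf
  have hyR : y x ∈ R := sup_le hPR hTR (img_le_sup (moves h hy) (mem_img_self y hx))
  rw [he x hx, cj_apply]
  exact R.mul_mem (R.mul_mem hr hyR) (R.inv_mem hr)

omit hTR hRS in
theorem dmap_of_Y (hPR : P ≤ R) (hf : Y F E p P f) : DMap F E p R P f :=
  ⟨hPR, 1, R.one_mem, f, hf, fun x _ => by rw [cj_one]; rfl⟩

omit hTR in
theorem dmap_cj (hPR : P ≤ R) {r : Ω} (hr : r ∈ R) : DMap F E p R P (cj r) :=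
  ⟨hPR, r, hr, id, id_map h (hPR.trans hRS), fun _ _ => rfl⟩

omit hTR hRS in
theorem dmap_congr (hf : DMap F E p R P f) (he : ∀ x ∈ P, f x = g x) : DMap F E p R P g := by
  obtain ⟨hPR, r, hr, y, hy, hye⟩ := hf
  exact ⟨hPR, r, hr, y, hy, fun x hx => he x hx ▸ hye x hx⟩

omit hTR hRS in
theorem dmap_restrict (hf : DMap F E p R P f) (hQ : Q ≤ P) : DMap F E p R Q f := by
  obtain ⟨hPR, r, hr, y, hy, he⟩ := hf
  exact ⟨hQ.trans hPR, r, hr, y, restrict h hy Q hQ, fun x hx => he x (hQ hx)⟩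

theorem dmap_comp (hf : DMap F E p R P f) (hg : DMap F E p R Q g) (hPQ : ∀ x ∈ P, f x ∈ Q) :
    DMap F E p R P fun x => g (f x) := by
  obtain ⟨-, s, hs, z, hz, hge⟩ := dmap_restrict h hg (img_le hPQ : img f P ≤ Q)
  obtain ⟨hPR, r, hr, y, hy, hfe⟩ := hf
  have e1 : img f P = img (cj r) (img y P) := by
    rw [(isMap h hy).img_img]
    exact img_congr hfe
  obtain ⟨z', hz', hz'e⟩ := transport_cj h (S.inv_mem (hRS hr)) hz
  have e2 : img (cj r⁻¹) (img f P) = img y P := by
    rw [e1, (isMap_cj (F := F) (isMap h hy).img_le_S (hRS hr)).img_img,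
      img_congr (g := id) fun x _ => cj_inv_cj r x, img_id]
  rw [e2] at hz'
  refine ⟨hPR, s * r, R.mul_mem hs hr, fun x => z' (y x), .comp hy hz', fun x hx => ?_⟩
  show g (f x) = cj (s * r) (z' (y x))
  have h1 := hz'e _ (mem_img_self f hx)
  rw [hfe x hx, cj_inv_cj] at h1
  rw [hge _ (mem_img_self f hx), h1, ← hfe x hx, ← cj_mul, mul_assoc, mul_inv_cancel, mul_one]

theorem dmap_inv (hf : DMap F E p R P f) :
    ∃ i, DMap F E p R (img f P) i ∧ ∀ x ∈ P, i (f x) = x := by
  obtain ⟨hPR, r, hr, y, hy, he⟩ := hf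
  obtain ⟨i, hi, hiy⟩ := inv_map h hy
  obtain ⟨i', hi', hi'e⟩ := transport_cj h (hRS hr) hi
  have e : img f P = img (cj r) (img y P) := by
    rw [(isMap h hy).img_img]
    exact img_congr he
  refine ⟨fun z => cj r⁻¹ (i' z), ⟨?_, r⁻¹, R.inv_mem hr, i', e.symm ▸ hi', fun _ _ => rfl⟩,
    fun x hx => ?_⟩
  · exact img_le fun x hx => dmap_mem h hTR hRS ⟨hPR, r, hr, y, hy, he⟩ hx
  · show cj r⁻¹ (i' (f x)) = x
    rw [he x hx, hi'e _ (mem_img_self y hx), hiy x hx, cj_inv_cj]

/-- These maps form a fusion system on `R`. -/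
theorem exists_sys : ∃ D : FusionSystem R, ∀ P f, IsMap D P f ↔ DMap F E p R P f := by
  let D : FusionSystem R :=
    { Hom := fun P => {φ | DMap F E p R P (ext φ)}
      le_of_mem := fun {P φ} hφ => ⟨hφ.1, fun x =>
        ext_apply φ x ▸ dmap_mem h hTR hRS hφ x.2⟩
      injective_of_mem := fun {P φ} hφ x y hxy => Subtype.ext
        ((dmap_isMap h hTR hRS hφ).inj x.2 y.2
          ((ext_apply φ x).trans (hxy.trans (ext_apply φ y).symm)))
      conj_mem := fun {P g} hP hg => dmap_congr h (dmap_cj h hRS hP hg)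
        fun x hx => by rw [ext_of_mem _ hx]; rfl
      comp_mem := by
        intro P Q φ ψ hφ hψ h'
        refine dmap_congr h (dmap_comp h hTR hRS hφ hψ fun x hx => by
          rw [ext_of_mem φ hx]; exact h' _) fun x hx => ?_
        rw [ext_of_mem φ hx, ext_of_mem ψ (h' ⟨x, hx⟩), ext_of_mem _ hx]
        rfl
      inv_mem := by
        intro P φ hφ
        obtain ⟨i, hi, hif⟩ := dmap_inv h hTR hRS hφ
        have him := dmap_isMap h hTR hRS hi
        rw [← range_eq_img] at hi him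
        refine ⟨him.hom, dmap_congr h hi fun x hx => ?_, fun z => ?_⟩
        · rw [ext_of_mem _ hx]; rfl
        · show i (φ z) = _
          rw [← ext_apply φ z, hif z z.2] }
  refine ⟨D, fun P f => ⟨?_, fun hf => ?_⟩⟩
  · rintro ⟨φ, hφ, hφf⟩
    exact dmap_congr h hφ fun x hx => by rw [ext_of_mem φ hx]; exact hφf ⟨x, hx⟩
  · have hm := dmap_isMap h hTR hRS hf
    exact ⟨hm.hom, dmap_congr h hf fun x hx => by rw [ext_of_mem _ hx]; rfl, fun x => rfl⟩

end Cfsg.Agent.Fusion.ProdSys
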