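/-
Every map of `F` on `P` is the composite of a map built from `A(X)` and `T` with a map on `P T`.
-/
import Mathlib
import Cfsg.Agent.Lib.Fusion.ProdSys
import Cfsg.Agent.Lib.Fusion.Group

set_option autoImplicit false
set_option linter.all false

namespace Cfsg.Agent.Fusion.ProdFac

open Cfsg Cfsg.FusionSystem Cfsg.Agent.Fusion.Basic Cfsg.Agent.Fusion.Saturation
  Cfsg.Agent.Fusion.Normal Cfsg.Agent.Fusion.Factor Cfsg.Agent.Fusion.Subsystems
  Cfsg.Agent.Fusion.KNormalizer Cfsg.Agent.Fusion.SylIn Cfsg.Agent.Fusion.Prod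
  Cfsg.Agent.Fusion.ProdSys Cfsg.Agent.Fusion.ProdLift

variable {Ω : Type*} [Group Ω] {S T : Subgroup Ω}

/-- `f` on `P` is a map of the product followed by a map defined on `P T`. -/
def Fac (F : FusionSystem S) (E : FusionSystem T) (p : ℕ) (P : Subgroup Ω) (f : Ω → Ω) : Prop :=
  ∃ γ y : Ω → Ω, Y F E p P y ∧ IsMap F (P ⊔ T) γ ∧ ∀ x ∈ P, f x = γ (y x)

/-- All maps on subgroups of order more than `n` factor. -/
def FacAbove (F : FusionSystem S) (E : FusionSystem T) (p n : ℕ) : Prop :=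
  ∀ (W : Subgroup Ω) (g : Ω → Ω), IsMap F W g → n < Nat.card W → Fac F E p W g

variable {F : FusionSystem S} {E : FusionSystem T} {p : ℕ} [Finite S] [Fact p.Prime]
  (h : Base F E p) {P P' Q X : Subgroup Ω} {f g : Ω → Ω}
include h

theorem fac_of_Y (hf : Y F E p P f) : Fac F E p P f :=
  ⟨id, f, hf, isMap_id (sup_le (isMap h hf).le (T_le h)), fun _ _ => rfl⟩

theorem fac_of_map (hf : IsMap F (P ⊔ T) f) : Fac F E p P f :=
  ⟨f, id, id_map h (le_sup_left.trans hf.le), hf, fun _ _ => rfl⟩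

omit h in
theorem fac_congr (hf : Fac F E p P f) (he : ∀ x ∈ P, f x = g x) : Fac F E p P g :=
  let ⟨γ, y, hy, hγ, hfe⟩ := hf
  ⟨γ, y, hy, hγ, fun x hx => he x hx ▸ hfe x hx⟩

theorem fac_restrict (hf : Fac F E p P f) (hQ : Q ≤ P) : Fac F E p Q f :=
  let ⟨γ, y, hy, hγ, hfe⟩ := hf
  ⟨γ, y, restrict h hy Q hQ, hγ.restrict (sup_le_sup_right hQ T), fun x hx => hfe x (hQ hx)⟩

theorem fac_comp (hf : Fac F E p P f) (hg : Fac F E p (img f P) g) :
    Fac F E p P fun x => g (f x) := by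
  obtain ⟨γ₁, y₁, hy₁, hγ₁, hfe⟩ := hf
  obtain ⟨γ₂, y₂, hy₂, hγ₂, hge⟩ := hg
  have hy₁P : img y₁ P ≤ P ⊔ T := img_le_sup (moves h hy₁)
  have e1 : img f P = img γ₁ (img y₁ P) := by
    rw [(isMap h hy₁).img_img]
    exact img_congr hfe
  have e2 : img γ₁ (P ⊔ T) = img f P ⊔ T := by
    rw [← sup_eq h hy₁] at hγ₁ ⊢
    rw [IsMap.img_sup hγ₁, img_T (h := h) hγ₁ le_sup_right, e1]
  obtain ⟨i, hi, -, hiγ, -⟩ := hγ₁.exists_inv
  rw [e2] at hi
  obtain ⟨y₂', hy₂', hy₂'e⟩ := transport h hy₂ hi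
  have e3 : img i (img f P) = img y₁ P := by
    rw [e1, (hγ₁.restrict hy₁P).img_img, img_congr (g := id) fun x hx => hiγ x (hy₁P hx), img_id]
  rw [e3] at hy₂'
  refine ⟨fun x => γ₂ (γ₁ x), fun x => y₂' (y₁ x), .comp hy₁ hy₂',
    hγ₂.comp hγ₁ fun x hx => e2.le (mem_img_self γ₁ hx), fun x hx => ?_⟩
  show g (f x) = γ₂ (γ₁ (y₂' (y₁ x)))
  have hfx : f x ∈ img f P := mem_img_self f hx
  have h1 := hy₂'e _ hfx
  have hiy : i (f x) = y₁ x := by rw [hfe x hx, hiγ _ (hy₁P (mem_img_self y₁ hx))]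
  rw [hiy] at h1
  have hy2m : y₂ (f x) ∈ img γ₁ (P ⊔ T) :=
    e2.symm.le (img_le_sup (moves h hy₂) (mem_img_self y₂ hfx))
  obtain ⟨z, hz, hze⟩ := hγ₁.mem_img.1 hy2m
  rw [hge _ hfx, h1, ← hze, hiγ z hz]

theorem fac_inv (hf : Fac F E p P f) : ∃ i, Fac F E p (img f P) i ∧ ∀ x ∈ P, i (f x) = x := by
  obtain ⟨γ, y, hy, hγ, hfe⟩ := hf
  have hyP : img y P ≤ P ⊔ T := img_le_sup (moves h hy)
  obtain ⟨i, hi, hii, hiγ, -⟩ := hγ.exists_inv
  obtain ⟨z, hz, hzy⟩ := inv_map h hy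
  have e1 : img f P = img γ (img y P) := by
    rw [(isMap h hy).img_img]
    exact img_congr hfe
  have hle : img f P ⊔ T ≤ img γ (P ⊔ T) :=
    sup_le (e1 ▸ img_mono γ hyP) ((img_T (h := h) hγ le_sup_right).ge.trans (img_mono γ le_sup_right))
  have h1 : Fac F E p (img f P) i := fac_of_map h (hi.restrict hle)
  have e2 : img i (img f P) = img y P := by
    rw [e1, (hγ.restrict hyP).img_img, img_congr (g := id) fun x hx => hiγ x (hyP hx), img_id]
  refine ⟨fun w => z (i w), fac_comp h h1 (e2.symm ▸ fac_of_Y h hz), fun x hx => ?_⟩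
  show z (i (f x)) = x
  rw [hfe x hx, hiγ _ (hyP (mem_img_self y hx)), hzy x hx]

/-- A `p`-subgroup not containing `T` has elements of `T` outside normalizing it. -/
theorem exists_outside (hP : P ≤ S) (hT : ¬ T ≤ P) : ∃ t ∈ normalizerIn T P, t ∉ P := by
  have hPT : P ⊔ T ≤ S := sup_le hP (T_le h)
  have : Finite (P ⊔ T : Subgroup Ω) := finite_of_le hPT
  have hlt : P < P ⊔ T := left_lt_sup.2 hT
  obtain ⟨w, hw, hwP⟩ := exists_mem_normalizer_not_mem (h.pg.to_le hPT) hlt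
  obtain ⟨x, hx, t, ht, he⟩ : ∃ x ∈ P, ∃ t ∈ T, x * t = w := by
    have h1 : w ∈ ((P ⊔ T : Subgroup Ω) : Set Ω) := hw.1
    rw [Subgroup.coe_mul_of_left_le_normalizer_right P T (hP.trans (S_norm h))] at h1
    exact h1
  refine ⟨t, ⟨ht, ?_⟩, fun htP => hwP (he ▸ P.mul_mem hx htP)⟩
  rw [show t = x⁻¹ * w by rw [← he, inv_mul_cancel_left]]
  exact Subgroup.mul_mem _ (Subgroup.inv_mem _ (Subgroup.le_normalizer hx)) hw.2

/-- At a fully normalized member, `K(Q)` is the product of `A(Q)` and the elements extending to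
the normalizer in `T`. -/
theorem exists_frattini (hQ : Cen S E Q) (hQn : F.IsFullyNormalized Q)
    (hQTn : F.IsFullyNormalized (Q ⊓ T)) {α : MulAut Q} (hα : α ∈ F.autGroup Q) :
    ∃ a ∈ A F E p Q, ∃ η ∈ F.autGroup Q, α = a * η ∧
      ∃ θ W, IsMap F W θ ∧ Q ≤ W ∧ normalizerIn T Q ≤ W ∧ ∀ x ∈ Q, θ x = autFun η x := by
  classical
  have hQS := hQ.1
  have hfinQ : Finite Q := finite_of_le hQS
  obtain ⟨H, hH⟩ := exists_hat h hQS
  have hHF : H ≤ F.autGroup Q := fun b hb => ((hH b).1 hb).1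
  have hHn : ∀ c ∈ F.autGroup Q, ∀ b ∈ H, c * b * c⁻¹ ∈ H := by
    intro c hc b hb
    obtain ⟨b', hb', hb'e⟩ := inHat_transport h (isMap_of_mem_autGroup hQS hc) (autFun_img c)
      ((hH b).1 hb)
    have : c * b * c⁻¹ = b' := autFun_ext fun x hx => by
      have h1 := hb'e _ (autFun_mem c⁻¹ hx)
      rw [autFun_apply_inv] at h1
      rw [autFun_mul, autFun_mul, h1]
    rw [this]
    exact (hH b').2 hb'
  set P₀ := autInducedBy S Q ⊓ H with hP₀
  have hsS : SylIn p (autInducedBy S Q) (F.autGroup Q) := ⟨autInducedBy_le hQS,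
    isPGroup_autInducedBy h.pg,
    ((fullyAutomized_iff h.pg).1 (fullyNormalized_fullyAutomized h.pg h.sat hQn)).2⟩
  have hs : SylIn p P₀ H :=
    hsS.inf_normal hHF fun c hc => mem_normalizer_of_forall fun b hb => hHn c hc b hb
  -- the hat is generated by `A` and the Sylow subgroup
  obtain ⟨R', hR'⟩ : ∃ R' : Sylow p H, (R' : Subgroup H) = P₀.subgroupOf H :=
    (sylIn_iff_exists inf_le_right).1 hs
  have hgen : H ≤ A F E p Q ⊔ P₀ := by
    intro b hb
    have hle : (R' : Subgroup H) ⊔ pResidual p H ≤ (A F E p Q ⊔ P₀).subgroupOf H := by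
      refine sup_le (fun c hc => ?_) ((Subgroup.closure_le _).2 fun c hc => ?_)
      · rw [hR'] at hc
        exact Subgroup.mem_subgroupOf.2 (Subgroup.mem_sup_right (Subgroup.mem_subgroupOf.1 hc))
      · refine Subgroup.mem_subgroupOf.2 (Subgroup.mem_sup_left (Subgroup.subset_closure
          ⟨(hH c).1 c.2, ?_⟩))
        rw [Subgroup.orderOf_coe]
        exact hc
    exact Subgroup.mem_subgroupOf.1
      (hle ((Cfsg.Agent.Cores.pResidual_le_sylow_sup R').ge (Subgroup.mem_top (⟨b, hb⟩ : H))))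
  -- the Frattini argument
  set M := img (cj α) P₀ with hM
  obtain ⟨b, hb, hbM⟩ := hs.exists_conj
    (img_le fun y hy => hHn α hα y hy.2 : M ≤ H) (isPGroup_img_cj hs.2.1)
  set η₀ := b * α with hη₀
  have hη₀F : η₀ ∈ F.autGroup Q := mul_mem (hHF hb) hα
  have hη₀P : ∀ y ∈ P₀, η₀ * y * η₀⁻¹ ∈ P₀ := fun y hy => by
    have h1 := hbM (mem_img_self (cj b) (mem_img_self (cj α) hy))
    rwa [cj_apply, cj_apply, show b * (α * y * α⁻¹) * b⁻¹ = η₀ * y * η₀⁻¹ by
      rw [hη₀]; group] at h1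
  -- split the conjugating element
  have hsplit : ∀ c ∈ A F E p Q ⊔ P₀, ∃ a ∈ A F E p Q, ∃ q ∈ P₀, c = a * q := by
    intro c hc
    have hn : P₀ ≤ Subgroup.normalizer (A F E p Q : Set (MulAut Q)) := fun q hq =>
      mem_normalizer_of_forall fun a ha => A_conj h hQS (hHF hq.2) ha
    have h1 : c ∈ ((P₀ ⊔ A F E p Q : Subgroup (MulAut Q)) : Set (MulAut Q)) := by
      rw [sup_comm]; exact hc
    rw [Subgroup.coe_mul_of_left_le_normalizer_right P₀ (A F E p Q) hn] at h1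
    obtain ⟨q, hq, a, ha, he⟩ := h1
    exact ⟨q * a * q⁻¹, A_conj h hQS (hHF hq.2) ha, q, hq, by rw [← he]; group⟩
  obtain ⟨a, ha, q, hq, hbe⟩ := hsplit b⁻¹ (hgen (inv_mem hb))
  set η := q * η₀ with hηdef
  have hηF : η ∈ F.autGroup Q := mul_mem (hHF hq.2) hη₀F
  have hηP : ∀ y ∈ P₀, η * y * η⁻¹ ∈ P₀ := fun y hy => by
    have h1 := mul_mem (mul_mem hq (hη₀P y hy)) (inv_mem hq)
    rwa [show q * (η₀ * y * η₀⁻¹) * q⁻¹ = η * y * η⁻¹ by rw [hηdef]; group] at h1
  have hαe : α = a * η := by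
    rw [hηdef, hη₀, ← mul_assoc, ← hbe]; group
  clear_value η
  set Z := P₀ ⊔ Inn Q with hZ
  have hηZ : ∀ y ∈ Z, η * y * η⁻¹ ∈ Z := by
    have hle : Z ≤ Z.comap (MulAut.conj η).toMonoidHom := sup_le
      (fun y hy => Subgroup.mem_sup_left (hηP y hy))
      fun y hy => Subgroup.mem_sup_right ((inferInstance : (Inn Q).Normal).conj_mem y hy η)
    exact fun y hy => hle hy
  have hm := isMap_of_mem_autGroup hQS hηF
  obtain ⟨θ, hθ, hθe⟩ := exists_extension h.pg h.sat hm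
    (by rw [autFun_img]; exact fullyNormalized_fullyCentralized h.pg h.sat hQn)
  have hZS : Z ≤ autInducedBy S Q := sup_le inf_le_left (inn_le_autInducedBy hQS)
  refine ⟨a, ha, η, hηF, hαe, θ, kNorm S Z, hθ.restrict fun w hw => ?_, fun x hx => ?_,
    fun t ht => ?_, hθe⟩
  · obtain ⟨hwS, y, hy, hye⟩ := id hw
    obtain ⟨s, hs', hse⟩ := mem_autInducedBy_iff'.1 (hZS (hηZ y hy))
    refine mem_nSub.2 ⟨hwS, (kNorm_le hw).2, s, hs'.1, fun x hx => ?_⟩
    rw [show w * x * w⁻¹ = autFun y x from hye x hx]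
    show _ = cj s (autFun η x)
    rw [← hse _ (autFun_mem η hx), autFun_mul, autFun_mul, autFun_inv_apply]
  · exact ⟨hQS hx, MulAut.conj (⟨x, hx⟩ : Q), Subgroup.mem_sup_right ⟨⟨x, hx⟩, rfl⟩,
      fun z hz => by rw [autFun_of_mem _ hz]; rfl⟩
  · have htT : conjAut T Q ⟨t, ht⟩ ∈ autInducedBy T Q := (conjAut_range T Q).le ⟨_, rfl⟩
    refine ⟨T_le h ht.1, conjAut T Q ⟨t, ht⟩, Subgroup.mem_sup_left ⟨?_,
      (hH _).2 (autT_le_hat h hQS htT)⟩, fun x hx => (conjAut_apply (K := T) ⟨t, ht⟩ hx).symm⟩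
    exact mem_autInducedBy_iff'.2 ⟨t, ⟨T_le h ht.1, ht.2⟩,
      fun x hx => conjAut_apply (K := T) ⟨t, ht⟩ hx⟩

/-- `K(Q)` is normal at a fully normalized member. -/
theorem K_conj_fn (hQ : Cen S E Q) (hQn : F.IsFullyNormalized Q)
    (hQTn : F.IsFullyNormalized (Q ⊓ T)) {α c : MulAut Q} (hα : α ∈ F.autGroup Q)
    (hc : c ∈ K F E p Q) : α * c * α⁻¹ ∈ K F E p Q := by
  obtain ⟨a, ha, η, hη, rfl, θ, W, hθ, hQW, hTW, hθe⟩ := exists_frattini h hQ hQn hQTn hα
  have hstep : ∀ d ∈ K F E p Q, η * d * η⁻¹ ∈ K F E p Q := by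
    have hle : K F E p Q ≤ (K F E p Q).comap (MulAut.conj η).toMonoidHom := by
      refine sup_le (fun d hd => Subgroup.mem_sup_left (A_conj h hQ.1 hη hd)) fun d hd => ?_
      obtain ⟨t, ht, hte⟩ := mem_autInducedBy_iff'.1 hd
      refine Subgroup.mem_sup_right (mem_autInducedBy_iff'.2 ⟨θ t, ⟨?_, ?_⟩, fun x hx => ?_⟩)
      · exact stronglyClosed_mem (closed h) hθ (hTW ht) ht.1
      · have h1 := hθ.mem_normalizer_img hQW (hTW ht) ht.2
        rwa [img_congr hθe, autFun_img] at h1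
      · have hx' := autFun_mem η⁻¹ hx
        show autFun (η * d * η⁻¹) x = _
        rw [autFun_mul, autFun_mul, hte _ hx', cj_apply,
          ← hθe _ ((Subgroup.mem_normalizer_iff.1 ht.2 _).1 hx'), hθ.map_conj (hTW ht) (hQW hx'),
          hθe _ hx', autFun_apply_inv]
        rfl
    exact fun d hd => hle hd
  have haK : a ∈ K F E p Q := Subgroup.mem_sup_left ha
  rw [show a * η * c * (a * η)⁻¹ = a * (η * c * η⁻¹) * a⁻¹ by group]
  exact mul_mem (mul_mem haK (hstep c hc)) (inv_mem haK)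

set_option maxHeartbeats 800000 in
/-- The automorphisms of a fully normalized subgroup factor. -/
theorem fac_aut (hab : FacAbove F E p (Nat.card Q)) (hQn : F.IsFullyNormalized Q)
    (hQTn : F.IsFullyNormalized (Q ⊓ T)) (hT : ¬ T ≤ Q) {α : MulAut Q} (hα : α ∈ F.autGroup Q) :
    Fac F E p Q (autFun α) := by
  classical
  have hQS := hQn.1
  have hfinQ : Finite Q := finite_of_le hQS
  have hbig : ∀ {W : Subgroup Ω} {θ : Ω → Ω}, IsMap F W θ → Q ≤ W →
      (∃ t ∈ W, t ∉ Q) → Fac F E p Q θ := fun {W θ} hθ hQW ⟨t, htW, htQ⟩ => by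
    have : Finite W := finite_of_le hθ.le
    exact fac_restrict h (hab W θ hθ (card_lt_card (SetLike.lt_iff_le_and_exists.2 ⟨hQW, t, htW, htQ⟩)))
      hQW
  by_cases hQc : Cen S E Q
  · obtain ⟨a, ha, η, hη, rfl, θ, W, hθ, hQW, hTW, hθe⟩ := exists_frattini h hQc hQn hQTn hα
    obtain ⟨t, ht, htQ⟩ := exists_outside h hQS hT
    have h1 := hbig hθ hQW ⟨t, hTW ht, htQ⟩
    refine fac_congr (fac_comp h h1 (g := autFun a) ?_) fun x hx => ?_
    · rw [img_congr hθe, autFun_img]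
      exact fac_of_Y h (auto_self h hQc ha)
    · show autFun a (θ x) = _
      rw [hθe x hx, autFun_mul]
  · -- an element of `T` inducing an automorphism trivial on `Q ⊓ T`
    set Q₁ := Q ⊓ T with hQ₁
    have hQ₁E := fullyNormalized_of_subsystem h.pg h.sat (closed h) (inv h).1 inf_le_right hQTn
    have := finT h
    have hfinC : Finite (centralizerIn T Q₁) := finite_of_le centralizerIn_le
    have hnle : ¬ centralizerIn T Q₁ ≤ Q₁ := fun hle => hQc ⟨hQS, inf_le_right, fun Q' hQ' => by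
      have hfc := fullyNormalized_fullyCentralized (Tp h) (Esat h) hQ₁E
      obtain ⟨g, hg, hgQ⟩ := exists_map_to_fullyNormalized (Tp h) (Esat h) hQ₁E (isConj_symm hQ')
      intro w hw
      have hwN : w ∈ normalizerIn T Q' := centralizerIn_le_normalizerIn hw
      have hgw : g w ∈ centralizerIn T (img g Q') :=
        ⟨hg.mem hwN, hg.mem_centralizer_img (le_normalizerIn (isConj_le hQ').2) hwN hw.2⟩
      replace hgQ : img g Q' = Q₁ := hgQ
      rw [hgQ] at hgw
      have h1 := hle hgw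
      rw [← hgQ] at h1
      obtain ⟨x, hx, hxe⟩ := (hg.restrict (le_normalizerIn (isConj_le hQ').2)).mem_img.1 h1
      exact hg.inj (le_normalizerIn (isConj_le hQ').2 hx) hwN hxe ▸ hx⟩
    have hQC : Q ≤ Subgroup.normalizer (centralizerIn T Q₁ : Set Ω) := fun x hx =>
      mem_normalizer_of_forall fun c hc => ⟨conj_T h (hQS hx) hc.1, fun q hq => by
        have hxi : x⁻¹ * q * x⁻¹⁻¹ ∈ Q₁ :=
          ⟨Q.mul_mem (Q.mul_mem (Q.inv_mem hx) hq.1) (Q.inv_mem (Q.inv_mem hx)),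
            conj_T h (S.inv_mem (hQS hx)) hq.2⟩
        calc q * (x * c * x⁻¹) = x * (x⁻¹ * q * x⁻¹⁻¹ * c) * x⁻¹ := by group
          _ = x * (c * (x⁻¹ * q * x⁻¹⁻¹)) * x⁻¹ := by rw [hc.2 _ hxi]
          _ = x * c * x⁻¹ * q := by group⟩
    have hQCS : Q ⊔ centralizerIn T Q₁ ≤ S :=
      sup_le hQS (centralizerIn_le.trans (T_le h))
    have : Finite (Q ⊔ centralizerIn T Q₁ : Subgroup Ω) := finite_of_le hQCS
    have hlt : Q < Q ⊔ centralizerIn T Q₁ :=
      left_lt_sup.2 fun hle => hnle fun c hc => ⟨hle hc, hc.1⟩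
    obtain ⟨w, hw, hwQ⟩ := exists_mem_normalizer_not_mem (h.pg.to_le hQCS) hlt
    obtain ⟨x, hx, c, hc, he⟩ : ∃ x ∈ Q, ∃ c ∈ centralizerIn T Q₁, x * c = w := by
      have h1 : w ∈ ((Q ⊔ centralizerIn T Q₁ : Subgroup Ω) : Set Ω) := hw.1
      rw [Subgroup.coe_mul_of_left_le_normalizer_right Q _ hQC] at h1
      exact h1
    have hcQ : c ∉ Q := fun hcQ => hwQ (he ▸ Q.mul_mem hx hcQ)
    have hcN : c ∈ Subgroup.normalizer (Q : Set Ω) := by
      rw [show c = x⁻¹ * w by rw [← he, inv_mul_cancel_left]]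
      exact Subgroup.mul_mem _ (Subgroup.inv_mem _ (Subgroup.le_normalizer hx)) hw.2
    set d := conjAut T Q ⟨c, hc.1, hcN⟩ with hd
    have hdT : d ∈ autInducedBy T Q := (conjAut_range T Q).le ⟨_, rfl⟩
    have hdΔ : d ∈ Delta F T Q := by
      obtain ⟨hdF, hdM, -⟩ := autT_le_hat h hQS hdT
      refine ⟨hdF, hdM, fun z hz => ?_⟩
      rw [conjAut_apply (K := T) ⟨c, hc.1, hcN⟩ hz.1, cj_apply]
      show c * z * c⁻¹ = z
      rw [← hc.2 z hz, mul_inv_cancel_right]
    set Z := Delta F T Q ⊔ Inn Q with hZ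
    have hZS : Z ≤ autInducedBy S Q := sup_le (normal_le_autS h hQn (fun d hd => hd.1)
      (delta_pGroup h hQS) fun a ha d hd => delta_conj h hQS ha hd) (inn_le_autInducedBy hQS)
    have hαZ : ∀ y ∈ Z, α * y * α⁻¹ ∈ Z := by
      have hle : Z ≤ Z.comap (MulAut.conj α).toMonoidHom := sup_le
        (fun y hy => Subgroup.mem_sup_left (delta_conj h hQS hα hy))
        fun y hy => Subgroup.mem_sup_right ((inferInstance : (Inn Q).Normal).conj_mem y hy α)
      exact fun y hy => hle hy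
    have hm := isMap_of_mem_autGroup hQS hα
    obtain ⟨θ, hθ, hθe⟩ := exists_extension h.pg h.sat hm
      (by rw [autFun_img]; exact fullyNormalized_fullyCentralized h.pg h.sat hQn)
    refine fac_congr (hbig hθ (le_nSub hm) ⟨c, mem_nSub.2 ⟨T_le h hc.1, hcN, ?_⟩, hcQ⟩) hθe
    obtain ⟨s, hs, hse⟩ := mem_autInducedBy_iff'.1
      (hZS (hαZ d (Subgroup.mem_sup_left hdΔ)))
    refine ⟨s, hs.1, fun z hz => ?_⟩
    show autFun α (cj c z) = cj s (autFun α z)
    rw [← hse _ (autFun_mem α hz), autFun_mul, autFun_mul, autFun_inv_apply,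
      conjAut_apply (K := T) ⟨c, hc.1, hcN⟩ hz]

/-- The factorization. -/
theorem fac (hf : IsMap F P f) : Fac F E p P f := by
  classical
  induction hd : Nat.card S - Nat.card P using Nat.strong_induction_on generalizing P f with
  | _ d ih =>
  by_cases hT : T ≤ P
  · refine fac_of_map h ?_
    rw [sup_eq_left.2 hT]
    exact hf
  have hPS := hf.le
  have hfinP : Finite P := finite_of_le hPS
  have hab : ∀ n, Nat.card P = n → FacAbove F E p n := by
    intro n hn W g hg hlt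
    have := card_le_card hg.le
    exact ih _ (by omega) hg rfl
  obtain ⟨θ₀, hθ₀, hQn, hQTn⟩ := exists_both h hPS
  set Q := img θ₀ P with hQdef
  have hPN : P ≤ normalizerIn S P := le_normalizerIn hPS
  have hQc : Nat.card Q = Nat.card P := (hθ₀.restrict hPN).card_img
  have hnT : ∀ {P₁ : Subgroup Ω}, F.IsConj P P₁ → ¬ T ≤ P₁ := by
    intro P₁ hP₁ hTP₁
    obtain ⟨g, hg, hgP⟩ := isConj_iff_map.1 (isConj_symm hP₁)
    exact hT ((img_T (h := h) hg hTP₁).ge.trans ((img_mono g hTP₁).trans hgP.le))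
  -- maps onto the fully normalized member
  have hto : ∀ P₁ : Subgroup Ω, F.IsConj P P₁ →
      ∃ θ, IsMap F P₁ θ ∧ img θ P₁ = Q ∧ Fac F E p P₁ θ := by
    intro P₁ hP₁
    obtain ⟨θ, hθ, hθP⟩ := exists_map_to_fullyNormalized h.pg h.sat hQn
      (isConj_trans (isConj_symm hP₁) (hθ₀.restrict hPN).isConj)
    have hP₁S := (isConj_le hP₁).2
    obtain ⟨t, ht, htP⟩ := exists_outside h hP₁S (hnT hP₁)
    have hW : P₁ ≤ normalizerIn S P₁ := le_normalizerIn hP₁S
    have : Finite (normalizerIn S P₁) := finite_of_le normalizerIn_le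
    refine ⟨θ, hθ.restrict hW, hθP, fac_restrict h (hab _ rfl _ θ hθ ?_) hW⟩
    rw [← isConj_card hP₁]
    exact card_lt_card (SetLike.lt_iff_le_and_exists.2 ⟨hW, t, (show t ∈ normalizerIn S P₁ from ⟨T_le h ht.1, ht.2⟩), htP⟩)
  obtain ⟨θ, hθ, hθP, hθfac⟩ := hto P (isConj_refl hPS)
  obtain ⟨θ', hθ', hθ'P, hθ'fac⟩ := hto (img f P) hf.isConj
  obtain ⟨i, hi, hii, hiθ, -⟩ := hθ.exists_inv
  rw [hθP] at hi hii
  have hα' : IsMap F Q fun z => θ' (f (i z)) :=
    hθ'.comp (hf.comp hi fun z hz => hii.le (mem_img_self i hz)) fun z hz =>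
      mem_img_self f (hii.le (mem_img_self i hz))
  have hfinQ : Finite Q := finite_of_le hQn.1
  obtain ⟨α, hα, hαe⟩ := hα'.exists_aut (eq_of_le_card (img_le fun z hz =>
    hθ'P.le (mem_img_self θ' (mem_img_self f (hii.le (mem_img_self i hz))))) hα'.card_img.ge)
  have h1 : Fac F E p P fun x => autFun α (θ x) := by
    refine fac_comp h hθfac ?_
    rw [hθP]
    exact fac_aut h (hQc ▸ hab _ rfl) hQn hQTn (hnT (hθ₀.restrict hPN).isConj) hα
  obtain ⟨j, hj, hjθ⟩ := fac_inv h hθ'fac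
  have e : img (fun x => autFun α (θ x)) P = img θ' (img f P) := by
    rw [← hθ.img_img, hθP, autFun_img, hθ'P]
  refine fac_congr (fac_comp h h1 (g := j) (e.symm ▸ hj)) fun x hx => ?_
  show j (autFun α (θ x)) = f x
  rw [hαe _ (hθP ▸ mem_img_self θ hx), hiθ x hx, hjθ _ (mem_img_self f hx)]

/-- A map defined on `P T` preserves the largest normalizers in `T`. -/
theorem TMax_map {γ : Ω → Ω} (hP : TMax F T P) (hγ : IsMap F X γ) (hPX : P ≤ X) (hTX : T ≤ X) :
    TMax F T (img γ P) := by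
  refine ⟨(hγ.restrict hPX).img_le_S, fun P' hP' => ?_⟩
  rw [← TMax_img h hP hγ hPX (normalizerIn_le.trans hTX),
    (hγ.restrict (normalizerIn_le.trans hTX)).card_img]
  exact hP.2 _ (isConj_trans (hγ.restrict hPX).isConj hP')

/-- A member with largest normalizer in `T` reached by the maps of the product. -/
theorem exists_TMax (hP : P ≤ S) : ∃ y, Y F E p P y ∧ TMax F T (img y P) := by
  obtain ⟨θ, hθ, hfn, -⟩ := exists_both h hP
  have hθP := hθ.restrict (le_normalizerIn hP)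
  obtain ⟨γ, y, hy, hγ, he⟩ := fac h hθP
  refine ⟨y, hy, ?_⟩
  obtain ⟨i, hi, -, hiγ, -⟩ := hγ.exists_inv
  have hyP : img y P ≤ P ⊔ T := img_le_sup (moves h hy)
  have e1 : img θ P = img γ (img y P) := by
    rw [(isMap h hy).img_img]
    exact img_congr he
  have e2 : img i (img θ P) = img y P := by
    rw [e1, (hγ.restrict hyP).img_img, img_congr (g := id) fun x hx => hiγ x (hyP hx), img_id]
  rw [← e2]
  refine TMax_map h (TMax_of_fn h hfn) hi (e1 ▸ img_mono γ hyP) ?_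
  exact (img_T (h := h) hγ le_sup_right).ge.trans (img_mono γ le_sup_right)

set_option maxHeartbeats 800000 in
/-- The maps of `F` carry `K` into that of a member with largest normalizer in `T`. -/
theorem K_transport (hP : Cen S E P) (hQm : TMax F T Q) (hg : IsMap F P g) (hgQ : img g P = Q)
    {c : MulAut P} (hc : c ∈ K F E p P) :
    ∃ c' ∈ K F E p Q, ∀ x ∈ P, autFun c' (g x) = g (autFun c x) := by
  classical
  subst hgQ
  set Q := img g P with hQdef
  have hPS := hP.1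
  have hQc : Cen S E Q := cen_map h hP hg
  obtain ⟨θ, hθ, hfn, hTn⟩ := exists_both h hQc.1
  have hQN := le_normalizerIn (S := S) hQc.1
  have hθQ := hθ.restrict hQN
  set Q₀ := img θ Q with hQ₀
  have hQ₀c : Cen S E Q₀ := cen_map h hQc hθQ
  obtain ⟨φ, hφ, hφP⟩ := exists_map_to_fullyNormalized h.pg h.sat hfn
    (isConj_trans hg.isConj hθQ.isConj)
  have hφ' := hφ.restrict (le_normalizerIn hPS)
  -- the image of `Aut_T(P)` in `K(Q₀)`
  have hinto : ∀ d ∈ K F E p P, ∃ d' ∈ K F E p Q₀, ∀ x ∈ P, autFun d' (φ x) = φ (autFun d x) := by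
    intro d hd
    rw [K, Subgroup.sup_eq_closure] at hd
    induction hd using Subgroup.closure_induction with
    | mem b hb =>
      rcases hb with hb | hb
      · obtain ⟨b', hb', he⟩ := A_transport h hφ' hφP hb
        exact ⟨b', Subgroup.mem_sup_left hb', he⟩
      · obtain ⟨t, ht, hte⟩ := mem_autInducedBy_iff'.1 hb
        have htN : t ∈ normalizerIn S P := ⟨T_le h ht.1, ht.2⟩
        have hφt : φ t ∈ normalizerIn T Q₀ := by
          refine ⟨stronglyClosed_mem (closed h) hφ htN ht.1, ?_⟩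
          rw [← hφP]
          exact hφ.mem_normalizer_img (le_normalizerIn hPS) htN ht.2
        refine ⟨conjAut T Q₀ ⟨φ t, hφt⟩, Subgroup.mem_sup_right
          ((conjAut_range T Q₀).le ⟨_, rfl⟩), fun x hx => ?_⟩
        rw [conjAut_apply (K := T) ⟨φ t, hφt⟩ (hφP ▸ mem_img_self φ hx), hte x hx, cj_apply,
          cj_apply, hφ.map_conj htN (le_normalizerIn hPS hx)]
    | one => exact ⟨1, one_mem _, fun x _ => by rw [autFun_one, autFun_one]; rfl⟩
    | mul a b _ _ iha ihb =>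
      obtain ⟨a', ha', hae⟩ := iha
      obtain ⟨b', hb', hbe⟩ := ihb
      refine ⟨a' * b', mul_mem ha' hb', fun x hx => ?_⟩
      rw [autFun_mul, autFun_mul, hbe x hx, hae _ (autFun_mem b hx)]
    | inv a _ iha =>
      obtain ⟨a', ha', hae⟩ := iha
      refine ⟨a'⁻¹, inv_mem ha', fun x hx => ?_⟩
      conv_lhs => rw [← autFun_apply_inv a x, ← hae _ (autFun_mem _ hx), autFun_inv_apply]
  obtain ⟨d, hd, hde⟩ := hinto c hc
  -- the automorphism of `Q₀`
  obtain ⟨i, hi, hii, hiφ, -⟩ := hφ'.exists_inv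
  rw [hφP] at hi hii
  have hα' : IsMap F Q₀ fun z => θ (g (i z)) :=
    hθQ.comp (hg.comp hi fun z hz => hii.le (mem_img_self i hz)) fun z hz =>
      mem_img_self g (hii.le (mem_img_self i hz))
  have hfinQ₀ : Finite Q₀ := finite_of_le hfn.1
  obtain ⟨α, hα, hαe⟩ := hα'.exists_aut (eq_of_le_card (img_le fun z hz =>
    mem_img_self θ (mem_img_self g (hii.le (mem_img_self i hz)))) hα'.card_img.ge)
  set d' := α * d * α⁻¹ with hd'
  have hd'K := K_conj_fn h hQ₀c hfn hTn hα hd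
  have hd'e : ∀ x ∈ P, autFun d' (θ (g x)) = θ (g (autFun c x)) := fun x hx => by
    have hφx : φ x ∈ Q₀ := hφP ▸ mem_img_self φ hx
    have e1 : θ (g x) = autFun α (φ x) := by rw [hαe _ hφx, hiφ x hx]
    rw [hd', e1, autFun_mul, autFun_mul, autFun_inv_apply, hde x hx,
      hαe _ (hφP ▸ mem_img_self φ (autFun_mem c hx)), hiφ _ (autFun_mem c hx)]
  -- back to `Q`
  have hNT : normalizerIn T Q ≤ normalizerIn S Q := inf_le_inf_right _ (T_le h)
  obtain ⟨j, hj, hji, hjθ, -⟩ := hθQ.exists_inv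
  have hback : ∀ e ∈ K F E p Q₀, ∃ e' ∈ K F E p Q, ∀ z ∈ Q, autFun e (θ z) = θ (autFun e' z) := by
    intro e he
    rw [K, Subgroup.sup_eq_closure] at he
    induction he using Subgroup.closure_induction with
    | mem b hb =>
      rcases hb with hb | hb
      · obtain ⟨b', hb', hbe⟩ := A_transport h hj hji hb
        refine ⟨b', Subgroup.mem_sup_left hb', fun z hz => ?_⟩
        have h1 := hbe _ (mem_img_self θ hz)
        rw [hjθ z hz] at h1
        obtain ⟨u, hu, hue⟩ := hθQ.mem_img.1 (autFun_mem b (mem_img_self θ hz))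
        rw [h1, ← hue, hjθ u hu]
      · obtain ⟨t, ht, hte⟩ := mem_autInducedBy_iff'.1 hb
        obtain ⟨u, hu, hue⟩ := (hθ.restrict hNT).mem_img.1 ((TMax_img h hQm hθ hQN hNT).ge ht)
        refine ⟨conjAut T Q ⟨u, hu⟩, Subgroup.mem_sup_right ((conjAut_range T Q).le ⟨_, rfl⟩),
          fun z hz => ?_⟩
        rw [conjAut_apply (K := T) ⟨u, hu⟩ hz, hte _ (mem_img_self θ hz), cj_apply, cj_apply,
          hθ.map_conj (hNT hu) (hQN hz), hue]
    | one => exact ⟨1, one_mem _, fun x _ => by rw [autFun_one, autFun_one]; rfl⟩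
    | mul a b _ _ iha ihb =>
      obtain ⟨a', ha', hae⟩ := iha
      obtain ⟨b', hb', hbe⟩ := ihb
      refine ⟨a' * b', mul_mem ha' hb', fun x hx => ?_⟩
      rw [autFun_mul, autFun_mul, hbe x hx, hae _ (autFun_mem b' hx)]
    | inv a _ iha =>
      obtain ⟨a', ha', hae⟩ := iha
      refine ⟨a'⁻¹, inv_mem ha', fun x hx => ?_⟩
      conv_lhs => rw [← autFun_apply_inv a' x, ← hae _ (autFun_mem _ hx), autFun_inv_apply]
  obtain ⟨c', hc', hc'e⟩ := hback d' hd'K
  refine ⟨c', hc', fun x hx => ?_⟩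
  have hgx : g x ∈ Q := mem_img_self g hx
  refine hθQ.inj (autFun_mem c' hgx) (mem_img_self g (autFun_mem c hx)) ?_
  rw [← hc'e _ hgx, hd'e x hx]

end Cfsg.Agent.Fusion.ProdFac
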