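/-
The automizers in the system on `R`: generated by `A(P)` and the conjugates of the automorphisms
induced by `R`.
-/
import Mathlib
import Cfsg.Agent.Lib.Fusion.ProdFac
import Cfsg.Agent.Lib.Fusion.SaturationCriterion

set_option autoImplicit false
set_option linter.all false

namespace Cfsg.Agent.Fusion.ProdAut

open Cfsg Cfsg.FusionSystem Cfsg.Agent.Fusion.Basic Cfsg.Agent.Fusion.Saturation
  Cfsg.Agent.Fusion.Normal Cfsg.Agent.Fusion.Factor Cfsg.Agent.Fusion.Subsystems
  Cfsg.Agent.Fusion.KNormalizer Cfsg.Agent.Fusion.SylIn Cfsg.Agent.Fusion.Prod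
  Cfsg.Agent.Fusion.ProdSys

variable {Ω : Type*} [Group Ω] {S T R : Subgroup Ω}

/-- The data of the system on `R`. -/
structure Sys (F : FusionSystem S) (E : FusionSystem T) (p : ℕ) (D : FusionSystem R) : Prop where
  base : Base F E p
  TR : T ≤ R
  RS : R ≤ S
  maps : ∀ P f, IsMap D P f ↔ DMap F E p R P f

/-- The family. -/
def Fam (S R : Subgroup Ω) (E : FusionSystem T) (P : Subgroup Ω) : Prop := P ≤ R ∧ Cen S E P

/-- The automizer. -/
def B (F : FusionSystem S) (E : FusionSystem T) (p : ℕ) (D : FusionSystem R) (P : Subgroup Ω) :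
    Subgroup (MulAut P) :=
  Subgroup.closure ({a | a ∈ A F E p P} ∪
    {a | ∃ (g : Ω → Ω) (v : Ω), IsMap D P g ∧ v ∈ R ∧ ∀ x ∈ P, g (autFun a x) = cj v (g x)})

variable {F : FusionSystem S} {E : FusionSystem T} {p : ℕ} {D : FusionSystem R} [Finite S]
  [Fact p.Prime] (h : Sys F E p D) {P P' Q X : Subgroup Ω} {f g : Ω → Ω}
include h

theorem finR : Finite R := finite_of_le h.RS

theorem Rp : IsPGroup p R := h.base.pg.to_le h.RS

theorem toF (hf : IsMap D P f) : IsMap F P f :=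
  dmap_isMap h.base h.TR h.RS ((h.maps P f).1 hf)

theorem isMap_of_Y (hP : P ≤ R) (hf : Y F E p P f) : IsMap D P f :=
  (h.maps _ _).2 (dmap_of_Y h.base hP hf)

theorem fam_map (hP : Fam S R E P) (hf : IsMap D P f) : Fam S R E (img f P) :=
  ⟨hf.img_le_S, cen_map h.base hP.2 (toF h hf)⟩

theorem fam_conj (hP : Fam S R E P) (hQ : D.IsConj P Q) : Fam S R E Q := by
  obtain ⟨f, hf, rfl⟩ := isConj_iff_map.1 hQ
  exact fam_map h hP hf

theorem fam_mono (hP : Fam S R E P) (hPX : P ≤ X) (hX : X ≤ R) : Fam S R E X :=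
  ⟨hX, cen_mono h.base hP.2 hPX (hX.trans h.RS)⟩

theorem A_le_D (hP : Fam S R E P) : A F E p P ≤ D.autGroup P := fun a ha =>
  (mem_autGroup_iff hP.1).2 (isMap_of_Y h hP.1 (auto_self h.base hP.2 ha))

theorem gen_le_D (hP : P ≤ R) {a : MulAut P} {g : Ω → Ω} {v : Ω} (hg : IsMap D P g) (hv : v ∈ R)
    (he : ∀ x ∈ P, g (autFun a x) = cj v (g x)) : a ∈ D.autGroup P := by
  obtain ⟨i, hi, -, hig, -⟩ := hg.exists_inv
  have hm : IsMap D P fun x => i (cj v (g x)) :=
    hi.comp ((isMap_cj hg.img_le_S hv).comp hg fun x hx => mem_img_self g hx) fun x hx =>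
      he x hx ▸ mem_img_self g (autFun_mem a hx)
  refine (mem_autGroup_iff hP).2 (hm.congr fun x hx => ?_)
  rw [← he x hx, hig _ (autFun_mem a hx)]

theorem B_le_D (hP : Fam S R E P) : B F E p D P ≤ D.autGroup P :=
  (Subgroup.closure_le _).2 (Set.union_subset (A_le_D h hP) fun _ ⟨_, _, hg, hv, he⟩ =>
    gen_le_D h hP.1 hg hv he)

omit [Finite S] [Fact p.Prime] h in
theorem A_le_B : A F E p P ≤ B F E p D P := fun _ ha => Subgroup.subset_closure (Or.inl ha)

theorem autR_le_B (hP : P ≤ R) : autInducedBy R P ≤ B F E p D P := fun a ha => by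
  obtain ⟨v, hv, he⟩ := mem_autInducedBy_iff'.1 ha
  exact Subgroup.subset_closure (Or.inr ⟨id, v, isMap_id hP, hv.1, he⟩)

/-- The automizers are permuted by the maps of the system. -/
theorem transport (hP : Fam S R E P) (hg : IsMap D P g) (hgQ : img g P = Q) {a : MulAut P}
    (ha : a ∈ B F E p D P) :
    ∃ a' ∈ B F E p D Q, ∀ x ∈ P, autFun a' (g x) = g (autFun a x) := by
  subst hgQ
  induction ha using Subgroup.closure_induction with
  | mem b hb =>
    rcases hb with hb | ⟨k, v, hk, hv, hke⟩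
    · obtain ⟨b', hb', he⟩ := A_transport h.base (toF h hg) rfl hb
      exact ⟨b', A_le_B hb', he⟩
    · obtain ⟨e, he⟩ := hg.exists_autEquiv
      set b' := (e ⟨b, gen_le_D h hP.1 hk hv hke⟩ : MulAut (img g P : Subgroup Ω)) with hb'
      have hbe : ∀ x ∈ P, autFun b' (g x) = g (autFun b x) := he _
      obtain ⟨i, hi, hii, hig, -⟩ := hg.exists_inv
      refine ⟨b', Subgroup.subset_closure (Or.inr ⟨fun z => k (i z), v,
        hk.comp hi fun z hz => hii.le (mem_img_self i hz), hv, fun z hz => ?_⟩), hbe⟩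
      obtain ⟨x, hx, rfl⟩ := hg.mem_img.1 hz
      show k (i (autFun b' (g x))) = cj v (k (i (g x)))
      rw [hbe x hx, hig _ (autFun_mem b hx), hig x hx, hke x hx]
  | one => exact ⟨1, one_mem _, fun x _ => by rw [autFun_one, autFun_one]; rfl⟩
  | mul a b _ _ iha ihb =>
    obtain ⟨a', ha', hae⟩ := iha
    obtain ⟨b', hb', hbe⟩ := ihb
    refine ⟨a' * b', mul_mem ha' hb', fun x hx => ?_⟩
    rw [autFun_mul, autFun_mul, hbe x hx, hae _ (autFun_mem b hx)]
  | inv a _ iha =>
    obtain ⟨a', ha', hae⟩ := iha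
    refine ⟨a'⁻¹, inv_mem ha', fun x hx => ?_⟩
    conv_lhs => rw [← autFun_apply_inv a x, ← hae _ (autFun_mem _ hx), autFun_inv_apply]

/-- The automorphisms of bigger good members restrict into the automizers. -/
theorem restrict (hX : Fam S R E X) (hPX : P ≤ X)
    (hA : ∀ a ∈ D.autGroup X, (orderOf a).Coprime p → a ∈ A F E p X)
    (hgood : SaturationCriterion.Good D p X) {a : MulAut X} (ha : a ∈ D.autGroup X)
    (hst : ∀ x ∈ P, autFun a x ∈ P) :
    ∃ b ∈ B F E p D P, ∀ x ∈ P, autFun b x = autFun a x := by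
  have hfinX : Finite X := finite_of_le (hX.1.trans h.RS)
  have hfinP : Finite P := finite_of_le hPX
  have hm := (isMap_of_mem_autGroup hX.1 ha).restrict hPX
  obtain ⟨c, hc, hce⟩ := hm.exists_aut (eq_of_le_card (img_le hst) hm.card_img.ge)
  refine ⟨c, ?_, hce⟩
  have hpow : ∀ n : ℕ, ∀ x ∈ P, autFun (c ^ n) x = autFun (a ^ n) x := fun n x hx =>
    (GoodExtension.pow_agree hPX (fun y hy => (hce y hy).symm) n x hx).symm
  obtain ⟨e, m, hm, hem⟩ :=
    Nat.exists_eq_pow_mul_and_not_dvd (orderOf_pos a).ne' p (Fact.out : p.Prime).ne_one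
  have hmc : m.Coprime p := ((Fact.out : p.Prime).coprime_iff_not_dvd.2 hm).symm
  refine GoodExtension.mem_of_pow_mem (m := p ^ e) (n := m) (Nat.Coprime.pow_left e hmc.symm) ?_ ?_
  · -- the part of order prime to `p`
    have hac : (orderOf (a ^ p ^ e)).Coprime p := by
      refine Nat.Coprime.coprime_dvd_left (orderOf_dvd_of_pow_eq_one ?_) hmc
      rw [← pow_mul, ← hem, pow_orderOf_eq_one]
    obtain ⟨d, hd, -, hde⟩ := restrict_gen h.base hX.2.1 hPX
      (A_le_hat h.base hX.2.1 (hA _ (pow_mem ha _) hac)) hac (pow_stable hst _)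
    rw [show c ^ p ^ e = d from autFun_ext fun x hx => by rw [hpow _ x hx, hde x hx]]
    exact A_le_B hd
  · -- the part of `p`-power order
    obtain ⟨X', hXX', hFA, -⟩ := hgood
    obtain ⟨g, hg, rfl⟩ := isConj_iff_map.1 hXX'
    obtain ⟨ε, hε⟩ := hg.exists_autEquiv
    obtain ⟨R', hR'⟩ := hFA.2
    set b := ε ⟨a ^ m, pow_mem ha m⟩ with hb
    have hbp : b ^ p ^ e = 1 := by
      rw [hb, ← map_pow]
      refine (map_eq_one_iff ε ε.injective).2 (Subtype.ext ?_)
      show (a ^ m) ^ p ^ e = 1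
      rw [← pow_mul, mul_comm, ← hem, pow_orderOf_eq_one]
    have hBp : IsPGroup p (Subgroup.zpowers b) := by
      obtain ⟨j, -, hj⟩ := (Nat.dvd_prime_pow (Fact.out : p.Prime)).1 (orderOf_dvd_of_pow_eq_one hbp)
      exact IsPGroup.of_card (by rw [Nat.card_zpowers, hj])
    have hfinX' : Finite (img g X) := finite_of_le (hg.img_le_S.trans h.RS)
    obtain ⟨s, hs⟩ := exists_conj_le_sylow R' hBp
    have h1 := hs b (Subgroup.mem_zpowers b)
    rw [hR', Subgroup.mem_subgroupOf] at h1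
    obtain ⟨v, hv, hve⟩ := mem_autInducedBy_iff'.1 h1
    have hsm := isMap_of_mem_autGroup hg.img_le_S s.2
    refine Subgroup.subset_closure (Or.inr ⟨fun x => autFun (s : MulAut (img g X : Subgroup Ω)) (g x),
      v, (hsm.comp hg fun x hx => mem_img_self g hx).restrict hPX, hv.1, fun x hx => ?_⟩)
    have hgx : g x ∈ img g X := mem_img_self g (hPX hx)
    show autFun (s : MulAut (img g X : Subgroup Ω)) (g (autFun (c ^ m) x)) = _
    rw [hpow m x hx, ← hε ⟨a ^ m, pow_mem ha m⟩ x (hPX hx), ← hb, ← hve _ (autFun_mem _ hgx),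
      Subgroup.coe_mul, Subgroup.coe_mul, Subgroup.coe_inv, autFun_mul, autFun_mul,
      autFun_inv_apply]

end Cfsg.Agent.Fusion.ProdAut
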