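/-
The number of conjugates of a fully normalized subgroup in a saturated system, and the members
fixed by a `p`-group of operators.
-/
import Mathlib
import Cfsg.Agent.Lib.Fusion.Biset

set_option autoImplicit false
set_option linter.all false

namespace Cfsg.Agent.Fusion.ProdCount

open Cfsg Cfsg.FusionSystem Cfsg.Agent.Fusion.Basic Cfsg.Agent.Fusion.Saturation
  Cfsg.Agent.Fusion.Marks Cfsg.Agent.Fusion.Biset MulAction

theorem dvd_card_subset {G X : Type*} [Group G] [MulAction G X] [Finite X] {d : ℕ} (Pr : X → Prop)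
    (hinv : ∀ (g : G) x, Pr x → Pr (g • x))
    (horb : ∀ x, Pr x → d ∣ Nat.card (orbit G x)) : d ∣ Nat.card {x // Pr x} := by
  classical
  let Y : SubMulAction G X := ⟨{x | Pr x}, fun g {x} hx => hinv g x hx⟩
  show d ∣ Nat.card Y
  have := Fintype.ofFinite (Quotient (orbitRel G Y))
  rw [Nat.card_congr (selfEquivSigmaOrbits G Y), Nat.card_sigma]
  refine Finset.dvd_sum fun ω _ => ?_
  have h1 := horb ω.out.1 ω.out.2
  rwa [← SubMulAction.val_image_orbit, Nat.card_image_of_injective Subtype.val_injective] at h1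

universe u

variable {Ω : Type u} [Group Ω] {S : Subgroup Ω} [Finite S] {F : FusionSystem S} {p : ℕ}
  [Fact p.Prime]

theorem finite_class (P : Subgroup Ω) : Finite {Q // F.IsConj P Q} := by
  refine Finite.of_injective (β := Subgroup S) (fun Q => Q.1.subgroupOf S) fun a b hab => ?_
  refine Subtype.ext (le_antisymm (fun x hx => ?_) fun x hx => ?_)
  · exact hab.le (show (⟨x, (isConj_le a.2).2 hx⟩ : S) ∈ a.1.subgroupOf S from hx)
  · exact hab.ge (show (⟨x, (isConj_le b.2).2 hx⟩ : S) ∈ b.1.subgroupOf S from hx)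

/-- The number of conjugates. -/
theorem not_dvd_class (hS : IsPGroup p S) (hF : F.IsSaturated p) {P : Subgroup Ω}
    (hP : F.IsFullyNormalized P) {q : ℕ} (hq : Nat.card (normalizerIn S P) * q = Nat.card S) :
    ¬ p * q ∣ Nat.card {Q // F.IsConj P Q} := by
  classical
  intro hdvd
  obtain ⟨X, instX, instF, T, m, hX, hT, hst, hm, hXc⟩ := exists_biset hS hF
  have hPS := hP.1
  have hfinP : Finite P := finite_of_le hPS
  have hpr : p.Prime := Fact.out
  set P' := P.subgroupOf S with hP'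
  set G' : Subgroup (↥S × ↥S) := P'.prod ⊤ with hG'
  have hP'c : Nat.card P' = Nat.card P := Nat.card_congr (Subgroup.subgroupOfEquivOfLe hPS).toEquiv
  have hG'c : Nat.card G' = Nat.card P * Nat.card S := by
    rw [hG', Nat.card_congr (P'.prodEquiv ⊤).toEquiv, Nat.card_prod, hP'c, Subgroup.card_top]
  let Pr : X → Prop := fun x =>
    ∃ φ : F.Hom P, graph (IsMap.of_hom φ.2) ≤ stabilizer (↥S × ↥S) x
  have hsmul : ∀ (g : G') (x : X), (g • x) = ((g : ↥S × ↥S) • x) := fun _ _ => rfl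
  -- the orbits off `X_P`
  have horb : ∀ x : X, ¬ Pr x → p * Nat.card S ∣ Nat.card (orbit G' x) := by
    intro x hx
    obtain ⟨Q, f, hf, he⟩ := isTwist_of_le (hX x) (inf_le_left : _ ⊓ G' ≤ _)
    have hQP : Q ≤ P := by
      intro z hz
      have h1 := he.ge (mk_mem_graph hf hz)
      exact Subgroup.mem_subgroupOf.1 h1.2.1
    have hne : Q ≠ P := by
      rintro rfl
      refine hx ⟨⟨hf.hom, hf.hom_mem_self⟩, ?_⟩
      rw [graph_congr (IsMap.of_hom hf.hom_mem_self) hf fun z hz => by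
        rw [ext_of_mem _ hz, IsMap.hom_apply]]
      exact he.ge.trans inf_le_left
    have hst' : (stabilizer (↥S × ↥S) x).subgroupOf G' = stabilizer G' x := Subgroup.ext fun g => by
      rw [Subgroup.mem_subgroupOf, mem_stabilizer_iff, mem_stabilizer_iff, hsmul]
    have h1 : Nat.card (orbit G' x) * Nat.card Q = Nat.card P * Nat.card S := by
      rw [← hG'c, ← card_graph hf, ← he,
        ← Nat.card_congr (Subgroup.subgroupOfEquivOfLe
          (inf_le_right : stabilizer (↥S × ↥S) x ⊓ G' ≤ G')).toEquiv,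
        Subgroup.inf_subgroupOf_right, hst', ← Nat.card_prod]
      exact Nat.card_congr (orbitProdStabilizerEquivGroup G' x)
    obtain ⟨i, hi⟩ := IsPGroup.iff_card.1 (hS.to_le hPS)
    obtain ⟨j, hj, hjc⟩ := (Nat.dvd_prime_pow hpr).1 (hi ▸ Subgroup.card_dvd_of_le hQP)
    have hlt : j < i := lt_of_le_of_ne hj fun e =>
      hne (eq_of_le_card hQP (le_of_eq (by rw [hi, hjc, e])))
    obtain ⟨k, rfl⟩ : ∃ k, i = j + 1 + k := ⟨i - (j + 1), by omega⟩
    refine ⟨p ^ k, Nat.eq_of_mul_eq_mul_right (pow_pos hpr.pos j) ?_⟩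
    rw [← hjc, h1, hi, hjc]
    ring
  have hinv : ∀ (g : G') (x : X), Pr x → Pr (g • x) := by
    rintro g x ⟨φ, hφ⟩
    obtain ⟨⟨a, b⟩, ha⟩ := g
    have haP : (a : Ω) ∈ P := Subgroup.mem_subgroupOf.1 ha.1
    have hm := IsMap.of_hom φ.2
    have haP' := P.inv_mem haP
    have hψ : IsMap F P fun z => cj (b : Ω) (ext φ.1 (cj (a : Ω)⁻¹ z)) :=
      (isMap_cj hm.img_le_S b.2).comp (hm.comp (isMap_cj hPS (S.inv_mem a.2)) fun z hz => by
        rw [cj_apply, inv_inv]
        exact P.mul_mem (P.mul_mem haP' hz) haP) fun z hz => mem_img_self _ (by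
          rw [cj_apply, inv_inv]
          exact P.mul_mem (P.mul_mem haP' hz) haP)
    refine ⟨⟨hψ.hom, hψ.hom_mem_self⟩, ?_⟩
    rw [graph_congr (IsMap.of_hom hψ.hom_mem_self) hψ fun z hz => by
      rw [ext_of_mem _ hz, IsMap.hom_apply]]
    intro w hw
    rw [hsmul, stabilizer_smul_eq_stabilizer_map_conj]
    refine ⟨(a, b)⁻¹ * w * (a, b), hφ ⟨?_, ?_⟩, ?_⟩
    rotate_left 2
    · show (a, b) * ((a, b)⁻¹ * w * (a, b)) * (a, b)⁻¹ = w
      group
    · show (a : Ω)⁻¹ * (w.1 : Ω) * a ∈ P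
      exact P.mul_mem (P.mul_mem haP' hw.1) haP
    · show (b : Ω)⁻¹ * (w.2 : Ω) * b = ext φ.1 ((a : Ω)⁻¹ * (w.1 : Ω) * a)
      rw [hw.2]
      show (b : Ω)⁻¹ * ((b : Ω) * ext φ.1 ((a : Ω)⁻¹ * (w.1 : Ω) * ((a : Ω)⁻¹)⁻¹) * (b : Ω)⁻¹) * b = _
      rw [inv_inv]
      group
  have hinv' : ∀ (g : G') (x : X), ¬ Pr x → ¬ Pr (g • x) := fun g x hx hgx => hx (by
    have := hinv g⁻¹ _ hgx
    rwa [inv_smul_smul] at this)
  have hno : p * Nat.card S ∣ Nat.card {x // ¬ Pr x} := dvd_card_subset _ hinv' horb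
  -- `X_P` by the maps
  have : Finite (F.Hom P) := by
    refine Finite.of_injective (β := P → S) (fun φ z => ⟨φ.1 z, (F.le_of_mem φ.2).2 z⟩) fun a b hab => ?_
    exact Subtype.ext (MonoidHom.ext fun z => congrArg (fun e => (e z : Ω)) hab)
  have := Fintype.ofFinite (F.Hom P)
  have hXP : Nat.card {x // Pr x} = Nat.card (F.Hom P) * T P := by
    have e : (Σ φ : F.Hom P, {x : X // graph (IsMap.of_hom φ.2) ≤ stabilizer (↥S × ↥S) x}) ≃
        {x // Pr x} := Equiv.ofBijective (fun z => ⟨z.2.1, z.1, z.2.2⟩)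
      ⟨fun a b hab => by
        obtain ⟨φ, x, hx⟩ := a
        obtain ⟨ψ, y, hy⟩ := b
        obtain rfl : x = y := congrArg Subtype.val hab
        obtain ⟨Q, f, hf, he⟩ := hX x
        obtain rfl : φ = ψ := by
          refine Subtype.ext (MonoidHom.ext fun z => ?_)
          have h1 := he.le (hx (mk_mem_graph (IsMap.of_hom φ.2) z.2))
          have h2 := he.le (hy (mk_mem_graph (IsMap.of_hom ψ.2) z.2))
          rw [← ext_apply φ.1 z, ← ext_apply ψ.1 z]
          exact h1.2.trans h2.2.symm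
        rfl, fun x => ⟨⟨x.2.choose, x.1, x.2.choose_spec⟩, rfl⟩⟩
    rw [← Nat.card_congr e, Nat.card_sigma]
    rw [Finset.sum_congr rfl fun φ _ => hst P _ (IsMap.of_hom φ.2), Finset.sum_const,
      Finset.card_univ, smul_eq_mul, Nat.card_eq_fintype_card]
  have hXP' : ¬ p * Nat.card S ∣ Nat.card {x // Pr x} := fun hd => by
    have h1 : p * Nat.card S ∣ Nat.card X := by
      rw [← Nat.card_congr (Equiv.sumCompl Pr), Nat.card_sum]
      exact dvd_add hd hno
    rw [hXc, mul_comm p] at h1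
    exact (hpr.coprime_iff_not_dvd.1 (Nat.coprime_comm.1 hm))
      (Nat.dvd_of_mul_dvd_mul_left Nat.card_pos h1)
  -- the count of the maps
  have hhom : Nat.card (F.Hom P) = Nat.card {Q // F.IsConj P Q} * Nat.card (F.autGroup P) := by
    choose g hg hgQ using fun Q : {Q // F.IsConj P Q} => isConj_iff_map.1 Q.2
    have hmap : ∀ (Q : {Q // F.IsConj P Q}) (α : F.autGroup P),
        IsMap F P fun x => g Q (autFun (α : MulAut P) x) := fun Q α =>
      (hg Q).comp (isMap_of_mem_autGroup hPS α.2) fun x hx => autFun_mem _ hx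
    have himg : ∀ (Q : {Q // F.IsConj P Q}) (α : F.autGroup P), img (fun x => g Q (autFun (α : MulAut P) x)) P = Q.1 := fun Q α => by
      rw [← (isMap_of_mem_autGroup hPS α.2).img_img, autFun_img, hgQ]
    rw [← Nat.card_prod]
    refine (Nat.card_congr (Equiv.ofBijective
      (fun z => (⟨(hmap z.1 z.2).hom, (hmap z.1 z.2).hom_mem_self⟩ : F.Hom P))
      ⟨fun a b hab => ?_, fun φ => ?_⟩)).symm
    · obtain ⟨Q, α⟩ := a
      obtain ⟨Q', β⟩ := b
      have h1 : ∀ x ∈ P, g Q (autFun (α : MulAut P) x) = g Q' (autFun (β : MulAut P) x) :=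
        fun x hx => by
          have := congrArg (fun φ : F.Hom P => φ.1 ⟨x, hx⟩) hab
          simpa only [IsMap.hom_apply] using this
      obtain rfl : Q = Q' := Subtype.ext (by rw [← himg Q α, ← himg Q' β]; exact img_congr h1)
      refine Prod.ext rfl (Subtype.ext (autFun_ext fun x hx => ?_))
      exact (hg Q).inj (autFun_mem _ hx) (autFun_mem _ hx) (h1 x hx)
    · have hm := IsMap.of_hom φ.2
      set Q : {Q // F.IsConj P Q} := ⟨_, hm.isConj⟩ with hQ
      obtain ⟨i, hi, hii, hig, hgi⟩ := (hg Q).exists_inv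
      rw [hgQ Q] at hi hii hgi
      have hm' : IsMap F P fun x => i (ext φ.1 x) := hi.comp hm fun x hx => mem_img_self _ hx
      obtain ⟨α, hα, hαe⟩ := hm'.exists_aut (eq_of_le_card (img_le fun x hx =>
        hii.le (mem_img_self i (mem_img_self _ hx))) hm'.card_img.ge)
      refine ⟨⟨Q, α, hα⟩, Subtype.ext (MonoidHom.ext fun z => ?_)⟩
      show (hmap Q ⟨α, hα⟩).hom z = φ.1 z
      rw [IsMap.hom_apply]
      show g Q (autFun α z) = _
      rw [hαe _ z.2, hgi _ (mem_img_self _ z.2), ext_apply]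
  -- the centralizer acts freely
  have hC : Nat.card (centralizerIn S P) ∣ T P := by
    rw [← hst P id (isMap_id hPS)]
    set C' : Subgroup (↥S × ↥S) := (⊥ : Subgroup ↥S).prod ((centralizerIn S P).subgroupOf S) with hC'
    have hC'c : Nat.card C' = Nat.card (centralizerIn S P) := by
      rw [hC', Nat.card_congr (Subgroup.prodEquiv _ _).toEquiv, Nat.card_prod, Subgroup.card_bot,
        one_mul]
      exact Nat.card_congr (Subgroup.subgroupOfEquivOfLe centralizerIn_le).toEquiv
    refine dvd_card_subset (G := C') _ (fun c x hx => ?_) fun x _ => ?_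
    · intro w hw
      have h1 := hx hw
      obtain ⟨⟨a, b⟩, ha, hb⟩ := c
      obtain rfl : a = 1 := Subgroup.mem_bot.1 ha
      have hbc := (Subgroup.mem_subgroupOf.1 hb).2
      have hcomm : w * ((1 : ↥S), b) = ((1 : ↥S), b) * w := by
        refine Prod.ext (by simp) (Subtype.ext ?_)
        show (w.2 : Ω) * b = b * w.2
        rw [hw.2]
        exact hbc _ hw.1
      rw [mem_stabilizer_iff] at h1 ⊢
      show w • ((1 : ↥S), b) • x = ((1 : ↥S), b) • x
      rw [← mul_smul, hcomm, mul_smul, h1]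
    · have hfree : stabilizer C' x = ⊥ := by
        refine (Subgroup.eq_bot_iff_forall _).2 fun c hc => ?_
        obtain ⟨Q, f, hf, he⟩ := hX x
        obtain ⟨⟨a, b⟩, ha, hb⟩ := c
        obtain rfl : a = 1 := Subgroup.mem_bot.1 ha
        have h1 := he.le (show ((1 : ↥S), b) ∈ stabilizer (↥S × ↥S) x from hc)
        have h2 : (b : Ω) = 1 := by
          rw [h1.2]
          exact hf.map_one
        exact Subtype.ext (Prod.ext rfl (Subtype.ext h2))
      have h := Nat.card_congr (orbitProdStabilizerEquivGroup C' x)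
      rw [Nat.card_prod, hfree, Subgroup.card_bot, mul_one, hC'c] at h
      exact h ▸ dvd_rfl
  obtain ⟨u, hu⟩ := hC
  obtain ⟨a, ha⟩ := hdvd
  obtain ⟨R, hR⟩ := (fullyNormalized_fullyAutomized hS hF hP).2
  have hAc : Nat.card (F.autGroup P) =
      Nat.card (autInducedBy S P) * (R : Subgroup (F.autGroup P)).index := by
    rw [← Subgroup.card_mul_index (R : Subgroup (F.autGroup P)), hR,
      Nat.card_congr (Subgroup.subgroupOfEquivOfLe (autInducedBy_le hPS)).toEquiv]
  refine hXP' ⟨a * (R : Subgroup (F.autGroup P)).index * u, ?_⟩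
  rw [hXP, hhom, ha, hAc, hu, ← hq, ← card_autInducedBy_mul']
  ring

theorem card_mul_le_sup {A B : Subgroup Ω} (h : Finite (A ⊔ B : Subgroup Ω)) :
    Nat.card A * Nat.card B ≤ Nat.card (A ⊔ B : Subgroup Ω) * Nat.card (A ⊓ B : Subgroup Ω) := by
  have e : ∀ {K L : Subgroup Ω}, K ≤ L → Nat.card K * K.relIndex L = Nat.card L := by
    intro K L hKL
    rw [Subgroup.relIndex, ← Nat.card_congr (Subgroup.subgroupOfEquivOfLe hKL).toEquiv]
    exact Subgroup.card_mul_index _
  have h1 := e (le_sup_left : A ≤ A ⊔ B)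
  have h2 := e (inf_le_right : A ⊓ B ≤ B)
  rw [Subgroup.inf_relIndex_right] at h2
  rw [← h1, ← h2]
  have : A.relIndex B ≤ A.relIndex (A ⊔ B) := by
    refine Subgroup.relIndex_le_of_le_right le_sup_right ?_
    intro h0
    rw [h0, mul_zero] at h1
    exact Nat.card_pos.ne h1
  calc Nat.card A * (Nat.card (A ⊓ B : Subgroup Ω) * A.relIndex B)
      = Nat.card A * Nat.card (A ⊓ B : Subgroup Ω) * A.relIndex B := by ring
    _ ≤ Nat.card A * Nat.card (A ⊓ B : Subgroup Ω) * A.relIndex (A ⊔ B) :=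
        Nat.mul_le_mul_left _ this
    _ = _ := by ring

/-- A `p`-group of operators containing `S` supplements `S` by the normalizer of some fully
normalized member of a class it stabilizes. -/
theorem exists_fixed_member (hS : IsPGroup p S) (hF : F.IsSaturated p) {R : Subgroup Ω} [Finite R]
    (hR : IsPGroup p R) (hSR : S ≤ R) {P : Subgroup Ω} (hP : P ≤ S)
    (hstab : ∀ r ∈ R, ∀ Q, F.IsConj P Q → F.IsConj P (img (cj r) Q)) :
    ∃ Q, F.IsConj P Q ∧ F.IsFullyNormalized Q ∧ R ≤ S ⊔ normalizerIn R Q := by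
  classical
  obtain ⟨P₀, hPP₀, hP₀⟩ := exists_fullyNormalized (F := F) hP
  have := finite_class (F := F) P₀
  obtain ⟨n, hn⟩ := IsPGroup.iff_card.1 hS
  have hfinN₀ : Finite (normalizerIn S P₀) := finite_of_le normalizerIn_le
  obtain ⟨j, hj, hjc⟩ := (Nat.dvd_prime_pow (Fact.out : p.Prime)).1
    (hn ▸ Subgroup.card_dvd_of_le (normalizerIn_le (S := S) (P := P₀)))
  have hq : Nat.card (normalizerIn S P₀) * p ^ (n - j) = Nat.card S := by
    rw [hjc, hn, ← pow_add, Nat.add_sub_cancel' hj]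
  have hnd := not_dvd_class hS hF hP₀ hq
  have hst : ∀ (r : R) (Q : {Q // F.IsConj P₀ Q}), F.IsConj P₀ (Q.1.map (MulAut.conj (r : Ω)).toMonoidHom) :=
    fun r Q => by
      rw [← img_cj]
      exact isConj_trans (isConj_symm hPP₀) (hstab r r.2 _ (isConj_trans hPP₀ Q.2))
  let act : MulAction R {Q // F.IsConj P₀ Q} :=
    { smul := fun r Q => ⟨Q.1.map (MulAut.conj (r : Ω)).toMonoidHom, hst r Q⟩
      one_smul := fun Q => Subtype.ext (show Q.1.map _ = Q.1 by
        ext z; simp)
      mul_smul := fun a b Q => Subtype.ext (show Q.1.map _ = (Q.1.map _).map _ by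
        rw [Subgroup.map_map]; congr 1; ext z; simp [mul_assoc]) }
  by_contra hno
  push Not at hno
  refine hnd ((Nat.card_congr (Equiv.subtypeUnivEquiv fun _ => trivial).symm).symm ▸
    dvd_card_subset (G := R) (fun _ => True) (fun _ _ _ => trivial) fun Q _ => ?_)
  have hQ := Q.2
  have hfinN : Finite (normalizerIn R Q.1) := finite_of_le normalizerIn_le
  have hstc : stabilizer R Q = (normalizerIn R Q.1).subgroupOf R := Subgroup.ext fun r => by
    rw [mem_stabilizer_iff, Subgroup.mem_subgroupOf]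
    constructor
    · intro h
      exact ⟨r.2, Subgroup.mem_normalizer_iff_map_conj_eq.2 (congrArg Subtype.val h)⟩
    · intro h
      exact Subtype.ext (Subgroup.mem_normalizer_iff_map_conj_eq.1 h.2)
  have hoc : Nat.card (orbit R Q) * Nat.card (normalizerIn R Q.1) = Nat.card R := by
    rw [← Nat.card_congr (Subgroup.subgroupOfEquivOfLe (normalizerIn_le (S := R) (P := Q.1))).toEquiv,
      ← hstc, ← Nat.card_prod]
    exact Nat.card_congr (orbitProdStabilizerEquivGroup R Q)
  obtain ⟨k, hk⟩ := IsPGroup.iff_card.1 hR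
  obtain ⟨l, -, hl⟩ := (Nat.dvd_prime_pow (Fact.out : p.Prime)).1 (hk ▸ hoc ▸ dvd_mul_right _ _ :
    Nat.card (orbit R Q) ∣ p ^ k)
  rw [hl, ← pow_succ']
  refine pow_dvd_pow _ ?_
  by_contra hlt
  -- the member `Q` would be fixed
  have hPQ : F.IsConj P Q.1 := isConj_trans hPP₀ hQ
  have hN : normalizerIn S Q.1 = S ⊓ normalizerIn R Q.1 := by
    rw [normalizerIn, normalizerIn, ← inf_assoc, inf_eq_left.2 hSR]
  have hle : S ⊔ normalizerIn R Q.1 ≤ R := sup_le hSR normalizerIn_le
  have hfin : Finite (S ⊔ normalizerIn R Q.1 : Subgroup Ω) := finite_of_le hle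
  have h1 := card_mul_le_sup hfin
  rw [← hN] at h1
  have h2 : Nat.card R * Nat.card (normalizerIn S P₀) ≤ Nat.card S * Nat.card (normalizerIn R Q.1) := by
    rw [← hoc, ← hq, hl]
    have : p ^ l ≤ p ^ (n - j) := Nat.pow_le_pow_right (Fact.out : p.Prime).pos (by omega)
    calc p ^ l * Nat.card (normalizerIn R Q.1) * Nat.card (normalizerIn S P₀)
        ≤ p ^ (n - j) * Nat.card (normalizerIn R Q.1) * Nat.card (normalizerIn S P₀) :=
          Nat.mul_le_mul_right _ (Nat.mul_le_mul_right _ this)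
      _ = _ := by ring
  have hmax := hP₀.2 _ hQ
  have hQn : F.IsFullyNormalized Q.1 := by
    refine ⟨(isConj_le hQ).2, fun Q' hQ' => (hP₀.2 Q' (isConj_trans hQ hQ')).trans ?_⟩
    have h4 := (h2.trans h1).trans (Nat.mul_le_mul_right _ (card_le_card hle))
    exact Nat.le_of_mul_le_mul_left h4 Nat.card_pos
  refine hno Q.1 hPQ hQn (eq_of_le_card hle ?_).ge
  refine Nat.le_of_mul_le_mul_right ?_ (Nat.card_pos (α := normalizerIn S P₀))
  exact (h2.trans h1).trans (Nat.mul_le_mul_left _ hmax)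

end Cfsg.Agent.Fusion.ProdCount
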