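/-
Members of a class on which the automizer is `A(Q) Aut_R(Q)`.
-/
import Mathlib
import Cfsg.Agent.Lib.Fusion.ProdAut
import Cfsg.Agent.Lib.Fusion.ProdCount

set_option autoImplicit false
set_option linter.all false

namespace Cfsg.Agent.Fusion.ProdBest

open Cfsg Cfsg.FusionSystem Cfsg.Agent.Fusion.Basic Cfsg.Agent.Fusion.Saturation
  Cfsg.Agent.Fusion.Normal Cfsg.Agent.Fusion.Factor Cfsg.Agent.Fusion.Subsystems
  Cfsg.Agent.Fusion.KNormalizer Cfsg.Agent.Fusion.SylIn Cfsg.Agent.Fusion.Prod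
  Cfsg.Agent.Fusion.ProdSys Cfsg.Agent.Fusion.ProdAut

/-- Joins with a normalized subgroup are products. -/
theorem exists_mul {G : Type*} [Group G] {A B : Subgroup G}
    (hB : B ≤ Subgroup.normalizer (A : Set G)) {x : G} (hx : x ∈ A ⊔ B) :
    ∃ b ∈ B, ∃ a ∈ A, x = b * a := by
  have h1 : x ∈ ((B ⊔ A : Subgroup G) : Set G) := by rw [sup_comm]; exact hx
  rw [Subgroup.coe_mul_of_left_le_normalizer_right B A hB] at h1
  obtain ⟨b, hb, a, ha, he⟩ := h1
  exact ⟨b, hb, a, ha, he.symm⟩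

theorem card_sup_eq {G : Type*} [Group G] {A B : Subgroup G}
    (hB : B ≤ Subgroup.normalizer (A : Set G)) [Finite A] [Finite B]
    (hfin : Finite (A ⊔ B : Subgroup G)) :
    Nat.card (A ⊔ B : Subgroup G) * Nat.card (A ⊓ B : Subgroup G) = Nat.card A * Nat.card B := by
  refine le_antisymm ?_ (ProdCount.card_mul_le_sup hfin)
  choose b hb a ha he using fun x : (A ⊔ B : Subgroup G) => exists_mul hB x.2
  rw [← Nat.card_prod, ← Nat.card_prod]
  refine Nat.card_le_card_of_injective (fun z : (A ⊔ B : Subgroup G) × (A ⊓ B : Subgroup G) =>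
    ((⟨(z.2 : G)⁻¹ * a z.1, A.mul_mem (A.inv_mem z.2.2.1) (ha z.1)⟩ : A),
      (⟨b z.1 * z.2, B.mul_mem (hb z.1) z.2.2.2⟩ : B))) fun z w hzw => ?_
  have h1 : (z.2 : G)⁻¹ * a z.1 = (w.2 : G)⁻¹ * a w.1 :=
    congrArg (fun e : A × B => (e.1 : G)) hzw
  have h2 : b z.1 * z.2 = b w.1 * w.2 := congrArg (fun e : A × B => (e.2 : G)) hzw
  have h3 : z.1 = w.1 := Subtype.ext <| calc
    (z.1 : G) = b z.1 * z.2 * ((z.2 : G)⁻¹ * a z.1) := by rw [he z.1]; group
    _ = b w.1 * w.2 * ((w.2 : G)⁻¹ * a w.1) := by rw [h1, h2]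
    _ = w.1 := by rw [he w.1]; group
  refine Prod.ext h3 (Subtype.ext ?_)
  rw [h3] at h2
  exact mul_left_cancel h2

variable {Ω : Type*} [Group Ω] {S T R : Subgroup Ω}

/-- Related by a map of the product. -/
def Rel (F : FusionSystem S) (E : FusionSystem T) (p : ℕ) (P Q : Subgroup Ω) : Prop :=
  ∃ y, Y F E p P y ∧ img y P = Q

/-- The stabilizer in `R` of the class is supplemented by `T` with the normalizer. -/
def Best (F : FusionSystem S) (E : FusionSystem T) (p : ℕ) (R Q : Subgroup Ω) : Prop :=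
  TMax F T Q ∧ ∀ r ∈ R, Rel F E p Q (img (cj r) Q) → r ∈ T ⊔ normalizerIn R Q

/-- The claims about all systems on smaller subgroups. -/
def Prev (F : FusionSystem S) (E : FusionSystem T) (p : ℕ) (m : ℕ) : Prop :=
  ∀ (R₁ : Subgroup Ω) (D₁ : FusionSystem R₁), Sys F E p D₁ → Nat.card R₁ < m →
    D₁.IsSaturated p ∧ ∀ P, Fam S R₁ E P → D₁.autGroup P ≤ B F E p D₁ P

variable {F : FusionSystem S} {E : FusionSystem T} {p : ℕ} {D : FusionSystem R} [Finite S]
  [Fact p.Prime] {P P' Q X Z : Subgroup Ω}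

section Rel

variable (h : Base F E p)
include h

theorem rel_refl (hP : P ≤ S) : Rel F E p P P := ⟨id, id_map h hP, img_id P⟩

theorem rel_symm (hr : Rel F E p P Q) : Rel F E p Q P := by
  obtain ⟨y, hy, rfl⟩ := hr
  obtain ⟨i, hi, hiy⟩ := inv_map h hy
  exact ⟨i, hi, by rw [(isMap h hy).img_img, img_congr (g := id) hiy, img_id]⟩

theorem rel_trans (h₁ : Rel F E p P Q) (h₂ : Rel F E p Q X) : Rel F E p P X := by
  obtain ⟨y, hy, rfl⟩ := h₁
  obtain ⟨z, hz, rfl⟩ := h₂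
  exact ⟨fun x => z (y x), .comp hy hz, ((isMap h hy).img_img z).symm⟩

theorem rel_cj {s : Ω} (hs : s ∈ S) (hr : Rel F E p P Q) :
    Rel F E p (img (cj s) P) (img (cj s) Q) := by
  obtain ⟨y, hy, rfl⟩ := hr
  obtain ⟨y', hy', hye⟩ := transport_cj h hs hy
  refine ⟨y', hy', ?_⟩
  rw [(isMap_cj (F := F) (isMap h hy).le hs).img_img, (isMap h hy).img_img]
  exact img_congr hye

theorem rel_sup (hr : Rel F E p P Q) : Q ⊔ T = P ⊔ T := by
  obtain ⟨y, hy, rfl⟩ := hr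
  exact sup_eq h hy

theorem img_cj_cj {r s : Ω} (hr : r ∈ S) (hP : P ≤ S) :
    img (cj (s * r)) P = img (cj s) (img (cj r) P) := by
  rw [(isMap_cj (F := F) hP hr).img_img]
  exact img_congr fun x _ => cj_mul s r x

theorem img_normalizing {v : Ω} (hv : v ∈ Subgroup.normalizer (P : Set Ω)) :
    img (cj v) P = P := by
  rw [img_cj]
  exact Subgroup.mem_normalizer_iff_map_conj_eq.1 hv

end Rel

variable (h : Sys F E p D)
include h

theorem isConj_iff : D.IsConj P Q ↔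
    P ≤ R ∧ ∃ r ∈ R, ∃ Z, Rel F E p P Z ∧ img (cj r) Z = Q := by
  constructor
  · intro hQ
    obtain ⟨f, hf, rfl⟩ := isConj_iff_map.1 hQ
    obtain ⟨hPR, r, hr, y, hy, he⟩ := (h.maps _ _).1 hf
    refine ⟨hPR, r, hr, _, ⟨y, hy, rfl⟩, ?_⟩
    rw [(isMap h.base hy).img_img]
    exact img_congr fun x hx => (he x hx).symm
  · rintro ⟨hPR, r, hr, Z, ⟨y, hy, rfl⟩, rfl⟩
    have hyD := isMap_of_Y h hPR hy
    exact isConj_trans hyD.isConj (isMap_cj (F := D) hyD.img_le_S hr).isConj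

theorem stab_best (hQ : Best F E p R Q) (hQR : Q ≤ R) {Z : Subgroup Ω} (hZ : Rel F E p Q Z)
    {w : Ω} (hw : w ∈ R) (hwZ : w ∈ Subgroup.normalizer (Z : Set Ω)) :
    w ∈ T ⊔ normalizerIn R Q :=
  hQ.2 w hw (rel_trans h.base hZ (rel_symm h.base
    (img_normalizing h.base hwZ ▸ rel_cj h.base (h.RS hw) hZ)))

/-- The normalizers in `R` of the members are at most as big as that of `Q`. -/
theorem card_normalizer_le (hQ : Best F E p R Q) (hC : D.IsConj Q P) :
    Nat.card (normalizerIn R P) ≤ Nat.card (normalizerIn R Q) := by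
  obtain ⟨hQR, r, hr, Z, hZ, rfl⟩ := (isConj_iff h).1 hC
  have := finR h
  have hfinT := finT h.base
  have hZR : Z ≤ R := le_sup_left.trans ((rel_sup h.base hZ).le.trans (sup_le hQR h.TR))
  have hm := isMap_cj (F := D) (le_refl R) hr
  have hmN := hm.restrict (normalizerIn_le (S := R) (P := Z))
  have hle : normalizerIn R (img (cj r) Z) ≤ img (cj r) (normalizerIn R Z) := by
    intro x hx
    have h1 : cj r⁻¹ x ∈ normalizerIn R Z := by
      refine ⟨by rw [cj_apply, inv_inv]; exact R.mul_mem (R.mul_mem (R.inv_mem hr) hx.1) hr,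
        Subgroup.mem_normalizer_iff_map_conj_eq.2 ((img_cj _ _).symm.trans ?_)⟩
      rw [cj_apply, inv_inv]
      have hZS := hZR.trans h.RS
      have hrS := h.RS hr
      have hxS := h.RS hx.1
      rw [img_cj_cj h.base hrS hZS, img_cj_cj h.base hxS (isMap_cj (F := F) hZS hrS).img_le_S,
        img_normalizing h.base hx.2, ← img_cj_cj h.base hrS hZS, inv_mul_cancel,
        img_congr (g := id) (fun y _ => by rw [cj_one]), img_id]
    have := mem_img_self (cj r) h1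
    rwa [cj_apply, cj_apply, inv_inv, show r * (r⁻¹ * x * r) * r⁻¹ = x by group] at this
  have : Finite (img (cj r) (normalizerIn R Z)) := finite_of_le hmN.img_le_S
  refine (card_le_card hle).trans ?_
  rw [hmN.card_img]
  have hfinM : Finite (T ⊔ normalizerIn R Q : Subgroup Ω) :=
    finite_of_le (sup_le h.TR normalizerIn_le)
  have hfinZ : Finite (T ⊔ normalizerIn R Z : Subgroup Ω) :=
    finite_of_le (sup_le h.TR normalizerIn_le)
  have : Finite (normalizerIn R Q) := finite_of_le normalizerIn_le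
  have e : ∀ X : Subgroup Ω, T ⊓ normalizerIn R X = normalizerIn T X := fun X => by
    rw [normalizerIn, normalizerIn, ← inf_assoc, inf_eq_left.2 h.TR]
  have h1 := ProdCount.card_mul_le_sup hfinZ
  have h2 := card_sup_eq
    ((normalizerIn_le.trans h.RS).trans (S_norm h.base) : normalizerIn R Q ≤ _) hfinM
  rw [e] at h1 h2
  have h3 : T ⊔ normalizerIn R Z ≤ T ⊔ normalizerIn R Q :=
    sup_le le_sup_left fun w hw => stab_best h hQ hQR hZ hw.1 hw.2
  have h4 : Nat.card (normalizerIn T Z) ≤ Nat.card (normalizerIn T Q) := by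
    refine hQ.1.2 Z ?_
    obtain ⟨y, hy, rfl⟩ := hZ
    exact (isMap h.base hy).isConj
  have h5 := (h1.trans (Nat.mul_le_mul (card_le_card h3) h4)).trans h2.le
  exact Nat.le_of_mul_le_mul_left h5 Nat.card_pos

theorem exists_best (hprev : Prev F E p (Nat.card R)) (hP : P ≤ R) :
    ∃ y, Y F E p P y ∧ Best F E p R (img y P) := by
  classical
  have hfinR := finR h
  obtain ⟨y₁, hy₁, hQ₁⟩ := ProdFac.exists_TMax h.base (hP.trans h.RS)
  set Q₁ := img y₁ P with hQ₁def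
  have hQ₁R : Q₁ ≤ R := (img_le_sup (moves h.base hy₁)).trans (sup_le hP h.TR)
  set R₁ := Q₁ ⊔ T with hR₁
  have hR₁R : R₁ ≤ R := sup_le hQ₁R h.TR
  by_cases hsupp : ∀ r ∈ R, Rel F E p Q₁ (img (cj r) Q₁) → r ∈ R₁
  · refine ⟨y₁, hy₁, hQ₁, fun r hr hrel => ?_⟩
    exact (sup_le ((le_normalizerIn hQ₁R).trans le_sup_right) le_sup_left : R₁ ≤ _)
      (hsupp r hr hrel)
  push Not at hsupp
  obtain ⟨r₀, hr₀, -, hr₀R₁⟩ := hsupp
  have hlt : Nat.card R₁ < Nat.card R :=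
    card_lt_card (SetLike.lt_iff_le_and_exists.2 ⟨hR₁R, r₀, hr₀, hr₀R₁⟩)
  obtain ⟨D₁, hD₁⟩ := exists_sys h.base (le_sup_right : T ≤ R₁) (hR₁R.trans h.RS)
  have h₁ : Sys F E p D₁ := ⟨h.base, le_sup_right, hR₁R.trans h.RS, hD₁⟩
  obtain ⟨hsat, -⟩ := hprev R₁ D₁ h₁ hlt
  have : Finite R₁ := finite_of_le hR₁R
  -- the conjugates in the system on `Q₁ T`
  have hconj : ∀ Z, D₁.IsConj Q₁ Z ↔ Rel F E p Q₁ Z := by
    refine fun Z => ⟨fun hZ => ?_, fun hZ => ?_⟩
    · obtain ⟨-, r, hr, Z', hZ', rfl⟩ := (isConj_iff h₁).1 hZ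
      refine rel_trans h.base hZ' ?_
      have hZ'R₁ : Z' ≤ R₁ := le_sup_left.trans (rel_sup h.base hZ').le
      have hsup : Z' ⊔ T = R₁ := rel_sup h.base hZ'
      obtain ⟨x, hx, t, ht, he⟩ := exists_mul (A := T) (B := Z')
        (hZ'R₁.trans ((hR₁R.trans h.RS).trans (S_norm h.base)))
        (show r⁻¹ ∈ T ⊔ Z' by rw [sup_comm, hsup]; exact R₁.inv_mem hr)
      have hr' : r = t⁻¹ * x⁻¹ := by rw [← inv_inv r, he, mul_inv_rev]
      refine ⟨cj t⁻¹, .conj (hZ'R₁.trans (hR₁R.trans h.RS)) (T.inv_mem ht), ?_⟩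
      rw [hr', img_cj_cj h.base (S.inv_mem (h.RS (hR₁R (hZ'R₁ hx))))
        (hZ'R₁.trans (hR₁R.trans h.RS)), img_normalizing h.base
        (Subgroup.le_normalizer (Z'.inv_mem hx))]
    · exact (isConj_iff h₁).2 ⟨le_sup_left, 1, one_mem _, Z, hZ,
        (img_congr (g := id) fun y _ => by rw [cj_one]).trans (img_id Z)⟩
  -- the stabilizer
  have hmul : ∀ a b : Ω, a ∈ R → b ∈ R → Rel F E p Q₁ (img (cj a) Q₁) →
      Rel F E p Q₁ (img (cj b) Q₁) → Rel F E p Q₁ (img (cj (b * a)) Q₁) := by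
    intro a b ha hb hra hrb
    rw [img_cj_cj h.base (h.RS ha) (hQ₁R.trans h.RS)]
    exact rel_trans h.base hrb (rel_cj h.base (h.RS hb) hra)
  have hone : Rel F E p Q₁ (img (cj 1) Q₁) := by
    rw [img_congr (g := id) (fun y _ => by rw [cj_one]), img_id]
    exact rel_refl h.base (hQ₁R.trans h.RS)
  let Rst : Subgroup Ω :=
    { carrier := {r | r ∈ R ∧ Rel F E p Q₁ (img (cj r) Q₁)}
      one_mem' := ⟨R.one_mem, hone⟩
      mul_mem' := fun {a b} ha hb => ⟨R.mul_mem ha.1 hb.1, hmul b a hb.1 ha.1 hb.2 ha.2⟩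
      inv_mem' := fun {a} ha => by
        refine ⟨R.inv_mem ha.1, ?_⟩
        have hrel := rel_cj h.base (h.RS (R.inv_mem ha.1)) ha.2
        rw [← img_cj_cj h.base (h.RS ha.1) (hQ₁R.trans h.RS), inv_mul_cancel,
          img_congr (f := cj 1) (g := id) (fun y _ => by rw [cj_one]), img_id] at hrel
        exact rel_symm h.base hrel }
  have hRstR : Rst ≤ R := fun r hr => hr.1
  have hR₁st : R₁ ≤ Rst := fun r hr => ⟨hR₁R hr, (hconj _).1 ((isMap_cj (F := D₁) le_sup_left hr).isConj)⟩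
  have : Finite Rst := finite_of_le hRstR
  obtain ⟨Q, hQ, hQn, hle⟩ := ProdCount.exists_fixed_member (Rp h₁) hsat
    ((Rp h).to_le hRstR) hR₁st (le_sup_left : Q₁ ≤ R₁) fun r hr Z hZ => by
      rw [hconj] at hZ ⊢
      exact rel_trans h.base hr.2 (rel_cj h.base (h.RS hr.1) hZ)
  have hQrel : Rel F E p Q₁ Q := (hconj Q).1 hQ
  obtain ⟨y₂, hy₂, hy₂Q⟩ := hQrel
  refine ⟨fun x => y₂ (y₁ x), .comp hy₁ hy₂, ?_⟩
  rw [← (isMap h.base hy₁).img_img, hy₂Q]
  have hQrel : Rel F E p Q₁ Q := ⟨y₂, hy₂, hy₂Q⟩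
  have hsupQ : Q ⊔ T = R₁ := rel_sup h.base hQrel
  have hQR₁ : Q ≤ R₁ := le_sup_left.trans hsupQ.le
  have hQS : Q ≤ S := hQR₁.trans (hR₁R.trans h.RS)
  have hfinT := finT h.base
  refine ⟨⟨hQS, fun P' hP' => ?_⟩, fun r hr hrel => ?_⟩
  · have hQ₁Q : F.IsConj Q₁ Q := hy₂Q ▸ (isMap h.base hy₂).isConj
    refine (hQ₁.2 P' (isConj_trans hQ₁Q hP')).trans ?_
    -- compare in `Q₁ T`
    have key : ∀ {Z : Subgroup Ω}, Z ≤ R₁ → Z ⊔ T = R₁ →
        Nat.card R₁ * Nat.card (normalizerIn T Z) = Nat.card T * Nat.card (normalizerIn R₁ Z) := by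
      intro Z hZ hZT
      have : Finite (normalizerIn R₁ Z) := finite_of_le normalizerIn_le
      have hsup : T ⊔ normalizerIn R₁ Z = R₁ := le_antisymm (sup_le le_sup_right normalizerIn_le)
        (hZT.ge.trans (sup_le ((le_normalizerIn hZ).trans le_sup_right) le_sup_left))
      have h2 := card_sup_eq
        ((normalizerIn_le.trans (hR₁R.trans h.RS)).trans (S_norm h.base) : normalizerIn R₁ Z ≤ _)
        (finite_of_le hsup.le)
      rwa [hsup, normalizerIn, ← inf_assoc, inf_eq_left.2 (le_sup_right : T ≤ R₁)] at h2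
    have h1 := key le_sup_left rfl
    have h2 := key hQR₁ hsupQ
    have h3 : Nat.card (normalizerIn R₁ Q₁) ≤ Nat.card (normalizerIn R₁ Q) :=
      hQn.2 Q₁ (isConj_symm hQ)
    have h5 : Nat.card R₁ * Nat.card (normalizerIn T Q₁) ≤
        Nat.card R₁ * Nat.card (normalizerIn T Q) := by
      rw [h1, h2]
      exact Nat.mul_le_mul_left _ h3
    exact Nat.le_of_mul_le_mul_left h5 Nat.card_pos
  · have hrst : r ∈ Rst := ⟨hr, rel_trans h.base (rel_trans h.base hQrel hrel)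
      (rel_cj h.base (h.RS hr) (rel_symm h.base hQrel))⟩
    refine (sup_le ?_ ((inf_le_inf_right _ hRstR).trans le_sup_right) :
      R₁ ⊔ normalizerIn Rst Q ≤ T ⊔ normalizerIn R Q) (hle hrst)
    rw [← hsupQ]
    exact sup_le ((le_normalizerIn (hQR₁.trans hR₁R)).trans le_sup_right) le_sup_left

/-- The automizer in the supplemented case. -/
theorem B_supp (hQ : Fam S R E Q) (hQm : TMax F T Q) (hR : R = Q ⊔ T) :
    B F E p D Q ≤ K F E p Q ⊔ Inn Q := by
  refine (Subgroup.closure_le _).2 (Set.union_subset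
    (fun a ha => Subgroup.mem_sup_left (Subgroup.mem_sup_left ha)) ?_)
  rintro a ⟨g, v, hg, hv, hge⟩
  obtain ⟨-, r, hr, y, hy, hye⟩ := (h.maps _ _).1 hg
  set Z := img y Q with hZdef
  have hym := isMap h.base hy
  have hZR : Z ≤ R := (img_le_sup (moves h.base hy)).trans (sup_le hQ.1 h.TR)
  set w := r⁻¹ * v * r with hw
  have hwR : w ∈ R := R.mul_mem (R.mul_mem (R.inv_mem hr) hv) hr
  have hwe : ∀ x ∈ Q, y (autFun a x) = w * y x * w⁻¹ := fun x hx => by
    have h1 := hge x hx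
    rw [hye _ (autFun_mem a hx), hye x hx, cj_apply, cj_apply, cj_apply] at h1
    calc y (autFun a x) = r⁻¹ * (r * y (autFun a x) * r⁻¹) * r := by group
      _ = r⁻¹ * (v * (r * y x * r⁻¹) * v⁻¹) * r := by rw [h1]
      _ = w * y x * w⁻¹ := by rw [hw]; group
  have : Finite Z := finite_of_le (hZR.trans h.RS)
  have hwN : w ∈ Subgroup.normalizer (Z : Set Ω) := mem_normalizer_of_forall fun z hz => by
    obtain ⟨x, hx, rfl⟩ := hym.mem_img.1 hz
    rw [← hwe x hx]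
    exact mem_img_self y (autFun_mem a hx)
  obtain ⟨z₀, hz₀, t, ht, hzt⟩ := exists_mul (A := T) (B := Z)
    ((hZR.trans h.RS).trans (S_norm h.base))
    (show w ∈ T ⊔ Z by rw [sup_comm, sup_eq h.base hy, ← hR]; exact hwR)
  have htN : t ∈ normalizerIn T Z := ⟨ht, by
    rw [show t = z₀⁻¹ * w by rw [hzt, inv_mul_cancel_left]]
    exact Subgroup.mul_mem _ (Subgroup.inv_mem _ (Subgroup.le_normalizer hz₀)) hwN⟩
  obtain ⟨i, hi, hii, hiy, -⟩ := hym.exists_inv
  set c := conjAut T Z ⟨t, htN⟩ with hc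
  have hcK : c ∈ K F E p Z := Subgroup.mem_sup_right ((conjAut_range T Z).le ⟨_, rfl⟩)
  obtain ⟨k, hk, hke⟩ := ProdFac.K_transport h.base (cen_map h.base hQ.2 hym) hQm hi hii hcK
  obtain ⟨q₀, hq₀, hq₀e⟩ := hym.mem_img.1 hz₀
  have : a = MulAut.conj (⟨q₀, hq₀⟩ : Q) * k := autFun_ext fun x hx => by
    have hyx : y x ∈ Z := mem_img_self y hx
    have h1 := hke _ hyx
    rw [hiy x hx, conjAut_apply (K := T) ⟨t, htN⟩ hyx, cj_apply] at h1
    have htz : t * y x * t⁻¹ ∈ Z := (Subgroup.mem_normalizer_iff.1 htN.2 _).1 hyx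
    have h2 : autFun a x = i (z₀ * (t * y x * t⁻¹) * z₀⁻¹) := by
      rw [← hiy _ (autFun_mem a hx), hwe x hx, hzt]
      group
    rw [autFun_mul, autFun_of_mem (MulAut.conj (⟨q₀, hq₀⟩ : Q)) (autFun_mem k hx)]
    show _ = q₀ * autFun k x * q₀⁻¹
    rw [h2, hi.map_conj hz₀ htz, h1, ← hq₀e, hiy q₀ hq₀]
  rw [this]
  exact mul_mem (Subgroup.mem_sup_right ⟨_, rfl⟩) (Subgroup.mem_sup_left hk)

/-- The automizer at a best member. -/
theorem B_best (hprev : Prev F E p (Nat.card R)) (hQ : Fam S R E Q) (hb : Best F E p R Q) :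
    B F E p D Q ≤ A F E p Q ⊔ autInducedBy R Q := by
  classical
  have hfinR := finR h
  have hK : K F E p Q ⊔ Inn Q ≤ A F E p Q ⊔ autInducedBy R Q :=
    sup_le (sup_le le_sup_left (le_trans
      (show autInducedBy T Q ≤ autInducedBy R Q from fun a ha => by
        obtain ⟨t, ht, hte⟩ := mem_autInducedBy_iff'.1 ha
        exact mem_autInducedBy_iff'.2 ⟨t, ⟨h.TR ht.1, ht.2⟩, hte⟩) le_sup_right))
      ((inn_le_autInducedBy hQ.1).trans le_sup_right)
  rcases eq_or_lt_of_le (sup_le hQ.1 h.TR : Q ⊔ T ≤ R) with heq | hlt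
  · exact (B_supp h hQ hb.1 heq.symm).trans hK
  obtain ⟨D₁, hD₁⟩ := exists_sys h.base (le_sup_right : T ≤ Q ⊔ T) (hlt.le.trans h.RS)
  have h₁ : Sys F E p D₁ := ⟨h.base, le_sup_right, hlt.le.trans h.RS, hD₁⟩
  obtain ⟨-, haut⟩ := hprev _ D₁ h₁ (card_lt_card hlt)
  have hQ₁ : Fam S (Q ⊔ T) E Q := ⟨le_sup_left, hQ.2⟩
  have hD1K : D₁.autGroup Q ≤ K F E p Q ⊔ Inn Q := (haut Q hQ₁).trans (B_supp h₁ hQ₁ hb.1 rfl)
  refine (Subgroup.closure_le _).2 (Set.union_subset (fun a ha => Subgroup.mem_sup_left ha) ?_)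
  rintro a ⟨g, v, hg, hv, hge⟩
  obtain ⟨-, r, hr, y, hy, hye⟩ := (h.maps _ _).1 hg
  set Z := img y Q with hZdef
  have hym := isMap h.base hy
  have hZR : Z ≤ R := (img_le_sup (moves h.base hy)).trans (sup_le hQ.1 h.TR)
  set w := r⁻¹ * v * r with hw
  have hwR : w ∈ R := R.mul_mem (R.mul_mem (R.inv_mem hr) hv) hr
  have hwe : ∀ x ∈ Q, y (autFun a x) = w * y x * w⁻¹ := fun x hx => by
    have h1 := hge x hx
    rw [hye _ (autFun_mem a hx), hye x hx, cj_apply, cj_apply, cj_apply] at h1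
    calc y (autFun a x) = r⁻¹ * (r * y (autFun a x) * r⁻¹) * r := by group
      _ = r⁻¹ * (v * (r * y x * r⁻¹) * v⁻¹) * r := by rw [h1]
      _ = w * y x * w⁻¹ := by rw [hw]; group
  have : Finite Z := finite_of_le (hZR.trans h.RS)
  have hwN : w ∈ Subgroup.normalizer (Z : Set Ω) := mem_normalizer_of_forall fun z hz => by
    obtain ⟨x, hx, rfl⟩ := hym.mem_img.1 hz
    rw [← hwe x hx]
    exact mem_img_self y (autFun_mem a hx)
  obtain ⟨v', hv', t, ht, hvt⟩ := exists_mul (A := T) (B := normalizerIn R Q)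
    ((normalizerIn_le.trans h.RS).trans (S_norm h.base))
    (stab_best h hb hQ.1 ⟨y, hy, rfl⟩ hwR hwN)
  obtain ⟨i, hi, hiy⟩ := inv_map h.base hy
  have hv'S : v' ∈ S := h.RS hv'.1
  have hv'iN : v'⁻¹ ∈ Subgroup.normalizer (Q : Set Ω) := Subgroup.inv_mem _ hv'.2
  have hv'i : v'⁻¹ ∈ S := S.inv_mem hv'S
  obtain ⟨i', hi', hi'e⟩ := transport_cj h.base hv'i hi
  have hzt : ∀ x ∈ Q, t * y x * t⁻¹ = cj v'⁻¹ (y (autFun a x)) := fun x hx => by
    rw [hwe x hx, hvt, cj_apply]; group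
  have hct : img (cj t) Z = img (cj v'⁻¹) (img y Q) := by
    refine le_antisymm (img_le fun z hz => ?_) (img_le fun z hz => ?_)
    · obtain ⟨x, hx, rfl⟩ := hym.mem_img.1 hz
      rw [cj_apply, hzt x hx]
      exact mem_img_self _ (mem_img_self y (autFun_mem a hx))
    · obtain ⟨x, hx, rfl⟩ := hym.mem_img.1 hz
      have h1 := hzt _ (autFun_mem a⁻¹ hx)
      rw [autFun_apply_inv] at h1
      rw [← h1]
      exact mem_img_self (cj t) (mem_img_self y (autFun_mem a⁻¹ hx))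
  have hu : Y F E p Q fun x => i' (cj t (y x)) :=
    .comp (.comp hy (.conj (hZR.trans h.RS) ht)) (by
      rwa [← hym.img_img, hct])
  have hue : ∀ x ∈ Q, i' (cj t (y x)) = cj v'⁻¹ (autFun a x) := fun x hx => by
    show i' (t * y x * t⁻¹) = _
    rw [hzt x hx, hi'e _ (mem_img_self y (autFun_mem a hx)), hiy _ (autFun_mem a hx)]
  have humem : ∀ x ∈ Q, i' (cj t (y x)) ∈ Q := fun x hx => by
    rw [hue x hx]
    exact (Subgroup.mem_normalizer_iff.1 hv'iN _).1 (autFun_mem a hx)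
  have hfinQ : Finite Q := finite_of_le hQ.1
  have hum := isMap_of_Y h₁ le_sup_left hu
  obtain ⟨u, huA, hue'⟩ := hum.exists_aut (eq_of_le_card (img_le humem) hum.card_img.ge)
  have : a = conjAut R Q ⟨v', hv'⟩ * u := autFun_ext fun x hx => by
    rw [autFun_mul, conjAut_apply (K := R) ⟨v', hv'⟩ (autFun_mem u hx), hue' x hx, hue x hx,
      cj_apply, cj_apply]
    group
  rw [this]
  exact mul_mem (Subgroup.mem_sup_right ((conjAut_range R Q).le ⟨_, rfl⟩)) (hK (hD1K huA))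

/-- At a best member: a Sylow subgroup and the elements of order prime to `p`. -/
theorem B_props (hprev : Prev F E p (Nat.card R)) (hQ : Fam S R E Q) (hb : Best F E p R Q) :
    SylIn p (autInducedBy R Q) (B F E p D Q) ∧
      ∀ a ∈ B F E p D Q, (orderOf a).Coprime p → a ∈ A F E p Q := by
  classical
  have hQS : Q ≤ S := hQ.1.trans h.RS
  have hfinQ : Finite Q := finite_of_le hQS
  set A₀ := A F E p Q with hA₀
  set W := autInducedBy R Q with hW
  have hWF : W ≤ F.autGroup Q := fun a ha => by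
    obtain ⟨v, hv, he⟩ := mem_autInducedBy_iff'.1 ha
    exact autInducedBy_le hQS (mem_autInducedBy_iff'.2 ⟨v, ⟨h.RS hv.1, hv.2⟩, he⟩)
  have hWn : W ≤ Subgroup.normalizer (A₀ : Set (MulAut Q)) := fun w hw =>
    mem_normalizer_of_forall fun a ha => A_conj h.base hQS (hWF hw) ha
  have hBe : B F E p D Q = A₀ ⊔ W :=
    le_antisymm (B_best h hprev hQ hb) (sup_le A_le_B (autR_le_B h hQ.1))
  have hWp : IsPGroup p W := isPGroup_autInducedBy (Rp h)
  refine ⟨⟨autR_le_B h hQ.1, hWp, fun hd => ?_⟩, fun a ha hac => ?_⟩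
  · have hs := ProdLift.A_sylow h.base hQ.2 hb.1
    apply hs.2.2
    refine hd.trans ?_
    have e : ∀ {K L : Subgroup (MulAut Q)}, K ≤ L → Nat.card K * K.relIndex L = Nat.card L := by
      intro K L hKL
      rw [Subgroup.relIndex, ← Nat.card_congr (Subgroup.subgroupOfEquivOfLe hKL).toEquiv]
      exact Subgroup.card_mul_index _
    have h1 := e (le_sup_right : W ≤ A₀ ⊔ W)
    have h2 := e (inf_le_right : W ⊓ A₀ ≤ A₀)
    rw [Subgroup.inf_relIndex_right, inf_comm] at h2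
    have h3 := card_sup_eq hWn inferInstance
    rw [hBe]
    have heq : W.relIndex (A₀ ⊔ W) = W.relIndex A₀ := by
      refine Nat.eq_of_mul_eq_mul_left (n := Nat.card W * Nat.card (A₀ ⊓ W : Subgroup (MulAut Q)))
        (Nat.mul_pos Nat.card_pos Nat.card_pos) ?_
      calc Nat.card W * Nat.card (A₀ ⊓ W : Subgroup (MulAut Q)) * W.relIndex (A₀ ⊔ W)
          = Nat.card W * W.relIndex (A₀ ⊔ W) * Nat.card (A₀ ⊓ W : Subgroup (MulAut Q)) := by ring
        _ = Nat.card A₀ * Nat.card W := by rw [h1, h3]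
        _ = Nat.card (A₀ ⊓ W : Subgroup (MulAut Q)) * W.relIndex A₀ * Nat.card W := by rw [h2]
        _ = _ := by ring
    rw [heq]
    refine Subgroup.relIndex_dvd_of_le_left _ (inf_le_left.trans fun b hb' => ?_)
    obtain ⟨t, ht, hte⟩ := mem_autInducedBy_iff'.1 hb'
    exact mem_autInducedBy_iff'.2 ⟨t, ⟨h.TR ht.1, ht.2⟩, hte⟩
  · rw [hBe] at ha
    obtain ⟨w, hw, a₀, ha₀, rfl⟩ := exists_mul hWn ha
    obtain ⟨n, hn⟩ := hWp ⟨w, hw⟩
    refine ProdLift.mem_of_mul_pTorsion (a := w * a₀ * w⁻¹) (d := w) ?_ (hWn hw)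
      (by group) (n := n) ?_ hac
    · exact A_conj h.base hQS (hWF hw) ha₀
    · rw [show w ^ p ^ n = 1 from congrArg Subtype.val hn]
      exact one_mem _

end Cfsg.Agent.Fusion.ProdBest
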