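/-
Maps of the system on `R` read through the normalizers in `R`: the linking used for saturation.
-/
import Mathlib
import Cfsg.Agent.Lib.Fusion.ProdAut
import Cfsg.Agent.Lib.Fusion.SaturationCriterion

set_option autoImplicit false
set_option linter.all false

namespace Cfsg.Agent.Fusion.ProdLink

open Cfsg Cfsg.FusionSystem Cfsg.Agent.Fusion.Basic Cfsg.Agent.Fusion.Saturation
  Cfsg.Agent.Fusion.Normal Cfsg.Agent.Fusion.Factor Cfsg.Agent.Fusion.Subsystems
  Cfsg.Agent.Fusion.KNormalizer Cfsg.Agent.Fusion.SylIn Cfsg.Agent.Fusion.Prod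
  Cfsg.Agent.Fusion.ProdSys Cfsg.Agent.Fusion.ProdAut

variable {Ω : Type*} [Group Ω] {S T R : Subgroup Ω}

/-- `f` on `A` is, read through the normalizers, an element of the automizer. -/
def Link (F : FusionSystem S) (E : FusionSystem T) (p : ℕ) (D : FusionSystem R) (A : Subgroup Ω) (f : Ω → Ω) : Prop :=
  ∃ (C : Subgroup Ω) (g k : Ω → Ω) (τ : MulAut C), IsMap D (normalizerIn R A) g ∧
    IsMap D (normalizerIn R (img f A)) k ∧ img g A = C ∧ img k (img f A) = C ∧
    τ ∈ B F E p D C ∧ ∀ x ∈ A, k (f x) = autFun τ (g x)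

/-- All classes above `n` have automizers inside `B` and are good. -/
def Above (F : FusionSystem S) (E : FusionSystem T) (p : ℕ) (D : FusionSystem R) (n : ℕ) : Prop :=
  ∀ Z : Subgroup Ω, Fam S R E Z → n < Nat.card Z →
    (∀ a ∈ D.autGroup Z, (orderOf a).Coprime p → a ∈ Prod.A F E p Z) ∧
      SaturationCriterion.Good D p Z

/-- Maps on subgroups of order more than `m` in the normalizers are linked. -/
def Steps (F : FusionSystem S) (E : FusionSystem T) (p : ℕ) (D : FusionSystem R) (n m : ℕ) : Prop :=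
  ∀ (A X : Subgroup Ω) (ρ : Ω → Ω), Fam S R E A → Nat.card A = n → A < X →
    X ≤ normalizerIn R A → m < Nat.card X → IsMap D X ρ → Link F E p D A ρ

variable {F : FusionSystem S} {E : FusionSystem T} {p : ℕ}
  [Finite S] [Fact p.Prime] {D : FusionSystem R}
  (h : Sys F E p D) {A C P Q X : Subgroup Ω} {f g : Ω → Ω}
include h

theorem link_congr (hl : Link F E p D A f) (he : ∀ x ∈ A, f x = g x) : Link F E p D A g := by
  obtain ⟨C, u, k, τ, hu, hk, huC, hkC, hτ, hl⟩ := hl
  rw [img_congr he] at hk hkC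
  exact ⟨C, u, k, τ, hu, hk, huC, hkC, hτ, fun x hx => he x hx ▸ hl x hx⟩

theorem link_of_top (hA : A ≤ R) {ρ : Ω → Ω}
    (hρ : IsMap D (normalizerIn R A) ρ) : Link F E p D A ρ :=
  ⟨img ρ A, ρ, id, 1, hρ, isMap_id normalizerIn_le, rfl, img_id _, one_mem _,
    fun x _ => by rw [autFun_one]⟩

theorem link_aut (hA : A ≤ R) {b : MulAut A} (hb : b ∈ B F E p D A) :
    Link F E p D A (autFun b) :=
  ⟨A, id, id, b, isMap_id normalizerIn_le,
    by rw [autFun_img]; exact isMap_id normalizerIn_le,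
    img_id A, by rw [autFun_img, img_id], hb, fun x _ => rfl⟩

theorem link_inv (hf : IsMap D A f) {i : Ω → Ω} (hi : ∀ x ∈ A, i (f x) = x)
    (hl : Link F E p D A f) : Link F E p D (img f A) i := by
  obtain ⟨C, u, k, τ, hu, hk, huC, hkC, hτ, hl⟩ := hl
  have e : img i (img f A) = A := by rw [hf.img_img, img_congr (g := id) hi, img_id]
  refine ⟨C, k, u, τ⁻¹, hk, e.symm ▸ hu, hkC, by rw [e]; exact huC, inv_mem hτ, fun y hy => ?_⟩
  obtain ⟨x, hx, rfl⟩ := hf.mem_img.1 hy
  rw [hi x hx, hl x hx, autFun_inv_apply]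

/-- Composition of linked maps through a middle group with a big normalizer. -/
theorem link_comp {n m : ℕ} (hst : Steps F E p D n m) {f' : Ω → Ω} (hA : Fam S R E A)
    (hAn : Nat.card A = n) (hf : IsMap D A f) (hf' : IsMap D (img f A) f')
    (hB : img f A < normalizerIn R (img f A))
    (hm : m < Nat.card (normalizerIn R (img f A)))
    (h₁ : Link F E p D A f) (h₂ : Link F E p D (img f A) f') :
    Link F E p D A fun x => f' (f x) := by
  have hfinV : Finite R := finite_of_le (h.RS)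
  obtain ⟨C₁, g₁, k₁, τ₁, hg₁, hk₁, hg₁C, hk₁C, hτ₁, hl₁⟩ := h₁
  obtain ⟨C₂, g₂, k₂, τ₂, hg₂, hk₂, hg₂C, hk₂C, hτ₂, hl₂⟩ := h₂
  set Bm := img f A with hBdef
  have hBN : Bm ≤ normalizerIn R Bm := hB.le
  obtain ⟨i, hi, himg, hik, -⟩ := hk₁.exists_inv
  set u := fun y => g₂ (i y) with hu
  have hum : IsMap D (img k₁ (normalizerIn R Bm)) u :=
    hg₂.comp hi fun y hy => himg.le (mem_img_self i hy)
  have hC₁fam : Fam S R E C₁ :=
    hk₁C ▸ fam_map h (fam_map h hA hf) (hk₁.restrict hBN)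
  have hcard₁ : Nat.card C₁ = n := by
    rw [← hk₁C, (hk₁.restrict hBN).card_img, hf.card_img, hAn]
  have hlt : C₁ < img k₁ (normalizerIn R Bm) := by
    rw [← hk₁C]
    refine lt_of_le_of_ne (img_mono k₁ hBN) fun he => hB.ne ?_
    have : Finite (normalizerIn R Bm) := finite_of_le normalizerIn_le
    refine eq_of_le_card hBN (le_of_eq ?_)
    rw [← hk₁.card_img, ← he, (hk₁.restrict hBN).card_img]
  obtain ⟨C', g', k', τ', hg', hk', hg'C, hk'C, hτ', hl'⟩ :=
    hst C₁ _ u hC₁fam hcard₁ hlt (hk₁C ▸ hk₁.img_normalizerIn_le hBN le_rfl)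
      (by rw [hk₁.card_img]; exact hm) hum
  have e : img u C₁ = C₂ := by
    rw [← hk₁C, (hk₁.restrict hBN).img_img, ← hg₂C]
    exact img_congr fun x hx => by rw [hu]; exact congrArg g₂ (hik x (hBN hx))
  rw [e] at hk' hk'C
  have hgN : ∀ x ∈ normalizerIn R A, g₁ x ∈ normalizerIn R C₁ := fun x hx =>
    hg₁C ▸ hg₁.img_normalizerIn_le (le_normalizerIn hA.1) le_rfl (mem_img_self g₁ hx)
  have hfB : img f' Bm ≤ R := hf'.img_le_S
  have hkN : ∀ x ∈ normalizerIn R (img f' Bm), k₂ x ∈ normalizerIn R C₂ :=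
    fun x hx => hk₂C ▸ hk₂.img_normalizerIn_le (le_normalizerIn hfB) le_rfl (mem_img_self k₂ hx)
  have hC₂ : C₂ ≤ R := hg₂C ▸ (hg₂.restrict hBN).img_le_S
  have hC₂fam : Fam S R E C₂ := hg₂C ▸ fam_map h (fam_map h hA hf) (hg₂.restrict hBN)
  obtain ⟨τ₁', hτ₁', hτ₁e⟩ := transport h hC₁fam
    (hg'.restrict (le_normalizerIn hC₁fam.1)) hg'C hτ₁
  obtain ⟨τ₂', hτ₂', hτ₂e⟩ := transport h hC₂fam
    (hk'.restrict (le_normalizerIn hC₂)) hk'C hτ₂
  have himg' : img (fun x => f' (f x)) A = img f' Bm := (hf.img_img f').symm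
  refine ⟨C', fun x => g' (g₁ x), fun x => k' (k₂ x), τ₂' * τ' * τ₁', hg'.comp hg₁ hgN, ?_, ?_, ?_,
    mul_mem (mul_mem hτ₂' hτ') hτ₁', fun x hx => ?_⟩
  · rw [himg']
    exact hk'.comp hk₂ hkN
  · rw [← (hg₁.restrict (le_normalizerIn hA.1)).img_img, hg₁C, hg'C]
  · rw [himg', ← (hk₂.restrict (le_normalizerIn hfB)).img_img, hk₂C, hk'C]
  have hfx : f x ∈ Bm := mem_img_self f hx
  have hgx : g₁ x ∈ C₁ := hg₁C ▸ mem_img_self g₁ hx
  have hz₂ : g₂ (f x) ∈ C₂ := hg₂C ▸ mem_img_self g₂ hfx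
  show k' (k₂ (f' (f x))) = autFun (τ₂' * τ' * τ₁') (g' (g₁ x))
  rw [hl₂ _ hfx, ← hτ₂e _ hz₂, autFun_mul, autFun_mul, hτ₁e _ hgx,
    ← hl' _ (autFun_mem τ₁ hgx)]
  show _ = autFun τ₂' (k' (g₂ (i (autFun τ₁ (g₁ x)))))
  rw [← hl₁ x hx, hik _ (hBN hfx)]

/-- Maps on subgroups of the normalizer strictly containing the subgroup are linked. -/
theorem steps {n : ℕ} (hab : Above F E p D n) (m : ℕ) : Steps F E p D n m := by
  have hfinV : Finite R := finite_of_le (h.RS)
  have hVp : IsPGroup p R := h.base.pg.to_le (h.RS)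
  suffices ∀ d m, Nat.card R - m ≤ d → Steps F E p D n m from
    this _ m le_rfl
  intro d
  induction d with
  | zero =>
    intro m hm A X ρ _ _ _ hXN hmX
    have := card_le_card (hXN.trans normalizerIn_le)
    omega
  | succ d ih =>
    intro m hm A X ρ hA hAn hAX hXN hmX hρ
    have hXV : X ≤ R := hρ.le
    have hfinX : Finite X := finite_of_le hXV
    have hIH : Steps F E p D n (Nat.card X) := ih _ (by have := card_le_card hXV; omega)
    rcases eq_or_lt_of_le hXN with hXe | hXlt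
    · subst hXe
      exact link_of_top h hA.1 hρ
    set Bm := img ρ A with hBdef
    have hρA := hρ.restrict hAX.le
    set X' := img ρ X with hX'
    have hX'V : X' ≤ R := hρ.img_le_S
    have hnX : n < Nat.card X := hAn ▸ card_lt_card hAX
    have hXfam : Fam S R E X := fam_mono h hA hAX.le hXV
    obtain ⟨-, Xs, hXs, hFA, hRec⟩ := hab X hXfam hnX
    obtain ⟨γ₁, hγ₁, hγ₁X⟩ := exists_map_normalizer hFA hRec hVp hXs
    have hXsV : Xs ≤ R := hFA.1
    have hfinXs : Finite Xs := finite_of_le hXsV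
    obtain ⟨c, hc⟩ := SaturationCriterion.exists_adapted hFA (hγ₁X ▸ img_mono γ₁ hAX.le)
    set A' := img (autFun (c : MulAut Xs)) (img γ₁ A) with hA'def
    have hγ₁' := hγ₁.restrict (le_normalizerIn hXV)
    have hφ₁ : IsMap D X fun x => autFun (c : MulAut Xs) (γ₁ x) :=
      (isMap_of_mem_autGroup hXsV c.2).comp hγ₁' fun x hx => hγ₁X.le (mem_img_self γ₁ hx)
    have hφ₁X : img (fun x => autFun (c : MulAut Xs) (γ₁ x)) X = Xs := by
      rw [← hγ₁'.img_img, hγ₁X, autFun_img]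
    have hφ₁A : img (fun x => autFun (c : MulAut Xs) (γ₁ x)) A = A' := by
      rw [hA'def, (hγ₁'.restrict hAX.le).img_img]
    obtain ⟨j, hj, hjimg, hjρ, hρj⟩ := hρ.exists_inv
    have hφ₂ : IsMap D X' fun y => autFun (c : MulAut Xs) (γ₁ (j y)) :=
      hφ₁.comp hj fun y hy => hjimg.le (mem_img_self j hy)
    have hφ₂X : img (fun y => autFun (c : MulAut Xs) (γ₁ (j y))) X' = Xs := by
      rw [← hj.img_img (fun x => autFun (c : MulAut Xs) (γ₁ x)), hjimg, hφ₁X]
    have hφ₂B : img (fun y => autFun (c : MulAut Xs) (γ₁ (j y))) Bm = A' := by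
      rw [hBdef, hρA.img_img, ← hφ₁A]
      exact img_congr fun x hx => by rw [hjρ x (hAX.le hx)]
    set W₁ := normalizerIn R A ⊓ normalizerIn R X with hW₁
    set W₂ := normalizerIn R Bm ⊓ normalizerIn R X' with hW₂
    have : Finite (img (fun x => autFun (c : MulAut Xs) (γ₁ x)) X) := finite_of_le hφ₁.img_le_S
    have : Finite (img (fun y => autFun (c : MulAut Xs) (γ₁ (j y))) X') :=
      finite_of_le hφ₂.img_le_S
    obtain ⟨δ₁, hδ₁, hδ₁A, hδ₁X⟩ := SaturationCriterion.exists_lift hVp hφ₁ hAX.le hφ₁A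
      (by rwa [hφ₁X]) (by convert hc using 1) (W := W₁) inf_le_right (fun w hw => hw.1.2)
    obtain ⟨δ₂, hδ₂, hδ₂B, hδ₂X⟩ := SaturationCriterion.exists_lift hVp hφ₂ (img_mono ρ hAX.le)
      hφ₂B (by rwa [hφ₂X]) (by convert hc using 1) (W := W₂) inf_le_right (fun w hw => hw.1.2)
    rw [hφ₁X] at hδ₁X
    rw [hφ₂X] at hδ₂X
    have : Finite (normalizerIn R A) := finite_of_le normalizerIn_le
    have hlt₁ : X < X ⊔ W₁ := by
      obtain ⟨w, hw, hwX⟩ := exists_mem_normalizer_not_mem (hVp.to_le normalizerIn_le) hXlt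
        (S := normalizerIn R A)
      exact left_lt_sup.2 fun hle => hwX (hle ⟨hw.1, normalizerIn_le hw.1, hw.2⟩)
    have hX1N : X ⊔ W₁ ≤ normalizerIn R A := sup_le hXN inf_le_left
    have : Finite (X ⊔ W₁ : Subgroup Ω) := finite_of_le hδ₁.le
    have hδ₁A' := hδ₁.restrict (hAX.le.trans le_sup_left)
    have hA'V : A' ≤ R := hδ₁A ▸ hδ₁A'.img_le_S
    have hA'fam : Fam S R E A' := hδ₁A ▸ fam_map h hA hδ₁A'
    have hA'n : Nat.card A' = n := by rw [← hδ₁A, hδ₁A'.card_img, hAn]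
    have hbig : Nat.card X < Nat.card (normalizerIn R A') := by
      have : Finite (normalizerIn R A') := finite_of_le normalizerIn_le
      refine (card_lt_card hlt₁).trans_le ?_
      rw [← hδ₁.card_img]
      refine card_le_card ?_
      rw [← hδ₁A]
      exact img_le fun x hx => ⟨hδ₁.mem hx,
        hδ₁.mem_normalizer_img (hAX.le.trans le_sup_left) hx (hX1N hx).2⟩
    have hA'lt : A' < normalizerIn R A' := lt_of_le_of_ne (le_normalizerIn hA'V) fun e => by
      rw [← e] at hbig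
      omega
    have hl₁ : Link F E p D A δ₁ :=
      hIH A (X ⊔ W₁) δ₁ hA hAn (hAX.trans hlt₁) hX1N (card_lt_card hlt₁) hδ₁
    have hBfam : Fam S R E Bm := fam_map h hA hρA
    have hBn : Nat.card Bm = n := by rw [hρA.card_img, hAn]
    have hX'N : X' ≤ normalizerIn R Bm := img_le fun x hx =>
      ⟨hρ.mem hx, hρ.mem_normalizer_img hAX.le hx (hXN hx).2⟩
    have hl₂ : Link F E p D Bm δ₂ := by
      rcases eq_or_lt_of_le hX'N with hXe | hXlt'
      · exact link_of_top h hBfam.1 (hδ₂.restrict (hXe.symm.le.trans le_sup_left))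
      have : Finite (normalizerIn R Bm) := finite_of_le normalizerIn_le
      obtain ⟨w, hw, hwX⟩ := exists_mem_normalizer_not_mem (hVp.to_le normalizerIn_le) hXlt'
        (S := normalizerIn R Bm)
      have hlt₂ : X' < X' ⊔ W₂ :=
        left_lt_sup.2 fun hle => hwX (hle ⟨hw.1, normalizerIn_le hw.1, hw.2⟩)
      have : Finite (X' ⊔ W₂ : Subgroup Ω) := finite_of_le hδ₂.le
      exact hIH Bm (X' ⊔ W₂) δ₂ hBfam hBn (lt_of_le_of_lt (img_mono ρ hAX.le) hlt₂)
        (sup_le hX'N inf_le_left) (lt_of_eq_of_lt hρ.card_img.symm (card_lt_card hlt₂)) hδ₂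
    have hBX' : Bm ≤ X' := img_mono ρ hAX.le
    have hδ₂B' := hδ₂.restrict (hBX'.trans le_sup_left)
    obtain ⟨i₂, hi₂, hi₂img, hi₂δ, -⟩ := hδ₂B'.exists_inv
    have hl₂' : Link F E p D A' i₂ := hδ₂B ▸ link_inv h hδ₂B' hi₂δ hl₂
    rw [hδ₂B] at hi₂
    -- the middle automorphism
    obtain ⟨j₁, hj₁, hj₁img, hj₁δ, -⟩ := (hδ₁.restrict le_sup_left).exists_inv
    rw [hδ₁X] at hj₁ hj₁img
    have hj₁X : ∀ z ∈ Xs, j₁ z ∈ X := fun z hz => hj₁img.le (mem_img_self j₁ hz)
    have hσ : IsMap D Xs fun z => δ₂ (ρ (j₁ z)) := (hδ₂.restrict le_sup_left).comp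
      (hρ.comp hj₁ hj₁X) fun z hz => mem_img_self ρ (hj₁X z hz)
    obtain ⟨s, hs, hse⟩ := hσ.exists_aut (eq_of_le_card (img_le fun z hz =>
      hδ₂X.le (mem_img_self δ₂ (mem_img_self ρ (hj₁X z hz)))) hσ.card_img.ge)
    have hXsfam : Fam S R E Xs := by
      obtain ⟨e, he, hee⟩ := isConj_iff_map.1 hXs
      exact hee ▸ fam_map h hXfam he
    obtain ⟨hsA, hsG⟩ := hab Xs hXsfam (by rw [isConj_card hXs]; exact hnX)
    have hA'Xs : A' ≤ Xs := by rw [← hδ₁A, ← hδ₁X]; exact img_mono δ₁ hAX.le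
    have hsAe : ∀ a ∈ A, autFun s (δ₁ a) = δ₂ (ρ a) := fun a ha => by
      rw [hse _ (hδ₁X.le (mem_img_self δ₁ (hAX.le ha))), hj₁δ a (hAX.le ha)]
    obtain ⟨b, hb, hbe⟩ := ProdAut.restrict h hXsfam hA'Xs hsA hsG hs fun z hz => by
      obtain ⟨a, ha, rfl⟩ := hδ₁A'.mem_img.1 (hδ₁A.ge hz)
      rw [hsAe a ha]
      exact hδ₂B.le (mem_img_self δ₂ (mem_img_self ρ ha))
    have hbm : IsMap D A' (autFun b) := isMap_of_mem_autGroup hA'fam.1 (B_le_D h hA'fam hb)
    have hbA : img (autFun b) A' = A' := autFun_img b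
    have hl₃ : Link F E p D A' fun z => i₂ (autFun b z) :=
      link_comp h hIH hA'fam hA'n hbm (by rw [hbA]; exact hi₂) (by rw [hbA]; exact hA'lt)
        (by rw [hbA]; exact hbig) (link_aut h hA'V hb) (by rw [hbA]; exact hl₂')
    have hl₄ : Link F E p D A fun x => i₂ (autFun b (δ₁ x)) := by
      refine link_comp h hIH hA hAn hδ₁A' ?_ ?_ ?_ hl₁ (f' := fun z => i₂ (autFun b z)) ?_
      · rw [hδ₁A]
        exact hi₂.comp hbm fun z hz => autFun_mem b hz
      · rw [hδ₁A]; exact hA'lt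
      · rw [hδ₁A]; exact hbig
      · rw [hδ₁A]; exact hl₃
    refine link_congr h hl₄ fun x hx => ?_
    show i₂ (autFun b (δ₁ x)) = ρ x
    rw [hbe _ (hδ₁A.le (mem_img_self δ₁ hx)), hsAe x hx, hi₂δ _ (mem_img_self ρ hx)]

/-- The maps of the product on the members of the family of order `n` are linked. -/
theorem link_Y {n : ℕ} (hab : Above F E p D n) (hn : n < Nat.card R) (hf : Y F E p P f) :
    P ≤ R → ∀ A, A ≤ P → Fam S R E A → Nat.card A = n → Link F E p D A f := by
  have hfinV := finR h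
  have hVp := Rp h
  have hlt : ∀ A, Fam S R E A → Nat.card A = n → A < normalizerIn R A :=
    fun A hA hAn => lt_normalizerIn hVp
      (lt_of_le_of_ne hA.1 fun e => by rw [e] at hAn; omega)
  have hst := steps h hab n
  induction hf with
  | @auto P X a hX ha hPX hXP =>
    intro hPR A hAP hA hAn
    have hXV : X ≤ R := hXP.trans (sup_le hPR h.TR)
    rcases eq_or_lt_of_le (hAP.trans hPX) with rfl | hAX
    · exact link_aut h hA.1 (A_le_B ha)
    have hfinX : Finite X := finite_of_le hXV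
    have hNlt : A < normalizerIn X A := lt_normalizerIn (hVp.to_le hXV) hAX
    have hfinN : Finite (normalizerIn X A) := finite_of_le normalizerIn_le
    exact hst A (normalizerIn X A) (autFun a) hA hAn hNlt (inf_le_inf_right _ hXV)
      (hAn ▸ card_lt_card hNlt)
      ((isMap_of_Y h hXV (auto_self h.base hX ha)).restrict normalizerIn_le)
  | @conj P t hP ht =>
    intro hPR A hAP hA hAn
    exact link_of_top h hA.1 (isMap_cj normalizerIn_le (h.TR ht))
  | @comp P f g hf hg ihf ihg =>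
    intro hPR A hAP hA hAn
    have hfA : IsMap D A f := (isMap_of_Y h hPR hf).restrict hAP
    have hle : img f A ≤ img f P := img_mono f hAP
    have hfPR : img f P ≤ R := (isMap_of_Y h hPR hf).img_le_S
    have hB : Fam S R E (img f A) := fam_map h hA hfA
    have hBn : Nat.card (img f A) = n := by rw [hfA.card_img, hAn]
    have : Finite (normalizerIn R (img f A)) := finite_of_le normalizerIn_le
    exact link_comp h hst hA hAn hfA ((isMap_of_Y h hfPR hg).restrict hle) (hlt _ hB hBn)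
      (hBn ▸ card_lt_card (hlt _ hB hBn)) (ihf hPR A hAP hA hAn) (ihg hfPR _ hle hB hBn)
  | @congr P f g hf he ih =>
    intro hPR A hAP hA hAn
    exact link_congr h (ih hPR A hAP hA hAn) fun x hx => he x (hAP hx)

/-- All maps on the members of the family of order `n` are linked. -/
theorem link_all {n : ℕ} (hab : Above F E p D n) (hn : n < Nat.card R) (hA : Fam S R E A)
    (hAn : Nat.card A = n) (hf : IsMap D A f) : Link F E p D A f := by
  have hfinV := finR h
  obtain ⟨hAR, r, hr, y, hy, he⟩ := (h.maps A f).1 hf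
  have hyD := isMap_of_Y h hAR hy
  have hB := fam_map h hA hyD
  have hBn : Nat.card (img y A) = n := by rw [hyD.card_img, hAn]
  have hlt : img y A < normalizerIn R (img y A) := lt_normalizerIn (Rp h)
    (lt_of_le_of_ne hB.1 fun e => by rw [e] at hBn; omega)
  have : Finite (normalizerIn R (img y A)) := finite_of_le normalizerIn_le
  exact link_congr h (link_comp h (steps h hab n) hA hAn hyD (isMap_cj hB.1 hr) hlt
    (hBn ▸ card_lt_card hlt) (link_Y h hab hn hy hAR A le_rfl hA hAn)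
    (link_of_top h hB.1 (isMap_cj normalizerIn_le hr))) fun x hx => (he x hx).symm

end Cfsg.Agent.Fusion.ProdLink
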