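/-
The systems on the subgroups between `T` and `S` are saturated.
-/
import Mathlib
import Cfsg.Agent.Lib.Fusion.ProdBest
import Cfsg.Agent.Lib.Fusion.ProdExt
import Cfsg.Agent.Lib.Fusion.ProdLink
import Cfsg.Agent.Lib.PLocal.Cores

set_option autoImplicit false
set_option linter.all false

namespace Cfsg.Agent.Fusion.ProdSat

open Cfsg Cfsg.FusionSystem Cfsg.Agent.Fusion.Basic Cfsg.Agent.Fusion.Saturation
  Cfsg.Agent.Fusion.Normal Cfsg.Agent.Fusion.Factor Cfsg.Agent.Fusion.Subsystems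
  Cfsg.Agent.Fusion.KNormalizer Cfsg.Agent.Fusion.SylIn Cfsg.Agent.Fusion.Prod
  Cfsg.Agent.Fusion.ProdSys Cfsg.Agent.Fusion.ProdAut Cfsg.Agent.Fusion.ProdBest
  Cfsg.Agent.Fusion.ProdLink

variable {Ω : Type*} [Group Ω] {S T R : Subgroup Ω}
variable {F : FusionSystem S} {E : FusionSystem T} {p : ℕ} {D : FusionSystem R} [Finite S]
  [Fact p.Prime] (h : Sys F E p D) {P Q : Subgroup Ω} {f g : Ω → Ω}
include h

/-- The maps of the product on `R` are elements of the automizer. -/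
theorem aut_top (hf : Y F E p P f) :
    P = R → ∃ b ∈ B F E p D R, ∀ x ∈ R, f x = autFun b x := by
  have hfinR := finR h
  induction hf with
  | @auto P X a hX ha hPX hXP =>
    intro hP
    subst hP
    obtain rfl : X = P := le_antisymm (hXP.trans (sup_le le_rfl h.TR)) hPX
    exact ⟨a, A_le_B ha, fun x _ => rfl⟩
  | @conj P t _ ht =>
    intro hP
    subst hP
    exact ⟨conjAut P P ⟨t, h.TR ht, Subgroup.le_normalizer (h.TR ht)⟩,
      autR_le_B h le_rfl ((conjAut_range P P).le ⟨_, rfl⟩),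
      fun x hx => (conjAut_apply (K := P) ⟨t, h.TR ht, Subgroup.le_normalizer (h.TR ht)⟩ hx).symm⟩
  | @comp P f g hf hg ihf ihg =>
    intro hP
    obtain ⟨b, hb, hbe⟩ := ihf hP
    subst hP
    obtain ⟨c, hc, hce⟩ := ihg (by rw [img_congr hbe, autFun_img])
    refine ⟨c * b, mul_mem hc hb, fun x hx => ?_⟩
    show g (f x) = _
    rw [autFun_mul, ← hbe x hx, hce _ (hbe x hx ▸ autFun_mem b hx)]
  | @congr P f g hf he ih =>
    intro hP
    obtain ⟨b, hb, hbe⟩ := ih hP
    exact ⟨b, hb, fun x hx => (he x (hP ▸ hx)).symm.trans (hbe x hx)⟩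

theorem autGroup_top : D.autGroup R ≤ B F E p D R := by
  have hfinR := finR h
  intro a ha
  obtain ⟨-, r, hr, y, hy, he⟩ := (h.maps _ _).1 (isMap_of_mem_autGroup le_rfl ha)
  obtain ⟨b, hb, hbe⟩ := aut_top h hy rfl
  have : a = conjAut R R ⟨r, hr, Subgroup.le_normalizer hr⟩ * b := autFun_ext fun x hx => by
    rw [autFun_mul, conjAut_apply (K := R) ⟨r, hr, Subgroup.le_normalizer hr⟩ (autFun_mem b hx),
      he x hx, hbe x hx]
  rw [this]
  exact mul_mem (autR_le_B h le_rfl ((conjAut_range R R).le ⟨_, rfl⟩)) hb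

set_option maxHeartbeats 800000 in
/-- The classes of order `n` are good, if all bigger ones are. -/
theorem above_class (hprev : Prev F E p (Nat.card R)) (hP : Fam S R E P)
    (hab : Above F E p D (Nat.card P)) :
    D.autGroup P ≤ B F E p D P ∧ (∀ a ∈ D.autGroup P, (orderOf a).Coprime p → a ∈ A F E p P) ∧
      SaturationCriterion.Good D p P := by
  classical
  have hfinR := finR h
  have hVp := Rp h
  obtain ⟨y₀, hy₀, hbest⟩ := exists_best h hprev hP.1
  set Q := img y₀ P with hQdef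
  have hy₀D := isMap_of_Y h hP.1 hy₀
  have hQfam : Fam S R E Q := fam_map h hP hy₀D
  have hQn : Nat.card Q = Nat.card P := hy₀D.card_img
  obtain ⟨hsyl, hBA⟩ := B_props h hprev hQfam hbest
  have hfinQ : Finite Q := finite_of_le (hQfam.1.trans h.RS)
  have hfinN : Finite (normalizerIn R Q) := finite_of_le normalizerIn_le
  -- maps onto `Q` give maps of normalizers
  have hlink : ∀ A f, Nat.card P < Nat.card R → Fam S R E A → Nat.card A = Nat.card P →
      IsMap D A f → img f A = Q →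
      ∃ g, IsMap D (normalizerIn R A) g ∧ img g A = Q ∧
        ∃ τ ∈ B F E p D Q, ∀ x ∈ A, f x = autFun τ (g x) := by
    intro A f hn hA hAn hf hfQ
    obtain ⟨C, u, k, τ, hu, hk, huC, hkC, hτ, hl⟩ := link_all h hab hn hA hAn hf
    rw [hfQ] at hk hkC
    have hQN : Q ≤ normalizerIn R Q := le_normalizerIn hQfam.1
    have hkQ := hk.restrict hQN
    have hC : C ≤ R := hkC ▸ hkQ.img_le_S
    have : Finite (normalizerIn R C) := finite_of_le normalizerIn_le
    have hkN : img k (normalizerIn R Q) = normalizerIn R C := by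
      refine eq_of_le_card (hkC ▸ hk.img_normalizerIn_le hQN le_rfl) ?_
      rw [hk.card_img]
      exact card_normalizer_le h hbest (hkC ▸ hkQ.isConj)
    obtain ⟨i, hi, hiimg, hik, -⟩ := hk.exists_inv
    rw [hkN] at hi
    have hAN : A ≤ normalizerIn R A := le_normalizerIn hA.1
    have huN : ∀ x ∈ normalizerIn R A, u x ∈ normalizerIn R C := fun x hx =>
      huC ▸ hu.img_normalizerIn_le hAN le_rfl (mem_img_self u hx)
    have hiC : img i C = Q := by
      rw [← hkC, hkQ.img_img, img_congr (g := id) fun x hx => hik x (hQN hx), img_id]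
    obtain ⟨τ', hτ', hτe⟩ := transport h (hkC ▸ fam_map h hQfam hkQ)
      (hi.restrict (le_normalizerIn hC)) hiC hτ
    refine ⟨fun x => i (u x), hi.comp hu huN, ?_, τ', hτ', fun x hx => ?_⟩
    · rw [← (hu.restrict hAN).img_img, huC, hiC]
    · show f x = autFun τ' (i (u x))
      rw [hτe _ (huC ▸ mem_img_self u hx), ← hl x hx, hik _ (hQN (hfQ ▸ mem_img_self f hx))]
  have hcase : Nat.card P < Nat.card R ∨ Q = R := by
    rcases eq_or_lt_of_le hQfam.1 with e | hlt
    · exact Or.inr e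
    · exact Or.inl (hQn ▸ card_lt_card hlt)
  -- the automorphisms of `Q`
  have hautQ : D.autGroup Q ≤ B F E p D Q := by
    rcases hcase with hn | e
    swap
    · rw [e]; exact autGroup_top h
    intro a ha
    obtain ⟨g, hg, hgQ, τ, hτ, he⟩ :=
      hlink Q _ hn hQfam hQn (isMap_of_mem_autGroup hQfam.1 ha) (autFun_img a)
    have hQlt : Q < normalizerIn R Q := lt_normalizerIn hVp
      (lt_of_le_of_ne hQfam.1 fun e => by rw [e] at hQn; omega)
    have himg : img g (normalizerIn R Q) = normalizerIn R Q := by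
      refine eq_of_le_card ?_ hg.card_img.ge
      have := hg.img_normalizerIn_le hQlt.le le_rfl
      rwa [hgQ] at this
    obtain ⟨ψ, hψ, hψe⟩ := hg.exists_aut himg
    have hNfam : Fam S R E (normalizerIn R Q) := fam_mono h hQfam hQlt.le normalizerIn_le
    obtain ⟨hNA, hNG⟩ := hab _ hNfam (hQn ▸ card_lt_card hQlt)
    obtain ⟨b, hb, hbe⟩ := ProdAut.restrict h hNfam hQlt.le hNA hNG hψ fun x hx => by
      rw [hψe x (hQlt.le hx)]
      exact hgQ.le (mem_img_self g hx)
    have : a = τ * b := autFun_ext fun x hx => by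
      rw [autFun_mul, hbe x hx, hψe x (hQlt.le hx), he x hx]
    rw [this]
    exact mul_mem hτ hb
  obtain ⟨e, hee⟩ := hy₀D.exists_autEquiv
  obtain ⟨i, hi, hiimg, hif, -⟩ := hy₀D.exists_inv
  refine ⟨fun a ha => ?_, fun a ha hac => ?_, Q, hy₀D.isConj, ?_, ?_⟩
  · obtain ⟨a', ha', ha'e⟩ := transport h hQfam hi hiimg (hautQ (e ⟨a, ha⟩).2)
    have : a = a' := autFun_ext fun x hx => by
      have h1 := ha'e _ (mem_img_self y₀ hx)
      rw [hif x hx, hee ⟨a, ha⟩ x hx, hif _ (autFun_mem a hx)] at h1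
      exact h1.symm
    rwa [this]
  · have hac' : (orderOf ((e ⟨a, ha⟩ : D.autGroup Q) : MulAut Q)).Coprime p := by
      rw [Subgroup.orderOf_coe, MulEquiv.orderOf_eq, Subgroup.orderOf_mk]
      exact hac
    obtain ⟨a', ha', ha'e⟩ := A_transport h.base (toF h hi) hiimg
      (hBA _ (hautQ (e ⟨a, ha⟩).2) hac')
    have : a = a' := autFun_ext fun x hx => by
      have h1 := ha'e _ (mem_img_self y₀ hx)
      rw [hif x hx, hee ⟨a, ha⟩ x hx, hif _ (autFun_mem a hx)] at h1
      exact h1.symm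
    rwa [this]
  · -- `Q` is fully automized
    refine (fullyAutomized_iff hVp).2 ⟨hQfam.1, fun hdvd => hsyl.2.2 ?_⟩
    rwa [le_antisymm hautQ (B_le_D h hQfam)] at hdvd
  · -- `Q` is receptive
    refine isReceptive_iff.2 ⟨hQfam.1, fun A f hf hfA => ?_⟩
    rcases hcase with hn | e
    swap
    · have hA : A = R := eq_of_le_card hf.le (le_of_eq (by rw [← e, ← hfA, hf.card_img]))
      subst hA
      exact ⟨f, hf.restrict ((nSub_le _ _ _).trans normalizerIn_le), fun x _ => rfl⟩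
    have hAfam : Fam S R E A := fam_conj h hQfam (isConj_symm (hfA ▸ hf.isConj))
    have hAn : Nat.card A = Nat.card P := by rw [← hQn, ← hfA, hf.card_img]
    obtain ⟨g, hg, hgQ, τ, hτ, he⟩ := hlink A f hn hAfam hAn hf hfA
    obtain ⟨θ, hθ, hθe⟩ := ProdExt.exists_ext h hQfam.1 hbest.1 hQfam hBA hsyl hτ
    have hAN : A ≤ normalizerIn R A := le_normalizerIn hAfam.1
    refine ⟨fun u => θ (g u), hθ.comp (hg.restrict (nSub_le _ A f)) fun u hu => ?_, fun x hx => ?_⟩
    · have huN := nSub_le _ A f hu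
      obtain ⟨-, hun, w, hw, hwe⟩ := hu
      refine ⟨hg.mem huN, hgQ ▸ hg.mem_normalizer_img hAN huN huN.2, w, hw, fun z hz => ?_⟩
      obtain ⟨x, hx, rfl⟩ := (hg.restrict hAN).mem_img.1 (hgQ.ge hz)
      have hux : u * x * u⁻¹ ∈ A := (Subgroup.mem_normalizer_iff.1 hun x).1 hx
      rw [← hg.map_conj huN (hAN hx), ← he _ hux, ← he x hx]
      exact hwe x hx
    · show θ (g x) = f x
      rw [hθe _ (hgQ ▸ mem_img_self g hx), he x hx]

theorem above (hprev : Prev F E p (Nat.card R)) (hP : Fam S R E P) :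
    D.autGroup P ≤ B F E p D P ∧ (∀ a ∈ D.autGroup P, (orderOf a).Coprime p → a ∈ A F E p P) ∧
      SaturationCriterion.Good D p P := by
  have hfinR := finR h
  induction hn : Nat.card R - Nat.card P using Nat.strong_induction_on generalizing P with
  | _ d ih =>
  refine above_class h hprev hP fun Z hZ hlt => ?_
  have := card_le_card hZ.1
  exact (ih _ (by omega) hZ rfl).2

set_option maxHeartbeats 800000 in
/-- Off the family: some member has an element of `T` inducing an outer element of `O_p`. -/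
theorem exists_core (hP : D.IsCentric P) (hnot : ¬ Fam S R E P) :
    ∃ Q, D.IsConj P Q ∧
      ¬ (autInducedBy R Q ⊓ (pCore p (D.autGroup Q)).map (D.autGroup Q).subtype ≤ Inn Q) := by
  classical
  have hfinR := finR h
  have hb := h.base
  have hfinT := finT hb
  have hPR := hP.1
  have hPS := hPR.trans h.RS
  obtain ⟨θ, hθ, hfn, hQTn⟩ := ProdLift.exists_both hb hPS
  have hθP := hθ.restrict (le_normalizerIn hPS)
  obtain ⟨γ, y, hy, hγ, he⟩ := ProdFac.fac hb hθP
  set Q₀ := img θ P with hQ₀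
  set Q := img y P with hQ
  have hQR : Q ≤ R := (img_le_sup (moves hb hy)).trans (sup_le hPR h.TR)
  have hQS := hQR.trans h.RS
  have hPQ : D.IsConj P Q := (isMap_of_Y h hPR hy).isConj
  have hyP : Q ≤ P ⊔ T := img_le_sup (moves hb hy)
  have e1 : Q₀ = img γ Q := by
    rw [hQ, (isMap hb hy).img_img]
    exact img_congr he
  have hQ₀T : Q₀ ⊓ T = img γ (Q ⊓ T) := by rw [img_inf_T hb (hγ.restrict hyP), e1]
  have hQ₁E := fullyNormalized_of_subsystem hb.pg hb.sat (closed hb) (inv hb).1 inf_le_right hQTn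
  have hnle : ¬ centralizerIn T (Q ⊓ T) ≤ Q ⊓ T := by
    intro hle
    have hne : ¬ E.IsCentric (Q ⊓ T) := fun hc => hnot (fam_conj h ⟨hQR, hQS, hc⟩ (isConj_symm hPQ))
    refine hne ⟨inf_le_right, fun Q' hQ' => ?_⟩
    -- all conjugates centralize no more
    have h0 : centralizerIn T (Q₀ ⊓ T) ≤ Q₀ ⊓ T := by
      intro c hc
      obtain ⟨i, hi, hii, hiγ, hγi⟩ := hγ.exists_inv
      have hTim : T ≤ img γ (P ⊔ T) := (img_T (h := hb) hγ le_sup_right).ge.trans
        (img_mono γ le_sup_right)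
      have hic : i c ∈ centralizerIn T (Q ⊓ T) := by
        refine ⟨stronglyClosed_mem (closed hb) hi (hTim hc.1) hc.1, fun q hq => ?_⟩
        have hqP : q ∈ P ⊔ T := hyP hq.1
        have h1 := hc.2 _ (hQ₀T.ge (mem_img_self γ hq))
        rw [← hiγ q hqP, ← hi.map_mul (mem_img_self γ hqP) (hTim hc.1),
          ← hi.map_mul (hTim hc.1) (mem_img_self γ hqP), h1]
      have h2 := hle hic
      rw [← hγi c (hTim hc.1), hQ₀T]
      exact mem_img_self γ h2
    have hQ₀E : E.IsCentric (Q₀ ⊓ T) := by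
      refine ⟨inf_le_right, fun Q'' hQ'' => ?_⟩
      obtain ⟨g, hg, hgQ⟩ := exists_map_to_fullyNormalized (Tp hb) (Esat hb) hQ₁E (isConj_symm hQ'')
      intro w hw
      have hwN : w ∈ normalizerIn T Q'' := centralizerIn_le_normalizerIn hw
      have hgw : g w ∈ centralizerIn T (img g Q'') :=
        ⟨hg.mem hwN, hg.mem_centralizer_img (le_normalizerIn (isConj_le hQ'').2) hwN hw.2⟩
      replace hgQ : img g Q'' = Q₀ ⊓ T := hgQ
      rw [hgQ] at hgw
      have h1 := h0 hgw
      rw [← hgQ] at h1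
      obtain ⟨x, hx, hxe⟩ := (hg.restrict (le_normalizerIn (isConj_le hQ'').2)).mem_img.1 h1
      exact hg.inj (le_normalizerIn (isConj_le hQ'').2 hx) hwN hxe ▸ hx
    have hQe : E.IsCentric (Q ⊓ T) := by
      obtain ⟨i, hi, hii, hiγ, -⟩ := hγ.exists_inv
      have hle' : Q₀ ⊓ T ≤ img γ (P ⊔ T) := inf_le_left.trans (e1.le.trans (img_mono γ hyP))
      have e2 : img i (Q₀ ⊓ T) = Q ⊓ T := by
        rw [hQ₀T, (hγ.restrict (inf_le_left.trans hyP : Q ⊓ T ≤ P ⊔ T)).img_img]
        exact (img_congr (g := id) fun x (hx : x ∈ Q ⊓ T) => hiγ x (hyP hx.1)).trans (img_id _)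
      exact GoodExtension.centric_conj_invariant (inv hb) hQ₀E (e2 ▸ (hi.restrict hle').isConj)
    exact hQe.2 Q' hQ'
  -- an element of `T` normalizing `Q` and centralizing `Q ⊓ T`
  set Q₁ := Q ⊓ T with hQ₁
  have hfinC : Finite (centralizerIn T Q₁) := finite_of_le centralizerIn_le
  have hQC : Q ≤ Subgroup.normalizer (centralizerIn T Q₁ : Set Ω) := fun x hx =>
    mem_normalizer_of_forall fun c hc => ⟨conj_T hb (hQS hx) hc.1, fun q hq => by
      have hxi : x⁻¹ * q * x⁻¹⁻¹ ∈ Q₁ :=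
        ⟨Q.mul_mem (Q.mul_mem (Q.inv_mem hx) hq.1) (Q.inv_mem (Q.inv_mem hx)),
          conj_T hb (S.inv_mem (hQS hx)) hq.2⟩
      calc q * (x * c * x⁻¹) = x * (x⁻¹ * q * x⁻¹⁻¹ * c) * x⁻¹ := by group
        _ = x * (c * (x⁻¹ * q * x⁻¹⁻¹)) * x⁻¹ := by rw [hc.2 _ hxi]
        _ = x * c * x⁻¹ * q := by group⟩
  have hQCS : Q ⊔ centralizerIn T Q₁ ≤ S := sup_le hQS (centralizerIn_le.trans (T_le hb))
  have : Finite (Q ⊔ centralizerIn T Q₁ : Subgroup Ω) := finite_of_le hQCS
  have hlt : Q < Q ⊔ centralizerIn T Q₁ :=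
    left_lt_sup.2 fun hle => hnle fun c hc => ⟨hle hc, hc.1⟩
  obtain ⟨w, hw, hwQ⟩ := exists_mem_normalizer_not_mem (hb.pg.to_le hQCS) hlt
  obtain ⟨x, hx, c, hc, hwe⟩ : ∃ x ∈ Q, ∃ c ∈ centralizerIn T Q₁, x * c = w := by
    have h1 : w ∈ ((Q ⊔ centralizerIn T Q₁ : Subgroup Ω) : Set Ω) := hw.1
    rw [Subgroup.coe_mul_of_left_le_normalizer_right Q _ hQC] at h1
    exact h1
  have hcQ : c ∉ Q := fun hcQ => hwQ (hwe ▸ Q.mul_mem hx hcQ)
  have hcN : c ∈ Subgroup.normalizer (Q : Set Ω) := by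
    rw [show c = x⁻¹ * w by rw [← hwe, inv_mul_cancel_left]]
    exact Subgroup.mul_mem _ (Subgroup.inv_mem _ (Subgroup.le_normalizer hx)) hw.2
  set d := conjAut R Q ⟨c, h.TR hc.1, hcN⟩ with hd
  have hde : ∀ z ∈ Q, autFun d z = cj c z := fun z hz =>
    conjAut_apply (K := R) ⟨c, h.TR hc.1, hcN⟩ hz
  have hdR : d ∈ autInducedBy R Q := (conjAut_range R Q).le ⟨_, rfl⟩
  have hdD : d ∈ D.autGroup Q := autInducedBy_le hQR hdR
  refine ⟨Q, hPQ, fun hle => ?_⟩
  have hDF : ∀ a ∈ D.autGroup Q, a ∈ F.autGroup Q := fun a ha =>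
    (mem_autGroup_iff hQS).2 (toF h (isMap_of_mem_autGroup hQR ha))
  have hdΔ : d ∈ ProdLift.Delta F T Q := by
    refine ⟨hDF d hdD, fun z hz => ?_, fun z hz => ?_⟩
    · rw [hde z hz]
      exact conj_moves hb (hQS hz) hc.1
    · rw [hde z hz.1, cj_apply, ← hc.2 z hz, mul_inv_cancel_right]
  set N := (ProdLift.Delta F T Q).subgroupOf (D.autGroup Q) with hN
  have : N.Normal := ⟨fun a ha b => Subgroup.mem_subgroupOf.2
    (ProdLift.delta_conj hb hQS (hDF b b.2) (Subgroup.mem_subgroupOf.1 ha))⟩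
  have hNp : IsPGroup p N :=
    (ProdLift.delta_pGroup hb hQS).comap_of_injective _ Subtype.val_injective
  have hcore : d ∈ (pCore p (D.autGroup Q)).map (D.autGroup Q).subtype :=
    ⟨⟨d, hdD⟩, Cfsg.Agent.PLocal.Cores.le_pCore hNp (Subgroup.mem_subgroupOf.2 hdΔ), rfl⟩
  obtain ⟨q, hq, hqe⟩ := mem_inn_iff.1 (hle ⟨hdR, hcore⟩)
  refine hcQ ?_
  have h1 : q⁻¹ * c ∈ centralizerIn R Q := by
    refine ⟨R.mul_mem (R.inv_mem (hQR hq)) (h.TR hc.1), fun z hz => ?_⟩
    have h2 := (hde z hz).symm.trans (hqe z hz)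
    rw [cj_apply, cj_apply] at h2
    calc z * (q⁻¹ * c) = q⁻¹ * (q * z * q⁻¹) * c := by group
      _ = q⁻¹ * (c * z * c⁻¹) * c := by rw [h2]
      _ = q⁻¹ * c * z := by group
  have h3 := Q.mul_mem hq (hP.2 Q hPQ h1)
  rwa [mul_inv_cancel_left] at h3

theorem saturated_aux (hprev : Prev F E p (Nat.card R)) :
    D.IsSaturated p ∧ ∀ P, Fam S R E P → D.autGroup P ≤ B F E p D P := by
  have hfinR := finR h
  refine ⟨SaturationCriterion.saturated_of_family (ℋ := {P | Fam S R E P}) (Rp h)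
    (fun P hP Q hQ => fam_conj h hP hQ) (fun P hP => (above h hprev hP).2.2) (fun G hG => ?_)
    (fun P hP hnot => exists_core h hP hnot), fun P hP => (above h hprev hP).1⟩
  refine le_of_isMap fun P f hf => ?_
  obtain ⟨hPR, r, hr, y, hy, he⟩ := (h.maps P f).1 hf
  have hgen : ∀ {P : Subgroup Ω} {y : Ω → Ω}, Y F E p P y → P ≤ R → IsMap G P y := by
    intro P y hy
    induction hy with
    | @auto P X a hX ha hPX hXP =>
      intro hPR
      have hXR : X ≤ R := hXP.trans (sup_le hPR h.TR)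
      obtain ⟨φ, hφ, hφe⟩ := isMap_of_Y h hXR (auto_self h.base hX ha)
      exact ((IsMap.of_hom (hG X ⟨hXR, hX⟩ hφ)).congr fun x hx => by
        rw [ext_of_mem φ hx]; exact hφe ⟨x, hx⟩).restrict hPX
    | conj hP ht => exact fun hPR => isMap_cj hPR (h.TR ht)
    | @comp P f g hf hg ihf ihg =>
      intro hPR
      exact (ihg ((isMap_of_Y h hPR hf).img_le_S)).comp (ihf hPR) fun x hx => mem_img_self f hx
    | congr _ he ih => exact fun hPR => (ih hPR).congr he
  have hym := hgen hy hPR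
  exact ((isMap_cj hym.img_le_S hr).comp hym fun x hx => mem_img_self y hx).congr
    fun x hx => (he x hx).symm

omit h in
theorem prev (hb : Base F E p) : ∀ m, Prev F E p m := by
  intro m
  induction m with
  | zero => exact fun R₁ D₁ _ hlt => absurd hlt (Nat.not_lt_zero _)
  | succ m ih =>
    intro R₁ D₁ h₁ hlt
    refine saturated_aux h₁ fun R₂ D₂ h₂ hlt₂ => ih R₂ D₂ h₂ (by omega)

theorem saturated : D.IsSaturated p := (saturated_aux h (prev h.base _)).1

theorem autGroup_eq (hP : Fam S R E P) : D.autGroup P = B F E p D P :=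
  le_antisymm ((saturated_aux h (prev h.base _)).2 P hP) (B_le_D h hP)

theorem coprime_mem (hP : Fam S R E P) {a : MulAut P} (ha : a ∈ D.autGroup P)
    (hac : (orderOf a).Coprime p) : a ∈ A F E p P :=
  (above h (prev h.base _) hP).2.1 a ha hac

end Cfsg.Agent.Fusion.ProdSat
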