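/-
The hyperfocal subgroup and the residual of the product system, and its uniqueness.
-/
import Mathlib
import Cfsg.Agent.Lib.Fusion.ProdSat
import Cfsg.Agent.Lib.Fusion.PPowerIndex
import Cfsg.Agent.Lib.Fusion.Hyperfocal

set_option autoImplicit false
set_option linter.all false

namespace Cfsg.Agent.Fusion.ProdHyp

open Cfsg Cfsg.FusionSystem Cfsg.Agent.Fusion.Basic Cfsg.Agent.Fusion.Saturation
  Cfsg.Agent.Fusion.Normal Cfsg.Agent.Fusion.Factor Cfsg.Agent.Fusion.Subsystems
  Cfsg.Agent.Fusion.KNormalizer Cfsg.Agent.Fusion.SylIn Cfsg.Agent.Fusion.Prod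
  Cfsg.Agent.Fusion.ProdSys Cfsg.Agent.Fusion.ProdAut

universe u

variable {Ω : Type u} [Group Ω] {S T R : Subgroup Ω}
variable {F : FusionSystem S} {E : FusionSystem T} {p : ℕ} {D : FusionSystem R} [Finite S]
  [Fact p.Prime] (h : Sys F E p D) {P Q : Subgroup Ω} {f g : Ω → Ω}
include h

/-- The automorphisms of order prime to `p` are maps of the product. -/
theorem coprime_Y (hP : P ≤ R) {a : MulAut P} (ha : a ∈ D.autGroup P)
    (hac : (orderOf a).Coprime p) : Y F E p P (autFun a) := by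
  obtain ⟨-, r, hr, y, hy, he⟩ := (h.maps _ _).1 (isMap_of_mem_autGroup hP ha)
  have hPS := hP.trans h.RS
  have hrS := h.RS hr
  have hform : ∀ n : ℕ, ∃ z, Y F E p P z ∧ ∀ x ∈ P, autFun (a ^ n) x = cj (r ^ n) (z x) := by
    intro n
    induction n with
    | zero => exact ⟨id, id_map h.base hPS, fun x _ => by rw [pow_zero, pow_zero, cj_one, autFun_one]; rfl⟩
    | succ n ih =>
      obtain ⟨z, hz, hze⟩ := ih
      have hrn := S.pow_mem hrS n
      obtain ⟨y', hy', hye⟩ := transport_cj h.base (S.inv_mem hrn) hy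
      have hzP : img z P = img (cj (r ^ n)⁻¹) P := by
        have e : img z P = img (cj (r ^ n)⁻¹) (img (autFun (a ^ n)) P) := by
          rw [(isMap_of_mem_autGroup (F := D) hP (pow_mem ha n)).img_img]
          exact img_congr fun x hx => by rw [hze x hx, cj_inv_cj]
        rwa [autFun_img] at e
      refine ⟨fun x => y' (z x), .comp hz (hzP.symm ▸ hy'), fun x hx => ?_⟩
      have h2 : z x = cj (r ^ n)⁻¹ (autFun (a ^ n) x) := by rw [hze x hx, cj_inv_cj]
      show _ = cj (r ^ (n + 1)) (y' (z x))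
      rw [pow_succ' a, autFun_mul, he _ (autFun_mem _ hx), pow_succ' r, cj_mul, h2,
        hye _ (autFun_mem _ hx), cj_apply (r ^ n), cj_apply (r ^ n)⁻¹]
      group
  obtain ⟨e, hre⟩ := h.base.pg ⟨r, hrS⟩
  have hfinP : Finite P := finite_of_le hPS
  obtain ⟨j, hj⟩ := exists_pow_eq_self_of_coprime (x := a) (n := p ^ e) (hac.pow_right e).symm
  obtain ⟨z, hz, hze⟩ := hform (p ^ e * j)
  refine hz.congr fun x hx => ?_
  have hr1 : r ^ p ^ e = 1 := congrArg Subtype.val hre
  have h1 := hze x hx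
  rw [pow_mul, hj, pow_mul r, hr1, one_pow, cj_one] at h1
  exact h1.symm

/-- On subgroups of `T` they lie in `E`. -/
theorem coprime_mem_E (hP : P ≤ T) {a : MulAut P} (ha : a ∈ D.autGroup P)
    (hac : (orderOf a).Coprime p) : a ∈ E.autGroup P := by
  refine (mem_autGroup_iff hP).2 ?_
  have hm := isMapE h.base (coprime_Y h (hP.trans h.TR) ha hac)
  rwa [inf_eq_left.2 hP] at hm

/-- The maps of `E` are maps of the system. -/
theorem E_le : ∀ P f, IsMap E P f → IsMap D P f := by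
  classical
  have hb := h.base
  obtain ⟨D₀, hD₀⟩ := exists_sys hb (le_refl T) (T_le hb)
  have h₀ : Sys F E p D₀ := ⟨hb, le_rfl, T_le hb, hD₀⟩
  have := finT hb
  have hle : E ≤ D₀ := Alperin.alperin (Tp hb) (Esat hb) fun P hP => by
    have hPc : E.IsCentric P := hP.elim (fun e => by rw [e]; exact PPrimeGen.centric_top) fun he => he.1
    have hfam : Fam S T E P :=
      ⟨hPc.1, hPc.1.trans (T_le hb), by rwa [inf_eq_left.2 hPc.1]⟩
    intro a ha
    have hPfn : E.IsFullyNormalized P := hP.elim (fun e => by rw [e]; exact ⟨le_rfl, fun Q hQ => by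
      rw [Alperin.eq_top_of_card le_rfl hQ rfl]⟩) fun he => he.2.1
    obtain ⟨r, hr, c, hc, rfl⟩ := Focal.aut_decomp (Tp hb) (Esat hb) hPfn ha
    refine mul_mem (autInducedBy_le hPc.1 hc) ?_
    obtain ⟨r, hr, rfl⟩ := hr
    clear ha
    induction hr using Subgroup.closure_induction with
    | mem b hb' =>
      refine A_le_D h₀ hfam (Subgroup.subset_closure ⟨⟨autE_le hb hPc.1 b.2, fun x hx => ?_,
        ?_⟩, ?_⟩)
      · exact T.mul_mem (T.inv_mem (hPc.1 hx)) (hPc.1 (autFun_mem _ hx))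
      · have hm : IsMap E (P ⊓ T) (autFun (b : MulAut P)) :=
          (isMap_of_mem_autGroup hPc.1 b.2).restrict inf_le_left
        have : Finite (P ⊓ T : Subgroup Ω) := finite_of_le (inf_le_right.trans (T_le hb))
        exact hm.exists_aut (eq_of_le_card
          (img_le fun x hx => ⟨autFun_mem _ hx.1, hm.mem hx⟩) hm.card_img.ge)
      · show (orderOf ((b : E.autGroup P) : MulAut P)).Coprime p
        rw [Subgroup.orderOf_coe]
        exact hb'
    | one => exact one_mem _
    | mul a b _ _ iha ihb => rw [map_mul]; exact mul_mem iha ihb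
    | inv a _ iha => rw [map_inv]; exact inv_mem iha
  intro P f hf
  obtain ⟨hP, r, hr, y, hy, he⟩ := (hD₀ P f).1 (isMap_mono hle hf)
  exact (h.maps P f).2 ⟨hP.trans h.TR, r, h.TR hr, y, hy, he⟩

/-- The maps of the system on subgroups of `T` are those of `E` up to conjugation. -/
theorem map_T (hP : P ≤ T) (hf : IsMap D P f) :
    ∃ r ∈ R, ∃ e, IsMap E P e ∧ ∀ x ∈ P, f x = cj r (e x) := by
  obtain ⟨-, r, hr, y, hy, he⟩ := (h.maps _ _).1 hf
  have hm := isMapE h.base hy
  rw [inf_eq_left.2 hP] at hm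
  exact ⟨r, hr, y, hm, he⟩

/-- The hyperfocal subgroups agree. -/
theorem hyp_eq : D.hyperfocalSubgroup p = E.hyperfocalSubgroup p := by
  classical
  have hb := h.base
  have := finT hb
  have hTS := T_le hb
  refine le_antisymm (Hyperfocal.hyp_le_of fun P hP α hα x hx => ?_) ?_
  swap
  · exact Focal.hyp_mono h.TR fun P => subset_of_isMap fun f hf => E_le h P f hf
  have hac : (orderOf (α : MulAut P)).Coprime p := by rwa [Subgroup.orderOf_coe]
  have hy := coprime_Y h hP α.2 hac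
  have hm := isMapE hb hy
  have hmF := ProdSys.isMap hb hy
  set a : MulAut P := (α : MulAut P) with hadef
  have hfin : Finite (P ⊓ T : Subgroup Ω) := finite_of_le (inf_le_right.trans hTS)
  obtain ⟨b, hbE, hbe⟩ := hm.exists_aut (eq_of_le_card
    (img_le fun z hz => ⟨autFun_mem a hz.1, hm.mem hz⟩) hm.card_img.ge)
  have hbc : (orderOf b).Coprime p := by
    refine Nat.Coprime.coprime_dvd_left (orderOf_dvd_of_pow_eq_one ?_) hac
    refine autFun_ext fun z hz => ?_
    rw [← GoodExtension.pow_agree inf_le_left (fun w hw => (hbe w hw).symm) _ z hz,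
      pow_orderOf_eq_one, autFun_one, autFun_one]
  set H := E.hyperfocalSubgroup p with hH
  have hdisp : ∀ u ∈ P ⊓ T, u⁻¹ * autFun a u ∈ H := fun u hu => by
    rw [← hbe u hu]
    exact Focal.mem_hyp inf_le_right ⟨⟨b, hbE⟩, Subgroup.subset_closure
      (show (orderOf (⟨b, hbE⟩ : E.autGroup (P ⊓ T))).Coprime p by rwa [Subgroup.orderOf_mk]), rfl⟩ hu
  set t := x⁻¹ * autFun a x with ht
  have htT : t ∈ T := ProdSys.moves hb hy x hx
  have htP : t ∈ P := P.mul_mem (P.inv_mem hx) (autFun_mem a hx)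
  have hstep : ∀ n : ℕ, autFun (a ^ n) x ∈ P ∧ (x⁻¹ * autFun (a ^ n) x) ∈ T ∧
      (t ^ n)⁻¹ * (x⁻¹ * autFun (a ^ n) x) ∈ H := by
    intro n
    induction n with
    | zero => refine ⟨autFun_mem _ hx, ?_⟩; rw [pow_zero, pow_zero, autFun_one]; simp
    | succ n ih =>
      obtain ⟨h1, h2, h3⟩ := ih
      refine ⟨autFun_mem _ hx, ?_⟩
      have hu : x⁻¹ * autFun (a ^ n) x ∈ P ⊓ T := ⟨P.mul_mem (P.inv_mem hx) h1, h2⟩
      have hrec : x⁻¹ * autFun (a ^ (n + 1)) x =
          t * autFun a (x⁻¹ * autFun (a ^ n) x) := by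
        rw [pow_succ', autFun_mul, ht, autFun_isHom a _ (P.inv_mem hx) _ h1,
          show autFun a x⁻¹ = (autFun a x)⁻¹ from hmF.map_inv hx]
        group
      rw [hrec]
      refine ⟨T.mul_mem htT (hm.mem hu), ?_⟩
      have h4 := H.mul_mem h3 (hdisp _ hu)
      rw [show (t ^ (n + 1))⁻¹ * (t * autFun a (x⁻¹ * autFun (a ^ n) x)) =
        (t ^ n)⁻¹ * (x⁻¹ * autFun (a ^ n) x) *
          ((x⁻¹ * autFun (a ^ n) x)⁻¹ * autFun a (x⁻¹ * autFun (a ^ n) x)) by
        rw [pow_succ']; group]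
      exact h4
  obtain ⟨-, -, hm0⟩ := hstep (orderOf a)
  rw [pow_orderOf_eq_one, autFun_one, id, inv_mul_cancel, mul_one, Subgroup.inv_mem_iff] at hm0
  obtain ⟨k, hk⟩ := Tp hb ⟨t, htT⟩
  exact GoodExtension.mem_of_pow_mem (hac.pow_right k) hm0
    (by rw [show t ^ p ^ k = 1 from congrArg Subtype.val hk]; exact one_mem _)

end Cfsg.Agent.Fusion.ProdHyp
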