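/-
Uniqueness of the product system: a saturated system is determined on its centric radical subgroups
by what it does on the hyperfocal subgroup.
-/
import Mathlib
import Cfsg.Agent.Lib.Fusion.ProdHyp
import Cfsg.Agent.Lib.PLocal.Cores

set_option autoImplicit false
set_option linter.all false

namespace Cfsg.Agent.Fusion.ProdUnique

open Cfsg Cfsg.FusionSystem Cfsg.Agent.Fusion.Basic Cfsg.Agent.Fusion.Saturation
  Cfsg.Agent.Fusion.Normal Cfsg.Agent.Fusion.Factor Cfsg.Agent.Fusion.Subsystems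
  Cfsg.Agent.Fusion.KNormalizer Cfsg.Agent.Fusion.SylIn Cfsg.Agent.Fusion.Prod
  Cfsg.Agent.Fusion.ProdSys Cfsg.Agent.Fusion.ProdAut

universe u

section General

variable {Ω : Type u} [Group Ω] {R : Subgroup Ω} [Finite R] {D : FusionSystem R} {p : ℕ}
  [Fact p.Prime] {P : Subgroup Ω}

/-- Subgroups deciding the system. -/
def Crit (D : FusionSystem R) (p : ℕ) (P : Subgroup Ω) : Prop := P = R ∨ D.IsEssential p P

theorem crit_centric (hP : Crit D p P) : D.IsCentric P :=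
  hP.elim (fun e => by rw [e]; exact ⟨le_rfl, fun Q hQ => by
    rw [Alperin.eq_top_of_card le_rfl hQ rfl]; exact centralizerIn_le⟩) fun he => he.1

theorem crit_fn (hP : Crit D p P) : D.IsFullyNormalized P :=
  hP.elim (fun e => by rw [e]; exact ⟨le_rfl, fun Q hQ => by
    rw [Alperin.eq_top_of_card le_rfl hQ rfl]⟩) fun he => he.2.1

variable (hR : IsPGroup p R) (hD : D.IsSaturated p)
include hR hD

theorem core_le_inn (hP : Crit D p P) {N : Subgroup (D.autGroup P)} [N.Normal]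
    (hN : IsPGroup p N) {d : D.autGroup P} (hd : d ∈ N) : (d : MulAut P) ∈ Inn P := by
  have hcore : (d : MulAut P) ∈ (pCore p (D.autGroup P)).map (D.autGroup P).subtype :=
    ⟨d, Cfsg.Agent.PLocal.Cores.le_pCore hN hd, rfl⟩
  rcases hP with rfl | hP
  · obtain ⟨Sy, hSy⟩ := (fullyNormalized_fullyAutomized hR hD (crit_fn (p := p) (Or.inl rfl) :
      D.IsFullyNormalized P)).2
    obtain ⟨d', hd', hde⟩ := hcore
    have h1 := Cfsg.Agent.PLocal.Cores.pCore_le_sylow Sy hd'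
    rw [hSy] at h1
    obtain ⟨g, hg, hge⟩ := mem_autInducedBy_iff'.1 (Subgroup.mem_subgroupOf.1 h1)
    rw [← hde]
    exact mem_inn_iff.2 ⟨g, hg.1, hge⟩
  · exact (Alperin.essential_radical hP hR).2.le hcore

variable {H : Subgroup Ω} (hH : D.hyperfocalSubgroup p = H)
include hH

theorem closedH : D.StronglyClosed H := hH ▸ Focal.hyp_stronglyClosed hR hD

theorem coprime_moves (hP : P ≤ R) {a : MulAut P} (ha : a ∈ D.autGroup P)
    (hac : (orderOf a).Coprime p) : Moves H P (autFun a) := fun x hx => by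
  rw [← hH]
  exact Focal.mem_hyp hP ⟨⟨a, ha⟩, Subgroup.subset_closure
    (show (orderOf (⟨a, ha⟩ : D.autGroup P)).Coprime p by rwa [Subgroup.orderOf_mk]), rfl⟩ hx

/-- An automorphism fixing the intersection with `H` is inner. -/
theorem kernel_inner (hP : Crit D p P) {d : MulAut P} (hd : d ∈ D.autGroup P)
    (hfix : ∀ x ∈ P ⊓ H, autFun d x = x) : d ∈ Inn P := by
  have hPR := (crit_centric hP).1
  have hfinP : Finite P := finite_of_le hPR
  have hsc := closedH hR hD hH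
  let N : Subgroup (D.autGroup P) :=
    { carrier := {a | ∀ x ∈ P ⊓ H, autFun (a : MulAut P) x = x}
      one_mem' := fun x _ => by rw [Subgroup.coe_one, autFun_one]; rfl
      mul_mem' := fun {a b} ha hb x hx => by
        rw [Subgroup.coe_mul, autFun_mul, hb x hx, ha x hx]
      inv_mem' := fun {a} ha x hx => by
        conv_lhs => rw [← ha x hx, Subgroup.coe_inv, autFun_inv_apply] }
  have hmemN : ∀ a : D.autGroup P, a ∈ N ↔ ∀ x ∈ P ⊓ H, autFun (a : MulAut P) x = x :=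
    fun a => Iff.rfl
  have : N.Normal := ⟨fun a ha b => (hmemN _).2 fun x hx => by
    have hx' : autFun (b : MulAut P)⁻¹ x ∈ P ⊓ H := ⟨autFun_mem _ hx.1,
      stronglyClosed_mem hsc (isMap_of_mem_autGroup hPR (inv_mem b.2)) hx.1 hx.2⟩
    rw [Subgroup.coe_mul, Subgroup.coe_mul, Subgroup.coe_inv, autFun_mul, autFun_mul,
      (hmemN a).1 ha _ hx', autFun_apply_inv]⟩
  have hNp : IsPGroup p N := by
    rintro ⟨⟨a, ha⟩, haN⟩
    obtain ⟨e, m, hm, hem⟩ :=
      Nat.exists_eq_pow_mul_and_not_dvd (orderOf_pos a).ne' p (Fact.out : p.Prime).ne_one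
    have hmc : m.Coprime p := ((Fact.out : p.Prime).coprime_iff_not_dvd.2 hm).symm
    refine ⟨e, Subtype.ext (Subtype.ext ?_)⟩
    show a ^ p ^ e = 1
    have hfix' : ∀ x ∈ P ⊓ H, autFun (a ^ p ^ e) x = x := fun x hx => by
      have := (hmemN _).1 (pow_mem haN (p ^ e)) x hx
      simpa using this
    have hac : (orderOf (a ^ p ^ e)).Coprime p := by
      refine Nat.Coprime.coprime_dvd_left (orderOf_dvd_of_pow_eq_one ?_) hmc
      rw [← pow_mul, ← hem, pow_orderOf_eq_one]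
    have : Finite (P ⊓ H : Subgroup Ω) := finite_of_le (inf_le_left.trans hPR)
    have hmv := coprime_moves hR hD hH hPR (pow_mem ha _) hac
    obtain ⟨n, hn⟩ := ProdLift.fix_pow (hR.to_le (inf_le_left.trans hPR)) inf_le_left hfix'
      (fun w hw => ⟨P.mul_mem (P.inv_mem hw) (autFun_mem _ hw), hmv w hw⟩)
    exact orderOf_eq_one_iff.1 (Nat.eq_one_of_dvd_coprimes (hac.pow_right n) dvd_rfl
      (orderOf_dvd_of_pow_eq_one hn))
  exact core_le_inn hR hD hP hNp (d := ⟨d, hd⟩) ((hmemN _).2 hfix)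

/-- Centralizers of the intersection with `H` are inside, for all images. -/
theorem cen_le_img (hP : Crit D p P) {X : Subgroup Ω} {χ : Ω → Ω} (hχ : IsMap D X χ) (hPX : P ≤ X) :
    centralizerIn R (img χ (P ⊓ H)) ≤ img χ P := by
  have hc := crit_centric hP
  have hχP := hχ.restrict hPX
  set Ps := img χ P with hPs
  set P0 := img χ (P ⊓ H) with hP0
  have hPsR : Ps ≤ R := hχP.img_le_S
  have hsc := closedH hR hD hH
  have hP0e : P0 = Ps ⊓ H := by
    refine le_antisymm (img_le fun x hx => ⟨mem_img_self χ hx.1,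
      stronglyClosed_mem hsc hχP hx.1 hx.2⟩) ?_
    rintro y ⟨hy, hyH⟩
    obtain ⟨x, hx, rfl⟩ := hχP.mem_img.1 hy
    obtain ⟨i, hi, -, hig, -⟩ := hχP.exists_inv
    exact mem_img_self χ ⟨hx, hig x hx ▸ stronglyClosed_mem hsc hi hy hyH⟩
  set C := centralizerIn R P0 with hC
  have hfinC : Finite C := finite_of_le centralizerIn_le
  have hnor : Ps ≤ Subgroup.normalizer (C : Set Ω) := fun x hx =>
    mem_normalizer_of_forall fun c hcm => ⟨R.mul_mem (R.mul_mem (hPsR hx) hcm.1)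
      (R.inv_mem (hPsR hx)), fun q hq => by
      have hxi : x⁻¹ * q * x⁻¹⁻¹ ∈ P0 := by
        rw [SetLike.mem_coe, hP0e] at hq
        rw [hP0e]
        exact ⟨Ps.mul_mem (Ps.mul_mem (Ps.inv_mem hx) hq.1) (Ps.inv_mem (Ps.inv_mem hx)),
          (Subgroup.mem_normalizer_iff.1 (le_normalizer_of_stronglyClosed hsc
            (R.inv_mem (hPsR hx))) q).1 hq.2⟩
      calc q * (x * c * x⁻¹) = x * (x⁻¹ * q * x⁻¹⁻¹ * c) * x⁻¹ := by group
        _ = x * (c * (x⁻¹ * q * x⁻¹⁻¹)) * x⁻¹ := by rw [hcm.2 _ hxi]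
        _ = x * c * x⁻¹ * q := by group⟩
  by_contra hnle
  have hle : Ps ⊔ C ≤ R := sup_le hPsR centralizerIn_le
  have : Finite (Ps ⊔ C : Subgroup Ω) := finite_of_le hle
  obtain ⟨w, hw, hwP⟩ := exists_mem_normalizer_not_mem (hR.to_le hle) (left_lt_sup.2 hnle)
  obtain ⟨x, hx, c, hcm, he⟩ : ∃ x ∈ Ps, ∃ c ∈ C, x * c = w := by
    have h1 : w ∈ ((Ps ⊔ C : Subgroup Ω) : Set Ω) := hw.1
    rw [Subgroup.coe_mul_of_left_le_normalizer_right Ps _ hnor] at h1
    exact h1
  have hcP : c ∉ Ps := fun hh => hwP (he ▸ Ps.mul_mem hx hh)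
  have hcN : c ∈ Subgroup.normalizer (Ps : Set Ω) := by
    rw [show c = x⁻¹ * w by rw [← he, inv_mul_cancel_left]]
    exact Subgroup.mul_mem _ (Subgroup.inv_mem _ (Subgroup.le_normalizer hx)) hw.2
  have hd : conjAut R Ps ⟨c, hcm.1, hcN⟩ ∈ D.autGroup Ps :=
    autInducedBy_le hPsR ((conjAut_range R Ps).le ⟨_, rfl⟩)
  obtain ⟨e, hee⟩ := hχP.exists_autEquiv
  set δ := e.symm ⟨_, hd⟩ with hδ
  have hδe : ∀ x ∈ P, cj c (χ x) = χ (autFun (δ : MulAut P) x) := fun x hx => by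
    rw [← hee δ x hx, hδ, MulEquiv.apply_symm_apply]
    exact (conjAut_apply (K := R) ⟨c, hcm.1, hcN⟩ (mem_img_self χ hx)).symm
  have hδI := kernel_inner hR hD hH hP δ.2 fun x hx => by
    refine hχP.inj (autFun_mem _ hx.1) hx.1 ?_
    rw [← hδe x hx.1, cj_apply, ← hcm.2 _ (mem_img_self χ hx), mul_inv_cancel_right]
  obtain ⟨q, hq, hqe⟩ := mem_inn_iff.1 hδI
  refine hcP ?_
  have h1 : (χ q)⁻¹ * c ∈ centralizerIn R Ps := by
    refine ⟨R.mul_mem (R.inv_mem (hPsR (mem_img_self χ hq))) hcm.1, fun z hz => ?_⟩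
    obtain ⟨x, hx, rfl⟩ := hχP.mem_img.1 hz
    have h2 := hδe x hx
    rw [hqe x hx, cj_apply, cj_apply, hχP.map_conj hq hx] at h2
    calc χ x * ((χ q)⁻¹ * c) = (χ q)⁻¹ * (χ q * χ x * (χ q)⁻¹) * c := by group
      _ = (χ q)⁻¹ * (c * χ x * c⁻¹) * c := by rw [h2]
      _ = (χ q)⁻¹ * c * χ x := by group
  have h3 := Ps.mul_mem (mem_img_self χ hq) (hc.2 Ps hχP.isConj h1)
  rwa [mul_inv_cancel_left] at h3

theorem cen_le (hP : Crit D p P) : centralizerIn R (P ⊓ H) ≤ P := by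
  have := cen_le_img hR hD hH hP (isMap_id (crit_centric hP).1) le_rfl
  rwa [img_id, img_id] at this

/-- The intersection with `H` is fully centralized. -/
theorem fc (hP : Crit D p P) : D.IsFullyCentralized (P ⊓ H) := by
  have hPR := (crit_centric hP).1
  have hsc := closedH hR hD hH
  have hP0R : P ⊓ H ≤ R := inf_le_left.trans hPR
  obtain ⟨Q, hQ, hQn⟩ := exists_fullyNormalized (F := D) hP0R
  obtain ⟨χ, hχ, hχQ⟩ := exists_map_to_fullyNormalized hR hD hQn hQ
  have : Finite (P ⊓ H : Subgroup Ω) := finite_of_le hP0R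
  have hPN : P ≤ normalizerIn R (P ⊓ H) := fun x hx =>
    ⟨hPR hx, mem_normalizer_of_forall fun y hy => ⟨P.mul_mem (P.mul_mem hx hy.1) (P.inv_mem hx),
      (Subgroup.mem_normalizer_iff.1 (le_normalizer_of_stronglyClosed hsc (hPR hx)) y).1 hy.2⟩⟩
  have hle := cen_le_img hR hD hH hP hχ hPN
  rw [hχQ] at hle
  have hfinC : Finite (centralizerIn R (P ⊓ H)) := finite_of_le centralizerIn_le
  have hχC := hχ.restrict (centralizerIn_le_normalizerIn (S := R) (P := P ⊓ H))
  have : Finite (img χ (centralizerIn R (P ⊓ H))) := finite_of_le hχC.img_le_S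
  refine ⟨hP0R, fun Q' hQ' => ((fullyNormalized_fullyCentralized hR hD hQn).2 Q'
    (isConj_trans (isConj_symm hQ) hQ')).trans ?_⟩
  rw [← hχC.card_img]
  refine card_le_card fun y hy => ?_
  obtain ⟨u, hu, rfl⟩ := (hχ.restrict hPN).mem_img.1 (hle hy)
  refine mem_img_self χ ⟨hPR hu, fun q hq => hχ.inj (Subgroup.mul_mem _ (hPN hq.1) (hPN hu))
    (Subgroup.mul_mem _ (hPN hu) (hPN hq.1)) ?_⟩
  rw [hχ.map_mul (hPN hq.1) (hPN hu), hχ.map_mul (hPN hu) (hPN hq.1)]
  exact hy.2 _ (hχQ ▸ mem_img_self χ hq)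

end General

variable {Ω : Type u} [Group Ω] {R P P0 : Subgroup Ω} [Finite R] {D : FusionSystem R} {p : ℕ}
  [Fact p.Prime]

/-- Extending from a fully centralized subgroup whose centralizer is inside. -/
theorem exists_extend (hR : IsPGroup p R) (hD : D.IsSaturated p) (hP : P ≤ R) (hP0 : P0 ≤ P)
    (hfc : D.IsFullyCentralized P0) (hC : centralizerIn R P0 ≤ P)
    (hn : P ≤ Subgroup.normalizer (P0 : Set Ω)) {α : MulAut P0} (hα : α ∈ D.autGroup P0)
    {β : MulAut P} (hβ : ∀ x ∈ P0, autFun β x = autFun α x) :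
    ∃ a ∈ D.autGroup P, ∀ x ∈ P0, autFun a x = autFun α x := by
  have hm := isMap_of_mem_autGroup (hP0.trans hP) hα
  obtain ⟨θ, hθ, hθe⟩ := exists_extension hR hD hm (by rw [autFun_img]; exact hfc)
  have hPn : P ≤ nSub R P0 (autFun α) := fun u hu => mem_nSub.2 ⟨hP hu, hn hu, autFun β u,
    hP (autFun_mem β hu), fun x hx => by
      rw [← hβ _ ((Subgroup.mem_normalizer_iff.1 (hn hu) x).1 hx),
        (autFun_isHom β).map_conj hu (hP0 hx), hβ x hx]⟩
  have hθP := hθ.restrict hPn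
  have hst : ∀ u ∈ P, θ u ∈ P := fun u hu => by
    have h1 : (autFun β u)⁻¹ * θ u ∈ centralizerIn R P0 := by
      refine ⟨R.mul_mem (R.inv_mem (hP (autFun_mem β hu))) (hθP.mem hu), fun q hq => ?_⟩
      have hq' := autFun_mem α⁻¹ hq
      have hux : u * autFun α⁻¹ q * u⁻¹ ∈ P0 := (Subgroup.mem_normalizer_iff.1 (hn hu) _).1 hq'
      have h2 := hθP.map_conj hu (hP0 hq')
      rw [hθe _ hux, hθe _ hq', autFun_apply_inv, ← hβ _ hux,
        (autFun_isHom β).map_conj hu (hP0 hq'), hβ _ hq', autFun_apply_inv] at h2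
      calc q * ((autFun β u)⁻¹ * θ u)
          = (autFun β u)⁻¹ * (autFun β u * q * (autFun β u)⁻¹) * θ u := by group
        _ = (autFun β u)⁻¹ * (θ u * q * (θ u)⁻¹) * θ u := by rw [h2]
        _ = (autFun β u)⁻¹ * θ u * q := by group
    have := P.mul_mem (autFun_mem β hu) (hC h1)
    rwa [mul_inv_cancel_left] at this
  have : Finite P := finite_of_le hP
  obtain ⟨a, ha, hae⟩ := hθP.exists_aut (eq_of_le_card (img_le hst) hθP.card_img.ge)
  exact ⟨a, ha, fun x hx => by rw [hae x (hP0 hx), hθe x hx]⟩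

end Cfsg.Agent.Fusion.ProdUnique
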