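/-
The product of a normal subsystem with a subgroup: existence and uniqueness.
-/
import Mathlib
import Cfsg.Agent.Lib.Fusion.ProdUnique

set_option autoImplicit false
set_option linter.all false

namespace Cfsg.Agent.Fusion.ProdMain

open Cfsg Cfsg.FusionSystem Cfsg.Agent.Fusion.Basic Cfsg.Agent.Fusion.Saturation
  Cfsg.Agent.Fusion.Normal Cfsg.Agent.Fusion.Factor Cfsg.Agent.Fusion.Subsystems
  Cfsg.Agent.Fusion.KNormalizer Cfsg.Agent.Fusion.SylIn Cfsg.Agent.Fusion.Prod
  Cfsg.Agent.Fusion.ProdSys Cfsg.Agent.Fusion.ProdAut Cfsg.Agent.Fusion.ProdUnique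

universe u

variable {Ω : Type u} [Group Ω] {S T R : Subgroup Ω}
variable {F : FusionSystem S} {E : FusionSystem T} {p : ℕ} [Finite S] [Fact p.Prime]

theorem residual_eq {A : Subgroup Ω} {D : FusionSystem A} (hA : A ≤ S) (hS : IsPGroup p S)
    {H₁ H₂ : Subgroup Ω} (hH : H₁ = H₂) (hHA : H₂ ≤ A) {D₁ : FusionSystem H₁}
    {E₁ : FusionSystem H₂} (hD₁ : D₁.IsSaturated p) (hDi : D₁.HasPPowerIndexIn D p)
    (hE₁ : E₁.IsSaturated p) (hEi : E₁.HasPPowerIndexIn D p) (P : Subgroup Ω) :
    D₁.Hom P = E₁.Hom P := by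
  subst hH
  have : Finite A := finite_of_le hA
  rw [PPowerIndex.pPowerIndex_unique (hS.to_le hA) hHA hE₁ hEi hD₁ hDi]

theorem mem_residual {A : Subgroup Ω} [Finite A] {D : FusionSystem A} {H : Subgroup Ω}
    {D₁ : FusionSystem H} (hi : D₁.HasPPowerIndexIn D p) {P : Subgroup Ω} (hP : P ≤ H)
    {a : MulAut P} (ha : a ∈ D.autGroup P) (hac : (orderOf a).Coprime p) :
    a ∈ D₁.autGroup P :=
  hi.2.2 P hP ⟨⟨a, ha⟩, Subgroup.subset_closure
    (show (orderOf (⟨a, ha⟩ : D.autGroup P)).Coprime p by rwa [Subgroup.orderOf_mk]), rfl⟩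

theorem isMap_of_hom {H₁ H₂ : Subgroup Ω} {D₁ : FusionSystem H₁} {E₁ : FusionSystem H₂}
    (he : ∀ P, D₁.Hom P = E₁.Hom P) {P : Subgroup Ω} {f : Ω → Ω} (hf : IsMap D₁ P f) :
    IsMap E₁ P f := by
  obtain ⟨φ, hφ, hφf⟩ := hf
  exact ⟨φ, he P ▸ hφ, hφf⟩

set_option maxHeartbeats 1000000 in
/-- The product system and its uniqueness. -/
theorem exists_unique (hb : Base F E p) (hTR : T ≤ R) (hRS : R ≤ S) :
    ∃ D : FusionSystem R, (D.IsSaturated p ∧ D.IsSubsystemOf F ∧
        D.hyperfocalSubgroup p = E.hyperfocalSubgroup p ∧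
        ∀ (D₁ : FusionSystem (D.hyperfocalSubgroup p)) (E₁ : FusionSystem (E.hyperfocalSubgroup p)),
          D.IsPResidual p D₁ → E.IsPResidual p E₁ → ∀ P : Subgroup Ω, D₁.Hom P = E₁.Hom P) ∧
      ∀ D' : FusionSystem R, D'.IsSaturated p → D'.IsSubsystemOf F →
        D'.hyperfocalSubgroup p = E.hyperfocalSubgroup p →
        (∀ (D₁ : FusionSystem (D'.hyperfocalSubgroup p))
            (E₁ : FusionSystem (E.hyperfocalSubgroup p)),
          D'.IsPResidual p D₁ → E.IsPResidual p E₁ → ∀ P : Subgroup Ω, D₁.Hom P = E₁.Hom P) →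
        ∀ P : Subgroup Ω, D'.Hom P = D.Hom P := by
  classical
  obtain ⟨D, hD⟩ := exists_sys hb hTR hRS
  have h : Sys F E p D := ⟨hb, hTR, hRS, hD⟩
  have hfinR := finR h
  have hfinT := finT hb
  have hRp := Rp h
  have hTS := T_le hb
  have hDsat := ProdSat.saturated h
  have hhyp := ProdHyp.hyp_eq h
  set H := E.hyperfocalSubgroup p with hH
  have hHT : H ≤ T := Focal.hyp_le
  have hHR : H ≤ R := hHT.trans hTR
  -- the residual of `E`
  obtain ⟨E₁, hE₁s, hE₁i, hcoset⟩ :=
    PPowerIndex.exists_pPowerIndex' (Tp hb) (Esat hb) hHT le_rfl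
  have hcoset := hcoset fun a ha x hx => Focal.conj_mem_hyp ha hx
  have hE₁D : ∀ P f, IsMap E₁ P f → IsMap D P f := fun P f hf =>
    ProdHyp.E_le h P f (isMap_of_subset hE₁i.1 hf)
  have hresD : ∀ (P : Subgroup Ω), P ≤ H → ∀ a ∈ D.autGroup P, (orderOf a).Coprime p →
      a ∈ E₁.autGroup P := fun P hP a ha hac =>
    mem_residual hE₁i hP (ProdHyp.coprime_mem_E h (hP.trans hHT) ha hac) hac
  refine ⟨D, ⟨hDsat, fun P => subset_of_isMap fun f hf => toF h hf, hhyp,
    fun D₁ E₂ hD₁ hE₂ P => ?_⟩, fun D' hs hsub hh hres => ?_⟩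
  · refine residual_eq (D := D) hRS hb.pg hhyp hHR hD₁.1 hD₁.2 hE₂.1
      ⟨fun Q => subset_of_isMap fun f hf => ProdHyp.E_le h Q f (isMap_of_subset hE₂.2.1 hf),
        hhyp.le, fun Q hQ => ?_⟩ P
    rw [pResidual, MonoidHom.map_closure, Subgroup.closure_le]
    rintro _ ⟨a, ha, rfl⟩
    have hac : (orderOf (a : MulAut Q)).Coprime p := by rw [Subgroup.orderOf_coe]; exact ha
    exact mem_residual hE₂.2 hQ (ProdHyp.coprime_mem_E h (hQ.trans hHT) a.2 hac) hac
  -- uniqueness
  obtain ⟨D'₁, hD's, hD'i⟩ := PPowerIndex.exists_pPowerIndex hRp hs Focal.hyp_le le_rfl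
  have heq := hres D'₁ E₁ ⟨hD's, hD'i⟩ ⟨hE₁s, hE₁i⟩
  have hE₁D' : ∀ P f, IsMap E₁ P f → IsMap D' P f := fun P f hf =>
    isMap_of_subset hD'i.1 (isMap_of_hom (fun Q => (heq Q).symm) hf)
  have hres' : ∀ (P : Subgroup Ω), P ≤ H → ∀ a ∈ D'.autGroup P, (orderOf a).Coprime p →
      a ∈ E₁.autGroup P := fun P hP a ha hac => by
    have h1 := mem_residual hD'i (hP.trans hh.ge) ha hac
    exact (mem_autGroup_iff hP).2
      (isMap_of_hom heq (isMap_of_mem_autGroup (hP.trans hh.ge) h1))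
  have hH' : D'.StronglyClosed H := closedH hRp hs hh
  -- maps of `D` on subgroups of `H` are maps of `D'`
  have hmapH : ∀ (P : Subgroup Ω) (f : Ω → Ω), P ≤ H → IsMap D P f → IsMap D' P f := by
    intro P f hP hf
    obtain ⟨r, hr, e, he, hfe⟩ := ProdHyp.map_T h (hP.trans hHT) hf
    obtain ⟨s, hs', he'⟩ := hcoset P e he hP
    have h1 := hE₁D' _ _ he'
    refine ((isMap_cj h1.img_le_S (R.mul_mem hr (hTR hs'))).comp h1
      fun x hx => mem_img_self _ hx).congr fun x hx => ?_
    rw [hfe x hx, cj_mul]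
    simp [cj, mul_assoc]
  have hautR : ∀ {P : Subgroup Ω}, P ≤ R → autInducedBy R P ≤ D.autGroup P := fun hP =>
    autInducedBy_le hP
  have hPn : ∀ {P : Subgroup Ω}, P ≤ R → P ≤ Subgroup.normalizer ((P ⊓ H : Subgroup Ω) : Set Ω) := by
    intro P hP x hx
    have : Finite (P ⊓ H : Subgroup Ω) := finite_of_le (inf_le_left.trans hP)
    exact mem_normalizer_of_forall fun y hy => ⟨P.mul_mem (P.mul_mem hx hy.1) (P.inv_mem hx),
      (Subgroup.mem_normalizer_iff.1 (le_normalizer_of_stronglyClosed hH' (hP hx)) y).1 hy.2⟩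
  -- `D' ≤ D`
  have hD'D : D' ≤ D := Alperin.alperin hRp hs fun P hP => by
    have hcrit : Crit D' p P := hP
    have hPR := (crit_centric hcrit).1
    have hPS := hPR.trans hRS
    have hC := cen_le hRp hs hh hcrit
    have hfc := fc hRp hs hh hcrit
    have hP0R : P ⊓ H ≤ R := inf_le_left.trans hPR
    have hconj : ∀ Q, D.IsConj (P ⊓ H) Q → D'.IsConj (P ⊓ H) Q := fun Q hQ => by
      obtain ⟨f, hf, rfl⟩ := isConj_iff_map.1 hQ
      exact (hmapH _ f inf_le_right hf).isConj
    have hfcD : D.IsFullyCentralized (P ⊓ H) := ⟨hP0R, fun Q hQ => hfc.2 Q (hconj Q hQ)⟩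
    have hcen : Cen S E P := by
      refine ⟨hPS, inf_le_right, fun Q' hQ' => ?_⟩
      obtain ⟨g, hg, rfl⟩ := isConj_iff_map.1 hQ'
      have hg0 := hg.restrict (inf_le_inf_left P hHT)
      have hgD := hmapH _ g inf_le_right (ProdHyp.E_le h _ _ hg0)
      obtain ⟨i, hi, hii, hig, -⟩ := hgD.exists_inv
      obtain ⟨θ, hθ, hθe⟩ := exists_extension hRp hs hi (by rw [hii]; exact hfc)
      set P' := img g (P ⊓ H) with hP'
      have hCn : centralizerIn T P' ≤ nSub R P' i := fun c hc =>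
        centralizerIn_le_nSub ⟨hTR hc.1, hc.2⟩
      have hCP : centralizerIn T (P ⊓ H) ≤ P ⊓ T := fun c hc => ⟨hC ⟨hTR hc.1, hc.2⟩, hc.1⟩
      have hθC : img θ (centralizerIn T P') ≤ centralizerIn T (P ⊓ H) := img_le fun c hc => by
        refine ⟨stronglyClosed_mem (closed hb) (isMap_of_subset hsub hθ) (hCn hc) hc.1, fun q hq => ?_⟩
        have hgq : g q ∈ P' := mem_img_self g hq
        have h1 := congrArg θ (hc.2 _ hgq)
        rwa [hθ.map_mul (le_nSub hi hgq) (hCn hc), hθ.map_mul (hCn hc) (le_nSub hi hgq),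
          hθe _ hgq, hig q hq] at h1
      have hgC : img g (centralizerIn T (P ⊓ H)) ≤ centralizerIn T P' := img_le fun c hc => by
        refine ⟨hg.mem (hCP hc), fun z hz => ?_⟩
        obtain ⟨q, hq, rfl⟩ := hg0.mem_img.1 hz
        rw [← hg.map_mul (inf_le_inf_left P hHT hq) (hCP hc),
          ← hg.map_mul (hCP hc) (inf_le_inf_left P hHT hq), hc.2 q hq]
      have : Finite (centralizerIn T P') := finite_of_le centralizerIn_le
      have : Finite (centralizerIn T (P ⊓ H)) := finite_of_le centralizerIn_le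
      have heqC : img g (centralizerIn T (P ⊓ H)) = centralizerIn T P' := by
        refine eq_of_le_card hgC ?_
        rw [(hg.restrict hCP).card_img, ← (hθ.restrict hCn).card_img]
        exact card_le_card hθC
      intro c hc
      refine img_mono g hCP (heqC.ge ⟨hc.1, fun z hz => ?_⟩)
      exact hc.2 z (img_mono g (inf_le_inf_left P hHT) hz)
    have hfam : Fam S R E P := ⟨hPR, hcen⟩
    intro a ha
    obtain ⟨r, hr, c, hc, rfl⟩ := Focal.aut_decomp hRp hs (crit_fn hcrit) ha
    refine mul_mem (hautR hPR hc) ?_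
    obtain ⟨r, hr, rfl⟩ := hr
    clear ha
    induction hr using Subgroup.closure_induction with
    | one => exact one_mem _
    | mul a b _ _ iha ihb => rw [map_mul]; exact mul_mem iha ihb
    | inv a _ iha => rw [map_inv]; exact inv_mem iha
    | mem β hβ =>
      refine A_le_D h hfam ?_
      set b := (β : MulAut P) with hbdef
      have hbc : (orderOf b).Coprime p := by rw [hbdef, Subgroup.orderOf_coe]; exact hβ
      have hbm := isMap_of_mem_autGroup hPR β.2
      have hP0f : Finite (P ⊓ H : Subgroup Ω) := finite_of_le hP0R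
      have hb0 : ∀ x ∈ P ⊓ H, autFun b x ∈ P ⊓ H := fun x hx =>
        ⟨autFun_mem b hx.1, stronglyClosed_mem hH' hbm hx.1 hx.2⟩
      have hbm0 := hbm.restrict (inf_le_left : P ⊓ H ≤ P)
      obtain ⟨α, hα, hαe⟩ := hbm0.exists_aut (eq_of_le_card (img_le hb0) hbm0.card_img.ge)
      have hαc : (orderOf α).Coprime p := by
        refine Nat.Coprime.coprime_dvd_left (orderOf_dvd_of_pow_eq_one ?_) hbc
        refine autFun_ext fun x hx => ?_
        rw [← GoodExtension.pow_agree inf_le_left (fun y hy => (hαe y hy).symm) _ x hx,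
          pow_orderOf_eq_one, autFun_one, autFun_one]
      have hαD : α ∈ D.autGroup (P ⊓ H) := (mem_autGroup_iff hP0R).2 (hE₁D _ _
        (isMap_of_mem_autGroup inf_le_right (hres' _ inf_le_right α hα hαc)))
      obtain ⟨a, haD, hae⟩ := exists_extend hRp hDsat hPR inf_le_left hfcD hC (hPn hPR) hαD
        (β := b) fun x hx => (hαe x hx).symm
      have hfinP : Finite P := finite_of_le hPR
      obtain ⟨k, hkc, hke⟩ :=
        GoodExtension.exists_pow_coprime (p := p) inf_le_left hae hαc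
      have hkA := ProdSat.coprime_mem h hfam (pow_mem haD k) hkc
      set d := (a ^ k)⁻¹ * b with hd
      have hdF : d ∈ F.autGroup P := mul_mem
        (inv_mem (A_le_F hb hPS hkA)) (Focal.autGroup_mono hsub P β.2)
      have hdfix : ∀ x ∈ P ⊓ H, autFun d x = x := fun x hx => by
        rw [hd, autFun_mul, ← hαe x hx, ← hke x hx, autFun_inv_apply]
      have hdm : Moves H P (autFun d) := moves_mul
        (coprime_moves hRp hDsat hhyp hPR (inv_mem (pow_mem haD k)) (by rwa [orderOf_inv]))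
        (coprime_moves hRp hs hh hPR β.2 hbc)
      obtain ⟨n, hn⟩ := ProdLift.fix_pow (hRp.to_le hP0R) inf_le_left hdfix
        fun w hw => ⟨P.mul_mem (P.inv_mem hw) (autFun_mem d hw), hdm w hw⟩
      refine ProdLift.mem_of_mul_pTorsion hkA (d := d) ?_ (mul_inv_cancel_left _ _).symm (n := n)
        (by rw [hn]; exact one_mem _) hbc
      rw [Subgroup.mem_normalizer_iff]
      refine fun x => ⟨fun hx => A_conj hb hPS hdF hx, fun hx => ?_⟩
      have := A_conj hb hPS (inv_mem hdF) hx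
      simpa [mul_assoc] using this
  -- `D ≤ D'`
  have hDD' : D ≤ D' := Alperin.alperin hRp hDsat fun P hP => by
    have hcrit : Crit D p P := hP
    have hPR := (crit_centric hcrit).1
    have hC := cen_le hRp hDsat hhyp hcrit
    have hfc := fc hRp hDsat hhyp hcrit
    have hP0R : P ⊓ H ≤ R := inf_le_left.trans hPR
    have hfc' : D'.IsFullyCentralized (P ⊓ H) := ⟨hP0R, fun Q hQ => hfc.2 Q (by
      obtain ⟨f, hf, rfl⟩ := isConj_iff_map.1 hQ
      exact (isMap_mono hD'D hf).isConj)⟩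
    intro a ha
    obtain ⟨r, hr, c, hc, rfl⟩ := Focal.aut_decomp hRp hDsat (crit_fn hcrit) ha
    refine mul_mem (autInducedBy_le hPR hc) ?_
    obtain ⟨r, hr, rfl⟩ := hr
    clear ha
    induction hr using Subgroup.closure_induction with
    | one => exact one_mem _
    | mul a b _ _ iha ihb => rw [map_mul]; exact mul_mem iha ihb
    | inv a _ iha => rw [map_inv]; exact inv_mem iha
    | mem β hβ =>
      set b := (β : MulAut P) with hbdef
      have hbc : (orderOf b).Coprime p := by rw [hbdef, Subgroup.orderOf_coe]; exact hβ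
      have hbm := isMap_of_mem_autGroup hPR β.2
      have hsc := closedH hRp hDsat hhyp
      have hP0f : Finite (P ⊓ H : Subgroup Ω) := finite_of_le hP0R
      have hb0 : ∀ x ∈ P ⊓ H, autFun b x ∈ P ⊓ H := fun x hx =>
        ⟨autFun_mem b hx.1, stronglyClosed_mem hsc hbm hx.1 hx.2⟩
      have hbm0 := hbm.restrict (inf_le_left : P ⊓ H ≤ P)
      obtain ⟨α, hα, hαe⟩ := hbm0.exists_aut (eq_of_le_card (img_le hb0) hbm0.card_img.ge)
      have hαc : (orderOf α).Coprime p := by
        refine Nat.Coprime.coprime_dvd_left (orderOf_dvd_of_pow_eq_one ?_) hbc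
        refine autFun_ext fun x hx => ?_
        rw [← GoodExtension.pow_agree inf_le_left (fun y hy => (hαe y hy).symm) _ x hx,
          pow_orderOf_eq_one, autFun_one, autFun_one]
      have hαD : α ∈ D'.autGroup (P ⊓ H) := (mem_autGroup_iff hP0R).2 (hE₁D' _ _
        (isMap_of_mem_autGroup inf_le_right (hresD _ inf_le_right α hα hαc)))
      obtain ⟨a, haD, hae⟩ := exists_extend hRp hs hPR inf_le_left hfc' hC (hPn hPR) hαD
        (β := b) fun x hx => (hαe x hx).symm
      have haDD : a ∈ D.autGroup P :=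
        (mem_autGroup_iff hPR).2 (isMap_mono hD'D (isMap_of_mem_autGroup hPR haD))
      have hI := kernel_inner hRp hDsat hhyp hcrit (d := a⁻¹ * b) (mul_mem (inv_mem haDD) β.2)
        fun x hx => by rw [autFun_mul, ← hαe x hx, ← hae x hx, autFun_inv_apply]
      have h1 := mul_mem haD (inn_le_autGroup (F := D') hPR hI)
      rwa [mul_inv_cancel_left] at h1
  intro P
  rw [fs_ext_le hD'D hDD']

end Cfsg.Agent.Fusion.ProdMain
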