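/-
The normalizer of `X` in the product of `E` with `T O_p(F) X` has a residual normal in `N_F(X)`.
-/
import Mathlib
import Cfsg.Agent.Lib.Fusion.ProdMain
import Cfsg.Agent.Lib.Fusion.ProdFac
import Cfsg.Agent.Lib.Fusion.NormalizerModel
import Cfsg.Agent.Lib.Fusion.Component

set_option autoImplicit false
set_option linter.all false

namespace Cfsg.Agent.Fusion.BalanceProd

open Cfsg Cfsg.FusionSystem Cfsg.Agent.Fusion.Basic Cfsg.Agent.Fusion.Saturation
  Cfsg.Agent.Fusion.Normal Cfsg.Agent.Fusion.Subsystems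
  Cfsg.Agent.Fusion.Prod Cfsg.Agent.Fusion.ProdSys Cfsg.Agent.Fusion.ProdAut

universe u

variable {Ω : Type u} [Group Ω] {S T R X : Subgroup Ω}
variable {F : FusionSystem S} {E : FusionSystem T} {p : ℕ} {D : FusionSystem R} [Finite S]
  [Fact p.Prime] (h : Sys F E p D) (hX : F.IsFullyNormalized X) (hR : R = T ⊔ (F.core ⊔ X))
  {N : FusionSystem (normalizerIn S X)} (hN : F.IsNormalizerSystem X N)
  {P Q : Subgroup Ω} {f g : Ω → Ω}
include h hX hR

omit hX in
theorem Y_le : F.core ⊔ X ≤ R := le_sup_right.trans hR.ge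

omit hX in
/-- A map carrying `O_p(F) Z` into `R` carries the elements of `T O_p(F) Z` into `R`. -/
theorem mem_R {Z V : Subgroup Ω} (hg : IsMap F V g) (hZ : F.core ⊔ Z ≤ V)
    (hgZ : img g (F.core ⊔ Z) ≤ R) {x : Ω} (hx : x ∈ V) (hxZ : x ∈ T ⊔ (F.core ⊔ Z)) :
    g x ∈ R := by
  have hn : F.core ⊔ Z ≤ Subgroup.normalizer (T : Set Ω) :=
    (hZ.trans hg.le).trans (S_norm h.base)
  obtain ⟨t, ht, w, hw, rfl⟩ : ∃ t ∈ T, ∃ w ∈ F.core ⊔ Z, t * w = x := by
    have h1 : x ∈ ((T ⊔ (F.core ⊔ Z) : Subgroup Ω) : Set Ω) := hxZ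
    rwa [Subgroup.coe_mul_of_right_le_normalizer_left _ _ hn] at h1
  have htV : t ∈ V := by
    have := V.mul_mem hx (V.inv_mem (hZ hw))
    rwa [mul_inv_cancel_right] at this
  rw [hg.map_mul htV (hZ hw)]
  exact R.mul_mem (h.TR (stronglyClosed_mem (closed h.base) hg htV ht))
    (hgZ (mem_img_self g hw))

/-- `X` is fully normalized in the product. -/
theorem fn : D.IsFullyNormalized X := by
  have hXR : X ≤ R := le_sup_right.trans (Y_le h hR)
  have hcn := core_isNormal (F := F)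
  refine ⟨hXR, fun Z hZ => ?_⟩
  obtain ⟨f, hf, rfl⟩ := isConj_iff_map.1 hZ
  set Z := img f X with hZdef
  have hZR : Z ≤ R := hf.img_le_S
  obtain ⟨-, r, hr, y, hy, hfe⟩ := (h.maps _ _).1 hf
  have hrS := h.RS hr
  have hsup : R ≤ T ⊔ (F.core ⊔ Z) := by
    have hm : IsMap F (T ⊔ (F.core ⊔ X)) (cj r) := isMap_cj (hR.ge.trans h.RS) hrS
    have h1 : img (cj r) (T ⊔ (F.core ⊔ X)) = T ⊔ (F.core ⊔ X) := by
      rw [← hR]
      exact img_cj_eq_of_mem_normalizer (Subgroup.le_normalizer hr)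
    refine hR.le.trans (h1.ge.trans ?_)
    rw [hm.img_sup, (hm.restrict le_sup_right).img_sup]
    refine sup_le ?_ (sup_le ?_ ?_)
    · exact (Normal.stronglyClosed_img (closed h.base) hm le_sup_left).le.trans le_sup_left
    · rw [normal_img_eq hcn hm (le_sup_left.trans le_sup_right)]
      exact le_sup_left.trans le_sup_right
    · have hyS := (ProdSys.isMap h.base hy).img_le_S
      have hm' : IsMap F (img y X ⊔ T) (cj r) := isMap_cj (sup_le hyS (T_le h.base)) hrS
      refine (img_mono (cj r) (le_sup_left.trans (ProdSys.sup_eq h.base hy).ge)).trans ?_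
      rw [hm'.img_sup, (ProdSys.isMap h.base hy).img_img]
      refine sup_le ?_ ((Normal.stronglyClosed_img (closed h.base) hm' le_sup_right).le.trans le_sup_left)
      rw [← img_congr hfe]
      exact le_sup_right.trans le_sup_right
  obtain ⟨g, hg, hgX⟩ := exists_map_to_fullyNormalized h.base.pg h.base.sat hX
    (isConj_symm (toF h hf).isConj)
  obtain ⟨g', hg', hg'e, hg'c⟩ := (isNormal_iff.1 hcn).2 _ g hg
  have hZS : Z ≤ S := hZR.trans h.RS
  have hZN : Z ≤ normalizerIn S Z := le_normalizerIn hZS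
  have hle : normalizerIn R Z ≤ normalizerIn S Z := inf_le_inf_right _ h.RS
  have hfinR := finR h
  have : Finite (normalizerIn R X) := finite_of_le normalizerIn_le
  rw [← (hg.restrict hle).card_img]
  refine card_le_card (img_le fun x hx => ⟨?_, ?_⟩)
  · rw [← hg'e x (hle hx)]
    refine mem_R h hR hg' (sup_le le_sup_right (hZN.trans le_sup_left)) ?_
      (Subgroup.mem_sup_left (hle hx)) (hsup hx.1)
    rw [(hg'.restrict (sup_le le_sup_right (hZN.trans le_sup_left))).img_sup, hg'c,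
      img_congr fun z hz => hg'e z (hZN hz), hgX]
    exact Y_le h hR
  · have := hg.mem_normalizer_img hZN (hle hx) hx.2
    rwa [hgX] at this

include hN

omit hX in
/-- The maps of `N_F(X)` extend to maps stabilizing `X` and `O_p(F)`. -/
theorem ext_Y (hf : IsMap N P f) : ∃ g, IsMap F (P ⊔ (F.core ⊔ X)) g ∧
    (∀ x ∈ P, g x = f x) ∧ img g X = X ∧ img g (F.core ⊔ X) = F.core ⊔ X := by
  obtain ⟨-, -, g, hg, hge, hgX⟩ := (NormalizerModel.isMap_iff hN).1 hf
  obtain ⟨g', hg', hg'e, hg'c⟩ := (isNormal_iff.1 (core_isNormal (F := F))).2 _ g hg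
  have hle : P ⊔ (F.core ⊔ X) ≤ P ⊔ X ⊔ F.core :=
    sup_le (le_sup_left.trans le_sup_left) (sup_le le_sup_right (le_sup_right.trans le_sup_left))
  have hX' : img g' X = X := by
    rw [img_congr fun x hx => hg'e x (Subgroup.mem_sup_right hx), hgX]
  refine ⟨g', hg'.restrict hle, fun x hx => ?_, hX', ?_⟩
  · rw [hg'e x (Subgroup.mem_sup_left hx), hge x hx]
  · rw [((hg'.restrict hle).restrict le_sup_right).img_sup, hg'c, hX']

omit hX in
/-- `N_R(X)` is strongly closed in `N_F(X)`. -/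
theorem closed_NR : N.StronglyClosed (normalizerIn R X) := by
  refine ⟨inf_le_inf_right _ h.RS, fun P hP φ hφ x => ⟨?_, ((N.le_of_mem hφ).2 x).2⟩⟩
  obtain ⟨g, hg, hge, -, hgY⟩ := ext_Y h hR hN (IsMap.of_hom hφ)
  show φ x ∈ R
  rw [← ext_apply φ x, ← hge x x.2]
  exact mem_R h hR hg le_sup_right (hgY.le.trans (Y_le h hR)) (Subgroup.mem_sup_left x.2)
    (hR.le (hP x.2).1)

variable {K : FusionSystem (normalizerIn R X)} (hK : D.IsNormalizerSystem X K)
include hK

omit hX in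
theorem K_le (hf : IsMap K P f) : IsMap N P f := by
  obtain ⟨hP, hv, g, hg, hge, hgX⟩ := (NormalizerModel.isMap_iff hK).1 hf
  exact (NormalizerModel.isMap_iff hN).2 ⟨hP.trans (inf_le_inf_right _ h.RS),
    fun x hx => inf_le_inf_right _ h.RS (hv x hx), g, toF h hg, hge, hgX⟩

omit hX in
/-- The maps of `N_F(X)` permute those of `N_D(X)`. -/
theorem strong : InvariantCriterion.Strong N K := by
  intro P Q φ ψ hPQ hQR hφ hmaps hψ
  obtain ⟨ψ', hψ', hψe, hψX, hψY⟩ := ext_Y h hR hN hψ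
  obtain ⟨-, -, φ', hφ', hφe, hφX⟩ := (NormalizerModel.isMap_iff hK).1 hφ
  have hYR := Y_le h hR
  set Q' := Q ⊔ (F.core ⊔ X) with hQ'
  have hQ'R : Q' ≤ R := sup_le (hQR.trans normalizerIn_le) hYR
  have hP'Q' : P ⊔ X ≤ Q' :=
    sup_le (hPQ.trans le_sup_left) (le_sup_right.trans le_sup_right)
  have hφQ' : ∀ x ∈ P ⊔ X, φ' x ∈ Q' := by
    have h1 : img φ' (P ⊔ X) ≤ Q' := by
      rw [hφ'.img_sup, hφX]
      exact sup_le (img_le fun x hx => hφe x hx ▸ Subgroup.mem_sup_left (hmaps x hx))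
        (le_sup_right.trans le_sup_right)
    exact fun x hx => h1 (mem_img_self φ' hx)
  have hψR : img ψ' Q' ≤ R := img_le fun x hx =>
    mem_R h hR hψ' le_sup_right (hψY.le.trans hYR) hx (hR.le (hQ'R hx))
  obtain ⟨γ, y, hy, hγ, hfac⟩ := ProdFac.fac h.base hψ'
  have hQT : Q' ⊔ T = R := le_antisymm (sup_le hQ'R h.TR) (hR.le.trans
    (sup_le le_sup_right (le_sup_right.trans le_sup_left)))
  rw [hQT] at hγ
  have hfinR := finR h
  have hyR : img y Q' ≤ R := (img_le_sup (moves h.base hy)).trans hQT.le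
  have hγR : img γ R ≤ R := by
    conv_lhs => rw [← hQT, ← ProdSys.sup_eq h.base hy]
    have hγ' : IsMap F (img y Q' ⊔ T) γ := hγ.restrict (sup_le hyR h.TR)
    rw [hγ'.img_sup, Normal.stronglyClosed_img (closed h.base) hγ' le_sup_right,
      (ProdSys.isMap h.base hy).img_img, ← img_congr hfac]
    exact sup_le hψR h.TR
  have hyD : IsMap D Q' y := isMap_of_Y h hQ'R hy
  obtain ⟨iy, hiy, hiyi, hiyy, -⟩ := hyD.exists_inv
  -- the map on the image of `P X` under `y`
  have hyP := hyD.restrict hP'Q'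
  have hmid : IsMap D (img y (P ⊔ X)) fun z => y (φ' (iy z)) := by
    refine hyD.comp (hφ'.comp (hiy.restrict (img_mono y hP'Q')) fun z hz => ?_) fun z hz => ?_
    · obtain ⟨x, hx, rfl⟩ := hyP.mem_img.1 hz
      rwa [hiyy x (hP'Q' hx)]
    · obtain ⟨x, hx, rfl⟩ := hyP.mem_img.1 hz
      rw [hiyy x (hP'Q' hx)]
      exact hφQ' x hx
  obtain ⟨-, r, hr, z, hz, hze⟩ := (h.maps _ _).1 hmid
  have hW : img y (P ⊔ X) ⊔ T ≤ R := sup_le hyP.img_le_S h.TR
  obtain ⟨z', hz', hz'e⟩ := ProdSys.transport h.base hz (hγ.restrict hW)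
  have himg : img γ (img y (P ⊔ X)) = img ψ' (P ⊔ X) := by
    rw [(toF h hyP).img_img]
    exact img_congr fun x hx => (hfac x (hP'Q' hx)).symm
  rw [himg] at hz'
  have hγr : γ r ∈ R := hγR (mem_img_self γ hr)
  have hzR : ∀ x ∈ P ⊔ X, z (y x) ∈ R := fun x hx =>
    hW (img_le_sup (moves h.base hz) (mem_img_self z (mem_img_self y hx)))
  have hkey : ∀ x ∈ P ⊔ X, cj (γ r) (z' (ψ' x)) = ψ' (φ' x) := by
    intro x hx
    have h1 := hze _ (mem_img_self y hx)
    simp only [hiyy x (hP'Q' hx)] at h1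
    rw [hfac x (hP'Q' hx), hz'e _ (mem_img_self y hx), hfac _ (hφQ' x hx), h1, cj_apply, cj_apply,
      hγ.map_conj hr (hzR x hx)]
  have hdom : img ψ' (P ⊔ X) ≤ R := (img_mono ψ' hP'Q').trans hψR
  have hχD : IsMap D (img ψ' (P ⊔ X)) fun w => cj (γ r) (z' w) :=
    (h.maps _ _).2 ⟨hdom, γ r, hγr, z', hz', fun _ _ => rfl⟩
  have hP'm := hψ'.restrict hP'Q'
  rw [hP'm.img_sup, hψX, img_congr fun x hx => hψe x (hPQ hx)] at hχD
  have hψP := hψ.restrict hPQ
  have hkey' : ∀ x ∈ P, cj (γ r) (z' (ψ x)) = ψ (φ x) := by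
    intro x hx
    rw [← hψe x (hPQ hx), hkey x (Subgroup.mem_sup_left hx), hφe x hx, hψe _ (hmaps x hx)]
  have hNR : ∀ x ∈ Q, ψ x ∈ normalizerIn R X := fun x hx =>
    Normal.stronglyClosed_mem (closed_NR h hR hN) hψ hx (hQR hx)
  refine ⟨fun w => cj (γ r) (z' w), (NormalizerModel.isMap_iff hK).2
    ⟨img_le fun x hx => hNR x (hPQ hx), fun w hw => ?_, _, hχD, fun _ _ => rfl, ?_⟩, hkey'⟩
  · obtain ⟨x, hx, rfl⟩ := hψP.mem_img.1 hw
    show cj (γ r) (z' (ψ x)) ∈ _
    rw [hkey' x hx]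
    exact hNR _ (hmaps x hx)
  · conv_lhs => arg 2; rw [← hψX]
    rw [(hψ'.restrict ((le_sup_right : X ≤ P ⊔ X).trans hP'Q')).img_img,
      img_congr fun x hx => hkey x (Subgroup.mem_sup_right hx),
      ← ((toF h hφ').restrict le_sup_right).img_img, hφX, hψX]

omit hK in
/-- A normal subsystem of `N_F(X)` inside the product. -/
theorem exists_normal : ∃ M : FusionSystem (normalizerIn R X),
    M.IsNormalIn N p ∧ M.IsSubsystemOf D := by
  have hXR : X ≤ R := le_sup_right.trans (Y_le h hR)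
  obtain ⟨K, hK⟩ := KNormalizer.exists_normalizerSystem (F := D) hXR
  have hfinR := finR h
  have hNRS : normalizerIn R X ≤ S := normalizerIn_le.trans h.RS
  have hfinK : Finite (normalizerIn R X) := finite_of_le hNRS
  have hfinN : Finite (normalizerIn S X) := finite_of_le normalizerIn_le
  have hNp : IsPGroup p (normalizerIn S X) := h.base.pg.to_le normalizerIn_le
  have hKp : IsPGroup p (normalizerIn R X) := h.base.pg.to_le hNRS
  have hNs := KNormalizer.normalizerSystem_saturated h.base.pg h.base.sat hX hN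
  have hKs := KNormalizer.normalizerSystem_saturated (Rp h) (ProdSat.saturated h) (fn h hX hR) hK
  have hsc := closed_NR h hR hN
  have hsub : K.IsSubsystemOf N := fun P => subset_of_isMap fun f hf => K_le h hR hN hK hf
  have hst := strong h hR hN hK
  have hwn : K.IsWeaklyNormalIn N p := by
    refine ⟨hKs, hNs, Meet.invariant_mk (fun P f hf => K_le h hR hN hK hf) hsc
      (fun P f hf α hα => InvariantCriterion.transport hsc.1 hst hf hα)
      fun P f hP hf => InvariantCriterion.fac_of_strong hNp hNs hsc hsub hst hP hf⟩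
  obtain ⟨M, hM⟩ := PPrimeResidual.exists_residual (F := K) hKp hKs
  refine ⟨M, ComponentExists.residual_isNormal hNp hNs hwn hM, fun P => subset_of_isMap fun f hf => ?_⟩
  exact NormalizerModel.isMap_le hK (isMap_of_subset hM.2.1.1 hf)

end Cfsg.Agent.Fusion.BalanceProd
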