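/-
The layer of a normalizer system lies in the layer.
-/
import Mathlib
import Cfsg.Agent.Lib.Fusion.BalanceFix
import Cfsg.Agent.Lib.Fusion.BalanceBelow
import Cfsg.Agent.Lib.Fusion.BalanceProd
import Cfsg.Agent.Lib.Fusion.FittingCentralizer

set_option autoImplicit false
set_option linter.all false

namespace Cfsg.Agent.Fusion.BalanceMain

open Cfsg Cfsg.FusionSystem Cfsg.Agent.Fusion.Basic Cfsg.Agent.Fusion.Saturation
  Cfsg.Agent.Fusion.Normal Cfsg.Agent.Fusion.Subsystems Cfsg.Agent.Fusion.FixExt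
  Cfsg.Agent.Fusion.SubsystemCentralizer

universe u

variable {Ω : Type u} [Group Ω] {S T X : Subgroup Ω} {p : ℕ} [Finite S] [Fact p.Prime]
  {F : FusionSystem S} {E : FusionSystem T}

/-- Automorphisms of order prime to `p` in `E` put the maps in `E`. -/
theorem le_of_coprime (hS : IsPGroup p S) {W : Subgroup Ω} {C : FusionSystem W}
    (hC : C.IsSaturated p) (hWT : W ≤ T) (hTS : T ≤ S)
    (hE : ∀ P : Subgroup Ω, P ≤ W → ∀ a ∈ C.autGroup P, (orderOf a).Coprime p →
      a ∈ E.autGroup P) : C.IsSubsystemOf E := by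
  have hfinW : Finite W := finite_of_le (hWT.trans hTS)
  let D : FusionSystem W :=
    { Hom := fun P => C.Hom P ∩ E.Hom P
      le_of_mem := fun h => C.le_of_mem h.1
      injective_of_mem := fun h => C.injective_of_mem h.1
      conj_mem := fun hP ha => ⟨C.conj_mem hP ha, E.conj_mem (hP.trans hWT) (hWT ha)⟩
      comp_mem := fun hφ hψ h => ⟨C.comp_mem hφ.1 hψ.1 h, E.comp_mem hφ.2 hψ.2 h⟩
      inv_mem := fun {P φ} hφ => by
        obtain ⟨ψ, hψ, hψe⟩ := C.inv_mem hφ.1
        obtain ⟨ψ', hψ', hψe'⟩ := E.inv_mem hφ.2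
        have : ψ = ψ' := MonoidHom.ext fun y => by
          obtain ⟨x, hx⟩ := y.2
          obtain rfl : y = ⟨φ x, ⟨x, rfl⟩⟩ := Subtype.ext hx.symm
          rw [hψe, hψe']
        exact ⟨ψ, ⟨hψ, this ▸ hψ'⟩, hψe⟩ }
  have hWp : IsPGroup p W := hS.to_le (hWT.trans hTS)
  suffices h : C ≤ D from fun P φ hφ => (h P hφ).2
  refine Alperin.le_of_autGroup hWp hC fun P hP _ α hα => ?_
  obtain ⟨r, hr, c, hc, rfl⟩ := Focal.aut_decomp hWp hC hP hα
  refine Subgroup.mul_mem _ (autInducedBy_le hP.1 hc) ?_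
  obtain ⟨r, hr, rfl⟩ := hr
  clear hα
  induction hr using Subgroup.closure_induction with
  | mem b hb =>
    have h2 := hE P hP.1 b b.2 (by rw [Subgroup.orderOf_coe]; exact hb)
    obtain ⟨φ, hφ, he⟩ := isMap_of_mem_autGroup hP.1 b.2
    obtain ⟨φ', hφ', he'⟩ := isMap_of_mem_autGroup (hP.1.trans hWT) h2
    refine (mem_autGroup_iff hP.1).2 ⟨φ, ⟨hφ, ?_⟩, he⟩
    rwa [show φ = φ' from MonoidHom.ext fun x => by rw [he, he']]
  | one => exact one_mem _
  | mul a b _ _ iha ihb => rw [map_mul]; exact mul_mem iha ihb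
  | inv a _ iha => rw [map_inv]; exact inv_mem iha

/-- E-balance. -/
theorem layer_normalizer_le (hS : IsPGroup p S) (hF : F.IsSaturated p)
    (hX : F.IsFullyNormalized X) {N : FusionSystem (normalizerIn S X)}
    (hN : F.IsNormalizerSystem X N) {U : Subgroup Ω} {L : FusionSystem U}
    (hL : L.IsLayerOf N p) (hE : E.IsLayerOf F p) : L.IsSubsystemOf E := by
  have hb : Prod.Base F E p := ⟨hS, hF, hE.1⟩
  have hTS := Prod.T_le hb
  have hTc := Prod.closed hb
  have hcn := core_isNormal (F := F)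
  obtain ⟨R, hRdef⟩ : ∃ R : Subgroup Ω, R = T ⊔ (F.core ⊔ X) := ⟨_, rfl⟩
  have hTR : T ≤ R := le_sup_left.trans hRdef.ge
  have hcR : F.core ≤ R := le_sup_left.trans (le_sup_right.trans hRdef.ge)
  have hXR : X ≤ R := le_sup_right.trans (le_sup_right.trans hRdef.ge)
  have hRS : R ≤ S := hRdef.le.trans (sup_le hTS (sup_le hcn.1 hX.1))
  obtain ⟨D, hD⟩ := ProdSys.exists_sys hb hTR hRS
  have h : ProdAut.Sys F E p D := ⟨hb, hTR, hRS, hD⟩
  obtain ⟨M, hM, hMD⟩ := BalanceProd.exists_normal h hX hRdef hN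
  have hNs := KNormalizer.normalizerSystem_saturated hS hF hX hN
  have hfinN : Finite (normalizerIn S X) := finite_of_le normalizerIn_le
  have hNp : IsPGroup p (normalizerIn S X) := hS.to_le normalizerIn_le
  have hhypD : D.hyperfocalSubgroup p ≤ T := by
    rw [ProdHyp.hyp_eq h]
    exact Focal.hyp_le
  have hcomp : ∀ (W : Subgroup Ω) (C : FusionSystem W), C.IsComponentIn N p →
      C.IsSubsystemOf M := by
    intro W C hC
    have hWN : W ≤ normalizerIn S X := (ComponentExists.subnormal_facts hC.1 hNs).1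
    have hWS : W ≤ S := hWN.trans normalizerIn_le
    have hfinW : Finite W := finite_of_le hWS
    rcases Component.dichotomy hC.1 hfinN inferInstance hNp hNs hC.2 hM with ⟨h1, -⟩ | ⟨-, hfix⟩
    · exact h1
    exfalso
    have hfixQ : ∀ Q : Subgroup Ω, F.StronglyClosed Q → Q ≤ R →
        FixesCoprime p F C Q ∧ W ≤ Subgroup.centralizer (Q : Set Ω) := by
      intro Q hQ hQR
      have hfc : FixesCoprime p F C Q := by
        intro P hP α hα hαc
        obtain ⟨g, hg, hge, hgfix⟩ := hfix P _ (isMap_of_mem_autGroup hP hα)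
        have hgF := NormalizerModel.isMap_le hN hg
        obtain ⟨V, hV⟩ : ∃ V, V = P ⊔ normalizerIn R X := ⟨_, rfl⟩
        rw [← hV] at hgF
        have hPV : P ≤ V := le_sup_left.trans hV.ge
        have hRV : normalizerIn R X ≤ V := le_sup_right.trans hV.ge
        have hVS : V ≤ S := hgF.le
        have hVN : V ≤ normalizerIn S X :=
          hV.le.trans (sup_le (hP.trans hWN) (inf_le_inf_right _ hRS))
        have hfinV : Finite V := finite_of_le hVS
        have himg : img g V = V := by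
          rw [hV] at hgF ⊢
          rw [hgF.img_sup, img_congr hge, autFun_img, img_congr (g := id) hgfix, img_id]
        obtain ⟨a, ha, hae⟩ := hgF.exists_aut himg
        obtain ⟨k, hkc, hkP⟩ := GoodExtension.exists_pow_coprime (p := p) hPV (a := a) (d := α)
          (fun x hx => by rw [hae x (hPV hx), hge x hx]) hαc
        have hfixa : ∀ n : ℕ, ∀ x ∈ normalizerIn R X, autFun (a ^ n) x = x := by
          intro n
          induction n with
          | zero => intro x _; rw [pow_zero, autFun_one]; rfl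
          | succ n ih =>
            intro x hx
            rw [pow_succ, autFun_mul, hae x (hRV hx), hgfix x hx, ih x hx]
        have hXNR : X ≤ normalizerIn R X := le_normalizerIn hXR
        have hQN : V ⊓ Q ≤ normalizerIn R X := fun x hx => ⟨hQR hx.2, (hVN hx.1).2⟩
        have hQC : centralizerIn Q X ≤ V := fun x hx =>
          hRV ⟨hQR hx.1, Subgroup.centralizer_le_normalizer _ hx.2⟩
        obtain ⟨g', hg', hg'e, hg'Q⟩ := BalanceFix.fix_ext hS hF hQ
          (BalanceFix.cmax_of_fn hS hF hQ hX) hVS (hXNR.trans hRV) hQC (pow_mem ha k) hkc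
          (fun x hx => hfixa k x (hXNR hx)) fun x hx => hfixa k x (hQN hx)
        exact ⟨g', hg'.restrict (sup_le_sup_right hPV Q),
          fun x hx => by rw [hg'e x (hPV hx), hkP x hx], hg'Q⟩
      refine ⟨hfc, ?_⟩
      have h1 := FixExt.hyp_le (le_normalizer_of_stronglyClosed hQ) hWS hfc
      rwa [hC.2.2.1] at h1
    obtain ⟨hfT, hWT⟩ := hfixQ T hTc hTR
    obtain ⟨-, hWc⟩ := hfixQ F.core (normal_stronglyClosed hcn) hcR
    obtain ⟨CT, hCT⟩ := KNormalizer.exists_centralizerSystem (F := F) hTS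
    have hWCT : W ≤ centralizerIn S T := fun x hx => ⟨hWS hx, hWT hx⟩
    have hWcent : W ≤ cent F E := by
      rw [← hC.2.2.1]
      refine Hyperfocal.hyp_le_of fun P hP α hαc x hx => ?_
      have hαc' : (orderOf (α : MulAut P)).Coprime p := by rwa [Subgroup.orderOf_coe]
      obtain ⟨g, hg, hge, hgT⟩ := hfT P hP α α.2 hαc'
      have hPC := hP.trans hWCT
      have hαCT : (α : MulAut P) ∈ CT.autGroup P := (mem_autGroup_iff hPC).2
        ((NormalCentralizer.isMap_cent_iff hCT).2
          ⟨hPC, fun y hy => hPC (autFun_mem _ hy), g, hg, hge, hgT⟩)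
      refine SubsystemCentralizerSystem.hyp_le_cent hS hF hE.1 hCT (Focal.mem_hyp hPC
        ⟨⟨_, hαCT⟩, Subgroup.subset_closure ?_, rfl⟩ hx)
      show (orderOf (⟨(α : MulAut P), hαCT⟩ : CT.autGroup P)).Coprime p
      rwa [Subgroup.orderOf_mk]
    obtain ⟨E₁, hE₁, hE₁T⟩ := SubsystemCentralizerSystem.exists_centSystem hS hF hE.1
    have hfinC : Finite (cent F E) := finite_of_le (cent_le.trans centralizerIn_le)
    obtain ⟨-, R₀, hR₀n, hR₀c⟩ :=
      FittingCentralizer.cent_constrained hS hF hE.1 hE.2.1 hE₁ hE₁T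
    have hR₀Q : R₀ ≤ F.core :=
      (le_core hR₀n).trans (le_core (NormalCentralizer.core_normal hS hF hE₁.1.2.2))
    have hWQ : W ≤ F.core := fun x hx => hR₀Q
      (centric_centralizerIn_le hR₀c ⟨hWcent hx, fun r hr => hWc hx r (hR₀Q hr)⟩)
    exact Component.not_centralizing hS hWS hC.2 hWQ hWc
  have hLM : L.IsSubsystemOf M := hL.2.2 _ M hM hcomp
  have hLD : L.IsSubsystemOf D := fun P => (hLM P).trans (hMD P)
  have hUR : U ≤ R := subsystem_le hLD
  have hLsc := hL.1.1.2.2.2.1
  have hfinU : Finite U := finite_of_le (hUR.trans hRS)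
  have hscT : N.StronglyClosed (U ⊓ T) := by
    refine ⟨inf_le_left.trans hLsc.1, fun P hP φ hφ x => ⟨hLsc.2 P (hP.trans inf_le_left) φ hφ x, ?_⟩⟩
    rw [← ext_apply φ x]
    exact Normal.stronglyClosed_mem hTc (NormalizerModel.isMap_le hN (IsMap.of_hom hφ)) x.2
      (hP x.2).2
  obtain ⟨L', hL'⟩ := BalanceBelow.exists_normal_over hNp hNs hL.1 hscT inf_le_left
    (le_inf Focal.hyp_le ((Focal.hyp_mono hUR hLD).trans hhypD))
  have hUT : U ≤ T := by
    refine (subsystem_le (hL.2.2 _ L' hL' fun W C hC => ?_)).trans inf_le_right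
    have hWR : W ≤ R := subsystem_le (fun P => (hcomp W C hC P).trans (hMD P))
    refine (Component.component_of_subsystem hNp hNs hC hL' (le_inf ?_ ?_)).1
    · exact subsystem_le (hL.2.1 W C hC)
    · rw [← hC.2.2.1]
      exact (Focal.hyp_mono hWR fun P => (hcomp W C hC P).trans (hMD P)).trans hhypD
  exact le_of_coprime hS hL.1.1.1 hUT hTS fun P hP a ha hac =>
    ProdHyp.coprime_mem_E h (hP.trans hUT) (Focal.autGroup_mono hLD P ha) hac

end Cfsg.Agent.Fusion.BalanceMain
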