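/-
Canonical extensions: the subgroup generated by the `p`-elements of `Aut_E(R)`, `E` an invariant
saturated subsystem on `T` and `R ≤ T` with `C_T` of every conjugate inside it, has a unique compatible
family of extensions to `R ⊔ C_S(R)` generated by conjugations by `N_T(R)`; the resulting displacement
is invariant under the maps of the centralizer system of `R`.
-/
import Mathlib
import Cfsg.Agent.Lib.Fusion.CentralizeNormal
import Cfsg.Agent.Lib.Fusion.WeaklyNormalTop
import Cfsg.Agent.Lib.Fusion.KNormalizer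
import Cfsg.Agent.Lib.Transfer.Fusion
import Cfsg.Agent.Lib.PLocal.Omega

set_option autoImplicit false
set_option linter.all false

namespace Cfsg.Agent.Fusion.CanonicalLift

open Cfsg Cfsg.FusionSystem Cfsg.Agent.Fusion.Basic Cfsg.Agent.Fusion.Saturation
  Cfsg.Agent.Fusion.Normal Cfsg.Agent.Fusion.Subsystems Cfsg.Agent.Fusion.CentralizeNormal
  Cfsg.Agent.Fusion.WeaklyNormalTop
open scoped commutatorElement

/-- A submonoid of a finite group as a subgroup. -/
def finSub {G : Type*} [Group G] [Finite G] (M : Submonoid G) : Subgroup G :=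
  { M with
    inv_mem' := fun {a} ha => by
      have h1 : a⁻¹ = a ^ (orderOf a - 1) := by
        refine inv_eq_of_mul_eq_one_right ?_
        rw [← pow_succ', Nat.sub_add_cancel (orderOf_pos a), pow_orderOf_eq_one]
      rw [h1]
      exact M.pow_mem ha _ }

theorem mem_finSub {G : Type*} [Group G] [Finite G] {M : Submonoid G} {a : G} :
    a ∈ finSub M ↔ a ∈ M := Iff.rfl

variable {Ω : Type*} [Group Ω] {S T R : Subgroup Ω} {F : FusionSystem S} {E : FusionSystem T}
  {p : ℕ}

/-- Every conjugate of `R` contains its centralizer in `T`. -/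
def Cen (F : FusionSystem S) (T R : Subgroup Ω) : Prop :=
  R ≤ T ∧ ∀ R', F.IsConj R R' → centralizerIn T R' ≤ R'

/-- The subgroup generated by the `p`-elements of `Aut_E(R)`. -/
def Ep (E : FusionSystem T) (p : ℕ) (R : Subgroup Ω) : Subgroup (MulAut R) :=
  Subgroup.closure {a | a ∈ E.autGroup R ∧ ∃ k : ℕ, a ^ p ^ k = 1}

theorem Ep_le : Ep E p R ≤ E.autGroup R := (Subgroup.closure_le _).2 fun _ h => h.1

/-- A compatible family of extensions. -/
structure Canon (F : FusionSystem S) (E : FusionSystem T) (p : ℕ) (R : Subgroup Ω) where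
  act : MulAut R → Ω → Ω
  map : ∀ γ ∈ Ep E p R, IsMap F (R ⊔ centralizerIn S R) (act γ)
  res : ∀ γ ∈ Ep E p R, ∀ x ∈ R, act γ x = autFun γ x
  near : ∀ γ ∈ Ep E p R, ∀ x ∈ centralizerIn S R, x⁻¹ * act γ x ∈ ctr R
  comp : ∀ γ ∈ Ep E p R, ∀ δ ∈ Ep E p R, ∀ x ∈ centralizerIn S R,
    act (γ * δ) x = act γ (act δ x)
  inn : ∀ γ ∈ Ep E p R, ∀ t ∈ normalizerIn T R, (∀ x ∈ R, autFun γ x = cj t x) →
    ∀ x ∈ centralizerIn S R, act γ x = cj t x
  inv : ∀ γ ∈ Ep E p R, ∀ (x : Ω) (k : Ω → Ω), x ∈ centralizerIn S R →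
    IsMap F (R ⊔ Subgroup.zpowers x) k → (∀ r ∈ R, k r = r) →
    (k x)⁻¹ * act γ (k x) = x⁻¹ * act γ x

/-- Elements of `Z(R)` commute with `R ⊔ C_S(R)`. -/
theorem ctr_central {z w : Ω} (hz : z ∈ ctr R) (hw : w ∈ R ⊔ centralizerIn S R) : w * z = z * w := by
  have h1 : R ⊔ centralizerIn S R ≤ Subgroup.centralizer ({z} : Set Ω) := by
    refine sup_le (fun r hr => Subgroup.mem_centralizer_singleton_iff.2 (hz.2 r hr))
      fun c hc => Subgroup.mem_centralizer_singleton_iff.2 ?_
    exact (hc.2 z hz.1).symm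
  exact Subgroup.mem_centralizer_singleton_iff.1 (h1 hw)

section Full

variable [Finite S] [Fact p.Prime]

set_option maxHeartbeats 3000000 in
/-- The canonical extensions at a fully normalized subgroup. -/
theorem exists_canon_fn (hS : IsPGroup p S) (hF : F.IsSaturated p) (hinv : E.IsInvariantIn F)
    (hEsat : E.IsSaturated p) (hR : Cen F T R) (hRn : F.IsFullyNormalized R) :
    Nonempty (Canon F E p R) := by
  classical
  have hT : F.StronglyClosed T := hinv.2.1
  have hRT := hR.1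
  have hRS : R ≤ S := hRT.trans hT.1
  have hTfin : Finite T := finite_of_le hT.1
  have hTp := hS.to_le hT.1
  have hRfin : Finite R := finite_of_le hRS
  set C := centralizerIn S R with hC
  have hCS : C ≤ S := centralizerIn_le
  have hCfin : Finite C := finite_of_le hCS
  set Q := R ⊔ C with hQ
  have hQS : Q ≤ S := sup_le hRS hCS
  have hQfin : Finite Q := finite_of_le hQS
  have hRfc := fullyNormalized_fullyCentralized hS hF hRn
  have hREn := fullyNormalized_of_subsystem hS hF hT hinv.1 hRT hRn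
  -- `C` is preserved
  have hpres : ∀ a : MulAut Q, a ∈ F.autGroup Q → (∀ r ∈ R, autFun a r ∈ R) →
      ∀ c ∈ C, autFun a c ∈ C := by
    intro a ha haR c hc
    have hm := isMap_of_mem_autGroup hQS ha
    have himg : img (autFun a) R = R := eq_of_le_card (img_le haR)
      (hm.restrict le_sup_left).card_img.ge
    refine ⟨hm.mem (Subgroup.mem_sup_right hc), fun r hr => ?_⟩
    obtain ⟨r0, hr0, rfl⟩ := (hm.restrict le_sup_left).mem_img.1 (himg.ge hr)
    rw [← hm.map_mul (Subgroup.mem_sup_left hr0) (Subgroup.mem_sup_right hc),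
      ← hm.map_mul (Subgroup.mem_sup_right hc) (Subgroup.mem_sup_left hr0), hc.2 r0 hr0]
  let L0 : Subgroup (MulAut Q) := finSub
    { carrier := {a | a ∈ F.autGroup Q ∧ ∀ r ∈ R, autFun a r ∈ R}
      one_mem' := ⟨one_mem _, fun r hr => by rw [autFun_one]; exact hr⟩
      mul_mem' := fun {a b} ha hb => ⟨mul_mem ha.1 hb.1, fun r hr => by
        rw [autFun_mul]; exact ha.2 _ (hb.2 r hr)⟩ }
  have hLA : ∀ a : L0, (a : MulAut Q) ∈ F.autGroup Q := fun a => a.2.1
  have hLR : ∀ a : L0, ∀ r ∈ R, autFun (a : MulAut Q) r ∈ R := fun a => a.2.2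
  have hLm : ∀ a : L0, IsMap F Q (autFun (a : MulAut Q)) :=
    fun a => isMap_of_mem_autGroup hQS (hLA a)
  have hLC : ∀ a : L0, ∀ c ∈ C, autFun (a : MulAut Q) c ∈ C := fun a => hpres _ (hLA a) (hLR a)
  -- lifting automorphisms of `R`
  have hlift : ∀ δ ∈ F.autGroup R, ∃ a : L0, ∀ r ∈ R, autFun (a : MulAut Q) r = autFun δ r := by
    intro δ hδ
    have hm := isMap_of_mem_autGroup hRS hδ
    obtain ⟨g, hg, hge⟩ := exists_extension hS hF hm (by rw [autFun_img]; exact hRfc)
    have hgQ : IsMap F Q g := hg.restrict (sup_le (le_nSub hm) centralizerIn_le_nSub)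
    have hgimg : img g Q = Q := by
      refine eq_of_le_card ?_ hgQ.card_img.ge
      rw [hQ, hgQ.img_sup]
      refine sup_le_sup (by rw [img_congr hge, autFun_img]) ?_
      have := hg.img_centralizerIn_le (le_nSub hm) (centralizerIn_le_nSub (f := autFun δ))
      rwa [img_congr hge, autFun_img] at this
    obtain ⟨a, ha, hae⟩ := hgQ.exists_aut hgimg
    refine ⟨⟨a, ha, fun r hr => ?_⟩, fun r hr => ?_⟩
    · rw [hae r (Subgroup.mem_sup_left hr), hge r hr]; exact autFun_mem δ hr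
    · show autFun a r = _
      rw [hae r (Subgroup.mem_sup_left hr), hge r hr]
  -- restricting to `R`
  have hres : ∀ a : L0, ∃ δ ∈ F.autGroup R, ∀ r ∈ R, autFun δ r = autFun (a : MulAut Q) r := by
    intro a
    refine ((hLm a).restrict le_sup_left).exists_aut ?_
    exact eq_of_le_card (img_le (hLR a)) ((hLm a).restrict le_sup_left).card_img.ge
  have hext : ∀ a b : L0, (∀ r ∈ R, autFun (a : MulAut Q) r = autFun (b : MulAut Q) r) →
      (∀ c ∈ C, autFun (a : MulAut Q) c = autFun (b : MulAut Q) c) → a = b := fun a b h1 h2 =>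
    Subtype.ext (aut_ext_sup h1 h2)
  -- the centralizer system
  obtain ⟨D, hD⟩ := Fusion.KNormalizer.exists_centralizerSystem (F := F) hRS
  have hDsat := Fusion.KNormalizer.centralizerSystem_saturated hS hF hRfc hD
  have hCp : IsPGroup p C := hS.to_le hCS
  have hDmem : ∀ (P : Subgroup Ω) (f g : Ω → Ω), P ≤ C → IsMap F (P ⊔ R) g →
      (∀ x ∈ P, g x = f x) → (∀ r ∈ R, g r = r) → IsMap D P f := by
    intro P f g hP hg hgP hgR
    have hPm := (hg.restrict (le_sup_left : P ≤ P ⊔ R)).congr hgP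
    refine ⟨hPm.hom, ?_, fun _ => rfl⟩
    rw [hD P]
    refine ⟨hPm.hom_mem_self, hP, fun x => ⟨hPm.mem x.2, fun r hr => ?_⟩, hg.hom, hg.hom_mem_self,
      fun x => ?_, fun r => ?_⟩
    · rw [IsMap.hom_apply, ← hgP x x.2, ← hgR r hr,
        ← hg.map_mul (Subgroup.mem_sup_right hr) (Subgroup.mem_sup_left x.2),
        ← hg.map_mul (Subgroup.mem_sup_left x.2) (Subgroup.mem_sup_right hr), (hP x.2).2 r hr]
    · rw [IsMap.hom_apply, Subgroup.coe_inclusion, hgP x x.2]; rfl
    · rw [IsMap.hom_apply, Subgroup.coe_inclusion, hgR r r.2]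
  -- the automorphisms moving `C` inside cosets of `Z(R)`
  let Nr : Subgroup L0 := finSub
    { carrier := {a | ∀ c ∈ C, c⁻¹ * autFun (a : MulAut Q) c ∈ ctr R}
      one_mem' := fun c _ => by
        rw [Subgroup.coe_one, autFun_one, id, inv_mul_cancel]; exact one_mem _
      mul_mem' := fun {a b} ha hb c hc => by
        have hz := hb c hc
        obtain ⟨δ, -, hδe⟩ := hres a
        have e : autFun (b : MulAut Q) c = c * (c⁻¹ * autFun (b : MulAut Q) c) :=
          (mul_inv_cancel_left _ _).symm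
        rw [Subgroup.coe_mul, autFun_mul, e, (hLm a).map_mul (Subgroup.mem_sup_right hc)
          (Subgroup.mem_sup_left hz.1), ← mul_assoc, ← hδe _ hz.1]
        exact mul_mem (ha c hc) (autFun_ctr hz) }
  have hNr : ∀ a : L0, a ∈ Nr ↔ ∀ c ∈ C, c⁻¹ * autFun (a : MulAut Q) c ∈ ctr R := fun a => Iff.rfl
  have hNrn : Nr.Normal := ⟨fun a ha g => by
    rw [hNr]
    intro c hc
    obtain ⟨δ, -, hδe⟩ := hres g
    set c' := autFun ((g⁻¹ : L0) : MulAut Q) c with hc'
    have hc'C : c' ∈ C := hLC g⁻¹ c hc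
    have hz := (hNr a).1 ha c' hc'C
    have e : autFun (a : MulAut Q) c' = c' * (c'⁻¹ * autFun (a : MulAut Q) c') :=
      (mul_inv_cancel_left _ _).symm
    have e2 : autFun (g : MulAut Q) c' = c := by
      rw [hc', Subgroup.coe_inv, autFun_apply_inv]
    rw [Subgroup.coe_mul, Subgroup.coe_mul, autFun_mul, autFun_mul, ← hc', e,
      (hLm g).map_mul (Subgroup.mem_sup_right hc'C) (Subgroup.mem_sup_left hz.1), e2,
      inv_mul_cancel_left, ← hδe _ hz.1]
    exact autFun_ctr hz⟩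
  -- the Sylow subgroup
  let U0 : Subgroup L0 := (autInducedBy (normalizerIn S R) Q).subgroupOf L0
  let Ut : Subgroup L0 := (autInducedBy (normalizerIn T R) Q).subgroupOf L0
  have hU0p : IsPGroup p U0 :=
    (isPGroup_autInducedBy (hS.to_le normalizerIn_le)).comap_of_injective _ Subtype.val_injective
  have hQnorm : ∀ s ∈ normalizerIn S R, s ∈ Subgroup.normalizer (Q : Set Ω) := by
    intro s hs
    refine mem_normalizer_of_forall fun x hx => ?_
    have hm : IsMap F S (cj s) := isMap_cj le_rfl hs.1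
    have h1 : img (cj s) Q ≤ Q := by
      rw [hQ, (hm.restrict hQS).img_sup]
      refine sup_le ((img_cj_eq_of_mem_normalizer hs.2).le.trans le_sup_left) ?_
      refine le_trans ?_ le_sup_right
      have h2 := hm.img_centralizerIn_le hRS centralizerIn_le
      rwa [img_cj_eq_of_mem_normalizer hs.2] at h2
    exact h1 (mem_img_self (cj s) hx)
  have hmkU : ∀ s ∈ normalizerIn S R, ∃ a : L0, a ∈ U0 ∧
      ∀ w ∈ Q, autFun (a : MulAut Q) w = cj s w := by
    intro s hs
    have hsN : s ∈ normalizerIn S R ⊓ Subgroup.normalizer (Q : Set Ω) := ⟨hs, hQnorm s hs⟩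
    have hA : conjAut (normalizerIn S R) Q ⟨s, hsN⟩ ∈ autInducedBy (normalizerIn S R) Q :=
      conjAut_range _ Q ▸ ⟨_, rfl⟩
    have he : ∀ w ∈ Q, autFun (conjAut (normalizerIn S R) Q ⟨s, hsN⟩) w = cj s w :=
      fun w hw => conjAut_apply _ hw
    refine ⟨⟨conjAut (normalizerIn S R) Q ⟨s, hsN⟩,
      (mem_autGroup_iff hQS).2 ((isMap_cj hQS hs.1).congr fun w hw => (he w hw).symm),
      fun r hr => ?_⟩, hA, he⟩
    rw [he r (Subgroup.mem_sup_left hr)]
    exact (Subgroup.mem_normalizer_iff.1 hs.2 r).1 hr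
  have hU0elem : ∀ a : L0, a ∈ U0 → ∃ s ∈ normalizerIn S R,
      ∀ w ∈ Q, autFun (a : MulAut Q) w = cj s w := fun a ha => by
    obtain ⟨s, hs, he⟩ := mem_autInducedBy_iff'.1 (Subgroup.mem_subgroupOf.1 ha)
    exact ⟨s, hs.1, he⟩
  have hUtelem : ∀ a : L0, a ∈ Ut ↔ ∃ t ∈ normalizerIn T R,
      ∀ w ∈ Q, autFun (a : MulAut Q) w = cj t w := fun a => by
    rw [Subgroup.mem_subgroupOf, mem_autInducedBy_iff']
    refine ⟨fun ⟨t, ht, he⟩ => ⟨t, ht.1, he⟩, fun ⟨t, ht, he⟩ => ⟨t, ⟨ht, ?_⟩, he⟩⟩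
    exact hQnorm t ⟨hT.1 ht.1, ht.2⟩
  have hUtU0 : Ut ≤ U0 := by
    intro a ha
    obtain ⟨t, ht, he⟩ := (hUtelem a).1 ha
    exact Subgroup.mem_subgroupOf.2 (mem_autInducedBy_iff'.2
      ⟨t, ⟨⟨hT.1 ht.1, ht.2⟩, hQnorm t ⟨hT.1 ht.1, ht.2⟩⟩, he⟩)
  have hU0max : ∀ X : Subgroup L0, IsPGroup p X → U0 ≤ X → X = U0 := by
    intro X hX hUX
    refine le_antisymm (fun a ha => ?_) hUX
    obtain ⟨R0, hR0⟩ := (fullyNormalized_fullyAutomized hS hF hRn).2
    -- the image of `X`
    let X' : Subgroup (F.autGroup R) :=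
      { carrier := {δ | ∃ b ∈ X, ∀ r ∈ R, autFun (δ : MulAut R) r = autFun (b : MulAut Q) r}
        one_mem' := ⟨1, one_mem _, fun r _ => by
          rw [Subgroup.coe_one, Subgroup.coe_one, autFun_one, autFun_one]⟩
        mul_mem' := by
          rintro δ ε ⟨b, hb, hbe⟩ ⟨c, hc, hce⟩
          refine ⟨b * c, mul_mem hb hc, fun r hr => ?_⟩
          rw [Subgroup.coe_mul, Subgroup.coe_mul, autFun_mul, autFun_mul, hce r hr,
            hbe _ (hLR c r hr)]
        inv_mem' := by
          rintro δ ⟨b, hb, hbe⟩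
          refine ⟨b⁻¹, Subgroup.inv_mem _ hb, fun r hr => ?_⟩
          have h1 := hLR b⁻¹ r hr
          rw [Subgroup.coe_inv, Subgroup.coe_inv]
          rw [Subgroup.coe_inv] at h1
          conv_lhs => rw [← autFun_apply_inv (b : MulAut Q) r, ← hbe _ h1]
          rw [autFun_inv_apply] }
    have hX' : IsPGroup p X' := by
      rintro ⟨δ, b, hb, hbe⟩
      obtain ⟨k, hk⟩ := hX ⟨b, hb⟩
      refine ⟨k, Subtype.ext (Subtype.ext (autFun_ext fun r hr => ?_))⟩
      have hpow : ∀ (j : ℕ), ∀ r ∈ R,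
          autFun ((δ : MulAut R) ^ j) r = autFun ((b : MulAut Q) ^ j) r := by
        intro j
        induction j with
        | zero => intro r _; simp [autFun_one]
        | succ j ih =>
          intro r hr
          have h1 := hLR (b ^ j) r hr
          rw [Subgroup.coe_pow] at h1
          rw [pow_succ', pow_succ', autFun_mul, autFun_mul, ih r hr, hbe _ h1]
      have hk2 : (b : MulAut Q) ^ p ^ k = 1 := by
        have := congrArg (fun z : X => ((z : L0) : MulAut Q)) hk
        simpa using this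
      simp only [Subgroup.coe_pow, Subgroup.coe_one]
      rw [hpow _ r hr, hk2, autFun_one, autFun_one]
    have hR0X : (R0 : Subgroup (F.autGroup R)) ≤ X' := by
      rw [hR0]
      intro δ hδ
      obtain ⟨s, hs, hse⟩ := mem_autInducedBy_iff'.1 (Subgroup.mem_subgroupOf.1 hδ)
      obtain ⟨b, hb, hbe⟩ := hmkU s hs
      exact ⟨b, hUX hb, fun r hr => by rw [hse r hr, hbe r (Subgroup.mem_sup_left hr)]⟩
    obtain ⟨δ, hδ, hδe⟩ := hres a
    have hδX : (⟨δ, hδ⟩ : F.autGroup R) ∈ X' := ⟨a, ha, hδe⟩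
    rw [R0.3 hX' hR0X, hR0] at hδX
    obtain ⟨s, hs, hse⟩ := mem_autInducedBy_iff'.1 (Subgroup.mem_subgroupOf.1 hδX)
    obtain ⟨b, hb, hbe⟩ := hmkU s hs
    -- `b⁻¹ a` fixes `R`; the fixers in `X` form a `p`-group of automorphisms of `C`
    have hfixk : ∀ r ∈ R, autFun ((b⁻¹ * a : L0) : MulAut Q) r = r := by
      intro r hr
      rw [Subgroup.coe_mul, Subgroup.coe_inv, autFun_mul, ← hδe r hr, hse r hr,
        ← hbe r (Subgroup.mem_sup_left hr), autFun_inv_apply]
    let Y : Subgroup (D.autGroup C) :=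
      { carrier := {ε | ∃ k ∈ X, (∀ r ∈ R, autFun (k : MulAut Q) r = r) ∧
          ∀ c ∈ C, autFun (ε : MulAut C) c = autFun (k : MulAut Q) c}
        one_mem' := ⟨1, one_mem _, fun r _ => by rw [Subgroup.coe_one, autFun_one]; rfl,
          fun c _ => by rw [Subgroup.coe_one, Subgroup.coe_one, autFun_one, autFun_one]⟩
        mul_mem' := by
          rintro ε ζ ⟨k, hk, hkR, hkC⟩ ⟨l, hl, hlR, hlC⟩
          refine ⟨k * l, mul_mem hk hl, fun r hr => ?_, fun c hc => ?_⟩
          · rw [Subgroup.coe_mul, autFun_mul, hlR r hr, hkR r hr]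
          · rw [Subgroup.coe_mul, Subgroup.coe_mul, autFun_mul, autFun_mul, hlC c hc,
              hkC _ (hLC l c hc)]
        inv_mem' := by
          rintro ε ⟨k, hk, hkR, hkC⟩
          refine ⟨k⁻¹, Subgroup.inv_mem _ hk, fun r hr => ?_, fun c hc => ?_⟩
          · rw [Subgroup.coe_inv]
            conv_lhs => rw [← hkR r hr]
            rw [autFun_inv_apply]
          · have h1 := hLC k⁻¹ c hc
            rw [Subgroup.coe_inv, Subgroup.coe_inv]
            rw [Subgroup.coe_inv] at h1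
            conv_lhs => rw [← autFun_apply_inv (k : MulAut Q) c, ← hkC _ h1]
            rw [autFun_inv_apply] }
    have hYp : IsPGroup p Y := by
      rintro ⟨ε, k, hk, hkR, hkC⟩
      obtain ⟨n, hn⟩ := hX ⟨k, hk⟩
      refine ⟨n, Subtype.ext (Subtype.ext (autFun_ext fun c hc => ?_))⟩
      have hpow : ∀ (j : ℕ), ∀ c ∈ C,
          autFun ((ε : MulAut C) ^ j) c = autFun ((k : MulAut Q) ^ j) c := by
        intro j
        induction j with
        | zero => intro c _; simp [autFun_one]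
        | succ j ih =>
          intro c hc
          have h1 := hLC (k ^ j) c hc
          rw [Subgroup.coe_pow] at h1
          rw [pow_succ', pow_succ', autFun_mul, autFun_mul, ih c hc, hkC _ h1]
      have hk2 : (k : MulAut Q) ^ p ^ n = 1 := by
        have := congrArg (fun z : X => ((z : L0) : MulAut Q)) hn
        simpa using this
      simp only [Subgroup.coe_pow, Subgroup.coe_one]
      rw [hpow _ c hc, hk2, autFun_one, autFun_one]
    have hCn : D.IsFullyNormalized C := ⟨le_rfl, fun P hP => by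
      rw [Alperin.eq_top_of_card le_rfl hP rfl]⟩
    obtain ⟨C0, hC0⟩ := (fullyNormalized_fullyAutomized hCp hDsat hCn).2
    have hCk : ∀ c ∈ C, c ∈ normalizerIn S R :=
      fun c hc => centralizerIn_le_normalizerIn hc
    have hC0Y : (C0 : Subgroup (D.autGroup C)) ≤ Y := by
      rw [hC0]
      intro ε hε
      obtain ⟨c, hc, hce⟩ := mem_autInducedBy_iff'.1 (Subgroup.mem_subgroupOf.1 hε)
      obtain ⟨k, hk, hke⟩ := hmkU c (hCk c hc.1)
      refine ⟨k, hUX hk, fun r hr => ?_, fun x hx => ?_⟩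
      · rw [hke r (Subgroup.mem_sup_left hr), cj_apply, ← hc.1.2 r hr, mul_inv_cancel_right]
      · rw [hce x hx, hke x (Subgroup.mem_sup_right hx)]
    set k : L0 := b⁻¹ * a with hk
    have hkimg : img (autFun (k : MulAut Q)) C = C := eq_of_le_card (img_le (hLC k))
      ((hLm k).restrict le_sup_right).card_img.ge
    obtain ⟨ε, -, hεe⟩ := ((hLm k).restrict (le_sup_right : C ≤ Q)).exists_aut hkimg
    have hεD : ε ∈ D.autGroup C := by
      refine (mem_autGroup_iff le_rfl).2 (hDmem C _ (autFun (k : MulAut Q)) le_rfl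
        ((hLm k).restrict (sup_comm C R).le) (fun x hx => (hεe x hx).symm) hfixk)
    have hεY : (⟨ε, hεD⟩ : D.autGroup C) ∈ Y := ⟨k, mul_mem (Subgroup.inv_mem _ (hUX hb)) ha,
      hfixk, hεe⟩
    rw [C0.3 hYp hC0Y, hC0] at hεY
    obtain ⟨c, hc, hce⟩ := mem_autInducedBy_iff'.1 (Subgroup.mem_subgroupOf.1 hεY)
    obtain ⟨k', hk', hk'e⟩ := hmkU c (hCk c hc.1)
    have hkk : k = k' := hext _ _ (fun r hr => by
      rw [hfixk r hr, hk'e r (Subgroup.mem_sup_left hr), cj_apply, ← hc.1.2 r hr,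
        mul_inv_cancel_right]) fun x hx => by
      rw [← hεe x hx, hce x hx, hk'e x (Subgroup.mem_sup_right hx)]
    have : a = b * k := by rw [hk, mul_inv_cancel_left]
    rw [this, hkk]
    exact mul_mem hb hk'
  let U : Sylow p L0 := ⟨U0, hU0p, fun {X} hX hle => hU0max X hX hle⟩
  -- strong closure of `Ut`
  have hQcen : ∀ f, IsMap F Q f → centralizerIn S (img f Q) ≤ img f Q := by
    intro f hf
    have hfR := hf.restrict (le_sup_left : R ≤ Q)
    have h1 : img f C ≤ centralizerIn S (img f R) :=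
      hf.img_centralizerIn_le le_sup_left le_sup_right
    have hfin : Finite (centralizerIn S (img f R)) := finite_of_le centralizerIn_le
    have h2 : img f C = centralizerIn S (img f R) := eq_of_le_card h1 (by
      rw [(hf.restrict le_sup_right).card_img]; exact hRfc.2 _ hfR.isConj)
    rintro y ⟨hy, hyc⟩
    refine img_mono f le_sup_right (h2.ge ⟨hy, fun r hr => hyc r (img_mono f le_sup_left hr)⟩)
  have hQc : F.IsCentric Q := ⟨hQS, fun Q' hQ' => by
    obtain ⟨f, hf, rfl⟩ := isConj_iff_map.1 hQ'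
    exact hQcen f hf⟩
  have hQfc := centric_fullyCentralized hQc
  have hclosed : ∀ g u : L0, u ∈ Ut → g * u * g⁻¹ ∈ U0 → g * u * g⁻¹ ∈ Ut := by
    intro g u hu hgu
    obtain ⟨t, ht, hte⟩ := (hUtelem u).1 hu
    obtain ⟨s, hs, hse⟩ := hU0elem _ hgu
    have hconj : ∀ w ∈ Q, autFun (g : MulAut Q) (t * w * t⁻¹)
        = s * autFun (g : MulAut Q) w * s⁻¹ := by
      intro w hw
      have h1 := hse _ (autFun_mem (g : MulAut Q) hw)
      rw [Subgroup.coe_mul, Subgroup.coe_mul, Subgroup.coe_inv, autFun_mul, autFun_mul,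
        autFun_inv_apply, hte w hw, cj_apply, cj_apply] at h1
      exact h1
    obtain ⟨g', hg', hge⟩ := exists_extension hS hF (hLm g) (by rw [autFun_img]; exact hQfc)
    have htn : t ∈ nSub S Q (autFun (g : MulAut Q)) :=
      ⟨hT.1 ht.1, hQnorm t ⟨hT.1 ht.1, ht.2⟩, s, hs.1, hconj⟩
    have hQn : Q ≤ nSub S Q (autFun (g : MulAut Q)) := le_nSub (hLm g)
    have htT : g' t ∈ T :=
      stronglyClosed_mem hT (hg'.restrict (Subgroup.zpowers_le.2 htn)) (Subgroup.mem_zpowers t) ht.1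
    have hgR : img g' R = R := by
      rw [img_congr fun r hr => hge r (Subgroup.mem_sup_left hr)]
      exact eq_of_le_card (img_le (hLR g)) ((hLm g).restrict le_sup_left).card_img.ge
    have htN : g' t ∈ Subgroup.normalizer (R : Set Ω) := by
      have := hg'.mem_normalizer_img ((le_sup_left : R ≤ Q).trans hQn) htn ht.2
      rwa [hgR] at this
    refine (hUtelem _).2 ⟨g' t, ⟨htT, htN⟩, fun w hw => ?_⟩
    set w' := autFun ((g⁻¹ : L0) : MulAut Q) w with hw'
    have hw'Q : w' ∈ Q := autFun_mem _ hw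
    have e2 : autFun (g : MulAut Q) w' = w := by rw [hw', Subgroup.coe_inv, autFun_apply_inv]
    have htw : t * w' * t⁻¹ ∈ Q :=
      (Subgroup.mem_normalizer_iff.1 (hQnorm t ⟨hT.1 ht.1, ht.2⟩) w').1 hw'Q
    rw [Subgroup.coe_mul, Subgroup.coe_mul, autFun_mul, autFun_mul, ← hw', hte w' hw'Q, cj_apply,
      ← hge _ htw, hg'.map_conj htn (hQn hw'Q), hge _ hw'Q, e2, cj_apply]
  -- the generated subgroup
  let KE : Subgroup L0 := finSub
    { carrier := {a | ∃ δ ∈ E.autGroup R, ∀ r ∈ R, autFun δ r = autFun (a : MulAut Q) r}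
      one_mem' := ⟨1, one_mem _, fun r _ => by rw [Subgroup.coe_one, autFun_one, autFun_one]⟩
      mul_mem' := fun {a b} ⟨δ, hδ, hδe⟩ ⟨ε, hε, hεe⟩ => ⟨δ * ε, mul_mem hδ hε, fun r hr => by
        rw [Subgroup.coe_mul, autFun_mul, autFun_mul, hεe r hr, hδe _ (hLR b r hr)]⟩ }
  have hKEmem : ∀ a : L0, a ∈ KE ↔
      ∃ δ ∈ E.autGroup R, ∀ r ∈ R, autFun δ r = autFun (a : MulAut Q) r := fun a => Iff.rfl
  have hKEn : KE.Normal := ⟨fun a ha g => by
    obtain ⟨δ, hδ, hδe⟩ := (hKEmem a).1 ha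
    obtain ⟨γ, hγ, hγe⟩ := hres g
    have hn := autGroup_normal hinv hRT
    have hδF : δ ∈ F.autGroup R :=
      (mem_autGroup_iff hRS).2 (isMap_of_subset hinv.1 (isMap_of_mem_autGroup hRT hδ))
    refine (hKEmem _).2 ⟨γ * δ * γ⁻¹, Subgroup.mem_subgroupOf.1
      (hn.conj_mem ⟨δ, hδF⟩ (Subgroup.mem_subgroupOf.2 hδ) ⟨γ, hγ⟩), fun r hr => ?_⟩
    have h2 : autFun γ⁻¹ r = autFun ((g⁻¹ : L0) : MulAut Q) r := by
      have h1 := hLR g⁻¹ r hr
      rw [Subgroup.coe_inv] at h1 ⊢
      conv_lhs => rw [← autFun_apply_inv (g : MulAut Q) r, ← hγe _ h1]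
      rw [autFun_inv_apply]
    rw [Subgroup.coe_mul, Subgroup.coe_mul, autFun_mul, autFun_mul, autFun_mul, autFun_mul, h2,
      hδe _ (hLR g⁻¹ r hr), hγe _ (hLR a _ (hLR g⁻¹ r hr))]⟩
  set Hn : Subgroup L0 := Subgroup.normalClosure (Ut : Set L0) with hHn
  have hUtHn : Ut ≤ Hn := Subgroup.le_normalClosure
  have hUtNr : Ut ≤ Nr := by
    intro a ha
    obtain ⟨t, ht, he⟩ := (hUtelem a).1 ha
    rw [hNr]
    intro c hc
    rw [he c (Subgroup.mem_sup_right hc), cj_apply]
    refine ⟨hR.2 R (isConj_refl hRS) ⟨?_, ?_⟩, ?_⟩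
    · have h1 := (Subgroup.mem_normalizer_iff.1
        (le_normalizer_of_stronglyClosed hT (Subgroup.inv_mem _ hc.1)) t).1 ht.1
      simpa [mul_assoc] using mul_mem h1 (Subgroup.inv_mem _ ht.1)
    all_goals
      intro r hr
      have h1 : t⁻¹ * r * t ∈ R := by
        simpa using (Subgroup.mem_normalizer_iff.1 (Subgroup.inv_mem _ ht.2) r).1 hr
      have h2 : Commute r (t * c * t⁻¹) := by
        have h3 : Commute (t⁻¹ * r * t) c := hc.2 _ h1
        simpa [mul_assoc] using h3.map (MulAut.conj t).toMonoidHom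
      exact ((show Commute r c from hc.2 r hr).inv_right.mul_right h2).eq
  have hHnNr : Hn ≤ Nr := Subgroup.normalClosure_le_normal hUtNr
  have hUtKE : Ut ≤ KE := by
    intro a ha
    obtain ⟨t, ht, he⟩ := (hUtelem a).1 ha
    have himg : img (cj t) R = R := img_cj_eq_of_mem_normalizer ht.2
    obtain ⟨δ, hδ, hδe⟩ := (isMap_cj (F := E) hRT ht.1).exists_aut himg
    exact (hKEmem a).2 ⟨δ, hδ, fun r hr => by rw [hδe r hr, he r (Subgroup.mem_sup_left hr)]⟩
  have hHnKE : Hn ≤ KE := Subgroup.normalClosure_le_normal hUtKE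
  -- central elements of `Hn`
  have hcentral : ∀ a : L0, a ∈ Nr → ∀ c ∈ C, ∀ w ∈ Q,
      autFun (a : MulAut Q) (c * w * c⁻¹) = c * autFun (a : MulAut Q) w * c⁻¹ := by
    intro a ha c hc w hw
    have hcQ : c ∈ Q := Subgroup.mem_sup_right hc
    have hz := (hNr a).1 ha c hc
    have e : autFun (a : MulAut Q) c = c * (c⁻¹ * autFun (a : MulAut Q) c) :=
      (mul_inv_cancel_left _ _).symm
    rw [(hLm a).map_conj hcQ hw, e]
    have h1 := ctr_central (S := S) hz (autFun_mem (a : MulAut Q) hw)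
    set z := c⁻¹ * autFun (a : MulAut Q) c
    clear_value z
    calc c * z * autFun (a : MulAut Q) w * (c * z)⁻¹
        = c * (z * autFun (a : MulAut Q) w) * z⁻¹ * c⁻¹ := by group
      _ = c * (autFun (a : MulAut Q) w * z) * z⁻¹ * c⁻¹ := by rw [h1]
      _ = _ := by group
  have hHnn : Hn.Normal := Subgroup.normalClosure_normal
  have hPhidx : ¬ p ∣ (U0.subgroupOf Hn).index := by
    have h := PLocal.Omega.not_dvd_relIndex_inf U Hn
    rwa [Subgroup.inf_relIndex_right] at h
  let Ph : Sylow p Hn := (hU0p.comap_subtype : IsPGroup p (U0.subgroupOf Hn)).toSylow hPhidx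
  have hPh : ∀ x : Hn, x ∈ (Ph : Subgroup Hn) ↔ (x : L0) ∈ U0 := fun x => Iff.rfl
  -- decomposition of the Sylow subgroup of `Hn`
  have hdec : ∀ x : L0, x ∈ Hn → x ∈ U0 → ∃ u ∈ Ut, ∃ k : L0, x = u * k ∧
      ∃ c ∈ C, ∀ w ∈ Q, autFun (k : MulAut Q) w = cj c w := by
    intro x hxH hxU
    obtain ⟨s, hs, hse⟩ := hU0elem x hxU
    obtain ⟨δ, hδ, hδe⟩ := (hKEmem x).1 (hHnKE hxH)
    obtain ⟨E0, hE0⟩ := (fullyNormalized_fullyAutomized hTp hEsat hREn).2
    have hXp : IsPGroup p ((autInducedBy S R).subgroupOf (E.autGroup R)) :=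
      (isPGroup_autInducedBy hS).comap_of_injective _ Subtype.val_injective
    have hle : (E0 : Subgroup (E.autGroup R)) ≤ (autInducedBy S R).subgroupOf (E.autGroup R) := by
      rw [hE0]
      intro a ha
      obtain ⟨t, ht, he⟩ := mem_autInducedBy_iff'.1 (Subgroup.mem_subgroupOf.1 ha)
      exact Subgroup.mem_subgroupOf.2 (mem_autInducedBy_iff'.2 ⟨t, ⟨hT.1 ht.1, ht.2⟩, he⟩)
    have hmem : (⟨δ, hδ⟩ : E.autGroup R) ∈ (autInducedBy S R).subgroupOf (E.autGroup R) :=
      Subgroup.mem_subgroupOf.2 (mem_autInducedBy_iff'.2 ⟨s, hs, fun r hr => by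
        rw [hδe r hr, hse r (Subgroup.mem_sup_left hr)]⟩)
    rw [E0.3 hXp hle, hE0] at hmem
    obtain ⟨t, ht, hte⟩ := mem_autInducedBy_iff'.1 (Subgroup.mem_subgroupOf.1 hmem)
    obtain ⟨u, hu, hue⟩ := hmkU t ⟨hT.1 ht.1, ht.2⟩
    refine ⟨u, (hUtelem u).2 ⟨t, ht, hue⟩, u⁻¹ * x, (mul_inv_cancel_left _ _).symm, t⁻¹ * s,
      ⟨mul_mem (Subgroup.inv_mem _ (hT.1 ht.1)) hs.1, fun r hr => ?_⟩, fun w hw => ?_⟩
    · have h1 : t * r * t⁻¹ = s * r * s⁻¹ := by
        rw [← cj_apply, ← cj_apply, ← hte r hr, ← hse r (Subgroup.mem_sup_left hr)]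
        exact hδe r hr
      calc r * (t⁻¹ * s) = t⁻¹ * (t * r * t⁻¹) * s := by group
        _ = t⁻¹ * (s * r * s⁻¹) * s := by rw [h1]
        _ = t⁻¹ * s * r := by group
    · have h1 := hue _ (autFun_mem ((u⁻¹ : L0) : MulAut Q) (autFun_mem (x : MulAut Q) hw))
      rw [Subgroup.coe_inv, autFun_apply_inv, hse w hw, cj_apply, cj_apply] at h1
      rw [Subgroup.coe_mul, Subgroup.coe_inv, autFun_mul, cj_apply, hse w hw, cj_apply]
      calc autFun (u : MulAut Q)⁻¹ (s * w * s⁻¹)
          = t⁻¹ * (t * autFun (u : MulAut Q)⁻¹ (s * w * s⁻¹) * t⁻¹) * t := by group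
        _ = t⁻¹ * (s * w * s⁻¹) * t := by rw [← h1]
        _ = t⁻¹ * s * w * (t⁻¹ * s)⁻¹ := by group
  have hfoc : commutator Hn ⊓ (Ph : Subgroup Hn) ≤ Ut.subgroupOf Hn := by
    refine Cfsg.Agent.Transfer.Fusion.focal_le_of_fusion Ph fun x hx g hg => ⟨g, rfl, ?_⟩
    obtain ⟨u, hu, k, hxe, c, hc, hke⟩ := hdec x x.2 ((hPh x).1 hx)
    have hkU : k ∈ U0 := by
      have : k = u⁻¹ * (x : L0) := by rw [hxe, inv_mul_cancel_left]
      rw [this]
      exact mul_mem (Subgroup.inv_mem _ (hUtU0 hu)) ((hPh x).1 hx)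
    have hkc : (g : L0) * k * (g : L0)⁻¹ = k := by
      have h2 : (g : L0) * k = k * (g : L0) := by
        refine Subtype.ext (autFun_ext fun w hw => ?_)
        rw [Subgroup.coe_mul, Subgroup.coe_mul, autFun_mul, autFun_mul, hke w hw, cj_apply,
          hcentral _ (hHnNr g.2) c hc w hw, hke _ (autFun_mem _ hw), cj_apply]
      rw [h2, mul_inv_cancel_right]
    have h1 : (g : L0) * u * (g : L0)⁻¹ ∈ U0 := by
      have h3 : (g : L0) * u * (g : L0)⁻¹ = ((g : L0) * (x : L0) * (g : L0)⁻¹) * k⁻¹ := by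
        conv_rhs => rw [hxe]
        calc (g : L0) * u * (g : L0)⁻¹
            = (g : L0) * u * (g : L0)⁻¹ * ((g : L0) * k * (g : L0)⁻¹) * k⁻¹ := by
              rw [hkc, mul_inv_cancel_right]
          _ = _ := by group
      rw [h3]
      exact mul_mem ((hPh _).1 hg) (Subgroup.inv_mem _ hkU)
    have h4 := hclosed _ u hu h1
    refine Subgroup.mem_subgroupOf.2 ?_
    have h5 : ((⁅x, g⁆ : Hn) : L0) = u * ((g : L0) * u * (g : L0)⁻¹)⁻¹ := by
      rw [commutatorElement_def, Subgroup.coe_mul, Subgroup.coe_mul, Subgroup.coe_mul,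
        Subgroup.coe_inv, Subgroup.coe_inv]
      calc (x : L0) * g * (x : L0)⁻¹ * (g : L0)⁻¹ = u * (k * (g : L0) * k⁻¹) * u⁻¹ * (g : L0)⁻¹ := by
            rw [hxe]; group
        _ = u * ((g : L0) * k * (g : L0)⁻¹ * g * k⁻¹) * u⁻¹ * (g : L0)⁻¹ := by rw [hkc]
        _ = _ := by group
    rw [h5]
    exact mul_mem hu (Subgroup.inv_mem _ h4)
  -- every `p`-subgroup of `Hn` is conjugate into the Sylow subgroup
  have hconjP : ∀ x : L0, x ∈ Hn → (∃ k : ℕ, x ^ p ^ k = 1) →
      ∃ h : L0, h ∈ Hn ∧ h * x * h⁻¹ ∈ U0 := by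
    intro x hx ⟨k, hk⟩
    have hp1 : IsPGroup p (Subgroup.zpowers (⟨x, hx⟩ : Hn)) := by
      refine IsPGroup.of_card (n := (orderOf (⟨x, hx⟩ : Hn)).factorization p) ?_
      rw [Nat.card_zpowers]
      obtain ⟨j, -, hj⟩ := (Nat.dvd_prime_pow (Fact.out : p.Prime)).1
        (orderOf_dvd_of_pow_eq_one (show (⟨x, hx⟩ : Hn) ^ p ^ k = 1 from Subtype.ext hk))
      rw [hj, Nat.Prime.factorization_pow (Fact.out : p.Prime), Finsupp.single_eq_same]
    obtain ⟨Z, hZ⟩ := hp1.exists_le_sylow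
    obtain ⟨h, hh⟩ := MulAction.exists_smul_eq Hn Z Ph
    refine ⟨h, h.2, ?_⟩
    have h1 : h * ⟨x, hx⟩ * h⁻¹ ∈ (Ph : Subgroup Hn) := by
      rw [← hh, Sylow.coe_subgroup_smul, Subgroup.mem_pointwise_smul_iff_inv_smul_mem]
      have : (MulAut.conj h)⁻¹ • (h * ⟨x, hx⟩ * h⁻¹) = (⟨x, hx⟩ : Hn) := by
        show (MulAut.conj h)⁻¹ (h * ⟨x, hx⟩ * h⁻¹) = _
        rw [MulAut.conj_inv_apply]; group
      rw [this]
      exact hZ (Subgroup.mem_zpowers _)
    exact (hPh _).1 h1
  have hUtp : ∀ u ∈ Ut, ∃ k : ℕ, u ^ p ^ k = 1 := fun u hu => by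
    obtain ⟨k, hk⟩ := hU0p ⟨u, hUtU0 hu⟩
    exact ⟨k, congrArg Subtype.val hk⟩
  -- generators are conjugate inside `Hn` into `Ut`
  have hgenconj : ∀ (b u : L0), u ∈ Ut → ∃ h : L0, h ∈ Hn ∧ h * (b * u * b⁻¹) * h⁻¹ ∈ Ut := by
    intro b u hu
    obtain ⟨k, hk⟩ := hUtp u hu
    obtain ⟨h, hh, hhU⟩ := hconjP _ (Subgroup.normalClosure_normal.conj_mem u (hUtHn hu) b)
      ⟨k, by rw [conj_pow, hk, mul_one, mul_inv_cancel]⟩
    refine ⟨h, hh, ?_⟩
    have e : h * (b * u * b⁻¹) * h⁻¹ = (h * b) * u * (h * b)⁻¹ := by group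
    rw [e] at hhU ⊢
    exact hclosed _ u hu hhU
  have hgen : ∀ G0 : Subgroup Hn, G0.Normal → (∀ u : Hn, (u : L0) ∈ Ut → u ∈ G0) →
      ∀ x : Hn, x ∈ G0 := by
    intro G0 hG0 hG0U x
    have hle : Subgroup.normalClosure (Ut : Set L0) ≤ G0.map Hn.subtype := by
      refine (Subgroup.closure_le _).2 fun y hy => ?_
      obtain ⟨u, hu, huy⟩ := Group.mem_conjugatesOfSet_iff.1 hy
      obtain ⟨b, rfl⟩ := isConj_iff.1 huy
      obtain ⟨h, hh, hhU⟩ := hgenconj b u hu
      have hy' : b * u * b⁻¹ ∈ Hn := Subgroup.normalClosure_normal.conj_mem u (hUtHn hu) b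
      refine ⟨⟨_, hy'⟩, ?_, rfl⟩
      have h1 := hG0.conj_mem _ (hG0U (⟨h, hh⟩ * ⟨_, hy'⟩ * ⟨h, hh⟩⁻¹) hhU) ⟨h, hh⟩⁻¹
      have e : (⟨h, hh⟩ : Hn)⁻¹ * (⟨h, hh⟩ * (⟨_, hy'⟩ : Hn) * ⟨h, hh⟩⁻¹) * (⟨h, hh⟩ : Hn)⁻¹⁻¹
          = ⟨_, hy'⟩ := by group
      exact e ▸ h1
    obtain ⟨y, hy, hyx⟩ := hle (hHn.le x.2)
    rwa [show y = x from Subtype.ext hyx] at hy
  have hPUt : ∀ x : L0, x ∈ Hn → x ∈ U0 → x ∈ Ut := by
    intro x hxH hxU
    have hcn : (commutator Hn).Normal := inferInstance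
    have hG0n : (Ut.subgroupOf Hn ⊔ commutator Hn).Normal := by
      refine ⟨fun a ha g => ?_⟩
      have h1 : g * a * g⁻¹ * a⁻¹ ∈ commutator Hn := by
        rw [← commutatorElement_def, commutator_def]
        exact Subgroup.commutator_mem_commutator (Subgroup.mem_top _) (Subgroup.mem_top _)
      have := mul_mem (Subgroup.mem_sup_right (S := Ut.subgroupOf Hn) h1) ha
      simpa using this
    have h1 := hgen _ hG0n (fun u hu => Subgroup.mem_sup_left (Subgroup.mem_subgroupOf.2 hu))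
      ⟨x, hxH⟩
    obtain ⟨u, hu, d, hd, he⟩ := Subgroup.mem_sup_of_normal_right.1 h1
    have hdP : d ∈ (Ph : Subgroup Hn) := by
      have : d = u⁻¹ * ⟨x, hxH⟩ := by rw [← he, inv_mul_cancel_left]
      rw [this]
      exact mul_mem (Subgroup.inv_mem _ ((hPh u).2 (hUtU0 (Subgroup.mem_subgroupOf.1 hu))))
        ((hPh _).2 hxU)
    have := Subgroup.mem_subgroupOf.1 (mul_mem hu (hfoc ⟨hd, hdP⟩))
    rwa [he] at this
  -- faithfulness
  have hinj : ∀ x : L0, x ∈ Hn → (∀ r ∈ R, autFun (x : MulAut Q) r = r) → x = 1 := by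
    intro x hx hxR
    obtain ⟨n, hn⟩ := (hS.to_le hQS).exists_card_eq
    have hpow : ∀ j : ℕ, ∀ c ∈ C, autFun ((x : MulAut Q) ^ j) c
        = c * (c⁻¹ * autFun (x : MulAut Q) c) ^ j := by
      intro j
      induction j with
      | zero => intro c _; simp [autFun_one]
      | succ j ih =>
        intro c hc
        have hz := (hNr x).1 (hHnNr hx) c hc
        rw [pow_succ', autFun_mul, ih c hc, (hLm x).map_mul (Subgroup.mem_sup_right hc)
          (Subgroup.mem_sup_left (pow_mem hz j).1), hxR _ (pow_mem hz j).1,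
          pow_succ' (c⁻¹ * autFun (x : MulAut Q) c) j, ← mul_assoc c, mul_inv_cancel_left]
    have hxp : x ^ p ^ n = 1 := by
      refine hext _ _ (fun r hr => ?_) fun c hc => ?_
      · rw [Subgroup.coe_one, autFun_one, id, Subgroup.coe_pow]
        clear hn
        induction p ^ n with
        | zero => simp [autFun_one]
        | succ j ih => rw [pow_succ', autFun_mul, ih, hxR r hr]
      · rw [Subgroup.coe_one, autFun_one, id, Subgroup.coe_pow, hpow _ c hc]
        have hmem : c⁻¹ * autFun (x : MulAut Q) c ∈ Q :=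
          mul_mem (Subgroup.inv_mem _ (Subgroup.mem_sup_right hc))
            (Subgroup.mem_sup_right (hLC x c hc))
        have h1 : (⟨_, hmem⟩ : Q) ^ p ^ n = 1 := by rw [← hn]; exact pow_card_eq_one'
        have h2 := congrArg Subtype.val h1
        simp only [Subgroup.coe_pow, Subgroup.coe_one] at h2
        rw [h2, mul_one]
    obtain ⟨h, hh, hhU⟩ := hconjP x hx ⟨n, hxp⟩
    obtain ⟨t, ht, hte⟩ := (hUtelem _).1 (hPUt _ (mul_mem (mul_mem hh hx) (Subgroup.inv_mem _ hh)) hhU)
    have hfixR : ∀ r ∈ R, autFun ((h * x * h⁻¹ : L0) : MulAut Q) r = r := fun r hr => by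
      have h1 := hLR h⁻¹ r hr
      rw [Subgroup.coe_inv] at h1
      rw [Subgroup.coe_mul, Subgroup.coe_mul, Subgroup.coe_inv, autFun_mul, autFun_mul, hxR _ h1,
        autFun_apply_inv]
    have htR : t ∈ ctr R := by
      have htc : ∀ r ∈ R, r * t = t * r := fun r hr => by
        have := hte r (Subgroup.mem_sup_left hr)
        rw [hfixR r hr, cj_apply, eq_mul_inv_iff_mul_eq] at this
        exact this
      exact ⟨hR.2 R (isConj_refl hRS) ⟨ht.1, htc⟩, htc⟩
    have : h * x * h⁻¹ = 1 := Subtype.ext (autFun_ext fun w hw => by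
      rw [hte w hw, Subgroup.coe_one, autFun_one, id, cj_apply, ← ctr_central (S := S) htR hw,
        mul_inv_cancel_right])
    calc x = h⁻¹ * (h * x * h⁻¹) * h := by group
      _ = 1 := by rw [this]; group
  -- lifting `Ep`
  have hsurj : ∀ γ ∈ Ep E p R, ∃ x : L0, x ∈ Hn ∧
      ∀ r ∈ R, autFun (x : MulAut Q) r = autFun γ r := by
    intro γ hγ
    induction hγ using Subgroup.closure_induction with
    | mem a ha =>
      obtain ⟨haE, k, hk⟩ := ha
      obtain ⟨E0, hE0⟩ := (fullyNormalized_fullyAutomized hTp hEsat hREn).2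
      have hp1 : IsPGroup p (Subgroup.zpowers (⟨a, haE⟩ : E.autGroup R)) := by
        refine IsPGroup.of_card (n := (orderOf (⟨a, haE⟩ : E.autGroup R)).factorization p) ?_
        rw [Nat.card_zpowers]
        obtain ⟨j, -, hj⟩ := (Nat.dvd_prime_pow (Fact.out : p.Prime)).1
          (orderOf_dvd_of_pow_eq_one (show (⟨a, haE⟩ : E.autGroup R) ^ p ^ k = 1 from Subtype.ext hk))
        rw [hj, Nat.Prime.factorization_pow (Fact.out : p.Prime), Finsupp.single_eq_same]
      obtain ⟨c, hc⟩ := exists_conj_le_sylow E0 hp1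
      have h1 : c * ⟨a, haE⟩ * c⁻¹ ∈ (E0 : Subgroup (E.autGroup R)) :=
        hc _ (Subgroup.mem_zpowers _)
      rw [hE0] at h1
      obtain ⟨t, ht, hte⟩ := mem_autInducedBy_iff'.1 (Subgroup.mem_subgroupOf.1 h1)
      obtain ⟨b, hbe⟩ := hlift (c : MulAut R)
        ((mem_autGroup_iff hRS).2 (isMap_of_subset hinv.1 (isMap_of_mem_autGroup hRT c.2)))
      obtain ⟨u, hu, hue⟩ := hmkU t ⟨hT.1 ht.1, ht.2⟩
      refine ⟨b⁻¹ * u * b⁻¹⁻¹, Subgroup.normalClosure_normal.conj_mem u
        (hUtHn ((hUtelem u).2 ⟨t, ht, hue⟩)) b⁻¹, fun r hr => ?_⟩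
      have h2 := hte _ (autFun_mem (c : MulAut R) hr)
      rw [Subgroup.coe_mul, Subgroup.coe_mul, Subgroup.coe_inv, autFun_mul, autFun_mul,
        autFun_inv_apply] at h2
      rw [inv_inv, Subgroup.coe_mul, Subgroup.coe_mul, Subgroup.coe_inv, autFun_mul, autFun_mul,
        hbe r hr, hue _ (Subgroup.mem_sup_left (autFun_mem _ hr)), ← h2,
        ← hbe _ (autFun_mem a hr), autFun_inv_apply]
    | one => exact ⟨1, one_mem _, fun r _ => by rw [Subgroup.coe_one, autFun_one, autFun_one]⟩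
    | mul a b _ _ ha hb =>
      obtain ⟨x, hx, hxe⟩ := ha
      obtain ⟨y, hy, hye⟩ := hb
      exact ⟨x * y, mul_mem hx hy, fun r hr => by
        rw [Subgroup.coe_mul, autFun_mul, autFun_mul, hye r hr, hxe _ (autFun_mem b hr)]⟩
    | inv a _ ha =>
      obtain ⟨x, hx, hxe⟩ := ha
      refine ⟨x⁻¹, Subgroup.inv_mem _ hx, fun r hr => ?_⟩
      rw [Subgroup.coe_inv]
      conv_lhs => rw [← autFun_apply_inv a r, ← hxe _ (autFun_mem _ hr)]
      rw [autFun_inv_apply]
  -- invariance under the centralizer system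
  have hinvC : ∀ (P : Subgroup Ω) (f : Ω → Ω), IsMap D P f → ∀ a : L0, a ∈ Hn → ∀ x ∈ P,
      (f x)⁻¹ * autFun (a : MulAut Q) (f x) = x⁻¹ * autFun (a : MulAut Q) x := by
    let E' : FusionSystem C :=
    { Hom := fun P => {φ | φ ∈ D.Hom P ∧ ∀ a : L0, a ∈ Hn → ∀ x : P,
        (φ x)⁻¹ * autFun (a : MulAut Q) (φ x) = (x : Ω)⁻¹ * autFun (a : MulAut Q) x}
      le_of_mem := fun h => D.le_of_mem h.1
      injective_of_mem := fun h => D.injective_of_mem h.1
      conj_mem := by
        intro P c hP hc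
        refine ⟨D.conj_mem hP hc, fun a ha x => ?_⟩
        have hx : (x : Ω) ∈ C := hP x.2
        show (c * (x : Ω) * c⁻¹)⁻¹ * autFun (a : MulAut Q) (c * (x : Ω) * c⁻¹) = _
        rw [hcentral a (hHnNr ha) c hc x (Subgroup.mem_sup_right hx)]
        have hz := (hNr a).1 (hHnNr ha) x hx
        have h1 := ctr_central (S := S) hz (Subgroup.mem_sup_right hc : c ∈ Q)
        rw [show (c * (x : Ω) * c⁻¹)⁻¹ * (c * autFun (a : MulAut Q) x * c⁻¹)
          = c * ((x : Ω)⁻¹ * autFun (a : MulAut Q) x) * c⁻¹ by group, h1, mul_inv_cancel_right]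
      comp_mem := by
        rintro P R' φ ψ ⟨hφ, hφ'⟩ ⟨hψ, hψ'⟩ h
        exact ⟨D.comp_mem hφ hψ h, fun a ha x => (hψ' a ha ⟨φ x, h x⟩).trans (hφ' a ha x)⟩
      inv_mem := by
        rintro P φ ⟨hφ, hφ'⟩
        obtain ⟨ψ, hψ, hψe⟩ := D.inv_mem hφ
        refine ⟨ψ, ⟨hψ, fun a ha y => ?_⟩, hψe⟩
        obtain ⟨x, hx⟩ := y.2
        obtain rfl : y = ⟨φ x, ⟨x, rfl⟩⟩ := Subtype.ext hx.symm
        rw [hψe]
        exact (hφ' a ha x).symm }
    suffices hle : D ≤ E' by
      intro P f hf a ha x hx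
      obtain ⟨φ, hφ, he⟩ := hf
      have := (hle P hφ).2 a ha ⟨x, hx⟩
      rwa [he ⟨x, hx⟩] at this
    refine Alperin.le_of_autGroup hCp hDsat fun P hPn hP => ?_
    have hPC : P ≤ C := hPn.1
    have hPc : D.IsCentric P := by
      rcases eq_or_lt_of_le hPC with h | hlt
      · subst h
        refine ⟨le_rfl, fun P' hP' => ?_⟩
        rw [Alperin.eq_top_of_card le_rfl hP' rfl]
        exact centralizerIn_le
      · exact ((Alperin.essential_iff hCp hDsat hlt hPn).2 (hP.resolve_left hlt.ne)).1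
    intro α hα
    have hαm := isMap_of_mem_autGroup hPC hα
    refine (mem_autGroup_iff hPC).2 ⟨hαm.hom, ⟨hαm.hom_mem_self, ?_⟩, fun _ => rfl⟩
    have h0 := hαm.hom_mem_self
    rw [hD P] at h0
    obtain ⟨-, -, -, ψ0, hψ0, hψ0P, hψ0R⟩ := h0
    have hψm := IsMap.of_hom hψ0
    set ψ := ext ψ0 with hψdef
    let W := P ⊔ R
    have hW : W = P ⊔ R := rfl
    have hWQ : W ≤ Q := sup_le (hPC.trans le_sup_right) le_sup_left
    have hWS : W ≤ S := hWQ.trans hQS
    have hWfin : Finite W := finite_of_le hWS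
    have hPfin : Finite P := finite_of_le (hPC.trans hCS)
    have hψP : ∀ x ∈ P, ψ x = autFun α x := fun x hx => by
      rw [hψdef, ext_of_mem ψ0 (Subgroup.mem_sup_left hx)]
      exact (hψ0P ⟨x, hx⟩).trans (IsMap.hom_apply hαm ⟨x, hx⟩)
    have hψR : ∀ r ∈ R, ψ r = r := fun r hr => by
      rw [hψdef, ext_of_mem ψ0 (Subgroup.mem_sup_right hr)]
      exact hψ0R ⟨r, hr⟩
    have hψW : img ψ W = W := by
      refine eq_of_le_card ?_ hψm.card_img.ge
      rw [hW, hψm.img_sup]
      refine sup_le_sup (img_le fun x hx => ?_) (img_le fun r hr => ?_)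
      · rw [hψP x hx]; exact autFun_mem α hx
      · rw [hψR r hr]; exact hr
    -- the centre of `R` lies in `P`
    have hctrP : ctr R ≤ P := fun z hz => hPc.2 P (isConj_refl hPC)
      ⟨⟨hRS hz.1, hz.2⟩, fun x hx => ctr_central (S := S) hz (Subgroup.mem_sup_right (hPC hx))⟩
    have hHP : ∀ b : L0, b ∈ Hn → ∀ x ∈ P, autFun (b : MulAut Q) x ∈ P := by
      intro b hb x hx
      have := mul_mem hx (hctrP ((hNr b).1 (hHnNr hb) x (hPC hx)))
      rwa [mul_inv_cancel_left] at this
    have hHW : ∀ b : L0, b ∈ Hn → ∀ w ∈ W, autFun (b : MulAut Q) w ∈ W := by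
      intro b hb w hw
      have : img (autFun (b : MulAut Q)) W ≤ W := by
        rw [hW, ((hLm b).restrict hWQ).img_sup]
        exact sup_le_sup (img_le (hHP b hb)) (img_le (hLR b))
      exact this (mem_img_self _ hw)
    obtain ⟨Ψ, hΨA, hΨ⟩ := hψm.exists_aut hψW
    -- the automorphisms of `P` moving it inside cosets of `Z(R)`
    have hDctr : ∀ a ∈ D.autGroup P, ∀ z ∈ ctr R, autFun a z = z := by
      intro a ha z hz
      have hm := (isMap_of_mem_autGroup hPC ha).hom_mem_self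
      rw [hD P] at hm
      obtain ⟨-, -, -, φ, -, hφP, hφR⟩ := hm
      have h1 := hφP ⟨z, hctrP hz⟩
      have h2 := hφR ⟨z, hz.1⟩
      rw [IsMap.hom_apply] at h1
      rw [← h1]
      refine Eq.trans ?_ h2
      exact congrArg φ (Subtype.ext rfl)
    let NK : Subgroup (D.autGroup P) := finSub
      { carrier := {a | ∀ x ∈ P, x⁻¹ * autFun (a : MulAut P) x ∈ ctr R}
        one_mem' := fun x _ => by
          rw [Subgroup.coe_one, autFun_one, id, inv_mul_cancel]; exact one_mem _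
        mul_mem' := fun {a b} ha hb x hx => by
          have e : autFun (b : MulAut P) x = x * (x⁻¹ * autFun (b : MulAut P) x) :=
            (mul_inv_cancel_left _ _).symm
          rw [Subgroup.coe_mul, autFun_mul, e,
            autFun_isHom (a : MulAut P) _ hx _ (hctrP (hb x hx)), hDctr _ a.2 _ (hb x hx),
            ← mul_assoc]
          exact mul_mem (ha x hx) (hb x hx) }
    have hNKn : NK.Normal := ⟨fun a ha g => fun x hx => by
      set x' := autFun ((g⁻¹ : D.autGroup P) : MulAut P) x with hx'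
      have hx'P : x' ∈ P := autFun_mem _ hx
      have hz : x'⁻¹ * autFun (a : MulAut P) x' ∈ ctr R := ha x' hx'P
      have e : autFun (a : MulAut P) x' = x' * (x'⁻¹ * autFun (a : MulAut P) x') :=
        (mul_inv_cancel_left _ _).symm
      rw [Subgroup.coe_mul, Subgroup.coe_mul, autFun_mul, autFun_mul, ← hx', e,
        autFun_isHom (g : MulAut P) _ hx'P _ (hctrP hz), hDctr _ g.2 _ hz, hx', Subgroup.coe_inv,
        autFun_apply_inv, inv_mul_cancel_left]
      rw [← Subgroup.coe_inv, ← hx']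
      exact hz⟩
    have hNKp : IsPGroup p NK := by
      rintro ⟨a, ha⟩
      obtain ⟨n, hn⟩ := (hS.to_le (hPC.trans hCS)).exists_card_eq
      refine ⟨n, Subtype.ext (Subtype.ext (autFun_ext fun x hx => ?_))⟩
      have hpow : ∀ j : ℕ, ∀ x ∈ P, autFun ((a : MulAut P) ^ j) x
          = x * (x⁻¹ * autFun (a : MulAut P) x) ^ j := by
        intro j
        induction j with
        | zero => intro x _; simp [autFun_one]
        | succ j ih =>
          intro x hx
          have hz : x⁻¹ * autFun (a : MulAut P) x ∈ ctr R := ha x hx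
          rw [pow_succ', autFun_mul, ih x hx,
            autFun_isHom (a : MulAut P) _ hx _ (hctrP (pow_mem hz j)),
            hDctr _ a.2 _ (pow_mem hz j), pow_succ' (x⁻¹ * autFun (a : MulAut P) x) j,
            ← mul_assoc x, mul_inv_cancel_left]
      have hz : x⁻¹ * autFun (a : MulAut P) x ∈ ctr R := ha x hx
      have h1 : (⟨_, hctrP hz⟩ : P) ^ p ^ n = 1 := by rw [← hn]; exact pow_card_eq_one'
      have h2 := congrArg Subtype.val h1
      simp only [Subgroup.coe_pow, Subgroup.coe_one] at h2 ⊢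
      rw [hpow _ x hx, h2, mul_one, autFun_one, id]
    obtain ⟨P0, hP0⟩ := (fullyNormalized_fullyAutomized hCp hDsat hPn).2
    have hNKle : NK ≤ (P0 : Subgroup (D.autGroup P)) := hNKp.le_sylow_of_normal P0
    -- commutation up to conjugation by an element of `C`
    have hKs : ∀ b : L0, b ∈ Hn → ∃ s ∈ C, ∀ w ∈ W,
        ψ (autFun (b : MulAut Q) w) = s * autFun (b : MulAut Q) (ψ w) * s⁻¹ := by
      intro b hb
      have hbW := (hLm b).restrict hWQ
      have hbimg : img (autFun (b : MulAut Q)) W = W :=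
        eq_of_le_card (img_le (hHW b hb)) hbW.card_img.ge
      obtain ⟨B, hBA, hB⟩ := hbW.exists_aut hbimg
      set K := Ψ * B * Ψ⁻¹ * B⁻¹ with hK
      have hKA : K ∈ F.autGroup W :=
        mul_mem (mul_mem (mul_mem hΨA hBA) (Subgroup.inv_mem _ hΨA)) (Subgroup.inv_mem _ hBA)
      have hBR : ∀ r ∈ R, autFun B⁻¹ r ∈ R := fun r hr => by
        have himgR : img (autFun (b : MulAut Q)) R = R :=
          eq_of_le_card (img_le (hLR b)) (hbW.restrict le_sup_right).card_img.ge
        obtain ⟨r0, hr0, rfl⟩ := (hbW.restrict le_sup_right).mem_img.1 (himgR.ge hr)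
        rw [← hB r0 (Subgroup.mem_sup_right hr0), autFun_inv_apply]
        exact hr0
      have hΨR : ∀ r ∈ R, autFun Ψ⁻¹ r = r := fun r hr => by
        conv_lhs => rw [← hψR r hr, ← hΨ r (Subgroup.mem_sup_right hr)]
        rw [autFun_inv_apply]
      have hKR : ∀ r ∈ R, autFun K r = r := fun r hr => by
        rw [hK, autFun_mul, autFun_mul, autFun_mul, hΨR _ (hBR r hr), autFun_apply_inv,
          hΨ r (Subgroup.mem_sup_right hr), hψR r hr]
      have hBP : ∀ x ∈ P, autFun B x ∈ P := fun x hx => by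
        rw [hB x (Subgroup.mem_sup_left hx)]; exact hHP b hb x hx
      have hBiP : ∀ x ∈ P, autFun B⁻¹ x ∈ P := fun x hx => by
        have himgP : img (autFun (b : MulAut Q)) P = P :=
          eq_of_le_card (img_le (hHP b hb)) (hbW.restrict le_sup_left).card_img.ge
        obtain ⟨x0, hx0, rfl⟩ := (hbW.restrict le_sup_left).mem_img.1 (himgP.ge hx)
        rw [← hB x0 (Subgroup.mem_sup_left hx0), autFun_inv_apply]
        exact hx0
      have hΨP : ∀ x ∈ P, autFun Ψ⁻¹ x ∈ P := fun x hx => by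
        have himgP : img ψ P = P := eq_of_le_card
          (img_le fun y hy => by rw [hψP y hy]; exact autFun_mem α hy)
          (hψm.restrict le_sup_left).card_img.ge
        obtain ⟨x0, hx0, rfl⟩ := (hψm.restrict le_sup_left).mem_img.1 (himgP.ge hx)
        rw [← hΨ x0 (Subgroup.mem_sup_left hx0), autFun_inv_apply]
        exact hx0
      have hΨP' : ∀ x ∈ P, autFun Ψ x ∈ P := fun x hx => by
        rw [hΨ x (Subgroup.mem_sup_left hx), hψP x hx]; exact autFun_mem α hx
      have hKP : ∀ x ∈ P, autFun K x ∈ P := fun x hx => by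
        rw [hK, autFun_mul, autFun_mul, autFun_mul]
        exact hΨP' _ (hBP _ (hΨP _ (hBiP x hx)))
      have hKnear : ∀ x ∈ P, x⁻¹ * autFun K x ∈ ctr R := by
        intro x hx
        set x1 := autFun B⁻¹ x with hx1
        have hx1P : x1 ∈ P := hBiP x hx
        set x2 := autFun Ψ⁻¹ x1 with hx2
        have hx2P : x2 ∈ P := hΨP x1 hx1P
        have hz2 := (hNr b).1 (hHnNr hb) x2 (hPC hx2P)
        have hz1 := (hNr b).1 (hHnNr hb) x1 (hPC hx1P)
        have hxe : x = autFun (b : MulAut Q) x1 := by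
          rw [← hB x1 (Subgroup.mem_sup_left hx1P), hx1, autFun_apply_inv]
        have hKe : autFun K x = x1 * (x2⁻¹ * autFun (b : MulAut Q) x2) := by
          have e : autFun (b : MulAut Q) x2 = x2 * (x2⁻¹ * autFun (b : MulAut Q) x2) :=
            (mul_inv_cancel_left _ _).symm
          rw [hK, autFun_mul, autFun_mul, autFun_mul, ← hx1, ← hx2,
            hB x2 (Subgroup.mem_sup_left hx2P)]
          conv_lhs => rw [e]
          rw [autFun_isHom Ψ _ (Subgroup.mem_sup_left hx2P) _ (Subgroup.mem_sup_right hz2.1),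
            hΨ _ (Subgroup.mem_sup_right hz2.1), hψR _ hz2.1, hx2, autFun_apply_inv]
        rw [hKe, hxe, ← mul_assoc]
        refine mul_mem ?_ hz2
        have h3 : (autFun (b : MulAut Q) x1)⁻¹ * x1 = (x1⁻¹ * autFun (b : MulAut Q) x1)⁻¹ := by group
        rw [h3]
        exact Subgroup.inv_mem _ hz1
      have hKm := isMap_of_mem_autGroup hWS hKA
      have hKimg : img (autFun K) P = P :=
        eq_of_le_card (img_le hKP) (hKm.restrict le_sup_left).card_img.ge
      obtain ⟨a', -, ha'e⟩ := (hKm.restrict (le_sup_left : P ≤ W)).exists_aut hKimg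
      have ha'D : a' ∈ D.autGroup P := (mem_autGroup_iff hPC).2
        (hDmem P _ (autFun K) hPC hKm (fun x hx => (ha'e x hx).symm) hKR)
      have ha'N : (⟨a', ha'D⟩ : D.autGroup P) ∈ NK := fun x hx => by
        show x⁻¹ * autFun a' x ∈ _
        rw [ha'e x hx]
        exact hKnear x hx
      have := hNKle ha'N
      rw [hP0] at this
      obtain ⟨s, hs, hse⟩ := mem_autInducedBy_iff'.1 (Subgroup.mem_subgroupOf.1 this)
      refine ⟨s, hs.1, fun w hw => ?_⟩
      have hKw : ∀ w ∈ W, autFun K w = s * w * s⁻¹ := by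
        intro w hw
        have hsm : IsMap F W (cj s) := isMap_cj hWS (hCS hs.1)
        obtain ⟨σ, hσA, hσe⟩ := hsm.exists_aut (by
          refine eq_of_le_card ?_ hsm.card_img.ge
          rw [hW, hsm.img_sup]
          refine sup_le_sup (img_cj_eq_of_mem_normalizer hs.2).le (img_le fun r hr => ?_)
          rw [cj_apply, ← hs.1.2 r hr, mul_inv_cancel_right]
          exact hr)
        have hKσ : K = σ := aut_ext_sup
          (fun x hx => by
            rw [← ha'e x hx, hσe x (Subgroup.mem_sup_left hx), hse x hx])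
          (fun r hr => by
            rw [hKR r hr, hσe r (Subgroup.mem_sup_right hr), cj_apply, ← hs.1.2 r hr,
              mul_inv_cancel_right])
        rw [hKσ, hσe w hw, cj_apply]
      have hψw : ψ w ∈ W := hψW.le (mem_img_self ψ hw)
      have h1 := hKw _ (autFun_mem B (autFun_mem Ψ hw))
      rw [hK, autFun_mul, autFun_mul, autFun_mul, autFun_inv_apply, autFun_inv_apply,
        hB w hw, hΨ _ (hHW b hb w hw), hΨ w hw, hB _ hψw] at h1
      exact h1
    -- `W` is centric
    have hWc : F.IsCentric W := by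
      refine ⟨hWS, fun W' hW' => ?_⟩
      obtain ⟨f, hf, rfl⟩ := isConj_iff_map.1 hW'
      have hfR := hf.restrict (le_sup_right : R ≤ W)
      obtain ⟨g, hg, hgR⟩ := exists_map_to_fullyNormalized hS hF hRn (isConj_symm hfR.isConj)
      have hdom : img f W ≤ normalizerIn S (img f R) := by
        rw [hW, hf.img_sup]
        refine sup_le (img_le fun x hx => ⟨hf.mem (Subgroup.mem_sup_left hx), ?_⟩)
          (le_normalizerIn hfR.img_le_S)
        exact hf.mem_normalizer_img le_sup_right (Subgroup.mem_sup_left hx)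
          (Subgroup.centralizer_le_normalizer _ (hPC hx).2)
      have hφ : IsMap F W (fun w => g (f w)) := hg.comp hf fun w hw => hdom (mem_img_self f hw)
      have hφR : img (fun w => g (f w)) R = R := by rw [← hfR.img_img g, hgR]
      obtain ⟨δ, hδ, hδe⟩ := (hφ.restrict le_sup_right).exists_aut hφR
      obtain ⟨A, hA⟩ := hlift δ hδ
      have hCdom : centralizerIn S (img f W) ≤ normalizerIn S (img f R) :=
        fun c hc => centralizerIn_le_normalizerIn
          ⟨hc.1, Subgroup.centralizer_le (img_mono f le_sup_right) hc.2⟩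
      have hgQ : ∀ c ∈ normalizerIn S (img f R),
          c ∈ Subgroup.centralizer (img f R : Set Ω) → g c ∈ C := by
        intro c hc hcC
        refine ⟨hg.mem hc, fun r hr => ?_⟩
        obtain ⟨r0, hr0, rfl⟩ := (hg.restrict (le_normalizerIn hfR.img_le_S)).mem_img.1 (hgR.ge hr)
        rw [← hg.map_mul (le_normalizerIn hfR.img_le_S hr0) hc,
          ← hg.map_mul hc (le_normalizerIn hfR.img_le_S hr0), hcC r0 hr0]
      have hφQ : ∀ w ∈ W, g (f w) ∈ Q := by
        intro w hw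
        have : img (fun w => g (f w)) W ≤ Q := by
          rw [hW, hφ.img_sup, hφR]
          refine sup_le (img_le fun x hx => Subgroup.mem_sup_right ?_) le_sup_left
          exact hgQ _ (hdom (mem_img_self f (Subgroup.mem_sup_left hx)))
            (hf.mem_centralizer_img le_sup_right (Subgroup.mem_sup_left hx) (hPC hx).2)
        exact this (mem_img_self _ hw)
      have hq : IsMap F W (fun w => autFun ((A⁻¹ : L0) : MulAut Q) (g (f w))) :=
        (hLm A⁻¹).comp hφ hφQ
      have hqR : ∀ r ∈ R, autFun ((A⁻¹ : L0) : MulAut Q) (g (f r)) = r := fun r hr => by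
        have h1 : g (f r) = autFun (A : MulAut Q) r := by rw [hA r hr, hδe r hr]
        rw [h1, Subgroup.coe_inv, autFun_inv_apply]
      have hqD : IsMap D P (fun w => autFun ((A⁻¹ : L0) : MulAut Q) (g (f w))) :=
        hDmem P _ _ hPC hq (fun _ _ => rfl) hqR
      rintro c hc
      have hcN := hCdom hc
      set y := autFun ((A⁻¹ : L0) : MulAut Q) (g c) with hy
      have hgcC : g c ∈ C :=
        hgQ c hcN (Subgroup.centralizer_le (img_mono f le_sup_right) hc.2)
      have hyC : y ∈ C := hLC _ _ hgcC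
      have hymem := hPc.2 _ hqD.isConj ⟨hyC, fun x hx => by
        obtain ⟨x0, hx0, rfl⟩ := hqD.mem_img.1 hx
        have hx0W : x0 ∈ W := Subgroup.mem_sup_left hx0
        rw [hy, ← autFun_isHom _ _ (hφQ x0 hx0W) _ (Subgroup.mem_sup_right hgcC),
          ← autFun_isHom _ _ (Subgroup.mem_sup_right hgcC) _ (hφQ x0 hx0W),
          ← hg.map_mul (hdom (mem_img_self f hx0W)) hcN,
          ← hg.map_mul hcN (hdom (mem_img_self f hx0W)), hc.2 _ (mem_img_self f hx0W)]⟩
      obtain ⟨x0, hx0, hx0e⟩ := hqD.mem_img.1 hymem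
      have h1 : g (f x0) = g c := by
        have h2 := congrArg (autFun (A : MulAut Q)) hx0e
        rwa [hy, Subgroup.coe_inv, autFun_apply_inv, autFun_apply_inv] at h2
      have h3 := hg.inj (hdom (mem_img_self f (Subgroup.mem_sup_left hx0))) hcN h1
      exact h3 ▸ mem_img_self f (Subgroup.mem_sup_left hx0)
    have hWfc := centric_fullyCentralized hWc
    let Tψ : Subgroup Hn := finSub
      { carrier := {a | ∀ w ∈ W,
          ψ (autFun ((a : L0) : MulAut Q) w) = autFun ((a : L0) : MulAut Q) (ψ w)}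
        one_mem' := fun w _ => by
          rw [Subgroup.coe_one, Subgroup.coe_one, autFun_one]; rfl
        mul_mem' := fun {a b} ha hb w hw => by
          rw [Subgroup.coe_mul, Subgroup.coe_mul, autFun_mul, autFun_mul,
            ha _ (hHW b b.2 w hw), hb w hw] }
    have hTψn : Tψ.Normal := ⟨fun a ha b => fun w hw => by
      obtain ⟨s, hs, hse⟩ := hKs b b.2
      set w' := autFun (((b : L0)⁻¹ : L0) : MulAut Q) w with hw'
      have hw'W : w' ∈ W := hHW _ (Subgroup.inv_mem _ b.2) w hw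
      have hwe : autFun ((b : L0) : MulAut Q) w' = w := by
        rw [hw', Subgroup.coe_inv, autFun_apply_inv]
      have haw' : autFun ((a : L0) : MulAut Q) w' ∈ W := hHW a a.2 w' hw'W
      have hψw'W : ψ w' ∈ W := hψW.le (mem_img_self ψ hw'W)
      have e1 : ψ (autFun (((b * a * b⁻¹ : Hn) : L0) : MulAut Q) w)
          = s * autFun ((b : L0) : MulAut Q) (autFun ((a : L0) : MulAut Q) (ψ w')) * s⁻¹ := by
        rw [Subgroup.coe_mul, Subgroup.coe_mul, Subgroup.coe_mul, Subgroup.coe_mul,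
          Subgroup.coe_inv, autFun_mul, autFun_mul, ← hw', hse _ haw']
        rw [show ψ (autFun ((a : L0) : MulAut Q) w') = autFun ((a : L0) : MulAut Q) (ψ w') from
          ha w' hw'W]
      have e2 : ψ w = s * autFun ((b : L0) : MulAut Q) (ψ w') * s⁻¹ := by rw [← hwe, hse w' hw'W]
      rw [e1, e2, hcentral _ (hHnNr (b * a * b⁻¹).2) s hs _
        (autFun_mem _ (hWQ hψw'W))]
      congr 2
      rw [Subgroup.coe_mul, Subgroup.coe_mul, Subgroup.coe_mul, Subgroup.coe_mul,
        autFun_mul, autFun_mul, Subgroup.coe_inv, Subgroup.coe_inv, autFun_inv_apply]⟩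
    have hUtT : ∀ u : Hn, (u : L0) ∈ Ut → u ∈ Tψ := by
      intro u hu w0 hw0
      obtain ⟨t, ht, hte⟩ := (hUtelem _).1 hu
      obtain ⟨s, hs, hse⟩ := hKs u u.2
      have htS : t ∈ S := hT.1 ht.1
      have htW : t ∈ Subgroup.normalizer (W : Set Ω) := mem_normalizer_of_forall fun w hw => by
        rw [← cj_apply, ← hte w (hWQ hw)]; exact hHW u u.2 w hw
      have hψWm : ∀ w ∈ W, ψ w ∈ W := fun w hw => hψW.le (mem_img_self ψ hw)
      have hconj : ∀ w ∈ W, ψ (t * w * t⁻¹) = s * t * ψ w * (s * t)⁻¹ := by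
        intro w hw
        have h1 := hse w hw
        rw [hte w (hWQ hw), hte _ (hWQ (hψWm w hw)), cj_apply, cj_apply] at h1
        rw [h1]; group
      obtain ⟨g, hg, hge⟩ := exists_extension hS hF hψm (by rw [hψW]; exact hWfc)
      have htn : t ∈ nSub S W ψ := ⟨htS, htW, s * t, mul_mem (hCS hs) htS, hconj⟩
      have hWn : W ≤ nSub S W ψ := le_nSub hψm
      have hgt : g t ∈ T :=
        stronglyClosed_mem hT (hg.restrict (Subgroup.zpowers_le.2 htn)) (Subgroup.mem_zpowers t) ht.1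
      have hgw : ∀ w ∈ W, ψ (t * w * t⁻¹) = g t * ψ w * (g t)⁻¹ := by
        intro w hw
        have htw := (Subgroup.mem_normalizer_iff.1 htW w).1 hw
        rw [← hge _ htw, hg.map_conj htn (hWn hw), hge w hw]
      set z := (g t)⁻¹ * t with hz
      have hzC : ∀ r ∈ R, r * z = z * r := by
        intro r hr
        have h1 := hgw r (Subgroup.mem_sup_right hr)
        rw [hψR r hr, hψR _ ((Subgroup.mem_normalizer_iff.1 ht.2 r).1 hr)] at h1
        calc r * z = (g t)⁻¹ * (g t * r * (g t)⁻¹) * t := by rw [hz]; group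
          _ = (g t)⁻¹ * (t * r * t⁻¹) * t := by rw [← h1]
          _ = z * r := by rw [hz]; group
      have hzR : z ∈ ctr R :=
        ⟨hR.2 R (isConj_refl hRS) ⟨mul_mem (Subgroup.inv_mem _ hgt) ht.1, hzC⟩, hzC⟩
      have hw := hψWm w0 hw0
      have h2 := ctr_central (S := S) hzR (hWQ hw)
      rw [hte w0 (hWQ hw0), hte _ (hWQ hw), cj_apply, cj_apply, hgw w0 hw0]
      have htz : g t = t * z⁻¹ := by rw [hz]; group
      rw [htz]
      calc t * z⁻¹ * ψ w0 * (t * z⁻¹)⁻¹ = t * z⁻¹ * (ψ w0 * z) * t⁻¹ := by group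
        _ = t * z⁻¹ * (z * ψ w0) * t⁻¹ := by rw [h2]
        _ = _ := by group
    intro a ha x
    have hmem := hgen Tψ hTψn hUtT ⟨a, ha⟩ (x : Ω) (Subgroup.mem_sup_left x.2)
    rw [IsMap.hom_apply, ← hψP x x.2]
    have hz := (hNr a).1 (hHnNr ha) x (hPC x.2)
    have e : autFun (a : MulAut Q) x = x * ((x : Ω)⁻¹ * autFun (a : MulAut Q) x) :=
      (mul_inv_cancel_left _ _).symm
    rw [← hmem]
    show (ψ x)⁻¹ * ψ (autFun (a : MulAut Q) x) = _
    conv_lhs => rw [e]
    rw [hψm.map_mul (Subgroup.mem_sup_left x.2) (Subgroup.mem_sup_right hz.1), hψR _ hz.1,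
      inv_mul_cancel_left]
  -- assemble
  choose lift hliftH hliftR using hsurj
  have huniq : ∀ a b : L0, a ∈ Hn → b ∈ Hn →
      (∀ r ∈ R, autFun (a : MulAut Q) r = autFun (b : MulAut Q) r) → a = b := by
    intro a b ha hb h
    have h1 : b⁻¹ * a = 1 := hinj _ (mul_mem (Subgroup.inv_mem _ hb) ha) fun r hr => by
      rw [Subgroup.coe_mul, autFun_mul, Subgroup.coe_inv, h r hr, autFun_inv_apply]
    calc a = b * (b⁻¹ * a) := by group
      _ = b := by rw [h1, mul_one]
  refine ⟨{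
    act := fun γ x => if hγ : γ ∈ Ep E p R then autFun ((lift γ hγ : L0) : MulAut Q) x else x
    map := fun γ hγ => (hLm (lift γ hγ)).congr fun x _ => by simp [hγ]
    res := fun γ hγ x hx => (dif_pos hγ).trans (hliftR γ hγ x hx)
    near := fun γ hγ x hx => by
      simp only [dif_pos hγ]
      exact (hNr _).1 (hHnNr (hliftH γ hγ)) x hx
    comp := fun γ hγ δ hδ x hx => by
      simp only [dif_pos hγ, dif_pos hδ, dif_pos (mul_mem hγ hδ)]
      have := huniq (lift _ (mul_mem hγ hδ)) (lift γ hγ * lift δ hδ) (hliftH _ _)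
        (mul_mem (hliftH _ _) (hliftH _ _)) fun r hr => by
          rw [hliftR _ _ r hr, autFun_mul, Subgroup.coe_mul, autFun_mul, hliftR _ _ r hr,
            hliftR _ _ _ (autFun_mem δ hr)]
      rw [this, Subgroup.coe_mul, autFun_mul]
    inn := fun γ hγ t ht he x hx => by
      simp only [dif_pos hγ]
      obtain ⟨u, hu, hue⟩ := hmkU t ⟨hT.1 ht.1, ht.2⟩
      have := huniq (lift γ hγ) u (hliftH _ _) (hUtHn ((hUtelem u).2 ⟨t, ht, hue⟩)) fun r hr => by
        rw [hliftR _ _ r hr, he r hr, hue r (Subgroup.mem_sup_left hr)]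
      rw [this, hue x (Subgroup.mem_sup_right hx)]
    inv := fun γ hγ x k hx hk hkR => by
      simp only [dif_pos hγ]
      have hxC : Subgroup.zpowers x ≤ C := Subgroup.zpowers_le.2 hx
      exact hinvC _ k (hDmem _ k k hxC (hk.restrict (sup_comm _ _).le) (fun _ _ => rfl) hkR) _
        (hliftH γ hγ) x (Subgroup.mem_zpowers x) }⟩

/-- Canonical extensions exist at every subgroup with all conjugates containing their centralizer. -/
theorem exists_canon (hS : IsPGroup p S) (hF : F.IsSaturated p) (hinv : E.IsInvariantIn F)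
    (hEsat : E.IsSaturated p) (hR : Cen F T R) : Nonempty (Canon F E p R) := by
  classical
  have hT : F.StronglyClosed T := hinv.2.1
  have hRT := hR.1
  have hRS : R ≤ S := hRT.trans hT.1
  have hRfin : Finite R := finite_of_le hRS
  obtain ⟨R', hRR', hn⟩ := exists_fullyNormalized (F := F) hRS
  obtain ⟨g, hg, hgR⟩ := exists_map_to_fullyNormalized hS hF hn hRR'
  subst hgR
  have hRN : R ≤ normalizerIn S R := le_normalizerIn hRS
  have hgr := hg.restrict hRN
  have hgT : ∀ r ∈ R, g r ∈ T := fun r hr => stronglyClosed_mem hT hgr hr (hRT hr)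
  have hR' : Cen F T (img g R) :=
    ⟨img_le hgT, fun R'' h => hR.2 R'' (isConj_trans hgr.isConj h)⟩
  obtain ⟨K⟩ := exists_canon_fn hS hF hinv hEsat hR' hn
  set C := centralizerIn S R
  set Q := R ⊔ C with hQ
  have hQN : Q ≤ normalizerIn S R := sup_le hRN centralizerIn_le_normalizerIn
  have hgQ := hg.restrict hQN
  have hgC : ∀ c ∈ C, g c ∈ centralizerIn S (img g R) := fun c hc =>
    hg.img_centralizerIn_le hRN centralizerIn_le_normalizerIn (mem_img_self g hc)
  obtain ⟨i, hi, -, hig, hgi⟩ := hgQ.exists_inv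
  obtain ⟨e, he⟩ := hgr.exists_autEquiv
  have hRFE : ∀ γ ∈ E.autGroup R, γ ∈ F.autGroup R := fun γ hγ =>
    (mem_autGroup_iff hRS).2 (isMap_of_subset hinv.1 (isMap_of_mem_autGroup hRT hγ))
  let push : MulAut R → MulAut (img g R) := fun γ =>
    if hγ : γ ∈ F.autGroup R then (e ⟨γ, hγ⟩ : MulAut (img g R)) else 1
  have hpushe : ∀ γ ∈ E.autGroup R, ∀ r ∈ R, autFun (push γ) (g r) = g (autFun γ r) := by
    intro γ hγ r hr
    simp only [push, dif_pos (hRFE γ hγ)]
    exact he ⟨γ, hRFE γ hγ⟩ r hr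
  have hpushmul : ∀ γ ∈ E.autGroup R, ∀ δ ∈ E.autGroup R, push (γ * δ) = push γ * push δ := by
    intro γ hγ δ hδ
    simp only [push, dif_pos (hRFE γ hγ), dif_pos (hRFE δ hδ),
      dif_pos (hRFE _ (mul_mem hγ hδ))]
    rw [← Subgroup.coe_mul, ← map_mul]
    rfl
  have hpushE : ∀ γ ∈ E.autGroup R, push γ ∈ E.autGroup (img g R) := by
    intro γ hγ
    obtain ⟨h, hh, hhe⟩ := conj_transport hinv hgr hRT (isMap_of_mem_autGroup hRT hγ) le_rfl
      fun x hx => autFun_mem γ hx
    refine (mem_autGroup_iff hR'.1).2 (hh.congr fun y hy => ?_)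
    obtain ⟨r, hr, rfl⟩ := hgr.mem_img.1 hy
    rw [hhe r hr, hpushe γ hγ r hr]
  have hpushEp : ∀ γ ∈ Ep E p R, push γ ∈ Ep E p (img g R) := by
    intro γ hγ
    suffices γ ∈ E.autGroup R ∧ push γ ∈ Ep E p (img g R) from this.2
    induction hγ using Subgroup.closure_induction with
    | mem a ha =>
      refine ⟨ha.1, Subgroup.subset_closure ⟨hpushE a ha.1, ?_⟩⟩
      obtain ⟨k, hk⟩ := ha.2
      refine ⟨k, ?_⟩
      have hpow : ∀ j : ℕ, push (a ^ j) = push a ^ j := by
        intro j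
        induction j with
        | zero =>
          refine autFun_ext fun y hy => ?_
          obtain ⟨r, hr, rfl⟩ := hgr.mem_img.1 hy
          rw [pow_zero, pow_zero, hpushe 1 (one_mem _) r hr, autFun_one, autFun_one]; rfl
        | succ j ih => rw [pow_succ, hpushmul _ (pow_mem ha.1 j) _ ha.1, ih, pow_succ]
      rw [← hpow, hk]
      refine autFun_ext fun y hy => ?_
      obtain ⟨r, hr, rfl⟩ := hgr.mem_img.1 hy
      rw [hpushe 1 (one_mem _) r hr, autFun_one, autFun_one]; rfl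
    | one =>
      refine ⟨one_mem _, ?_⟩
      have : push 1 = 1 := autFun_ext fun y hy => by
        obtain ⟨r, hr, rfl⟩ := hgr.mem_img.1 hy
        rw [hpushe 1 (one_mem _) r hr, autFun_one, autFun_one]; rfl
      rw [this]; exact one_mem _
    | mul a b _ _ ha hb =>
      refine ⟨mul_mem ha.1 hb.1, ?_⟩
      rw [hpushmul a ha.1 b hb.1]; exact mul_mem ha.2 hb.2
    | inv a _ ha =>
      refine ⟨Subgroup.inv_mem _ ha.1, ?_⟩
      have : push a⁻¹ = (push a)⁻¹ := eq_inv_of_mul_eq_one_right (by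
        rw [← hpushmul a ha.1 a⁻¹ (Subgroup.inv_mem _ ha.1), mul_inv_cancel]
        exact autFun_ext fun y hy => by
          obtain ⟨r, hr, rfl⟩ := hgr.mem_img.1 hy
          rw [hpushe 1 (one_mem _) r hr, autFun_one, autFun_one]; rfl)
      rw [this]; exact Subgroup.inv_mem _ ha.2
  -- the transported action on `C`
  have hval : ∀ γ ∈ Ep E p R, ∀ c ∈ C, ∃ z ∈ ctr R, K.act (push γ) (g c) = g (c * z) := by
    intro γ hγ c hc
    have hz := K.near _ (hpushEp γ hγ) _ (hgC c hc)
    obtain ⟨z, hz0, hze⟩ := hgr.mem_img.1 hz.1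
    have hzc : z ∈ ctr R := by
      refine ⟨hz0, fun r hr => hgr.inj (mul_mem hr hz0) (mul_mem hz0 hr) ?_⟩
      rw [hgr.map_mul hr hz0, hgr.map_mul hz0 hr, hze]
      exact hz.2 _ (mem_img_self g hr)
    refine ⟨z, hzc, ?_⟩
    rw [hg.map_mul (hQN (Subgroup.mem_sup_right hc)) (hRN hz0), hze, mul_inv_cancel_left]
  have hactR : ∀ γ ∈ Ep E p R, ∀ r ∈ R, K.act (push γ) (g r) = g (autFun γ r) := fun γ hγ r hr => by
    rw [K.res _ (hpushEp γ hγ) _ (mem_img_self g hr), hpushe γ (Ep_le hγ) r hr]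
  have hgQQ : ∀ w ∈ Q, g w ∈ img g R ⊔ centralizerIn S (img g R) := by
    intro w hw
    have : img g Q ≤ img g R ⊔ centralizerIn S (img g R) := by
      rw [hQ, hgQ.img_sup]
      exact sup_le_sup_left (img_le hgC) _
    exact this (mem_img_self g hw)
  have hmimg : ∀ γ ∈ Ep E p R, ∀ w ∈ Q, K.act (push γ) (g w) ∈ img g Q := by
    intro γ hγ w hw
    have hm := (K.map _ (hpushEp γ hγ)).comp hgQ hgQQ
    have : img (fun w => K.act (push γ) (g w)) Q ≤ img g Q := by
      rw [hQ, hm.img_sup]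
      refine sup_le (img_le fun r hr => ?_) (img_le fun c hc => ?_)
      · rw [hactR γ hγ r hr]; exact mem_img_self g (Subgroup.mem_sup_left (autFun_mem γ hr))
      · obtain ⟨z, hz, hze⟩ := hval γ hγ c hc
        rw [hze]
        exact mem_img_self g (mul_mem (Subgroup.mem_sup_right hc) (Subgroup.mem_sup_left hz.1))
    exact this (mem_img_self _ hw)
  refine ⟨{
    act := fun γ x => i (K.act (push γ) (g x))
    map := fun γ hγ => hi.comp ((K.map _ (hpushEp γ hγ)).comp hgQ hgQQ) (hmimg γ hγ)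
    res := fun γ hγ x hx => by
      show i _ = _
      rw [hactR γ hγ x hx, hig _ (Subgroup.mem_sup_left (autFun_mem γ hx))]
    near := fun γ hγ x hx => by
      obtain ⟨z, hz, hze⟩ := hval γ hγ x hx
      show x⁻¹ * i _ ∈ _
      rw [hze, hig _ (mul_mem (Subgroup.mem_sup_right hx) (Subgroup.mem_sup_left hz.1)),
        inv_mul_cancel_left]
      exact hz
    comp := fun γ hγ δ hδ x hx => by
      obtain ⟨z, hz, hze⟩ := hval δ hδ x hx
      show i _ = i (K.act (push γ) (g (i _)))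
      rw [hgi _ (hmimg δ hδ x (Subgroup.mem_sup_right hx)),
        hpushmul γ (Ep_le hγ) δ (Ep_le hδ),
        K.comp _ (hpushEp γ hγ) _ (hpushEp δ hδ) _ (hgC x hx)]
    inn := fun γ hγ t ht he x hx => by
      have htN : t ∈ normalizerIn S R := ⟨hT.1 ht.1, ht.2⟩
      have htT : g t ∈ T := stronglyClosed_mem hT (hg.restrict (inf_le_inf_right _ hT.1)) ht ht.1
      have htn := hg.mem_normalizer_img hRN htN htN.2
      have h1 := K.inn _ (hpushEp γ hγ) (g t) ⟨htT, htn⟩ (fun y hy => by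
        obtain ⟨r, hr, rfl⟩ := hgr.mem_img.1 hy
        rw [hpushe γ (Ep_le hγ) r hr, he r hr, cj_apply, cj_apply,
          hg.map_conj htN (hRN hr)]) _ (hgC x hx)
      show i _ = _
      have hxN : x ∈ normalizerIn S R := hQN (Subgroup.mem_sup_right hx)
      rw [h1, cj_apply, cj_apply, ← hg.map_conj htN hxN, hig]
      have hm : IsMap F S (cj t) := isMap_cj le_rfl htN.1
      have h2 := hm.img_centralizerIn_le hRS centralizerIn_le
      rw [img_cj_eq_of_mem_normalizer htN.2] at h2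
      exact Subgroup.mem_sup_right (h2 (mem_img_self (cj t) hx))
    inv := fun γ hγ x k hx hk hkR => by
      have hxQ : Subgroup.zpowers x ≤ Q := (Subgroup.zpowers_le.2 hx).trans le_sup_right
      have hkx : k x ∈ C := by
        refine ⟨hk.mem (Subgroup.mem_sup_right (Subgroup.mem_zpowers x)), fun r hr => ?_⟩
        rw [← hkR r hr, ← hk.map_mul (Subgroup.mem_sup_left hr)
          (Subgroup.mem_sup_right (Subgroup.mem_zpowers x)), ← hk.map_mul
          (Subgroup.mem_sup_right (Subgroup.mem_zpowers x)) (Subgroup.mem_sup_left hr), hx.2 r hr]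
      -- the transported map
      have hdom : R ⊔ Subgroup.zpowers x ≤ Q := sup_le le_sup_left hxQ
      have hkQ : img k (R ⊔ Subgroup.zpowers x) ≤ Q := by
        rw [hk.img_sup]
        refine sup_le (img_le fun r hr => ?_) (img_le fun y hy => ?_)
        · rw [hkR r hr]; exact Subgroup.mem_sup_left hr
        · obtain ⟨n, rfl⟩ := Subgroup.mem_zpowers_iff.1 hy
          have h2 := hk.restrict (le_sup_right : Subgroup.zpowers x ≤ R ⊔ Subgroup.zpowers x)
          have h3 : k (x ^ n) = k x ^ n := map_zpow h2.hom ⟨x, Subgroup.mem_zpowers x⟩ n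
          rw [h3]
          exact Subgroup.mem_sup_right (Subgroup.zpow_mem _ hkx n)
      have hgi' : img g (R ⊔ Subgroup.zpowers x) = img g R ⊔ Subgroup.zpowers (g x) := by
        rw [(hgQ.restrict hdom).img_sup]
        congr 1
        refine le_antisymm (img_le fun y hy => ?_) (Subgroup.zpowers_le.2
          (mem_img_self g (Subgroup.mem_zpowers x)))
        obtain ⟨n, rfl⟩ := Subgroup.mem_zpowers_iff.1 hy
        have h2 := hgQ.restrict hxQ
        have h3 : g (x ^ n) = g x ^ n := map_zpow h2.hom ⟨x, Subgroup.mem_zpowers x⟩ n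
        rw [h3]
        exact Subgroup.zpow_mem _ (Subgroup.mem_zpowers _) n
      have hidom : ∀ y ∈ img g (R ⊔ Subgroup.zpowers x), i y ∈ R ⊔ Subgroup.zpowers x := by
        intro y hy
        obtain ⟨w, hw, rfl⟩ := (hgQ.restrict hdom).mem_img.1 hy
        rw [hig w (hdom hw)]
        exact hw
      have hk' : IsMap F (img g (R ⊔ Subgroup.zpowers x)) (fun y => g (k (i y))) :=
        hgQ.comp (hk.comp (hi.restrict (img_mono g hdom)) hidom)
          fun y hy => hkQ (mem_img_self k (hidom y hy))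
      rw [hgi'] at hk'
      have h1 := K.inv _ (hpushEp γ hγ) (g x) _ (hgC x hx) hk' fun r hr => by
        obtain ⟨r0, hr0, rfl⟩ := hgr.mem_img.1 hr
        show g (k (i (g r0))) = g r0
        rw [hig r0 (Subgroup.mem_sup_left hr0), hkR r0 hr0]
      obtain ⟨z, hz, hze⟩ := hval γ hγ x hx
      obtain ⟨z', hz', hze'⟩ := hval γ hγ (k x) hkx
      simp only [hig x (Subgroup.mem_sup_right hx)] at h1
      show (k x)⁻¹ * i _ = x⁻¹ * i _
      rw [hze, hze', hig _ (mul_mem (Subgroup.mem_sup_right hx) (Subgroup.mem_sup_left hz.1)),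
        hig _ (mul_mem (Subgroup.mem_sup_right hkx) (Subgroup.mem_sup_left hz'.1)),
        inv_mul_cancel_left, inv_mul_cancel_left]
      rw [hze, hze', hg.map_mul (hQN (Subgroup.mem_sup_right hx)) (hRN hz.1),
        hg.map_mul (hQN (Subgroup.mem_sup_right hkx)) (hRN hz'.1), inv_mul_cancel_left,
        inv_mul_cancel_left] at h1
      exact hgr.inj hz'.1 hz.1 h1 }⟩

end Full

end Cfsg.Agent.Fusion.CanonicalLift
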