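/-
Crossed homomorphisms into abelian `p`-groups, and the abelian-version Thompson subgroup of
subgroups of an ambient group, with the weight used for descending induction.
-/
import Mathlib
import Cfsg.Agent.Lib.Fusion.Saturation
import Cfsg.Agent.Lib.PLocal.MaxAbelian

set_option autoImplicit false
set_option linter.all false

namespace Cfsg.Agent.Fusion.CocycleFix

open Cfsg Cfsg.FusionSystem Cfsg.Agent.Fusion.Basic Cfsg.Agent.Fusion.Saturation
open Cfsg.Agent.PLocal.MaxAbelian (family Good family_map family_nonempty family_zero family_top_zero)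

variable {Ω : Type*} [Group Ω] {p : ℕ}

section Cocycle

variable {G : Type*} [Group G] [Fact p.Prime] (M : Subgroup Ω) (a : G → Ω → Ω) (z : G → Ω)

/-- A crossed homomorphism trivial on a subgroup of index prime to `p` is a coboundary. -/
theorem exists_fixed [Finite G] (hM : IsPGroup p M) (hMc : ∀ x ∈ M, ∀ y ∈ M, x * y = y * x)
    (hmem : ∀ g, ∀ x ∈ M, a g x ∈ M)
    (hmul : ∀ g, ∀ x ∈ M, ∀ y ∈ M, a g (x * y) = a g x * a g y)
    (hzM : ∀ g, z g ∈ M) (hz : ∀ g h, z (g * h) = z g * a g (z h))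
    (U : Subgroup G) (hU : ¬ p ∣ U.index) (hUz : ∀ u ∈ U, z u = 1) :
    ∃ c ∈ M, ∀ g, z g * a g c = c := by
  classical
  letI : CommGroup M := { (inferInstance : Group M) with
    mul_comm := fun x y => Subtype.ext (hMc x x.2 y y.2) }
  let zm : G → M := fun g => ⟨z g, hzM g⟩
  let am : G → M →* M := fun g => MonoidHom.mk' (fun x => ⟨a g x, hmem g x x.2⟩)
    fun x y => Subtype.ext (hmul g x x.2 y y.2)
  have hzm : ∀ g h, zm (g * h) = zm g * am g (zm h) := fun g h => Subtype.ext (hz g h)
  have hU1 : ∀ u ∈ U, zm u = 1 := fun u hu => Subtype.ext (hUz u hu)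
  have hcos : ∀ g, ∀ u ∈ U, zm (g * u) = zm g := fun g u hu => by
    rw [hzm, hU1 u hu, map_one, mul_one]
  letI : Fintype (G ⧸ U) := Fintype.ofFinite _
  have hrep : ∀ (g : G) (q : G ⧸ U), zm (g • q).out = zm (g * q.out) := by
    intro g q
    have h1 : ((g * q.out : G) : G ⧸ U) = g • q := by
      conv_rhs => rw [← q.out_eq']
      rfl
    obtain ⟨u, hu⟩ := QuotientGroup.mk_out_eq_mul U (g * q.out)
    rw [h1] at hu
    rw [hu, hcos _ u u.2]
  set n := U.index with hn
  set T := ∏ q : G ⧸ U, zm q.out with hT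
  have hTeq : ∀ g, zm g ^ n * am g T = T := by
    intro g
    have h1 : T = ∏ q : G ⧸ U, zm (g * q.out) := by
      rw [hT, ← Equiv.prod_comp (MulAction.toPerm g) fun q : G ⧸ U => zm q.out]
      exact Finset.prod_congr rfl fun q _ => hrep g q
    conv_rhs => rw [h1]
    rw [hT, map_prod, hn, Subgroup.index_eq_card, Nat.card_eq_fintype_card,
      ← Finset.card_univ, ← Finset.prod_const, ← Finset.prod_mul_distrib]
    exact Finset.prod_congr rfl fun q _ => (hzm g q.out).symm
  set e := hM.powEquiv' hU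
  refine ⟨((e.symm T : M) : Ω), (e.symm T).2, fun g => ?_⟩
  have h1 : (zm g * am g (e.symm T)) ^ n = T := by
    rw [mul_pow, ← map_pow]
    have : (e.symm T) ^ n = T := e.apply_symm_apply T
    rw [this, hTeq]
  have h2 : zm g * am g (e.symm T) = e.symm T := by
    apply e.injective
    rw [e.apply_symm_apply]
    exact h1
  exact congrArg Subtype.val h2

/-- A crossed homomorphism with fixed values, trivial on a subgroup of index prime to `p`. -/
theorem eq_one [Finite G] (hM : IsPGroup p M) (hzM : ∀ g, z g ∈ M)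
    (hz : ∀ g h, z (g * h) = z g * z h)
    (U : Subgroup G) (hU : ¬ p ∣ U.index) (hUz : ∀ u ∈ U, z u = 1) (g : G) : z g = 1 := by
  let f : G →* M := MonoidHom.mk' (fun g => ⟨z g, hzM g⟩) fun x y => Subtype.ext (hz x y)
  have hUk : U ≤ f.ker := fun u hu => Subtype.ext (hUz u hu)
  have : Finite f.range := Finite.of_surjective _ f.rangeRestrict_surjective
  obtain ⟨k, hk⟩ := (hM.to_subgroup f.range).exists_card_eq
  rw [← Subgroup.index_ker] at hk
  have h2 : f.ker.index ∣ U.index := Subgroup.index_dvd_of_le hUk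
  have h3 : k = 0 := by
    by_contra hne
    exact hU ((dvd_pow_self p hne).trans (hk ▸ h2))
  have h4 : g ∈ f.ker := by
    rw [h3, pow_zero, Subgroup.index_eq_one] at hk
    rw [hk]; exact Subgroup.mem_top g
  exact congrArg Subtype.val (MonoidHom.mem_ker.1 h4)

end Cocycle

section Thompson

/-- The subgroup generated by the abelian subgroups of largest order. -/
def JJ (R : Subgroup Ω) : Subgroup Ω := sSup (family 0 R)

theorem fam_eq (R : Subgroup Ω) [Finite R] :
    family 0 R = (fun A => A.map R.subtype) '' family 0 (⊤ : Subgroup R) := by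
  have h := family_map 0 R.subtype_injective (⊤ : Subgroup R)
  rwa [← MonoidHom.range_eq_map, Subgroup.range_subtype] at h

theorem fam_nonempty (R : Subgroup Ω) [Finite R] : (family 0 R).Nonempty := by
  rw [fam_eq]
  exact (family_nonempty 0 _).image _

theorem JJ_eq_map (R : Subgroup Ω) [Finite R] :
    JJ R = (sSup (family 0 (⊤ : Subgroup R))).map R.subtype := by
  rw [JJ, fam_eq, sSup_image, (Subgroup.gc_map_comap _).l_sSup]

theorem JJ_le {R : Subgroup Ω} : JJ R ≤ R := sSup_le fun _ h => h.1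

/-- The order of the largest abelian subgroups. -/
noncomputable def abMax (R : Subgroup Ω) : ℕ :=
  open Classical in if h : (family 0 R).Nonempty then Nat.card h.some else 0

theorem abMax_eq {R A : Subgroup Ω} (hA : A ∈ family 0 R) : abMax R = Nat.card A := by
  have hne : (family 0 R).Nonempty := ⟨A, hA⟩
  rw [abMax, dif_pos hne]
  exact le_antisymm (hA.2.2 _ hne.some_mem.1 hne.some_mem.2.1)
    (hne.some_mem.2.2 _ hA.1 hA.2.1)

theorem abMax_le_card (R : Subgroup Ω) [Finite R] : abMax R ≤ Nat.card R := by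
  obtain ⟨A, hA⟩ := fam_nonempty R
  rw [abMax_eq hA]
  exact card_le_card hA.1

theorem abMax_mono {R P : Subgroup Ω} [Finite P] (h : R ≤ P) : abMax R ≤ abMax P := by
  have : Finite R := finite_of_le h
  obtain ⟨A, hA⟩ := fam_nonempty R
  obtain ⟨B, hB⟩ := fam_nonempty P
  rw [abMax_eq hA, abMax_eq hB]
  exact hB.2.2 A (hA.1.trans h) hA.2.1

theorem family_subset {R P : Subgroup Ω} [Finite P] (h : R ≤ P) (he : abMax R = abMax P) :
    family 0 R ⊆ family 0 P := by
  intro A hA
  obtain ⟨B, hB⟩ := fam_nonempty P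
  refine ⟨hA.1.trans h, hA.2.1, fun C hC hg => ?_⟩
  rw [← abMax_eq hA, he, abMax_eq hB]
  exact hB.2.2 C hC hg

theorem JJ_mono {R P : Subgroup Ω} [Finite P] (h : R ≤ P) (he : abMax R = abMax P) :
    JJ R ≤ JJ P := sSup_le_sSup (family_subset h he)

theorem eq_of_le {R P : Subgroup Ω} [Finite P] (h : R ≤ P) (hJ : JJ P ≤ R) :
    abMax R = abMax P ∧ JJ R = JJ P := by
  have : Finite R := finite_of_le h
  obtain ⟨B, hB⟩ := fam_nonempty P
  have hBR : B ∈ family 0 R :=
    ⟨(le_sSup hB).trans hJ, hB.2.1, fun C hC hg => hB.2.2 C (hC.trans h) hg⟩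
  have he : abMax R = abMax P := by rw [abMax_eq hB, abMax_eq hBR]
  refine ⟨he, le_antisymm (JJ_mono h he) (sSup_le fun A hA => le_sSup ?_)⟩
  exact ⟨(le_sSup hA).trans hJ, hA.2.1, fun C hC hg => hA.2.2 C (hC.trans h) hg⟩

/-- A subgroup centralizing `J(R)` inside `R` lies in it. -/
theorem mem_JJ {R : Subgroup Ω} [Finite R] {z : Ω} (hz : z ∈ R)
    (hc : ∀ x ∈ JJ R, x * z = z * x) : z ∈ JJ R := by
  obtain ⟨A, hA⟩ := fam_nonempty R
  refine (le_sSup hA : A ≤ JJ R) ?_
  have hX : Good 0 (A ⊔ Subgroup.zpowers z) := by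
    refine ⟨?_, fun a _ => pow_zero a⟩
    have hle : A ⊔ Subgroup.zpowers z ≤
        Subgroup.centralizer ((A ⊔ Subgroup.zpowers z : Subgroup Ω) : Set Ω) := by
      rw [Subgroup.le_centralizer_iff]
      have h1 : A ⊔ Subgroup.zpowers z ≤ Subgroup.centralizer (A : Set Ω) :=
        sup_le (fun a ha b hb => hA.2.1.1 b hb a ha)
          (Subgroup.zpowers_le.2 fun b hb => hc b (le_sSup (α := Subgroup Ω) hA hb))
      have h2 : A ⊔ Subgroup.zpowers z ≤ Subgroup.centralizer (Subgroup.zpowers z : Set Ω) :=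
        sup_le (Subgroup.le_centralizer_iff.1 (Subgroup.zpowers_le.2 fun b hb =>
          hc b (le_sSup (α := Subgroup Ω) hA hb)))
          (fun a ha b hb => by
            obtain ⟨m, rfl⟩ := Subgroup.mem_zpowers_iff.1 ha
            obtain ⟨n, rfl⟩ := Subgroup.mem_zpowers_iff.1 hb
            rw [← zpow_add, ← zpow_add, add_comm])
      refine sup_le ?_ ?_
      · exact Subgroup.le_centralizer_iff.1 h1
      · exact Subgroup.le_centralizer_iff.1 h2
    exact fun a ha b hb => hle hb a ha
  have hXR : A ⊔ Subgroup.zpowers z ≤ R := sup_le hA.1 (Subgroup.zpowers_le.2 hz)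
  have : Finite (A ⊔ Subgroup.zpowers z : Subgroup Ω) := finite_of_le hXR
  rw [eq_of_le_card le_sup_left (hA.2.2 _ hXR hX)]
  exact Subgroup.mem_sup_right (Subgroup.mem_zpowers z)

variable {S : Subgroup Ω} {F : FusionSystem S} {P R : Subgroup Ω} {f : Ω → Ω}

theorem hom_injective (hf : IsMap F P f) : Function.Injective hf.hom :=
  fun x y h => Subtype.ext (hf.inj x.2 y.2 h)

theorem map_subgroupOf (hf : IsMap F P f) (hR : R ≤ P) :
    (R.subgroupOf P).map hf.hom = img f R :=
  map_subgroupOf_eq_img (fun _ => rfl) hR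

theorem family_img (hf : IsMap F P f) [Finite P] (hR : R ≤ P) :
    family 0 (img f R) = (fun A : Subgroup P => A.map hf.hom) '' family 0 (R.subgroupOf P) := by
  rw [← map_subgroupOf hf hR, family_map 0 (hom_injective hf)]

theorem family_self [Finite P] (hR : R ≤ P) :
    family 0 R = (fun A : Subgroup P => A.map P.subtype) '' family 0 (R.subgroupOf P) := by
  rw [← family_map 0 P.subtype_injective, Subgroup.map_subgroupOf_eq_of_le hR]

theorem JJ_img (hf : IsMap F P f) [Finite P] (hR : R ≤ P) : JJ (img f R) = img f (JJ R) := by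
  rw [← map_subgroupOf hf (JJ_le.trans hR), JJ, JJ, family_img hf hR, family_self hR, sSup_image,
    sSup_image, ← (Subgroup.gc_map_comap _).l_sSup, ← (Subgroup.gc_map_comap _).l_sSup,
    Subgroup.subgroupOf, Subgroup.subgroupOf, Subgroup.comap_map_eq_self_of_injective P.subtype_injective]

theorem abMax_img (hf : IsMap F P f) [Finite P] (hR : R ≤ P) : abMax (img f R) = abMax R := by
  obtain ⟨A, hA⟩ := family_nonempty 0 (R.subgroupOf P)
  have h1 : A.map hf.hom ∈ family 0 (img f R) := by rw [family_img hf hR]; exact ⟨A, hA, rfl⟩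
  have h2 : A.map P.subtype ∈ family 0 R := by rw [family_self hR]; exact ⟨A, hA, rfl⟩
  rw [abMax_eq h1, abMax_eq h2,
    ← Nat.card_congr (A.equivMapOfInjective _ (hom_injective hf)).toEquiv,
    ← Nat.card_congr (A.equivMapOfInjective _ P.subtype_injective).toEquiv]

/-- The normalizer of `R` in `S` normalizes `J(R)`. -/
theorem mem_normalizer_JJ (F : FusionSystem S) [Finite R] (hR : R ≤ S) {g : Ω} (hg : g ∈ S)
    (hgn : g ∈ Subgroup.normalizer (R : Set Ω)) :
    g ∈ Subgroup.normalizer (JJ R : Set Ω) := by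
  have hm : IsMap F R (cj g) := isMap_cj hR hg
  have : Finite (JJ R) := finite_of_le JJ_le
  refine mem_normalizer_of_forall fun x hx => ?_
  have h1 := mem_img_self (cj g) hx
  rwa [← JJ_img hm le_rfl, img_cj_eq_of_mem_normalizer hgn, cj_apply] at h1

/-- The weight. -/
noncomputable def wt (N : ℕ) (R : Subgroup Ω) : ℕ :=
  open Classical in
  (abMax R * (N + 2) + Nat.card (JJ R)) * (N + 2) + (if JJ R = R then N + 1 else Nat.card R)

theorem wt_img (N : ℕ) (hf : IsMap F P f) [Finite P] (hR : R ≤ P) :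
    wt N (img f R) = wt N R := by
  classical
  have : Finite R := finite_of_le hR
  have hiff : JJ (img f R) = img f R ↔ JJ R = R := by
    rw [JJ_img hf hR]
    refine ⟨fun h => eq_of_le_card JJ_le ?_, fun h => by rw [h]⟩
    rw [← (hf.restrict hR).card_img, ← h, (hf.restrict (JJ_le.trans hR)).card_img]
  rw [wt, wt, if_congr hiff rfl rfl, abMax_img hf hR, JJ_img hf hR,
    (hf.restrict (JJ_le.trans hR)).card_img, (hf.restrict hR).card_img]

theorem wt_le {N : ℕ} [Finite R] (hN : Nat.card R ≤ N) :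
    wt N R ≤ (N * (N + 2) + N) * (N + 2) + (N + 1) := by
  classical
  have h1 : Nat.card (JJ R) ≤ N := (card_le_card JJ_le).trans hN
  have h2 := (abMax_le_card R).trans hN
  refine Nat.add_le_add (Nat.mul_le_mul_right _ (Nat.add_le_add (Nat.mul_le_mul_right _ h2) h1)) ?_
  split_ifs <;> omega

theorem wt_lt {N : ℕ} {R X : Subgroup Ω} [Finite R] [Finite X] (hR : Nat.card R ≤ N)
    (h : abMax R < abMax X ∨ (abMax R = abMax X ∧ (Nat.card (JJ R) < Nat.card (JJ X) ∨
      (Nat.card (JJ R) = Nat.card (JJ X) ∧ JJ R ≠ R ∧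
        (JJ X = X ∨ Nat.card R < Nat.card X))))) : wt N R < wt N X := by
  classical
  have h1 : Nat.card (JJ R) ≤ N := (card_le_card JJ_le).trans hR
  have hc : (if JJ R = R then N + 1 else Nat.card R) < N + 2 := by split_ifs <;> omega
  have key : ∀ a b : ℕ, a < b → ∀ c d : ℕ, c < N + 2 → a * (N + 2) + c < b * (N + 2) + d := by
    intro a b hab c d hcd
    have : (a + 1) * (N + 2) ≤ b * (N + 2) := Nat.mul_le_mul_right _ hab
    rw [add_mul, one_mul] at this
    omega
  unfold wt
  rcases h with h | ⟨he, h | ⟨hj, hne, h⟩⟩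
  · exact key _ _ (key _ _ h _ _ (by omega)) _ _ hc
  · rw [he]
    exact key _ _ (Nat.add_lt_add_left h _) _ _ hc
  · rw [he, hj]
    refine Nat.add_lt_add_left ?_ _
    rw [if_neg hne]
    split_ifs with hX
    · omega
    · exact h.resolve_left hX

end Thompson

end Cfsg.Agent.Fusion.CocycleFix
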