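/-
Using canonical extensions: choosing an element of a coset of a centre that they fix, and the
invariance of their displacements under maps that fix the element.
-/
import Mathlib
import Cfsg.Agent.Lib.Fusion.CanonicalLift
import Cfsg.Agent.Lib.Fusion.CocycleFix

set_option autoImplicit false
set_option linter.all false

namespace Cfsg.Agent.Fusion.CanonicalFix

open Cfsg Cfsg.FusionSystem Cfsg.Agent.Fusion.Basic Cfsg.Agent.Fusion.Saturation
  Cfsg.Agent.Fusion.Subsystems Cfsg.Agent.Fusion.CentralizeNormal Cfsg.Agent.Fusion.CanonicalLift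
  Cfsg.Agent.Fusion.CocycleFix

variable {Ω : Type*} [Group Ω] {S T R : Subgroup Ω} {F : FusionSystem S} {E : FusionSystem T}
  {p : ℕ} {f h m : Ω → Ω} {v x : Ω}

theorem img_zpowers (hf : IsMap F R f) (hx : x ∈ R) :
    img f (Subgroup.zpowers x) = Subgroup.zpowers (f x) := by
  have hle : Subgroup.zpowers x ≤ R := Subgroup.zpowers_le.2 hx
  refine le_antisymm (img_le fun y hy => ?_)
    (Subgroup.zpowers_le.2 (mem_img_self f (Subgroup.mem_zpowers x)))
  obtain ⟨n, rfl⟩ := Subgroup.mem_zpowers_iff.1 hy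
  have h1 : f (x ^ n) = f x ^ n := map_zpow (hf.restrict hle).hom ⟨x, Subgroup.mem_zpowers x⟩ n
  rw [h1]
  exact Subgroup.zpow_mem _ (Subgroup.mem_zpowers _) n

theorem ctr_comm {a b : Ω} (ha : a ∈ ctr R) (hb : b ∈ ctr R) : a * b = b * a := hb.2 a ha.1

theorem Canon.act_mul (K : Canon F E p R) {γ : MulAut R} (hγ : γ ∈ Ep E p R)
    (hv : v ∈ centralizerIn S R) {w : Ω} (hw : w ∈ R) :
    K.act γ (v * w) = K.act γ v * autFun γ w := by
  rw [(K.map γ hγ).map_mul (Subgroup.mem_sup_right hv) (Subgroup.mem_sup_left hw), K.res γ hγ w hw]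

theorem mul_ctr_mem (hRS : R ≤ S) (hv : v ∈ centralizerIn S R) {c : Ω} (hc : c ∈ ctr R) :
    v * c ∈ centralizerIn S R :=
  mul_mem hv ⟨hRS hc.1, hc.2⟩

/-- Displacements of a map fixing `v` are fixed by all of `Ep`. -/
theorem value_fixed [Finite S] (hRS : R ≤ S) (K : Canon F E p R) {γ : MulAut R}
    (hγ : γ ∈ Ep E p R) (hv : v ∈ centralizerIn S R)
    (hh : IsMap F (R ⊔ Subgroup.zpowers v) h) (hm : IsMap F (R ⊔ Subgroup.zpowers v) m)
    (hhR : ∀ r ∈ R, h r = autFun γ r) (hmR : ∀ r ∈ R, m r = autFun γ r) (hmv : m v = v)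
    (he : v⁻¹ * h v ∈ ctr R) :
    ∀ δ ∈ Ep E p R, autFun δ (v⁻¹ * h v) = v⁻¹ * h v := by
  set e := v⁻¹ * h v with hed
  set W := R ⊔ Subgroup.zpowers v with hW
  have hvW : v ∈ W := Subgroup.mem_sup_right (Subgroup.mem_zpowers v)
  have hWfin : Finite W := finite_of_le hh.le
  have hRW : R ≤ W := le_sup_left
  have himgW : img m W = W := by
    refine eq_of_le_card ?_ hm.card_img.ge
    rw [hW, hm.img_sup, img_zpowers hm hvW, hmv]
    refine sup_le_sup_right (img_le fun r hr => ?_) _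
    rw [hmR r hr]
    exact autFun_mem γ hr
  have hhW : ∀ w ∈ W, h w ∈ W := by
    intro w hw
    have h1 : img h W ≤ W := by
      rw [hW, hh.img_sup, img_zpowers hh hvW]
      refine sup_le_sup (img_le fun r hr => ?_) le_rfl |>.trans (sup_le le_sup_left ?_)
      · rw [hhR r hr]; exact autFun_mem γ hr
      · refine Subgroup.zpowers_le.2 ?_
        rw [show h v = v * e from (mul_inv_cancel_left _ _).symm]
        exact mul_mem hvW (hRW he.1)
    exact h1 (mem_img_self h hw)
  obtain ⟨i, hi, -, him, -⟩ := hm.exists_inv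
  rw [himgW] at hi
  have hk : IsMap F W fun w => i (h w) := hi.comp hh hhW
  have hkR : ∀ r ∈ R, i (h r) = r := fun r hr => by
    rw [hhR r hr, ← hmR r hr, him r (hRW hr)]
  set w := autFun γ⁻¹ e with hwd
  have hw : w ∈ ctr R := autFun_ctr he
  have hmw : m (v * w) = v * e := by
    rw [hm.map_mul hvW (hRW hw.1), hmv, hmR _ hw.1, hwd, autFun_apply_inv]
  have hkv : i (h v) = v * w := by
    rw [show h v = v * e from (mul_inv_cancel_left _ _).symm, ← hmw,
      him _ (mul_mem hvW (hRW hw.1))]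
  have hfix : ∀ δ ∈ Ep E p R, autFun δ w = w := by
    intro δ hδ
    have h1 := K.inv δ hδ v _ hv hk hkR
    simp only [hkv, Canon.act_mul K hδ hv hw.1] at h1
    have hz := K.near δ hδ v hv
    have h2 : w⁻¹ * ((v⁻¹ * K.act δ v) * autFun δ w) = v⁻¹ * K.act δ v := by
      conv_rhs => rw [← h1]
      group
    have h3 : (v⁻¹ * K.act δ v) * autFun δ w = (v⁻¹ * K.act δ v) * w := by
      rw [ctr_comm hz hw]
      exact inv_mul_eq_iff_eq_mul.1 h2
    exact mul_left_cancel h3
  intro δ hδ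
  have hew : e = w := by
    conv_lhs => rw [← autFun_apply_inv γ e]
    exact hfix γ hγ
  rw [hew]
  exact hfix δ hδ

section Index

variable [Finite S] [Fact p.Prime]

/-- Automorphisms induced from `T` are among the generators. -/
theorem autInducedBy_le_Ep (hTp : IsPGroup p T) (hRT : R ≤ T) : autInducedBy T R ≤ Ep E p R := by
  intro a ha
  obtain ⟨k, hk⟩ := isPGroup_autInducedBy (P := R) hTp ⟨a, ha⟩
  exact Subgroup.subset_closure ⟨autInducedBy_le hRT ha, k, congrArg Subtype.val hk⟩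

theorem not_dvd_relIndex (hTfin : Finite T) (hTp : IsPGroup p T) (hEsat : E.IsSaturated p)
    (hn : E.IsFullyNormalized R) {B : Subgroup (MulAut R)} (hUB : autInducedBy T R ≤ B)
    (hB : B ≤ E.autGroup R) : ¬ p ∣ (autInducedBy T R).relIndex B := by
  intro h
  refine ((fullyAutomized_iff hTp).1 (fullyNormalized_fullyAutomized hTp hEsat hn)).2 ?_
  rw [← Subgroup.relIndex_mul_relIndex _ _ _ hUB hB]
  exact dvd_mul_of_dvd_left h _

theorem act_induced (hT : F.StronglyClosed T) (hRT : R ≤ T) (hTp : IsPGroup p T) (K : Canon F E p R)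
    (hv : v ∈ centralizerIn S T) : ∀ u ∈ autInducedBy T R, K.act u v = v := by
  intro u hu
  obtain ⟨t, ht, hte⟩ := mem_autInducedBy_iff'.1 hu
  rw [K.inn u (autInducedBy_le_Ep hTp hRT hu) t ht hte v
    ⟨hv.1, Subgroup.centralizer_le hRT hv.2⟩, cj_apply, show t * v = v * t from hv.2 t ht.1,
    mul_inv_cancel_right]

/-- The cocycle of displacements. -/
theorem disp_mul (K : Canon F E p R) (hv : v ∈ centralizerIn S R) {γ δ : MulAut R}
    (hγ : γ ∈ Ep E p R) (hδ : δ ∈ Ep E p R) :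
    v⁻¹ * K.act (γ * δ) v = (v⁻¹ * K.act γ v) * autFun γ (v⁻¹ * K.act δ v) := by
  have hz := K.near δ hδ v hv
  rw [K.comp γ hγ δ hδ v hv]
  conv_lhs => rw [show K.act δ v = v * (v⁻¹ * K.act δ v) from (mul_inv_cancel_left _ _).symm]
  rw [Canon.act_mul K hγ hv hz.1, mul_assoc]

/-- A point of the coset of the centre fixed by a group of canonical extensions. -/
theorem canon_fix (hS : IsPGroup p S) (hRS : R ≤ S) (K : Canon F E p R)
    {U B : Subgroup (MulAut R)} (hB : B ≤ Ep E p R) (hU : ¬ p ∣ U.relIndex B)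
    (hv : v ∈ centralizerIn S R) (hUv : ∀ u ∈ U, K.act u v = v) :
    ∃ c ∈ ctr R, ∀ γ ∈ B, K.act γ (v * c) = v * c := by
  have hRfin : Finite R := finite_of_le hRS
  obtain ⟨c, hc, hce⟩ := exists_fixed (p := p) (ctr R) (fun g : B => autFun (g : MulAut R))
    (fun g : B => v⁻¹ * K.act (g : MulAut R) v) (hS.to_le (inf_le_left.trans hRS))
    (fun x hx y hy => ctr_comm hx hy) (fun g x hx => autFun_ctr hx)
    (fun g x hx y hy => autFun_isHom _ _ hx.1 _ hy.1)
    (fun g => K.near _ (hB g.2) v hv) (fun g k => disp_mul K hv (hB g.2) (hB k.2))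
    (U.subgroupOf B) hU (fun u hu => by
      show v⁻¹ * _ = 1
      rw [hUv _ (Subgroup.mem_subgroupOf.1 hu), inv_mul_cancel])
  refine ⟨c, hc, fun γ hγ => ?_⟩
  rw [Canon.act_mul K (hB hγ) hv hc.1]
  conv_lhs => rw [show K.act γ v = v * (v⁻¹ * K.act γ v) from (mul_inv_cancel_left _ _).symm]
  rw [mul_assoc, hce ⟨γ, hγ⟩]

/-- A group of canonical extensions with fixed displacements fixes the element. -/
theorem canon_triv (hS : IsPGroup p S) (hRS : R ≤ S) (K : Canon F E p R)
    {U B : Subgroup (MulAut R)} (hB : B ≤ Ep E p R) (hU : ¬ p ∣ U.relIndex B)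
    (hv : v ∈ centralizerIn S R) (hUv : ∀ u ∈ U, K.act u v = v)
    (hfix : ∀ γ ∈ B, ∀ δ ∈ B, autFun δ (v⁻¹ * K.act γ v) = v⁻¹ * K.act γ v) :
    ∀ γ ∈ B, K.act γ v = v := by
  have hRfin : Finite R := finite_of_le hRS
  intro γ hγ
  have h1 := eq_one (p := p) (ctr R) (fun g : B => v⁻¹ * K.act (g : MulAut R) v)
    (hS.to_le (inf_le_left.trans hRS)) (fun g => K.near _ (hB g.2) v hv)
    (fun g k => by
      show v⁻¹ * K.act (g * k : MulAut R) v = _
      rw [disp_mul K hv (hB g.2) (hB k.2), hfix _ k.2 _ g.2])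
    (U.subgroupOf B) hU (fun u hu => by
      show v⁻¹ * _ = 1
      rw [hUv _ (Subgroup.mem_subgroupOf.1 hu), inv_mul_cancel]) ⟨γ, hγ⟩
  exact (inv_mul_eq_one.1 h1).symm

end Index

end Cfsg.Agent.Fusion.CanonicalFix
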