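/-
Central products of two fusion systems over subgroups of one group: their maps, and existence.
-/
import Mathlib
import Cfsg.Prelude.Def_FusionComponents
import Cfsg.Agent.Lib.Fusion.Product
import Cfsg.Agent.Lib.Fusion.FactorExists

set_option autoImplicit false
set_option linter.all false

namespace Cfsg.Agent.Fusion.CentralProduct

open scoped commutatorElement
open Cfsg Cfsg.FusionSystem Cfsg.Agent.Fusion.Basic Cfsg.Agent.Fusion.Saturation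
  Cfsg.Agent.Fusion.Normal Cfsg.Agent.Fusion.Factor Cfsg.Agent.Fusion.Product

variable {Ω : Type*} [Group Ω] {T T₁ T₂ P Q : Subgroup Ω} {E₁ : FusionSystem T₁}
  {E₂ : FusionSystem T₂} {D : FusionSystem T} {f : Ω → Ω}

/-- The projection to `A` of a subgroup of `A B`. -/
def proj (A B P : Subgroup Ω) : Subgroup Ω := (P ⊔ B) ⊓ A

theorem proj_le {A B P : Subgroup Ω} : proj A B P ≤ A := inf_le_right

theorem inf_le_proj {A B P : Subgroup Ω} : P ⊓ A ≤ proj A B P := fun _ hx =>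
  ⟨Subgroup.mem_sup_left hx.1, hx.2⟩

theorem proj_mono {A B : Subgroup Ω} (h : P ≤ Q) : proj A B P ≤ proj A B Q :=
  inf_le_inf_right _ (sup_le_sup_right h B)

/-- The elements of `A` and `B` commute. -/
def Comm (A B : Subgroup Ω) : Prop := ∀ a ∈ A, ∀ b ∈ B, a * b = b * a

theorem comm_of_commutator (h : ⁅T₁, T₂⁆ = ⊥) : Comm T₁ T₂ := fun a ha b hb => by
  have h1 : ⁅a, b⁆ ∈ (⊥ : Subgroup Ω) := h ▸ Subgroup.commutator_mem_commutator ha hb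
  exact commutatorElement_eq_one_iff_mul_comm.1 (Subgroup.mem_bot.1 h1)

theorem Comm.symm (h : Comm T₁ T₂) : Comm T₂ T₁ := fun a ha b hb => (h b hb a ha).symm

theorem Comm.sup_normalizer (h : Comm T₁ T₂) :
    T₁ ⊔ T₂ ≤ Subgroup.normalizer (T₂ : Set Ω) :=
  sup_le (fun a ha => Subgroup.centralizer_le_normalizer _ fun b hb => (h a ha b hb).symm)
    Subgroup.le_normalizer

theorem Comm.exists_mul (h : Comm T₁ T₂) {z : Ω} (hz : z ∈ T₁ ⊔ T₂) :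
    ∃ x ∈ T₁, ∃ y ∈ T₂, x * y = z :=
  coe_sup_of_normal (S := T₁ ⊔ T₂) h.sup_normalizer le_sup_left hz

theorem Comm.mul_mul (h : Comm T₁ T₂) {a b c d : Ω} (hb : b ∈ T₂) (hc : c ∈ T₁) :
    a * b * (c * d) = a * c * (b * d) := by
  rw [mul_assoc, ← mul_assoc b, ← h c hc b hb, mul_assoc, ← mul_assoc a]

theorem Comm.mem_proj (h : Comm T₁ T₂) (hP : P ≤ T₁ ⊔ T₂) {x : Ω} :
    x ∈ proj T₁ T₂ P ↔ x ∈ T₁ ∧ ∃ y ∈ T₂, x * y ∈ P := by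
  constructor
  · rintro ⟨hx, hx₁⟩
    obtain ⟨z, hz, y, hy, rfl⟩ :=
      coe_sup_of_normal (S := T₁ ⊔ T₂) h.sup_normalizer hP hx
    exact ⟨hx₁, y⁻¹, T₂.inv_mem hy, by rwa [mul_inv_cancel_right]⟩
  · rintro ⟨hx₁, y, hy, hz⟩
    refine ⟨?_, hx₁⟩
    rw [← mul_inv_cancel_right x y]
    exact Subgroup.mul_mem _ (Subgroup.mem_sup_left hz) (Subgroup.mem_sup_right (T₂.inv_mem hy))

theorem Comm.mem_proj' (h : Comm T₁ T₂) (hP : P ≤ T₁ ⊔ T₂) {y : Ω} :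
    y ∈ proj T₂ T₁ P ↔ y ∈ T₂ ∧ ∃ x ∈ T₁, x * y ∈ P := by
  rw [h.symm.mem_proj (sup_comm T₁ T₂ ▸ hP)]
  exact and_congr_right fun hy =>
    exists_congr fun x => and_congr_right fun hx => by rw [h x hx y hy]

/-- The maps of a central product: a pair of maps of the factors. -/
def CMap (E₁ : FusionSystem T₁) (E₂ : FusionSystem T₂) (P : Subgroup Ω) (f : Ω → Ω) : Prop :=
  P ≤ T₁ ⊔ T₂ ∧ ∃ f₁ f₂, IsMap E₁ (proj T₁ T₂ P) f₁ ∧ IsMap E₂ (proj T₂ T₁ P) f₂ ∧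
    ∀ x ∈ T₁, ∀ y ∈ T₂, x * y ∈ P → f (x * y) = f₁ x * f₂ y

section ofProduct

variable (hc : IsCentralProductOf E₁ E₂ D)
include hc

theorem comm_and_sup : Comm T₁ T₂ ∧ T = T₁ ⊔ T₂ := by
  obtain ⟨D₀, -, Z, θ, -, -, -, h₁, h₂, -, -, hr, -⟩ := hc
  have hθ : ∀ x (hx : x ∈ T₁) y (hy : y ∈ T₂),
      θ ⟨(x, y), hx, hy⟩ = x * y := by
    intro x hx y hy
    have e : (⟨(x, y), hx, hy⟩ : T₁.prod T₂) =
        ⟨(x, 1), hx, T₂.one_mem⟩ * ⟨(1, y), T₁.one_mem, hy⟩ := Subtype.ext (by simp)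
    rw [e, map_mul]
    exact congrArg₂ (· * ·) (h₁ x _) (h₂ y _)
  refine ⟨fun x hx y hy => ?_, le_antisymm ?_ (sup_le ?_ ?_)⟩
  · have e : (⟨(x, 1), hx, T₂.one_mem⟩ : T₁.prod T₂) * ⟨(1, y), T₁.one_mem, hy⟩ =
        ⟨(1, y), T₁.one_mem, hy⟩ * ⟨(x, 1), hx, T₂.one_mem⟩ := Subtype.ext (by simp)
    have := congrArg θ e
    rw [map_mul, map_mul] at this
    exact ((congrArg₂ (· * ·) (h₁ x _) (h₂ y _)).symm.trans this).trans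
      (congrArg₂ (· * ·) (h₂ y _) (h₁ x _))
  · rw [← hr]
    rintro _ ⟨⟨⟨x, y⟩, hx, hy⟩, rfl⟩
    rw [hθ x hx y hy]
    exact Subgroup.mul_mem_sup hx hy
  · intro x hx
    rw [← hr]
    exact ⟨⟨(x, 1), hx, T₂.one_mem⟩, h₁ x _⟩
  · intro y hy
    rw [← hr]
    exact ⟨⟨(1, y), T₁.one_mem, hy⟩, h₂ y _⟩

theorem isMap_iff [Finite T₁] [Finite T₂] : IsMap D P f ↔ CMap E₁ E₂ P f := by
  obtain ⟨hcomm, hT⟩ := comm_and_sup hc
  obtain ⟨D₀, hD₀, Z, θ, hZ, -, -, h₁, h₂, hfac⟩ := hc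
  have hfin := finite_prod T₁ T₂
  have hZc : D₀.IsCentral Z := by
    obtain ⟨-, hext⟩ := (isCentral_iff (F := D₀)).1 center_isCentral
    refine isCentral_iff.2 ⟨hfac.1, fun R g hg => ?_⟩
    obtain ⟨k, hk, hke, hkZ⟩ := hext R g hg
    exact ⟨k, hk.restrict (sup_le_sup_left hZ R), hke, fun q hq => hkZ q (hZ hq)⟩
  have hq := isQuot_of_factorSystem (normal_stronglyClosed (central_normal hZc)) hfac
  have hθ : ∀ x ∈ T₁, ∀ y ∈ T₂, along θ (x, y) = x * y := by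
    intro x hx y hy
    rw [along_of_mem θ (show ((x, y) : Ω × Ω) ∈ T₁.prod T₂ from ⟨hx, hy⟩),
      show (⟨(x, y), hx, hy⟩ : T₁.prod T₂) =
        ⟨(x, 1), hx, T₂.one_mem⟩ * ⟨(1, y), T₁.one_mem, hy⟩ from Subtype.ext (by simp),
      map_mul]
    exact congrArg₂ (· * ·) (h₁ x _) (h₂ y _)
  have hpre : ∀ {z : Ω × Ω}, z ∈ preimageAlong θ P ↔ z.1 ∈ T₁ ∧ z.2 ∈ T₂ ∧ z.1 * z.2 ∈ P := by
    intro z
    rw [mem_preimageAlong]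
    exact ⟨fun ⟨hz, hP⟩ => ⟨hz.1, hz.2, (hθ z.1 hz.1 z.2 hz.2) ▸ hP⟩,
      fun ⟨hx, hy, hP⟩ => ⟨⟨hx, hy⟩, (hθ z.1 hx z.2 hy).symm ▸ hP⟩⟩
  have hfst : P ≤ T₁ ⊔ T₂ → fstOf (preimageAlong θ P) = proj T₁ T₂ P := fun hP => by
    ext x
    rw [hcomm.mem_proj hP]
    exact ⟨fun ⟨z, hz, he⟩ => he ▸ ⟨(hpre.1 hz).1, z.2, (hpre.1 hz).2⟩,
      fun ⟨hx, y, hy, hxy⟩ => ⟨(x, y), hpre.2 ⟨hx, hy, hxy⟩, rfl⟩⟩
  have hsnd : P ≤ T₁ ⊔ T₂ → sndOf (preimageAlong θ P) = proj T₂ T₁ P := fun hP => by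
    ext y
    rw [hcomm.mem_proj' hP]
    exact ⟨fun ⟨z, hz, he⟩ => he ▸ ⟨(hpre.1 hz).2.1, z.1, (hpre.1 hz).1, (hpre.1 hz).2.2⟩,
      fun ⟨hy, x, hx, hxy⟩ => ⟨(x, y), hpre.2 ⟨hx, hy, hxy⟩, rfl⟩⟩
  constructor
  · intro hf
    have hP : P ≤ T₁ ⊔ T₂ := hT ▸ hf.le
    obtain ⟨g, hg, hge⟩ := hq.lift P f hf
    obtain ⟨-, f₁, f₂, hf₁, hf₂, he⟩ := (isMap_prod_iff hD₀).1 hg
    rw [hfst hP] at hf₁
    rw [hsnd hP] at hf₂
    refine ⟨hP, f₁, f₂, hf₁, hf₂, fun x hx y hy hxy => ?_⟩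
    have h := hge (x, y) (hpre.2 ⟨hx, hy, hxy⟩)
    rw [hθ x hx y hy, he _ (hpre.2 ⟨hx, hy, hxy⟩)] at h
    rw [h, hθ _ (hf₁.mem ((hcomm.mem_proj hP).2 ⟨hx, y, hy, hxy⟩)) _
      (hf₂.mem ((hcomm.mem_proj' hP).2 ⟨hy, x, hx, hxy⟩))]
  · rintro ⟨hP, f₁, f₂, hf₁, hf₂, he⟩
    have hg : IsMap D₀ (preimageAlong θ P) fun z => (f₁ z.1, f₂ z.2) :=
      (isMap_prod_iff hD₀).2 ⟨preimageAlong_le _, f₁, f₂, (hfst hP).symm ▸ hf₁,
        (hsnd hP).symm ▸ hf₂, fun _ _ => rfl⟩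
    obtain ⟨f', hf', hf'e⟩ := hq.descend P _ (hT.symm ▸ hP) hg
    refine hf'.congr fun z hz => ?_
    obtain ⟨x, hx, y, hy, rfl⟩ := hcomm.exists_mul (hP hz)
    have h := hf'e (x, y) (hpre.2 ⟨hx, hy, hz⟩)
    rw [hθ x hx y hy] at h
    rw [h, he x hx y hy hz]
    exact hθ _ (hf₁.mem ((hcomm.mem_proj hP).2 ⟨hx, y, hy, hz⟩)) _
      (hf₂.mem ((hcomm.mem_proj' hP).2 ⟨hy, x, hx, hz⟩))

end ofProduct

/-- Two central products of the same systems have the same maps. -/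
theorem hom_eq [Finite T₁] [Finite T₂] {T' : Subgroup Ω} {D' : FusionSystem T'}
    (hc : IsCentralProductOf E₁ E₂ D) (hc' : IsCentralProductOf E₁ E₂ D') (P : Subgroup Ω) :
    D.Hom P = D'.Hom P := by
  refine Set.Subset.antisymm (subset_of_isMap fun f hf => ?_) (subset_of_isMap fun f hf => ?_)
  · exact (isMap_iff hc').2 ((isMap_iff hc).1 hf)
  · exact (isMap_iff hc).2 ((isMap_iff hc').1 hf)

/-- The central product exists and is saturated when `T₁ ∩ T₂` is central in both. -/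
theorem exists_product [Finite T₁] [Finite T₂] {p : ℕ} [Fact p.Prime] (h₁ : IsPGroup p T₁)
    (h₂ : IsPGroup p T₂) (hE₁ : E₁.IsSaturated p) (hE₂ : E₂.IsSaturated p) (hcomm : Comm T₁ T₂)
    (hc₁ : T₁ ⊓ T₂ ≤ E₁.center) (hc₂ : T₁ ⊓ T₂ ≤ E₂.center) :
    ∃ D : FusionSystem (T₁ ⊔ T₂), IsCentralProductOf E₁ E₂ D ∧ D.IsSaturated p := by
  let θ : ↥(T₁.prod T₂) →* Ω := MonoidHom.mk' (fun z => z.1.1 * z.1.2) fun a b => by
    simpa using (hcomm.mul_mul a.2.2 b.2.1).symm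
  have hfin := finite_prod T₁ T₂
  set D₀ := prodSystem E₁ E₂ with hD₀def
  have hD₀ : IsProductSystem E₁ E₂ D₀ := isProductSystem_prodSystem E₁ E₂
  set Z : Subgroup (Ω × Ω) := θ.ker.map (T₁.prod T₂).subtype with hZdef
  have hk : ∀ s : T₁.prod T₂, θ s = 1 ↔ (s : Ω × Ω) ∈ Z := fun s =>
    ⟨fun h => ⟨s, h, rfl⟩, fun ⟨u, hu, he⟩ => by rw [← Subtype.ext (a1 := u) (a2 := s) he]; exact hu⟩
  have hmem : ∀ {z : Ω × Ω}, z ∈ Z → z.1 ∈ T₁ ⊓ T₂ ∧ z.2 ∈ T₁ ⊓ T₂ := by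
    rintro _ ⟨⟨⟨x, y⟩, hx, hy⟩, hu, rfl⟩
    have e : x * y = 1 := hu
    refine ⟨⟨hx, ?_⟩, ⟨?_, hy⟩⟩
    · show x ∈ T₂
      rw [eq_inv_of_mul_eq_one_left e]; exact T₂.inv_mem hy
    · show y ∈ T₁
      rw [eq_inv_of_mul_eq_one_right e]; exact T₁.inv_mem hx
  have hZS : Z ≤ T₁.prod T₂ := Subgroup.map_subtype_le _
  have hZc : D₀.IsCentral Z := by
    refine isCentral_iff.2 ⟨hZS, fun R g hg => ?_⟩
    obtain ⟨hR, g₁, g₂, hg₁, hg₂, hge⟩ := (isMap_prod_iff hD₀).1 hg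
    obtain ⟨k₁, hk₁, hk₁e, hk₁V⟩ := (isCentral_iff.1 center_isCentral).2 _ g₁ hg₁
    obtain ⟨k₂, hk₂, hk₂e, hk₂V⟩ := (isCentral_iff.1 center_isCentral).2 _ g₂ hg₂
    have hf : fstOf (R ⊔ Z) ≤ fstOf R ⊔ E₁.center := by
      rw [fstOf, Subgroup.map_sup]
      exact sup_le_sup_left (by rintro _ ⟨z, hz, rfl⟩; exact hc₁ (hmem hz).1) _
    have hs : sndOf (R ⊔ Z) ≤ sndOf R ⊔ E₂.center := by
      rw [sndOf, Subgroup.map_sup]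
      exact sup_le_sup_left (by rintro _ ⟨z, hz, rfl⟩; exact hc₂ (hmem hz).2) _
    refine ⟨fun z => (k₁ z.1, k₂ z.2), (isMap_prod_iff hD₀).2 ⟨sup_le hR hZS, k₁, k₂,
      hk₁.restrict hf, hk₂.restrict hs, fun _ _ => rfl⟩, fun z hz => ?_, fun z hz => ?_⟩
    · show (k₁ z.1, k₂ z.2) = g z
      rw [hge z hz, hk₁e _ (mem_fstOf hz), hk₂e _ (mem_sndOf hz)]
    · exact Prod.ext (hk₁V _ (hc₁ (hmem hz).1)) (hk₂V _ (hc₂ (hmem hz).2))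
  have hr : θ.range = T₁ ⊔ T₂ := by
    refine le_antisymm ?_ (sup_le (fun x hx => ⟨⟨(x, 1), hx, T₂.one_mem⟩, mul_one x⟩)
      fun y hy => ⟨⟨(1, y), T₁.one_mem, hy⟩, one_mul y⟩)
    rintro _ ⟨⟨⟨x, y⟩, hx, hy⟩, rfl⟩
    exact Subgroup.mul_mem_sup hx hy
  obtain ⟨D, hD⟩ := FactorExists.exists_factorSystem
    (normal_stronglyClosed (central_normal hZc)) hk hr
  refine ⟨D, ⟨D₀, hD₀, Z, θ, le_center hZc, ?_, ?_, fun x _ => mul_one x, fun y _ => one_mul y,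
    hD⟩, (isQuot_of_factorSystem (normal_stronglyClosed (central_normal hZc)) hD).saturated
      (isPGroup_prod h₁ h₂) (saturated_prod h₁ h₂ hE₁ hE₂ hD₀)⟩
  · refine (Subgroup.eq_bot_iff_forall _).2 ?_
    rintro _ ⟨⟨⟨⟨x, y⟩, hx, hy⟩, hu, rfl⟩, -, h2⟩
    have e : x * y = 1 := hu
    have e2 : y = 1 := Subgroup.mem_bot.1 h2
    rw [e2, mul_one] at e
    exact Prod.ext e e2
  · refine (Subgroup.eq_bot_iff_forall _).2 ?_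
    rintro _ ⟨⟨⟨⟨x, y⟩, hx, hy⟩, hu, rfl⟩, h1, -⟩
    have e : x * y = 1 := hu
    have e1 : x = 1 := Subgroup.mem_bot.1 h1
    rw [e1, one_mul] at e
    exact Prod.ext e1 e

end Cfsg.Agent.Fusion.CentralProduct
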