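/-
For `E` normal in `F` on `T` and `p` odd every coset of `Z(T)` in `C_S(T)` contains an element fixed
by extensions of all maps of `E`: descending induction along the weight of Thompson subgroups, using
canonical extensions and the control of central elements by `J` in models.
-/
import Mathlib
import Cfsg.Agent.Lib.Fusion.CanonicalFix
import Cfsg.Agent.Lib.Fusion.LocalModels
import Cfsg.Agent.Lib.Fusion.NormalizerModel
import Cfsg.Agent.Lib.CharP.WeakClosureJ

set_option autoImplicit false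
set_option linter.all false

namespace Cfsg.Agent.Fusion.CentralizeNormalOdd

open Cfsg Cfsg.FusionSystem Cfsg.Agent.Fusion.Basic Cfsg.Agent.Fusion.Saturation
  Cfsg.Agent.Fusion.Normal Cfsg.Agent.Fusion.Subsystems Cfsg.Agent.Fusion.CentralizeNormal
  Cfsg.Agent.Fusion.CanonicalLift Cfsg.Agent.Fusion.CanonicalFix Cfsg.Agent.Fusion.CocycleFix

universe u

variable {Ω : Type u} [Group Ω] {S T R P : Subgroup Ω} {F : FusionSystem S} {E : FusionSystem T}
  {p : ℕ} {f : Ω → Ω} {v : Ω}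

section Basics

/-- Overgroups. -/
theorem cen_mono (hR : Cen F T R) (hRP : R ≤ P) (hPT : P ≤ T) : Cen F T P := by
  refine ⟨hPT, fun P' hP' => ?_⟩
  obtain ⟨f, hf, rfl⟩ := isConj_iff_map.1 hP'
  have hfR := hf.restrict hRP
  exact fun u hu => (img_mono f hRP) (hR.2 _ hfR.isConj
    ⟨hu.1, Subgroup.centralizer_le (img_mono f hRP) hu.2⟩)

theorem map_subsys (hinv : E.IsInvariantIn F) {f : Ω → Ω} (hf : IsMap E P f) : IsMap F P f :=
  isMap_of_subset hinv.1 hf

theorem cen_conj (hinv : E.IsInvariantIn F) (hR : Cen F T R) (hf : IsMap E R f) :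
    Cen F T (img f R) :=
  ⟨hf.img_le_S, fun Q hQ => hR.2 Q (isConj_trans (map_subsys hinv hf).isConj hQ)⟩

/-- Centralizers of `F`-conjugates from those of `E`-conjugates. -/
theorem cen_of_E (hinv : E.IsInvariantIn F) (hRT : R ≤ T)
    (h : ∀ R', E.IsConj R R' → centralizerIn T R' ≤ R') : Cen F T R := by
  refine ⟨hRT, fun R' hR' => ?_⟩
  obtain ⟨f, hf, rfl⟩ := isConj_iff_map.1 hR'
  obtain ⟨α, hα, f₀, hf₀, he'⟩ := invariant_frattini hinv hRT hf
  rintro u ⟨huT, huC⟩
  have hu' : autFun α⁻¹ u ∈ img f₀ R := by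
    refine h _ hf₀.isConj ⟨autFun_mem _ huT, fun r hr => ?_⟩
    obtain ⟨r₀, hr₀, rfl⟩ := hf₀.mem_img.1 hr
    have h1 : f r₀ * u = u * f r₀ := huC _ (mem_img_self f hr₀)
    have hfT : f r₀ ∈ T := by rw [he' r₀ hr₀]; exact autFun_mem α (hf₀.mem hr₀)
    have h2 := congrArg (autFun α⁻¹) h1
    rwa [autFun_isHom α⁻¹ _ hfT _ huT, autFun_isHom α⁻¹ _ huT _ hfT, he' r₀ hr₀,
      autFun_inv_apply] at h2
  obtain ⟨r₀, hr₀, hr₀e⟩ := hf₀.mem_img.1 hu'
  have : u = f r₀ := by rw [he' r₀ hr₀, hr₀e, autFun_apply_inv]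
  rw [this]
  exact mem_img_self f hr₀

theorem fixes_of_mem {hsub : E.IsSubsystemOf F} {hy : v ∈ centralizerIn S T}
    (h : IsMap (fixSys F E hsub hy) R f) : Fixes F v R f := by
  obtain ⟨g, hg, hgP, hgy⟩ := h.hom_mem_self.2
  exact ⟨g, hg, fun x hx => by rw [hgP x hx, ext_of_mem _ hx]; rfl, hgy⟩

theorem mem_of_fixes {hsub : E.IsSubsystemOf F} {hy : v ∈ centralizerIn S T}
    (hf : IsMap E R f) (h : Fixes F v R f) : IsMap (fixSys F E hsub hy) R f := by
  obtain ⟨g, hg, hgP, hgy⟩ := h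
  exact ⟨hf.hom, ⟨hf.hom_mem_self, g, hg, fun x hx => by rw [hgP x hx, ext_of_mem _ hx]; rfl, hgy⟩,
    fun _ => rfl⟩

variable [Finite S] [Fact p.Prime]

theorem img_T (hT : F.StronglyClosed T) (hf : IsMap E T f) : img f T = T := by
  have hTfin : Finite T := finite_of_le hT.1
  exact eq_of_le_card hf.img_le_S hf.card_img.ge

/-- The group `J(T)` is self-centralizing and fixed by all maps. -/
theorem cen_JT (hinv : E.IsInvariantIn F) : Cen F T (JJ T) := by
  have hT : F.StronglyClosed T := hinv.2.1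
  have hTfin : Finite T := finite_of_le hT.1
  refine cen_of_E hinv JJ_le fun R' hR' => ?_
  obtain ⟨f, hf, rfl⟩ := isConj_iff_map.1 hR'
  have hJfin : Finite (JJ T) := finite_of_le JJ_le
  have hle : img f (JJ T) ≤ T := hf.img_le_S
  have hab : abMax (img f (JJ T)) = abMax T := by
    rw [abMax_img hf le_rfl]
    exact (eq_of_le JJ_le le_rfl).1
  have heq : img f (JJ T) = JJ T := by
    refine eq_of_le_card ?_ hf.card_img.ge
    calc img f (JJ T) = img f (JJ (JJ T)) := by rw [(eq_of_le JJ_le le_rfl).2]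
      _ = JJ (img f (JJ T)) := (JJ_img hf le_rfl).symm
      _ ≤ JJ T := JJ_mono hle hab
  rw [heq]
  exact fun u hu => mem_JJ hu.1 hu.2

/-- `J(R)` is self-centralizing when it is the `J` of the normalizer of `R`. -/
theorem cen_JR (hS : IsPGroup p S) (hinv : E.IsInvariantIn F) (hEsat : E.IsSaturated p)
    (hR : Cen F T R) (hn : E.IsFullyNormalized R) (hJ : JJ (normalizerIn T R) = JJ R) :
    Cen F T (JJ R) := by
  have hT : F.StronglyClosed T := hinv.2.1
  have hTfin : Finite T := finite_of_le hT.1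
  have hTp := hS.to_le hT.1
  have hRT := hR.1
  have hRfin : Finite R := finite_of_le hRT
  set J := JJ R with hJd
  have hJT : J ≤ T := JJ_le.trans hRT
  have hN0 : ∀ {X : Subgroup Ω}, X ≤ T → X ≤ Subgroup.normalizer (J : Set Ω) →
      X ≤ normalizerIn T J := fun h1 h2 => le_inf h1 h2
  have hRN : R ≤ normalizerIn T J := hN0 hRT fun r hr =>
    mem_normalizer_JJ E hRT (hRT hr) (Subgroup.le_normalizer hr)
  have hPN : normalizerIn T R ≤ normalizerIn T J := hN0 normalizerIn_le fun g hg =>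
    mem_normalizer_JJ E hRT hg.1 hg.2
  obtain ⟨J', hJJ', hJn⟩ := exists_fullyNormalized (F := E) hJT
  obtain ⟨g, hg, hgJ⟩ := exists_map_to_fullyNormalized hTp hEsat hJn hJJ'
  have hgR := hg.restrict hRN
  have hgP := hg.restrict hPN
  have hX : Cen F T (img g R) := cen_conj hinv hR hgR
  set X := img g R with hXd
  have hPfin : Finite (normalizerIn T R) := finite_of_le normalizerIn_le
  have hPX : img g (normalizerIn T R) = normalizerIn T X := by
    have hle : img g (normalizerIn T R) ≤ normalizerIn T X := img_le fun t ht =>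
      ⟨hgP.mem ht, hgP.mem_normalizer_img (le_normalizerIn hRT) ht ht.2⟩
    have : Finite (normalizerIn T X) := finite_of_le normalizerIn_le
    refine eq_of_le_card hle ?_
    rw [hgP.card_img]
    exact hn.2 X hgR.isConj
  have hJX : JJ (normalizerIn T X) = J' := by
    rw [← hPX, JJ_img hgP le_rfl, hJ, hgJ]
  have hJ'X : J' ≤ X := by
    rw [← hgJ]; exact img_mono g JJ_le
  have hC : centralizerIn T J' ≤ J' := by
    have h1 : centralizerIn T J' ⊓ normalizerIn T X ≤ J' := by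
      intro u hu
      have : Finite (normalizerIn T X) := finite_of_le normalizerIn_le
      rw [← hJX]
      exact mem_JJ (R := normalizerIn T X) hu.2 fun x hx => hu.1.2 x (hJX ▸ hx)
    have hXT : X ≤ T := hX.1
    have hXC : centralizerIn T J' ≤ X := by
      by_contra hne
      set K := X ⊔ centralizerIn T J' with hK
      have hKT : K ≤ T := sup_le hXT inf_le_left
      have hKfin : Finite K := finite_of_le hKT
      have hlt : X < K := lt_of_le_of_ne le_sup_left fun h => hne (h ▸ le_sup_right)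
      obtain ⟨w, hw, hwX⟩ := SetLike.exists_of_lt (lt_normalizerIn (hTp.to_le hKT) hlt)
      have hnorm : X ≤ Subgroup.normalizer (centralizerIn T J' : Set Ω) := by
        intro x hx
        have : Finite (centralizerIn T J') := finite_of_le inf_le_left
        have hxJ : x ∈ Subgroup.normalizer (J' : Set Ω) := by
          rw [← hgJ]
          obtain ⟨r, hr, rfl⟩ := hgR.mem_img.1 hx
          exact hg.mem_normalizer_img (le_normalizerIn hJT) (hRN hr) (hRN hr).2
        refine mem_normalizer_of_forall fun c hc => ⟨mul_mem (mul_mem (hXT hx) hc.1)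
          (Subgroup.inv_mem _ (hXT hx)), fun j hj => ?_⟩
        have h2 : x⁻¹ * j * x ∈ J' :=
          (Subgroup.mem_normalizer_iff'.1 hxJ _).2 (by simpa [mul_assoc] using hj)
        have h3 : x⁻¹ * j * x * c = c * (x⁻¹ * j * x) := hc.2 _ h2
        calc j * (x * c * x⁻¹) = x * (x⁻¹ * j * x * c) * x⁻¹ := by group
          _ = x * (c * (x⁻¹ * j * x)) * x⁻¹ := by rw [h3]
          _ = x * c * x⁻¹ * j := by group
      have hwK : w ∈ ((X ⊔ centralizerIn T J' : Subgroup Ω) : Set Ω) := hw.1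
      rw [Subgroup.coe_mul_of_left_le_normalizer_right _ _ hnorm] at hwK
      obtain ⟨x, hx, c, hc, rfl⟩ := hwK
      have hcN : c ∈ Subgroup.normalizer (X : Set Ω) := by
        have := mul_mem (Subgroup.inv_mem _ (Subgroup.le_normalizer hx)) hw.2
        simpa using this
      exact hwX (mul_mem hx (hJ'X (h1 ⟨hc, hc.1, hcN⟩)))
    exact fun u hu => h1 ⟨hu, hu.1, Subgroup.le_normalizer (hXC hu)⟩
  refine cen_of_E hinv hJT fun J1 hJ1 => ?_
  obtain ⟨g₁, hg₁, hg₁J⟩ := exists_map_to_fullyNormalized hTp hEsat hJn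
    (isConj_trans (isConj_symm hJ1) hJJ')
  intro u hu
  have hJ1T : J1 ≤ T := (isConj_le hJ1).2
  have hJ1N : J1 ≤ normalizerIn T J1 := le_normalizerIn hJ1T
  have huN : u ∈ normalizerIn T J1 := centralizerIn_le_normalizerIn hu
  have h1 : g₁ u ∈ centralizerIn T (img g₁ J1) :=
    hg₁.img_centralizerIn_le hJ1N centralizerIn_le_normalizerIn (mem_img_self g₁ hu)
  rw [hg₁J] at h1
  obtain ⟨j, hj, hje⟩ := (hg₁.restrict hJ1N).mem_img.1 (hg₁J ▸ hC h1)
  rwa [hg₁.inj (hJ1N hj) huN hje] at hj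

/-- Restrictions of elements of `Ep R` to `J(R)`. -/
theorem exists_res_Ep (hRT : R ≤ T) [Finite R] {γ : MulAut R} (hγ : γ ∈ Ep E p R) :
    ∃ δ ∈ Ep E p (JJ R), ∀ x ∈ JJ R, autFun δ x = autFun γ x := by
  have hJfin : Finite (JJ R) := finite_of_le JJ_le
  induction hγ using Subgroup.closure_induction with
  | mem a ha =>
    have hm := isMap_of_mem_autGroup hRT ha.1
    have himg : img (autFun a) (JJ R) = JJ R := by rw [← JJ_img hm le_rfl, autFun_img]
    obtain ⟨δ, hδ, hδe⟩ := (hm.restrict JJ_le).exists_aut himg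
    obtain ⟨k, hk⟩ := ha.2
    refine ⟨δ, Subgroup.subset_closure ⟨hδ, k, ?_⟩, hδe⟩
    have hpow : ∀ j : ℕ, ∀ x ∈ JJ R, autFun (δ ^ j) x = autFun (a ^ j) x := by
      intro j
      induction j with
      | zero => intro x _; rw [pow_zero, pow_zero, autFun_one, autFun_one]
      | succ j ih =>
        intro x hx
        rw [pow_succ, pow_succ, autFun_mul, autFun_mul, ih _ (autFun_mem _ hx), hδe x hx]
    refine autFun_ext fun x hx => ?_
    rw [hpow _ x hx, hk, autFun_one, autFun_one]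
  | one => exact ⟨1, one_mem _, fun x _ => by rw [autFun_one, autFun_one]⟩
  | mul a b _ _ ha hb =>
    obtain ⟨δa, hδa, ha⟩ := ha
    obtain ⟨δb, hδb, hb⟩ := hb
    refine ⟨δa * δb, mul_mem hδa hδb, fun x hx => ?_⟩
    rw [autFun_mul, autFun_mul, hb x hx, ha _ (hb x hx ▸ autFun_mem δb hx)]
  | inv a _ ha =>
    obtain ⟨δ, hδ, ha⟩ := ha
    refine ⟨δ⁻¹, Subgroup.inv_mem _ hδ, fun x hx => ?_⟩
    have h1 := ha _ (autFun_mem δ⁻¹ hx)
    rw [autFun_apply_inv] at h1
    conv_rhs => rw [h1]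
    rw [autFun_inv_apply]

/-- `Ep` is invariant under `Aut_E`. -/
theorem conj_mem_Ep {β α : MulAut R} (hβ : β ∈ E.autGroup R) (hα : α ∈ Ep E p R) :
    β⁻¹ * α * β ∈ Ep E p R := by
  induction hα using Subgroup.closure_induction with
  | mem a ha =>
    obtain ⟨k, hk⟩ := ha.2
    refine Subgroup.subset_closure
      ⟨mul_mem (mul_mem (Subgroup.inv_mem _ hβ) ha.1) hβ, k, ?_⟩
    have h1 := conj_pow (a := β⁻¹) (b := a) (i := p ^ k)
    rw [inv_inv] at h1
    rw [h1, hk, mul_one, inv_mul_cancel]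
  | one => simp [one_mem]
  | mul a b _ _ ha hb =>
    have : β⁻¹ * (a * b) * β = (β⁻¹ * a * β) * (β⁻¹ * b * β) := by group
    rw [this]; exact mul_mem ha hb
  | inv a _ ha =>
    have : β⁻¹ * a⁻¹ * β = (β⁻¹ * a * β)⁻¹ := by group
    rw [this]; exact Subgroup.inv_mem _ ha

/-- Automorphisms normalizing `Aut_D(R)` extend to `D`. -/
theorem exists_ext_D (hTp : IsPGroup p T) [Finite T] (hEsat : E.IsSaturated p) (hRT : R ≤ T)
    (hn : E.IsFullyNormalized R) {D : Subgroup Ω} (hD : D ≤ normalizerIn T R) {γ : MulAut R}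
    (hγ : γ ∈ E.autGroup R)
    (hγN : γ ∈ Subgroup.normalizer (autInducedBy D R : Set (MulAut R))) :
    ∃ g, IsMap E D g ∧ ∀ x ∈ R, g x = autFun γ x := by
  have hm := isMap_of_mem_autGroup hRT hγ
  have hsub : D ≤ nSub T R (autFun γ) := by
    intro d hd
    have hdA : conjAut D R ⟨d, hd, (hD hd).2⟩ ∈ autInducedBy D R := conjAut_range D R ▸ ⟨_, rfl⟩
    obtain ⟨u, hu, hue⟩ := mem_autInducedBy_iff'.1 ((Subgroup.mem_normalizer_iff.1 hγN _).1 hdA)
    refine ⟨(hD hd).1, (hD hd).2, u, (hD hu.1).1, fun x hx => ?_⟩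
    have h2 := hue _ (autFun_mem γ hx)
    rw [autFun_mul, autFun_mul, autFun_inv_apply, conjAut_apply ⟨d, hd, (hD hd).2⟩ hx, cj_apply,
      cj_apply] at h2
    exact h2
  obtain ⟨g, hg, hge⟩ := exists_extension hTp hEsat hm
    (by rw [autFun_img]; exact fullyNormalized_fullyCentralized hTp hEsat hn)
  exact ⟨g, hg.restrict hsub, hge⟩

end Basics

section Stages

variable [Finite S] [Fact p.Prime]

/-- In a coset of `Z(T)` there is an element fixed at `J(T)` and at `T`. -/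
theorem exists_start (hS : IsPGroup p S) (hF : F.IsSaturated p) (hE : E.IsNormalIn F p)
    (hv : v ∈ centralizerIn S T) :
    ∃ v₂, v⁻¹ * v₂ ∈ ctr T ∧
      (∃ K : Canon F E p (JJ T), ∀ α ∈ Ep E p (JJ T), K.act α v₂ = v₂) ∧
      ∀ f, IsMap E T f → Fixes F v₂ T f := by
  classical
  have hinv : E.IsInvariantIn F := hE.1.2.2
  have hEsat := hE.1.1
  have hT : F.StronglyClosed T := hinv.2.1
  have hTS : T ≤ S := hT.1
  have hTfin : Finite T := finite_of_le hTS
  have hTp := hS.to_le hTS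
  set J := JJ T with hJd
  have hJT : J ≤ T := JJ_le
  have hJS : J ≤ S := hJT.trans hTS
  have hJfin : Finite J := finite_of_le hJT
  have hctr : ctr T ≤ ctr J := fun z hz =>
    ⟨mem_JJ hz.1 fun x hx => hz.2 x (hJT hx), Subgroup.centralizer_le hJT hz.2⟩
  obtain ⟨K⟩ := exists_canon hS hF hinv hEsat (cen_JT hinv)
  set C := centralizerIn S T with hC
  have hCJ : C ≤ centralizerIn S J := fun c hc => ⟨hc.1, Subgroup.centralizer_le hJT hc.2⟩
  have hNJ : normalizerIn T J = T :=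
    le_antisymm normalizerIn_le fun t ht =>
      ⟨ht, mem_normalizer_JJ E le_rfl ht (Subgroup.le_normalizer ht)⟩
  have hJn : E.IsFullyNormalized J := ⟨hJT, fun Q _ => by rw [hNJ]; exact card_le_card normalizerIn_le⟩
  set U := autInducedBy T J with hUd
  have hUEp : U ≤ Ep E p J := autInducedBy_le_Ep hTp hJT
  have hidx : ¬ p ∣ U.relIndex (Ep E p J) := not_dvd_relIndex hTfin hTp hEsat hJn hUEp Ep_le
  -- stage `J`
  obtain ⟨c₁, hc₁, hc₁f⟩ := canon_fix hS hJS K le_rfl hidx (hCJ hv) (act_induced hT hJT hTp K hv)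
  have hfixu : ∀ u ∈ U, autFun u c₁ = c₁ := fun u hu => by
    have h1 := hc₁f u (hUEp hu)
    rw [Canon.act_mul K (hUEp hu) (hCJ hv) hc₁.1, act_induced hT hJT hTp K hv u hu] at h1
    exact mul_left_cancel h1
  have hc₁T : c₁ ∈ ctr T := by
    refine ⟨hJT hc₁.1, fun t ht => ?_⟩
    have htn : t ∈ Subgroup.normalizer (J : Set Ω) := (hNJ.ge ht).2
    have hu : conjAut T J ⟨t, ht, htn⟩ ∈ U := by rw [hUd, ← conjAut_range]; exact ⟨_, rfl⟩
    have h1 := hfixu _ hu
    rw [conjAut_apply ⟨t, ht, htn⟩ hc₁.1, cj_apply] at h1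
    exact mul_inv_eq_iff_eq_mul.1 h1
  set v₁ := v * c₁ with hv₁d
  have hv₁ : v₁ ∈ C := mul_mem hv ⟨hTS hc₁T.1, hc₁T.2⟩
  -- stage `T`
  set W := T ⊔ C with hW
  have hWS : W ≤ S := sup_le hTS inf_le_left
  have hWfin : Finite W := finite_of_le hWS
  let BT : Subgroup (MulAut W) := finSub
    { carrier := {b | b ∈ F.autGroup W ∧ (∃ α ∈ E.autGroup T, ∀ x ∈ T, autFun b x = autFun α x) ∧
        ∀ c ∈ C, c⁻¹ * autFun b c ∈ ctr T}
      one_mem' := ⟨one_mem _, ⟨1, one_mem _, fun x _ => by rw [autFun_one, autFun_one]⟩,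
        fun c _ => by rw [autFun_one, id, inv_mul_cancel]; exact one_mem _⟩
      mul_mem' := by
        rintro a b ⟨haA, ⟨α, hα, haT⟩, haC⟩ ⟨hbA, ⟨β, hβ, hbT⟩, hbC⟩
        refine ⟨mul_mem haA hbA, ⟨α * β, mul_mem hα hβ, fun x hx => ?_⟩, fun c hc => ?_⟩
        · rw [autFun_mul, autFun_mul, hbT x hx, haT _ (autFun_mem β hx)]
        · have hz := hbC c hc
          rw [autFun_mul, show autFun b c = c * (c⁻¹ * autFun b c) from (mul_inv_cancel_left _ _).symm,
            autFun_isHom a _ (Subgroup.mem_sup_right hc) _ (Subgroup.mem_sup_left hz.1),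
            haT _ hz.1, ← mul_assoc]
          exact mul_mem (haC c hc) (autFun_ctr hz) }
  have hBT : ∀ b : BT, (b : MulAut W) ∈ F.autGroup W ∧
      (∃ α ∈ E.autGroup T, ∀ x ∈ T, autFun (b : MulAut W) x = autFun α x) ∧
      ∀ c ∈ C, c⁻¹ * autFun (b : MulAut W) c ∈ ctr T := fun b => b.2
  choose hBA hBE hBC using hBT
  choose rf hrfA hrf using hBE
  let ρ : BT →* E.autGroup T := MonoidHom.mk' (fun b => ⟨rf b, hrfA b⟩) fun a b => by
    refine Subtype.ext (autFun_ext fun x hx => ?_)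
    show autFun (rf (a * b)) x = autFun (rf a * rf b) x
    rw [← hrf (a * b) x hx, Subgroup.coe_mul, autFun_mul, autFun_mul, hrf b x hx,
      hrf a _ (autFun_mem _ hx)]
  have hρ : ∀ (b : BT), ∀ x ∈ T, autFun (ρ b : MulAut T) x = autFun (b : MulAut W) x :=
    fun b x hx => (hrf b x hx).symm
  have hρs : Function.Surjective ρ := by
    rintro ⟨α, hα⟩
    obtain ⟨β, hβ, hβT, hβC⟩ := hE.2 α hα
    have h1 : ∀ x ∈ T, autFun β x = autFun α x := fun x hx => by
      rw [autFun_of_mem β (Subgroup.mem_sup_left hx), autFun_of_mem α hx]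
      exact hβT ⟨x, hx⟩
    have h2 : ∀ c ∈ C, c⁻¹ * autFun β c ∈ ctr T := fun c hc => by
      rw [autFun_of_mem β (Subgroup.mem_sup_right hc)]
      exact hβC ⟨c, Subgroup.mem_sup_right hc⟩ hc
    refine ⟨⟨β, hβ, ⟨α, hα, h1⟩, h2⟩, Subtype.ext (autFun_ext fun x hx => ?_)⟩
    rw [hρ _ x hx]
    exact h1 x hx
  have hker : IsPGroup p ρ.ker := by
    rintro ⟨b, hb⟩
    obtain ⟨n, hn⟩ := (hS.to_le hWS).exists_card_eq
    have hbT : ∀ x ∈ T, autFun (b : MulAut W) x = x := fun x hx => by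
      rw [← hρ b x hx, MonoidHom.mem_ker.1 hb, Subgroup.coe_one, autFun_one]; rfl
    have hpow : ∀ j : ℕ, ∀ c ∈ C, autFun ((b : MulAut W) ^ j) c
        = c * (c⁻¹ * autFun (b : MulAut W) c) ^ j := by
      intro j
      induction j with
      | zero => intro c _; simp [autFun_one]
      | succ j ih =>
        intro c hc
        have hz := hBC b c hc
        rw [pow_succ', autFun_mul, ih c hc, autFun_isHom (b : MulAut W) _ (Subgroup.mem_sup_right hc) _
          (Subgroup.mem_sup_left (pow_mem hz j).1), hbT _ (pow_mem hz j).1,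
          pow_succ' (c⁻¹ * autFun (b : MulAut W) c) j, ← mul_assoc c, mul_inv_cancel_left]
    refine ⟨n, Subtype.ext (Subtype.ext (aut_ext_sup (fun x hx => ?_) fun c hc => ?_))⟩
    · simp only [Subgroup.coe_pow, Subgroup.coe_one, autFun_one, id]
      clear hn
      induction p ^ n with
      | zero => simp [autFun_one]
      | succ j ih => rw [pow_succ', autFun_mul, ih, hbT x hx]
    · simp only [Subgroup.coe_pow, Subgroup.coe_one, autFun_one, id]
      rw [hpow _ c hc]
      have hmem : c⁻¹ * autFun (b : MulAut W) c ∈ W := Subgroup.mem_sup_left (hBC b c hc).1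
      have h1 : (⟨_, hmem⟩ : W) ^ p ^ n = 1 := by rw [← hn]; exact pow_card_eq_one'
      have h2 := congrArg Subtype.val h1
      simp only [Subgroup.coe_pow, Subgroup.coe_one] at h2
      rw [h2, mul_one]
  set UT := (autInducedBy T T).subgroupOf (E.autGroup T) with hUT
  have hTn : E.IsFullyNormalized T := ⟨le_rfl, fun Q _ => by
    rw [le_antisymm (normalizerIn_le (S := T) (P := T)) (le_normalizerIn le_rfl)]
    exact card_le_card normalizerIn_le⟩
  have hUTn : UT.Normal := by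
    refine ⟨fun a ha b => Subgroup.mem_subgroupOf.2 ?_⟩
    obtain ⟨t, ht, hte⟩ := mem_autInducedBy_iff'.1 (Subgroup.mem_subgroupOf.1 ha)
    have hbt : autFun (b : MulAut T) t ∈ T := autFun_mem _ ht.1
    refine mem_autInducedBy_iff'.2 ⟨_, ⟨hbt, Subgroup.le_normalizer hbt⟩, fun x hx => ?_⟩
    rw [Subgroup.coe_mul, Subgroup.coe_mul, Subgroup.coe_inv, autFun_mul, autFun_mul,
      hte _ (autFun_mem _ hx), cj_apply, cj_apply,
      (autFun_isHom (b : MulAut T)).map_conj ht.1 (autFun_mem _ hx), autFun_apply_inv]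
  set Ph := UT.comap ρ with hPh
  have hPhn : Ph.Normal := Subgroup.Normal.comap hUTn ρ
  have hPhp : IsPGroup p Ph :=
    IsPGroup.comap_of_ker_isPGroup ((isPGroup_autInducedBy hTp).comap_of_injective _
      Subtype.val_injective) ρ hker
  have hPhi : ¬ p ∣ Ph.index := by
    rw [hPh, Subgroup.index_comap_of_surjective _ hρs]
    exact ((fullyAutomized_iff hTp).1 (fullyNormalized_fullyAutomized hTp hEsat hTn)).2
  obtain ⟨L, hL⟩ := Subgroup.exists_right_complement'_of_coprime (N := Ph) (by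
    obtain ⟨k, hk⟩ := hPhp.exists_card_eq
    rw [hk]
    exact Nat.Coprime.pow_left k ((Fact.out : p.Prime).coprime_iff_not_dvd.2 hPhi))
  have hLp : ¬ p ∣ (⊥ : Subgroup L).index := by
    rw [Subgroup.index_bot, ← (Subgroup.IsComplement'.index_eq_card (Subgroup.IsComplement'.symm hL))]
    exact hPhi
  -- displacements of `v₁`
  have hbJ : ∀ b : BT, ∃ β ∈ E.autGroup J, ∀ x ∈ J, autFun β x = autFun (b : MulAut W) x := by
    intro b
    have hm := isMap_of_mem_autGroup le_rfl (ρ b).2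
    have himg : img (autFun (ρ b : MulAut T)) J = J := by rw [hJd, ← JJ_img hm le_rfl, autFun_img]
    obtain ⟨β, hβ, hβe⟩ := (hm.restrict hJT).exists_aut himg
    exact ⟨β, hβ, fun x hx => (hβe x hx).trans (hρ b x (hJT hx))⟩
  choose βf hβA hβe using hbJ
  have hmv : ∀ (b : BT) (c : Ω), c ∈ C → c⁻¹ * autFun (b : MulAut W) c ∈ ctr T := hBC
  have hval : ∀ b : BT, ∀ α ∈ Ep E p J,
      autFun α (v₁⁻¹ * autFun (b : MulAut W) v₁) = v₁⁻¹ * autFun (b : MulAut W) v₁ := by
    intro b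
    set z := v₁⁻¹ * autFun (b : MulAut W) v₁ with hzd
    have hz : z ∈ ctr T := hmv b v₁ hv₁
    set w := autFun (b : MulAut W) v₁ with hwd
    have hwe : w = v₁ * z := (mul_inv_cancel_left _ _).symm
    have hwC : w ∈ C := by rw [hwe]; exact mul_mem hv₁ ⟨hTS hz.1, hz.2⟩
    have hwJ : w ∈ centralizerIn S J := hCJ hwC
    have hJW : J ≤ W := hJT.trans le_sup_left
    have hall : ∀ α ∈ Ep E p J, ∀ δ ∈ Ep E p J,
        autFun δ (w⁻¹ * K.act α w) = w⁻¹ * K.act α w := by
      intro α hα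
      set α' := (βf b)⁻¹ * α * βf b with hα'
      have hα'Ep : α' ∈ Ep E p J := conj_mem_Ep (hβA b) hα
      have hdom : J ⊔ Subgroup.zpowers v₁ ≤ J ⊔ centralizerIn S J :=
        sup_le_sup_left (Subgroup.zpowers_le.2 (hCJ hv₁)) _
      have hdW : J ⊔ Subgroup.zpowers w ≤ W :=
        sup_le hJW ((Subgroup.zpowers_le.2 hwC).trans le_sup_right)
      have hdW' : J ⊔ Subgroup.zpowers v₁ ≤ W :=
        sup_le hJW ((Subgroup.zpowers_le.2 hv₁).trans le_sup_right)
      have hh := (K.map α' hα'Ep).restrict hdom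
      have hv₁f : K.act α' v₁ = v₁ := hc₁f α' hα'Ep
      have hbi := isMap_of_mem_autGroup hWS (Subgroup.inv_mem _ (hBA b))
      have hbiJ : ∀ x ∈ J, autFun (b : MulAut W)⁻¹ x = autFun (βf b)⁻¹ x := fun x hx => by
        conv_lhs => rw [← autFun_apply_inv (βf b) x, hβe b _ (autFun_mem _ hx)]
        rw [autFun_inv_apply]
      have hbiw : autFun (b : MulAut W)⁻¹ w = v₁ := by rw [hwd, autFun_inv_apply]
      have h1 : ∀ y ∈ J ⊔ Subgroup.zpowers w,
          autFun (b : MulAut W)⁻¹ y ∈ J ⊔ Subgroup.zpowers v₁ := by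
        intro y hy
        have : img (autFun (b : MulAut W)⁻¹) (J ⊔ Subgroup.zpowers w)
            ≤ J ⊔ Subgroup.zpowers v₁ := by
          rw [(hbi.restrict hdW).img_sup, img_zpowers hbi (Subgroup.mem_sup_right hwC), hbiw]
          refine sup_le_sup_right (img_le fun x hx => ?_) _
          rw [hbiJ x hx]; exact autFun_mem _ hx
        exact this (mem_img_self _ hy)
      have h2 : ∀ y ∈ J ⊔ Subgroup.zpowers v₁, K.act α' y ∈ W := by
        intro y hy
        have : img (K.act α') (J ⊔ Subgroup.zpowers v₁) ≤ W := by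
          rw [hh.img_sup, img_zpowers hh (Subgroup.mem_sup_right (Subgroup.mem_zpowers _)), hv₁f]
          refine sup_le (img_le fun x hx => ?_) (le_sup_right.trans hdW')
          rw [K.res α' hα'Ep x hx]
          exact hJW (autFun_mem _ hx)
        exact this (mem_img_self _ hy)
      have hm : IsMap F (J ⊔ Subgroup.zpowers w)
          (fun y => autFun (b : MulAut W) (K.act α' (autFun (b : MulAut W)⁻¹ y))) :=
        (isMap_of_mem_autGroup hWS (hBA b)).comp (hh.comp (hbi.restrict hdW) h1)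
          fun y hy => h2 _ (h1 y hy)
      exact value_fixed hJS K hα hwJ
        ((K.map α hα).restrict (sup_le_sup_left (Subgroup.zpowers_le.2 hwJ) _)) hm
        (K.res α hα) (fun r hr => by
          show autFun (b : MulAut W) _ = _
          rw [hbiJ r hr, K.res α' hα'Ep _ (autFun_mem _ hr), hα', autFun_mul, autFun_mul,
            autFun_apply_inv, ← hβe b _ (autFun_mem _ (autFun_mem _ hr)), autFun_apply_inv])
        (by
          show autFun (b : MulAut W) _ = _
          rw [hbiw, hv₁f])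
        (K.near α hα w hwJ)
    have hwfix := canon_triv hS hJS K le_rfl hidx hwJ (act_induced hT hJT hTp K hwC)
      fun α hα δ hδ => hall α hα δ hδ
    intro α hα
    have h1 := hwfix α hα
    rw [hwe, Canon.act_mul K hα (hCJ hv₁) (hctr hz).1, hc₁f α hα] at h1
    exact mul_left_cancel h1
  let Zf : Subgroup Ω :=
    { carrier := {z | z ∈ ctr T ∧ ∀ α ∈ Ep E p J, autFun α z = z}
      one_mem' := ⟨one_mem _, fun α _ => (autFun_isHom α).map_one⟩
      mul_mem' := fun {a b} ha hb => ⟨mul_mem ha.1 hb.1, fun α hα => by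
        rw [autFun_isHom α _ (hctr ha.1).1 _ (hctr hb.1).1, ha.2 α hα, hb.2 α hα]⟩
      inv_mem' := fun {a} ha => ⟨Subgroup.inv_mem _ ha.1, fun α hα => by
        rw [(autFun_isHom α).map_inv (hctr ha.1).1, ha.2 α hα]⟩ }
  have hZW : ∀ z ∈ Zf, z ∈ W := fun z hz => Subgroup.mem_sup_left hz.1.1
  have hamem : ∀ b : BT, ∀ z ∈ Zf, autFun (b : MulAut W) z ∈ Zf := by
    intro b z hz
    refine ⟨?_, fun α hα => ?_⟩
    · rw [← hρ b z hz.1.1]; exact autFun_ctr hz.1
    · have hzJ := (hctr hz.1).1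
      have h1 := hz.2 _ (conj_mem_Ep (hβA b) hα)
      rw [autFun_mul, autFun_mul] at h1
      have h2 := congrArg (autFun (βf b)) h1
      rw [autFun_apply_inv, hβe b z hzJ] at h2
      exact h2
  obtain ⟨c₂, hc₂, hc₂f⟩ := exists_fixed (p := p) Zf
    (fun l : L => autFun ((l : BT) : MulAut W))
    (fun l : L => v₁⁻¹ * autFun ((l : BT) : MulAut W) v₁)
    (hS.to_le fun z hz => hTS hz.1.1) (fun x hx y hy => ctr_comm hx.1 hy.1)
    (fun l z hz => hamem l z hz)
    (fun l x hx y hy => autFun_isHom _ _ (hZW x hx) _ (hZW y hy))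
    (fun l => ⟨hmv l v₁ hv₁, hval l⟩)
    (fun l k => by
      show v₁⁻¹ * autFun (((l : BT) : MulAut W) * ((k : BT) : MulAut W)) v₁ = _
      have hz : v₁⁻¹ * autFun ((k : BT) : MulAut W) v₁ ∈ ctr T := hmv k v₁ hv₁
      rw [autFun_mul]
      conv_lhs =>
        rw [show autFun ((k : BT) : MulAut W) v₁ = v₁ * (v₁⁻¹ * autFun ((k : BT) : MulAut W) v₁)
          from (mul_inv_cancel_left _ _).symm]
      rw [autFun_isHom ((l : BT) : MulAut W) _ (Subgroup.mem_sup_right hv₁) _
        (Subgroup.mem_sup_left hz.1), mul_assoc])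
    ⊥ hLp (fun u hu => by
      rw [Subgroup.mem_bot.1 hu]
      show v₁⁻¹ * autFun (1 : MulAut W) v₁ = 1
      rw [autFun_one, id, inv_mul_cancel])
  set v₂ := v₁ * c₂ with hv₂d
  have hv₂ : v₂ ∈ C := mul_mem hv₁ ⟨hTS hc₂.1.1, hc₂.1.2⟩
  refine ⟨v₂, ?_, ⟨K, fun α hα => ?_⟩, fun f hf => ?_⟩
  · rw [hv₂d, hv₁d, mul_assoc, inv_mul_cancel_left]
    exact mul_mem hc₁T hc₂.1
  · rw [hv₂d, Canon.act_mul K hα (hCJ hv₁) (hctr hc₂.1).1, hc₂.2 α hα, hc₁f α hα]
  · obtain ⟨α, hα, hαe⟩ := hf.exists_aut (img_T hT hf)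
    obtain ⟨b, hb⟩ := hρs ⟨α, hα⟩
    obtain ⟨q, hq, l, hl, rfl⟩ := Subgroup.mem_sup_of_normal_left.1
      (show b ∈ Ph ⊔ L from hL.sup_eq_top ▸ Subgroup.mem_top b)
    obtain ⟨t, ht, hte⟩ := mem_autInducedBy_iff'.1 (Subgroup.mem_subgroupOf.1 hq)
    have hfl : autFun (l : MulAut W) v₂ = v₂ := by
      have h1 := hc₂f ⟨l, hl⟩
      rw [hv₂d, autFun_isHom (l : MulAut W) _ (Subgroup.mem_sup_right hv₁) _ (hZW _ hc₂),
        show autFun (l : MulAut W) v₁ = v₁ * (v₁⁻¹ * autFun (l : MulAut W) v₁) from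
          (mul_inv_cancel_left _ _).symm, mul_assoc]
      exact congrArg (v₁ * ·) h1
    have hdom : T ⊔ Subgroup.zpowers v₂ ≤ W := sup_le_sup_left (Subgroup.zpowers_le.2 hv₂) _
    refine ⟨fun x => cj t (autFun (l : MulAut W) x),
      ((isMap_cj hWS (hTS ht.1)).comp (isMap_of_mem_autGroup hWS (hBA l))
        fun x hx => autFun_mem _ hx).restrict hdom, fun x hx => ?_, ?_⟩
    · have h1 := congrArg Subtype.val hb
      rw [map_mul, Subgroup.coe_mul] at h1
      show cj t _ = _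
      rw [← hρ l x hx, ← hte _ (autFun_mem _ hx), ← autFun_mul, h1, hαe x hx]
    · show cj t _ = _
      rw [hfl, cj_apply, show t * v₂ = v₂ * t from hv₂.2 t ht.1, mul_inv_cancel_right]

end Stages

section Main

variable [Finite S] [Fact p.Prime]

/-- Elements commuting with a model. -/
theorem model_fix (hTp : IsPGroup p T) [Finite T] (hEsat : E.IsSaturated p) (hp : p ≠ 2)
    (hRT : R ≤ T) (hn : E.IsFullyNormalized R) (hc : E.IsCentric R) {c : Ω} (hcR : c ∈ ctr R)
    (hcP : ∀ t ∈ normalizerIn T R, t * c = c * t)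
    (hB : ∀ γ ∈ Ep E p R, γ ∈ Subgroup.normalizer
      (autInducedBy (R ⊔ JJ (normalizerIn T R)) R : Set (MulAut R)) → autFun γ c = c) :
    ∀ γ ∈ Ep E p R, autFun γ c = c := by
  classical
  set P := normalizerIn T R with hPd
  have hPfin : Finite P := finite_of_le normalizerIn_le
  have hRfin : Finite R := finite_of_le hRT
  have hRP : R ≤ P := le_normalizerIn hRT
  obtain ⟨N, hN, G, instG, ι, hι⟩ :=
    Cfsg.Agent.Fusion.NormalizerModel.exists_normalizer_model hTp hEsat hn hc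
  have m : ModelUnique.MSetting N p R ι := LocalModels.mSetting_of_normal (hTp.to_le normalizerIn_le)
    hι (NormalizerModel.isNormal hN hRT) (NormalizerModel.isCentric hN hc)
  have hGfin : Finite G := m.finite
  have hιinj : Function.Injective ι := fun a b h => m.realized.1 h
  let a : G → MulAut R := fun g => ((ModelUnique.actHom m g : N.autGroup R) : MulAut R)
  have ha : ∀ g g', a (g * g') = a g * a g' := fun g g' => by
    show ((ModelUnique.actHom m (g * g') : N.autGroup R) : MulAut R) = _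
    rw [map_mul, Subgroup.coe_mul]
  let G1 : Subgroup G :=
    (Ep E p R).comap ((N.autGroup R).subtype.comp (ModelUnique.actHom m))
  have hιG1 : ∀ s : P, ι s ∈ G1 := fun s => by
    show a (ι s) ∈ Ep E p R
    refine autInducedBy_le_Ep hTp hRT (mem_autInducedBy_iff'.2 ⟨s, ⟨s.2.1, s.2.2⟩, fun x hx => ?_⟩)
    show autFun ((ModelUnique.actHom m (ι s) : N.autGroup R) : MulAut R) x = _
    rw [ModelUnique.actHom_iota, Model.cS_apply _ _ hx]
    rfl
  let τ : P →* G1 := ι.codRestrict G1 hιG1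
  have hτinj : Function.Injective τ := fun x y h => hιinj (congrArg Subtype.val h)
  obtain ⟨-, -, ⟨T0, hT0⟩, -⟩ := hι
  have hT0le : (T0 : Subgroup G) ≤ G1 := by rw [hT0]; rintro _ ⟨s, rfl⟩; exact hιG1 s
  let T1 : Sylow p G1 := T0.subtype hT0le
  have hT1 : (T1 : Subgroup G1) = (⊤ : Subgroup P).map τ := by
    ext x
    show x ∈ (T0 : Subgroup G).subgroupOf G1 ↔ _
    rw [Subgroup.mem_subgroupOf, hT0]
    constructor
    · rintro ⟨s, hs⟩; exact ⟨s, Subgroup.mem_top s, Subtype.ext hs⟩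
    · rintro ⟨s, -, rfl⟩; exact ⟨s, rfl⟩
  have hact : ∀ (g : G) (x : P) (hx : (x : Ω) ∈ R),
      ι ⟨autFun (a g) x, hRP (autFun_mem _ hx)⟩ = g * ι x * g⁻¹ :=
    fun g x hx => ModelUnique.actHom_spec m g hx
  -- the centre of `R`
  let V : Subgroup G1 := ((ctr R).subgroupOf P).map τ
  have hV : V.Normal := by
    refine ⟨?_⟩
    rintro _ ⟨z, hz, rfl⟩ g
    have hz' : (z : Ω) ∈ ctr R := Subgroup.mem_subgroupOf.1 hz
    refine ⟨⟨autFun (a g) z, hRP (autFun_mem _ hz'.1)⟩,
      Subgroup.mem_subgroupOf.2 (autFun_ctr hz'), Subtype.ext ?_⟩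
    exact hact g z hz'.1
  have hVp : IsPGroup p V :=
    ((hTp.to_le normalizerIn_le).to_subgroup _).map τ
  have hVc : ∀ x ∈ V, ∀ y ∈ V, x * y = y * x := by
    rintro _ ⟨x, hx, rfl⟩ _ ⟨y, hy, rfl⟩
    rw [← map_mul, ← map_mul]
    exact congrArg τ (Subtype.ext
      (ctr_comm (R := R) (Subgroup.mem_subgroupOf.1 hx) (Subgroup.mem_subgroupOf.1 hy)))
  let c' : P := ⟨c, hRP hcR.1⟩
  have hxV : τ c' ∈ V := ⟨c', Subgroup.mem_subgroupOf.2 hcR, rfl⟩
  have hxT : ∀ t ∈ (T1 : Subgroup G1), t * τ c' = τ c' * t := by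
    rw [hT1]
    rintro _ ⟨s, -, rfl⟩
    rw [← map_mul, ← map_mul]
    exact congrArg τ (Subtype.ext (hcP s s.2))
  -- the normalizer of the Thompson subgroup
  set D := R ⊔ JJ P with hD
  have hDP : D ≤ P := sup_le hRP JJ_le
  have hJtop : ((Cfsg.thompsonSubgroupAOf (⊤ : Subgroup P)).map P.subtype) = JJ P := by
    rw [CharP.WeakClosureJ.J_eq, JJ_eq_map]
  have hJ1 : Cfsg.thompsonSubgroupAOf (T1 : Subgroup G1) = ((JJ P).subgroupOf P).map τ := by
    rw [hT1, CharP.WeakClosureJ.J_map hτinj, ← hJtop, Subgroup.subgroupOf,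
      Subgroup.comap_map_eq_self_of_injective P.subtype_injective]
  have hNc : Subgroup.normalizer (Cfsg.thompsonSubgroupAOf (T1 : Subgroup G1) : Set G1) ≤
      Subgroup.centralizer ({τ c'} : Set G1) := by
    intro g hg
    rw [hJ1] at hg
    have hDD : (D.subgroupOf P).map τ
        = (R.subgroupOf P).map τ ⊔ ((JJ P).subgroupOf P).map τ := by
      rw [hD, Subgroup.subgroupOf_sup hRP JJ_le, Subgroup.map_sup]
    have hmap : ((D.subgroupOf P).map τ).map (MulAut.conj g).toMonoidHom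
        ≤ (D.subgroupOf P).map τ := by
      rw [hDD, Subgroup.map_sup]
      refine sup_le_sup ?_ ?_
      · rintro _ ⟨_, ⟨r, hr, rfl⟩, rfl⟩
        exact ⟨⟨autFun (a g) r, hRP (autFun_mem _ (Subgroup.mem_subgroupOf.1 hr))⟩,
          Subgroup.mem_subgroupOf.2 (autFun_mem _ (Subgroup.mem_subgroupOf.1 hr)),
          Subtype.ext (hact g r (Subgroup.mem_subgroupOf.1 hr))⟩
      · rintro _ ⟨y, hy, rfl⟩
        exact (Subgroup.mem_normalizer_iff.1 hg y).1 hy
    have hgn : a g ∈ Subgroup.normalizer (autInducedBy D R : Set (MulAut R)) := by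
      refine mem_normalizer_of_forall fun u hu => ?_
      obtain ⟨d, hd, hde⟩ := mem_autInducedBy_iff'.1 hu
      obtain ⟨d', hd', hd'e⟩ := hmap ⟨τ ⟨d, hDP hd.1⟩,
        ⟨⟨d, hDP hd.1⟩, Subgroup.mem_subgroupOf.2 hd.1, rfl⟩, rfl⟩
      have hd'D : (d' : Ω) ∈ D := Subgroup.mem_subgroupOf.1 hd'
      refine mem_autInducedBy_iff'.2 ⟨d', ⟨hd'D, (hDP hd'D).2⟩, fun x hx => ?_⟩
      have hu' : u = a (ι ⟨d, hDP hd.1⟩) := autFun_ext fun y hy => by
        show _ = autFun ((ModelUnique.actHom m (ι ⟨d, hDP hd.1⟩) : N.autGroup R) : MulAut R) y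
        rw [ModelUnique.actHom_iota, Model.cS_apply _ _ hy, hde y hy]
        rfl
      have h1 : ι d' = (g : G) * ι ⟨d, hDP hd.1⟩ * (g : G)⁻¹ := congrArg Subtype.val hd'e
      have h2 : a (g : G) * u * (a (g : G))⁻¹ = a (ι d') := by
        rw [h1, ha, ha, hu']
        congr 1
        show _ = ((ModelUnique.actHom m (g : G)⁻¹ : N.autGroup R) : MulAut R)
        rw [map_inv, Subgroup.coe_inv]
      rw [h2]
      show autFun ((ModelUnique.actHom m (ι d') : N.autGroup R) : MulAut R) x = _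
      rw [ModelUnique.actHom_iota, Model.cS_apply _ _ hx]
      rfl
    have h3 := hB (a g) g.2 hgn
    refine Subgroup.mem_centralizer_singleton_iff.2 (Subtype.ext ?_)
    have h4 := hact g c' hcR.1
    simp only [show autFun (a g) (c' : Ω) = c from h3] at h4
    show (g : G) * ι c' = ι c' * g
    exact (eq_mul_inv_iff_mul_eq.1 h4).symm
  have hcen := CharP.WeakClosureJ.central_of_controls T1 V hVp hVc hxV hxT hNc (Or.inl hp)
  intro γ hγ
  obtain ⟨g, hg⟩ := ModelUnique.actHom_surjective m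
    ⟨γ, (NormalizerModel.autGroup_eq hN hRT).symm ▸ Ep_le hγ⟩
  have hgG1 : g ∈ G1 := by
    show a g ∈ Ep E p R
    simp only [a, hg]
    exact hγ
  have h5 : ι c' * g = g * ι c' :=
    congrArg Subtype.val (Subgroup.mem_center_iff.1 hcen ⟨g, hgG1⟩).symm
  have h6 := hact g c' hcR.1
  rw [← h5, mul_inv_cancel_right] at h6
  have h7 := congrArg Subtype.val (hιinj h6)
  have h8 : a g = γ := by simp only [a, hg]
  rw [h8] at h7
  exact h7

/-- All maps of `E` fix an element of each coset of `Z(T)` in `C_S(T)`, for `p` odd. -/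
theorem exists_fixed_coset (hS : IsPGroup p S) (hF : F.IsSaturated p) (hE : E.IsNormalIn F p)
    (hp : p ≠ 2) (hv : v ∈ centralizerIn S T) :
    ∃ v₂, v⁻¹ * v₂ ∈ ctr T ∧ ∀ (P : Subgroup Ω) (f : Ω → Ω), IsMap E P f → Fixes F v₂ P f := by
  classical
  have hinv : E.IsInvariantIn F := hE.1.2.2
  have hEsat := hE.1.1
  have hT : F.StronglyClosed T := hinv.2.1
  have hTS : T ≤ S := hT.1
  have hTfin : Finite T := finite_of_le hTS
  have hTp := hS.to_le hTS
  obtain ⟨v₂, hv₂, ⟨KJ, hKJ⟩, hgoodT⟩ := exists_start hS hF hE hv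
  refine ⟨v₂, hv₂, ?_⟩
  have hv₂C : v₂ ∈ centralizerIn S T := by
    have h1 : v₂ = v * (v⁻¹ * v₂) := (mul_inv_cancel_left _ _).symm
    rw [h1]
    exact mul_mem hv ⟨hTS hv₂.1, hv₂.2⟩
  set Fy := fixSys F E hinv.1 hv₂C with hFy
  let Good : Subgroup Ω → Prop := fun R => ∀ f, IsMap E R f → IsMap Fy R f
  have hgT : Good T := fun f hf => mem_of_fixes hf (hgoodT f hf)
  set N := Nat.card T with hNd
  set Mx := (N * (N + 2) + N) * (N + 2) + (N + 1) with hMx
  suffices hmain : ∀ n R, Cen F T R → Mx - wt N R ≤ n → Good R by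
    have hle : E ≤ Fy := by
      refine Alperin.le_of_extGroup hTp hEsat fun R hRn hext => ?_
      have hRT : R ≤ T := hRn.1
      have key : Good R → E.autGroup R ≤ Fy.autGroup R := fun h γ hγ =>
        (mem_autGroup_iff hRT).2 (h _ (isMap_of_mem_autGroup hRT hγ))
      rcases eq_or_lt_of_le hRT with rfl | hlt
      · exact key hgT
      · by_cases he : Alperin.extGroup E R = E.autGroup R
        · exact he ▸ hext
        · exact key (hmain _ R (cen_of_E hinv hRT
            ((Alperin.essential_iff hTp hEsat hlt hRn).2 he).1.2) le_rfl)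
    intro P f hf
    obtain ⟨g, hg, hgP, hgy⟩ := (hle P hf.hom_mem_self).2
    exact ⟨g, hg, fun x hx => by rw [hgP x hx, ext_of_mem _ hx]; rfl, hgy⟩
  intro n
  induction n using Nat.strong_induction_on with
  | _ n ih =>
  intro R hR hn
  have hup : ∀ X, Cen F T X → wt N R < wt N X → Good X := by
    intro X hX hlt
    have : Finite X := finite_of_le hX.1
    have hXle : wt N X ≤ Mx := wt_le (card_le_card hX.1)
    exact ih (Mx - wt N X) (by omega) X hX le_rfl
  -- normalizers are handled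
  have hnorm : ∀ Q, Cen F T Q → wt N Q = wt N R → Good (normalizerIn T Q) := by
    intro Q hQ hwQ
    have : Finite Q := finite_of_le hQ.1
    have : Finite (normalizerIn T Q) := finite_of_le normalizerIn_le
    rcases eq_or_lt_of_le (normalizerIn_le : normalizerIn T Q ≤ T) with h | h
    · rw [h]; exact hgT
    refine hup _ (cen_mono hQ (le_normalizerIn hQ.1) normalizerIn_le) (hwQ ▸ ?_)
    have hQne : Q ≠ T := fun he => h.ne (by
      rw [he]; exact le_antisymm normalizerIn_le (le_normalizerIn le_rfl))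
    have hQlt : Q < normalizerIn T Q := lt_normalizerIn hTp (lt_of_le_of_ne hQ.1 hQne)
    refine wt_lt (card_le_card hQ.1) ?_
    rcases (abMax_mono hQlt.le).lt_or_eq with h1 | h1
    · exact Or.inl h1
    refine Or.inr ⟨h1, ?_⟩
    have : Finite (JJ (normalizerIn T Q)) := finite_of_le JJ_le
    rcases (card_le_card (JJ_mono hQlt.le h1)).lt_or_eq with h2 | h2
    · exact Or.inl h2
    refine Or.inr ⟨h2, fun hJQ => ?_, Or.inr (card_lt_card hQlt)⟩
    have : Finite (JJ (normalizerIn T Q)) := finite_of_le JJ_le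
    have h3 : JJ (normalizerIn T Q) = Q := by
      rw [← eq_of_le_card (JJ_mono hQlt.le h1) h2.ge, hJQ]
    obtain ⟨w, hw, hwn⟩ := SetLike.exists_of_lt (lt_normalizerIn hTp h)
    refine hwn ⟨hw.1, ?_⟩
    have := mem_normalizer_JJ E normalizerIn_le hw.1 hw.2
    rwa [h3] at this
  -- the automorphisms at a fully normalized conjugate
  suffices hauto : ∀ Q, Cen F T Q → wt N Q = wt N R → E.IsFullyNormalized Q →
      ∀ γ ∈ E.autGroup Q, IsMap Fy Q (autFun γ) by
    intro f hf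
    have hRT := hR.1
    have hRfin : Finite R := finite_of_le hRT
    obtain ⟨Q, hRQ, hQn⟩ := exists_fullyNormalized (F := E) hRT
    obtain ⟨g₁, hg₁, hg₁Q⟩ := exists_map_to_fullyNormalized hTp hEsat hQn hRQ
    obtain ⟨g₂, hg₂, hg₂Q⟩ := exists_map_to_fullyNormalized hTp hEsat hQn
      (isConj_trans (isConj_symm hf.isConj) hRQ)
    subst hg₁Q
    have hRN : R ≤ normalizerIn T R := le_normalizerIn hRT
    have hR'N : img f R ≤ normalizerIn T (img f R) := le_normalizerIn hf.img_le_S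
    have hQ : Cen F T (img g₁ R) := cen_conj hinv hR (hg₁.restrict hRN)
    have hwQ : wt N (img g₁ R) = wt N R := wt_img N (hg₁.restrict hRN) le_rfl
    have h1 := hnorm R hR rfl g₁ hg₁
    have h2 := hnorm (img f R) (cen_conj hinv hR hf) (wt_img N hf le_rfl) g₂ hg₂
    obtain ⟨i₁, hi₁, hi₁img, hi₁g, -⟩ := (h1.restrict hRN).exists_inv
    obtain ⟨i₂, hi₂, hi₂img, hi₂g, -⟩ := (h2.restrict hR'N).exists_inv
    have hg₂f := (hg₂.restrict hR'N).comp hf fun x hx => mem_img_self f hx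
    have hi₁m : ∀ y ∈ img g₁ R, i₁ y ∈ R := fun y hy => hi₁img.le (mem_img_self i₁ hy)
    obtain ⟨j₁, hj₁, hj₁img, hj₁g, -⟩ := (hg₁.restrict hRN).exists_inv
    have hj₁m : ∀ y ∈ img g₁ R, j₁ y ∈ R := fun y hy => hj₁img.le (mem_img_self j₁ hy)
    have hm := hg₂f.comp hj₁ hj₁m
    have hmimg : img (fun y => g₂ (f (j₁ y))) (img g₁ R) = img g₁ R := by
      have : Finite (img g₁ R) := finite_of_le (hg₁.restrict hRN).img_le_S
      refine eq_of_le_card (img_le fun y hy => ?_) hm.card_img.ge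
      exact hg₂Q.le (mem_img_self g₂ (mem_img_self f (hj₁m y hy)))
    obtain ⟨γ, hγ, hγe⟩ := hm.exists_aut hmimg
    have h3 := hauto _ hQ hwQ hQn γ hγ
    have h4 := h3.comp (h1.restrict hRN) fun x hx => mem_img_self g₁ hx
    rw [hg₂Q] at hi₂
    have h5 := hi₂.comp h4 fun x hx => autFun_mem γ (mem_img_self g₁ hx)
    refine h5.congr fun x hx => ?_
    show i₂ (autFun γ (g₁ x)) = f x
    rw [hγe _ (mem_img_self g₁ hx)]
    show i₂ (g₂ (f (j₁ (g₁ x)))) = f x
    rw [hj₁g x hx, hi₂g _ (mem_img_self f hx)]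
  clear hR hn
  intro Q hQ hwQ hQn
  have hQT := hQ.1
  have hQS := hQT.trans hTS
  have hQfin : Finite Q := finite_of_le hQT
  rcases eq_or_lt_of_le hQT with rfl | hQlt
  · exact fun γ hγ => hgT _ (isMap_of_mem_autGroup hQT hγ)
  set P := normalizerIn T Q with hPd
  have hPfin : Finite P := finite_of_le normalizerIn_le
  have hQP : Q < P := lt_normalizerIn hTp hQlt
  have hgP : Good P := hnorm Q hQ hwQ
  have hvQ : v₂ ∈ centralizerIn S Q := ⟨hv₂C.1, Subgroup.centralizer_le hQT hv₂C.2⟩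
  set U := autInducedBy T Q with hUd
  have hUEp : U ≤ Ep E p Q := autInducedBy_le_Ep hTp hQT
  have hsupQ : Q ⊔ Subgroup.zpowers v₂ ≤ Q ⊔ centralizerIn S Q :=
    sup_le_sup_left (Subgroup.zpowers_le.2 hvQ) _
  -- it is enough to treat `Ep`
  suffices hEp : ∀ γ ∈ Ep E p Q, Fixes F v₂ Q (autFun γ) by
    intro γ hγ
    set A := E.autGroup Q
    obtain ⟨P₀, hP₀⟩ := (fullyNormalized_fullyAutomized hTp hEsat hQn).2
    have hEpn : ((Ep E p Q).subgroupOf A).Normal := by
      refine ⟨fun x hx b => Subgroup.mem_subgroupOf.2 ?_⟩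
      have := conj_mem_Ep (Subgroup.inv_mem _ b.2) (Subgroup.mem_subgroupOf.1 hx)
      simpa using this
    have hP₀le : (P₀ : Subgroup A) ≤ (Ep E p Q).subgroupOf A := by
      rw [hP₀]; exact fun x hx => Subgroup.mem_subgroupOf.2 (hUEp (Subgroup.mem_subgroupOf.1 hx))
    have hfr := Sylow.normalizer_sup_eq_top' P₀ (N := (Ep E p Q).subgroupOf A) hP₀le
    have hmem : (⟨γ, hγ⟩ : A) ∈ (Fy.autGroup Q).subgroupOf A := by
      refine (?_ : (⊤ : Subgroup A) ≤ _) (Subgroup.mem_top _)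
      rw [← hfr]
      refine sup_le (fun b hb => Subgroup.mem_subgroupOf.2 ((mem_autGroup_iff hQT).2 ?_))
        fun b hb => Subgroup.mem_subgroupOf.2 ((mem_autGroup_iff hQT).2
          (mem_of_fixes (isMap_of_mem_autGroup hQT b.2) (hEp _ (Subgroup.mem_subgroupOf.1 hb))))
      have hbN : (b : MulAut Q) ∈ Subgroup.normalizer (autInducedBy P Q : Set (MulAut Q)) := by
        refine mem_normalizer_of_forall fun u hu => ?_
        have huU : u ∈ U := by
          obtain ⟨t, ht, hte⟩ := mem_autInducedBy_iff'.1 hu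
          exact mem_autInducedBy_iff'.2 ⟨t, ⟨ht.1.1, ht.2⟩, hte⟩
        have hu' : (⟨u, Ep_le (hUEp huU)⟩ : A) ∈ (P₀ : Subgroup A) := by rw [hP₀]; exact huU
        have h1 := (Subgroup.mem_normalizer_iff.1 hb _).1 hu'
        rw [hP₀] at h1
        obtain ⟨t, ht, hte⟩ := mem_autInducedBy_iff'.1 (Subgroup.mem_subgroupOf.1 h1)
        exact mem_autInducedBy_iff'.2 ⟨t, ⟨⟨ht.1, ht.2⟩, ht.2⟩, hte⟩
      obtain ⟨g, hg, hge⟩ := exists_ext_D hTp hEsat hQT hQn le_rfl b.2 hbN
      exact ((hgP g hg).restrict hQP.le).congr hge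
    exact isMap_of_mem_autGroup hQT hmem
  by_cases hQJ : Q = JJ T
  · subst hQJ
    intro γ hγ
    exact ⟨KJ.act γ, (KJ.map γ hγ).restrict hsupQ, KJ.res γ hγ, hKJ γ hγ⟩
  obtain ⟨K⟩ := exists_canon hS hF hinv hEsat hQ
  suffices hfix : ∀ γ ∈ Ep E p Q, K.act γ v₂ = v₂ from
    fun γ hγ => ⟨K.act γ, (K.map γ hγ).restrict hsupQ, K.res γ hγ, hfix γ hγ⟩
  have hUv := act_induced hT hQT hTp K hv₂C
  by_cases hJP : JJ P ≤ Q
  · -- `J(P) = J(Q)` is smaller
    obtain ⟨hab, hJ⟩ := eq_of_le hQP.le hJP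
    have hJne : JJ Q ≠ Q := by
      intro he
      rcases eq_or_lt_of_le (normalizerIn_le : P ≤ T) with h | h
      · refine hQJ ?_
        rw [← h, ← hJ, he]
      · obtain ⟨w, hw, hwn⟩ := SetLike.exists_of_lt (lt_normalizerIn hTp h)
        refine hwn ⟨hw.1, ?_⟩
        have := mem_normalizer_JJ E normalizerIn_le hw.1 hw.2
        rwa [← hJ, he] at this
    have hJ0 : Cen F T (JJ Q) := cen_JR hS hinv hEsat hQ hQn hJ.symm
    have hJJ := eq_of_le (JJ_le (R := Q)) le_rfl
    have hgJ : Good (JJ Q) := by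
      refine hup _ hJ0 (hwQ ▸ ?_)
      have : Finite (JJ Q) := finite_of_le JJ_le
      exact wt_lt (card_le_card hQT) (Or.inr ⟨hJJ.1.symm, Or.inr
        ⟨by rw [hJJ.2], hJne, Or.inl hJJ.2⟩⟩)
    obtain ⟨K0⟩ := exists_canon hS hF hinv hEsat hJ0
    have hv0 : v₂ ∈ centralizerIn S (JJ Q) :=
      ⟨hv₂C.1, Subgroup.centralizer_le hJ0.1 hv₂C.2⟩
    refine canon_triv hS hQS K le_rfl (not_dvd_relIndex hTfin hTp hEsat hQn hUEp Ep_le) hvQ hUv ?_
    intro γ hγ δ hδ
    obtain ⟨γ', hγ', hγ'e⟩ := exists_res_Ep hQT hγ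
    obtain ⟨δ', hδ', hδ'e⟩ := exists_res_Ep hQT hδ
    obtain ⟨m, hm, hmJ, hmv⟩ := fixes_of_mem
      (hgJ _ (isMap_of_mem_autGroup hJ0.1 (Ep_le hγ')))
    have hz := K.near γ hγ v₂ hvQ
    have hzJ : v₂⁻¹ * K.act γ v₂ ∈ ctr (JJ Q) :=
      ⟨mem_JJ hz.1 fun x hx => hz.2 x (JJ_le hx), Subgroup.centralizer_le JJ_le hz.2⟩
    have hdom : JJ Q ⊔ Subgroup.zpowers v₂ ≤ Q ⊔ centralizerIn S Q :=
      le_trans (sup_le_sup_right JJ_le _) hsupQ
    have h1 := value_fixed (hJ0.1.trans hTS) K0 hγ' hv0 ((K.map γ hγ).restrict hdom) hm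
      (fun r hr => by rw [K.res γ hγ r (JJ_le hr), hγ'e r hr]) hmJ hmv hzJ δ' hδ'
    rwa [hδ'e _ hzJ.1] at h1
  · -- `J(P)` is not inside
    set D := Q ⊔ JJ P with hDd
    have hDP : D ≤ P := sup_le hQP.le JJ_le
    have hDfin : Finite D := finite_of_le hDP
    have hQD : Q ≤ D := le_sup_left
    obtain ⟨habD, hJD⟩ := eq_of_le hDP le_sup_right
    have hgD : Good D := by
      refine hup D (cen_mono hQ hQD (hDP.trans normalizerIn_le)) (hwQ ▸ ?_)
      refine wt_lt (card_le_card hQT) ?_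
      rcases (abMax_mono hQD).lt_or_eq with h1 | h1
      · exact Or.inl h1
      refine Or.inr ⟨h1, Or.inl ?_⟩
      have : Finite (JJ D) := finite_of_le JJ_le
      refine lt_of_le_of_ne (card_le_card (JJ_mono hQD h1)) fun h2 => hJP ?_
      have h3 : JJ Q = JJ D := eq_of_le_card (JJ_mono hQD h1) h2.ge
      rw [← hJD, ← h3]
      exact JJ_le
    set B := Ep E p Q ⊓ Subgroup.normalizer (autInducedBy D Q : Set (MulAut Q)) with hBd
    have hUB : U ≤ B := by
      refine le_inf hUEp fun u hu => ?_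
      obtain ⟨t, ht, hte⟩ := mem_autInducedBy_iff'.1 hu
      have : Finite (autInducedBy D Q) := inferInstance
      refine mem_normalizer_of_forall fun w hw => ?_
      obtain ⟨d, hd, hde⟩ := mem_autInducedBy_iff'.1 hw
      have htD : t * d * t⁻¹ ∈ D := by
        have hle : D ≤ D.comap (MulAut.conj t).toMonoidHom := by
          refine sup_le (fun q hq => Subgroup.mem_sup_left ((Subgroup.mem_normalizer_iff.1 ht.2 q).1 hq))
            fun q hq => Subgroup.mem_sup_right ?_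
          exact (Subgroup.mem_normalizer_iff.1 (mem_normalizer_JJ E normalizerIn_le ht.1
            (Subgroup.le_normalizer (show t ∈ P from ⟨ht.1, ht.2⟩))) q).1 hq
        exact hle hd.1
      refine mem_autInducedBy_iff'.2 ⟨t * d * t⁻¹, ⟨htD, (hDP htD).2⟩, fun x hx => ?_⟩
      have hui : autFun u⁻¹ x = cj t⁻¹ x := by
        have hm : cj t⁻¹ x ∈ Q := by
          rw [cj_apply]
          exact (Subgroup.mem_normalizer_iff.1 (Subgroup.inv_mem _ ht.2) x).1 hx
        conv_lhs => rw [← cj_cj_inv t x, ← hte _ hm]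
        rw [autFun_inv_apply]
      rw [autFun_mul, autFun_mul, hte _ (autFun_mem _ (autFun_mem _ hx)), hde _ (autFun_mem _ hx),
        hui, ← cj_mul, ← cj_mul]
    have hB : ∀ γ ∈ B, ∀ δ ∈ Ep E p Q,
        autFun δ (v₂⁻¹ * K.act γ v₂) = v₂⁻¹ * K.act γ v₂ := by
      intro γ hγ
      obtain ⟨g, hg, hge⟩ := exists_ext_D hTp hEsat hQT hQn hDP (Ep_le hγ.1) hγ.2
      obtain ⟨m, hm, hmD, hmv⟩ := fixes_of_mem (hgD g hg)
      exact value_fixed hQS K hγ.1 hvQ ((K.map γ hγ.1).restrict hsupQ)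
        (hm.restrict (sup_le_sup_right hQD _)) (K.res γ hγ.1)
        (fun r hr => (hmD r (hQD hr)).trans (hge r hr)) hmv (K.near γ hγ.1 v₂ hvQ)
    have hBfix := canon_triv hS hQS K inf_le_left
      (not_dvd_relIndex hTfin hTp hEsat hQn hUB (inf_le_left.trans Ep_le)) hvQ hUv
      fun γ hγ δ hδ => hB γ hγ δ hδ.1
    obtain ⟨c, hc, hcf⟩ := canon_fix hS hQS K le_rfl
      (not_dvd_relIndex hTfin hTp hEsat hQn hUEp Ep_le) hvQ hUv
    have hBc : ∀ γ ∈ B, autFun γ c = c := fun γ hγ => by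
      have h1 := hcf γ hγ.1
      rw [Canon.act_mul K hγ.1 hvQ hc.1, hBfix γ hγ] at h1
      exact mul_left_cancel h1
    have hcP : ∀ t ∈ P, t * c = c * t := by
      intro t ht
      have hu : conjAut T Q ⟨t, ht⟩ ∈ U := by rw [hUd, ← conjAut_range]; exact ⟨_, rfl⟩
      have h1 := hBc _ (hUB hu)
      rw [conjAut_apply ⟨t, ht⟩ hc.1, cj_apply] at h1
      exact mul_inv_eq_iff_eq_mul.1 h1
    have hcen : E.IsCentric Q := ⟨hQT, fun Q' hQ' => by
      obtain ⟨f, hf, rfl⟩ := isConj_iff_map.1 hQ'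
      exact hQ.2 _ (map_subsys hinv hf).isConj⟩
    have hall := model_fix hTp hEsat hp hQT hQn hcen hc hcP fun γ hγ hn => hBc γ ⟨hγ, hn⟩
    intro γ hγ
    have h1 := hcf γ hγ
    rw [Canon.act_mul K hγ hvQ hc.1, hall γ hγ] at h1
    exact mul_right_cancel h1

end Main

end Cfsg.Agent.Fusion.CentralizeNormalOdd
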