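/-
A saturated fusion system is of characteristic `p`-type or of component type.
-/
import Mathlib
import Cfsg.Agent.Lib.Fusion.ComponentExists
import Cfsg.Agent.Lib.Fusion.NormalizerModel
import Cfsg.Agent.Lib.Fusion.GoodExtension
import Cfsg.Agent.Lib.Cores.Nilpotent

set_option autoImplicit false
set_option linter.all false

namespace Cfsg.Agent.Fusion.CharPType

open Cfsg Cfsg.FusionSystem Cfsg.Agent.Fusion.Basic Cfsg.Agent.Fusion.Saturation
  Cfsg.Agent.Fusion.Normal Cfsg.Agent.Fusion.NormalCentralizer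

variable {Ω : Type*} [Group Ω] {S : Subgroup Ω} [Finite S] {F : FusionSystem S} {p : ℕ}
  [Fact p.Prime]

omit [Fact p.Prime] in
/-- An automorphism of order prime to `p` fixing `A` pointwise, and fixing the elements of `Q`
centralized by `A`, fixes `Q`. -/
theorem fix_of_centralizer [Fact p.Prime] (hS : IsPGroup p S) {A Q K : Subgroup Ω}
    (hAS : A ≤ S) (hQS : Q ≤ S) (hKS : K ≤ S) (hAK : A ≤ K) (hQK : Q ≤ K)
    (hnorm : A ≤ Subgroup.normalizer (Q : Set Ω)) (β : MulAut K) (hc : (orderOf β).Coprime p)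
    (hβA : ∀ a ∈ A, autFun β a = a) (hβQ : ∀ y ∈ Q, autFun β y ∈ Q)
    (hfix : ∀ y ∈ Q, (∀ a ∈ A, a * y = y * a) → autFun β y = y) :
    ∀ y ∈ Q, autFun β y = y := by
  have : Group.IsNilpotent S := hS.isNilpotent
  obtain ⟨n, hn⟩ := Group.IsNilpotent.nilpotent (G := S)
  suffices h : ∀ i : ℕ, ∀ (y : Ω) (hy : y ∈ Q),
      (⟨y, hQS hy⟩ : S) ∈ Subgroup.upperCentralSeries S i → autFun β y = y from
    fun y hy => h n y hy (hn ▸ Subgroup.mem_top _)
  intro i
  induction i with
  | zero =>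
    intro y hy h
    rw [Subgroup.upperCentralSeries_zero, Subgroup.mem_bot] at h
    have h1 : y = 1 := congrArg Subtype.val h
    rw [h1, (autFun_isHom β).map_one]
  | succ i ih =>
    intro y hy h
    set z := autFun β y with hz
    have hzQ : z ∈ Q := hβQ y hy
    set c := z⁻¹ * y with hc'
    have hcQ : c ∈ Q := Q.mul_mem (Q.inv_mem hzQ) hy
    have hcomm : ∀ a ∈ A, a * c = c * a := by
      intro a ha
      have hd : y * a * y⁻¹ * a⁻¹ ∈ Q := by
        have h1 := (Subgroup.mem_normalizer_iff.1 (hnorm ha) y⁻¹).1 (Q.inv_mem hy)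
        have h2 := Q.mul_mem hy h1
        simpa [mul_assoc] using h2
      have h3 : autFun β (y * a * y⁻¹ * a⁻¹) = y * a * y⁻¹ * a⁻¹ := by
        refine ih _ hd ?_
        have h4 := (Subgroup.mem_upperCentralSeries_succ_iff).1 h ⟨a, hAS ha⟩
        convert h4 using 1
        apply Subtype.ext
        simp [commutatorElement_def]
      have hyK := hQK hy
      have haK := hAK ha
      have hβ := autFun_isHom β
      rw [hβ _ (K.mul_mem (K.mul_mem hyK haK) (K.inv_mem hyK)) _ (K.inv_mem haK),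
        hβ.map_inv haK, hβ.map_conj hyK haK, hβA a ha, ← hz] at h3
      have h5 : z * a * z⁻¹ = y * a * y⁻¹ := mul_right_cancel h3
      have h6 : a = c * a * c⁻¹ := by
        calc a = z⁻¹ * (z * a * z⁻¹) * z := by group
          _ = z⁻¹ * (y * a * y⁻¹) * z := by rw [h5]
          _ = c * a * c⁻¹ := by rw [hc']; group
      conv_lhs => rw [h6]
      group
    have hcfix : autFun β c = c := hfix c hcQ hcomm
    have hfixpow : ∀ k : ℕ, autFun β (c ^ k) = c ^ k := by
      intro k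
      induction k with
      | zero => rw [pow_zero, (autFun_isHom β).map_one]
      | succ m ih' =>
        rw [pow_succ, autFun_isHom β _ (K.pow_mem (hQK hcQ) m) _ (hQK hcQ), ih', hcfix]
    have hzy : z = y * c⁻¹ := by rw [hc']; group
    have hpow : ∀ k : ℕ, autFun (β ^ k) y = y * (c ^ k)⁻¹ := by
      intro k
      induction k with
      | zero => rw [pow_zero, autFun_one, pow_zero, inv_one, mul_one]; rfl
      | succ k ih' =>
        rw [pow_succ', autFun_mul, ih',
          autFun_isHom β _ (hQK hy) _ (K.inv_mem (K.pow_mem (hQK hcQ) k)),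
          (autFun_isHom β).map_inv (K.pow_mem (hQK hcQ) k), hfixpow, ← hz, pow_succ,
          mul_inv_rev]
        exact (congrArg (fun t => t * (c ^ k)⁻¹) hzy).trans (mul_assoc y c⁻¹ (c ^ k)⁻¹)
    have h1 : c ^ orderOf β = 1 := by
      have h2 := hpow (orderOf β)
      rw [pow_orderOf_eq_one, autFun_one, id] at h2
      exact inv_eq_one.1 (mul_eq_left.1 h2.symm)
    obtain ⟨k, hk⟩ := hS ⟨c, hQS hcQ⟩
    have h3 : c = 1 := Elementwise.eq_one_of_coprime_pow ⟨k, congrArg Subtype.val hk⟩ hc h1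
    rw [hzy, h3, inv_one, mul_one]

/-- The normalizer system of `U` is constrained when, after a transport of `N_S(U)`, the centralizer
system of a subgroup of order `p` of `U` is. -/
theorem constrained_normalizer (hS : IsPGroup p S) (hF : F.IsSaturated p) {U X : Subgroup Ω}
    (hU : F.IsFullyNormalized U) {E : FusionSystem (normalizerIn S U)}
    (hE : F.IsNormalizerSystem U E) {g : Ω → Ω} (hg : IsMap F (normalizerIn S U) g)
    (hXU : X ≤ img g U) (hX : F.IsFullyNormalized X)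
    (hN : normalizerIn S (img g U) = img g (normalizerIn S U))
    (hNX : img g (normalizerIn S U) ≤ centralizerIn S X)
    {C : FusionSystem (centralizerIn S X)} (hC : F.IsCentralizerSystem X C)
    (hc : C.IsConstrained p) : E.IsConstrained p := by
  -- the systems
  have hfinN : Finite (normalizerIn S U) := finite_of_le normalizerIn_le
  have hNp : IsPGroup p (normalizerIn S U) := hS.to_le normalizerIn_le
  have hEs := KNormalizer.normalizerSystem_saturated hS hF hU hE
  have hUE : E.IsNormal U := NormalizerModel.isNormal hE hU.1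
  have hUN : U ≤ normalizerIn S U := le_normalizerIn hU.1
  obtain ⟨C₁, hC₁⟩ := KNormalizer.exists_centralizerSystem (F := E) hUE.1
  have hC₁s := KNormalizer.centralizerSystem_saturated hNp hEs (normal_fullyCentralized hUE) hC₁
  have hfinT : Finite (centralizerIn (normalizerIn S U) U) := finite_of_le centralizerIn_le
  have hTp : IsPGroup p (centralizerIn (normalizerIn S U) U) := hNp.to_le centralizerIn_le
  refine constrained_of_centralizer hNp hEs hUE hC₁ ?_
  obtain ⟨hCs, Q, hQn, hQc⟩ := hc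
  have hfinC : Finite (centralizerIn S X) := finite_of_le centralizerIn_le
  have hCp : IsPGroup p (centralizerIn S X) := hS.to_le centralizerIn_le
  have hQS : Q ≤ S := hQn.1.trans centralizerIn_le
  obtain ⟨i, hi, hiimg, hig, hgi⟩ := hg.exists_inv
  -- the part of `Q` centralizing the image of `U`, and its preimage
  let Q' : Subgroup Ω := Q ⊓ Subgroup.centralizer (img g U : Set Ω)
  have hQ'Q : Q' ≤ Q := inf_le_left
  have hQ'N : Q' ≤ img g (normalizerIn S U) := fun x hx =>
    hN.le (centralizerIn_le_normalizerIn ⟨hQS hx.1, hx.2⟩)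
  let Q₁ : Subgroup Ω := img i Q'
  have hQ₁N : Q₁ ≤ normalizerIn S U := (img_mono i hQ'N).trans hiimg.le
  have hgQ₁ : img g Q₁ = Q' := by
    show img g (img i Q') = Q'
    rw [(hi.restrict hQ'N).img_img, img_congr (g := id) fun x hx => hgi x (hQ'N hx), img_id]
  have hQ₁U : Q₁ ≤ centralizerIn (normalizerIn S U) U := by
    intro x hx
    refine ⟨hQ₁N hx, fun u hu => hg.inj ((normalizerIn S U).mul_mem (hUN hu) (hQ₁N hx))
      ((normalizerIn S U).mul_mem (hQ₁N hx) (hUN hu)) ?_⟩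
    rw [hg.map_mul (hUN hu) (hQ₁N hx), hg.map_mul (hQ₁N hx) (hUN hu)]
    exact (hgQ₁.le (mem_img_self g hx)).2 _ (mem_img_self g hu)
  have hUX : ∀ x ∈ X, x ∈ img g U := fun x hx => hXU hx
  -- transport of maps fixing `U` into `C`
  have push : ∀ (R : Subgroup Ω) (h : Ω → Ω), U ≤ R → R ≤ normalizerIn S U → IsMap F R h →
      (∀ x ∈ R, h x ∈ normalizerIn S U) → (∀ u ∈ U, h u = u) →
      IsMap C (img g R) (fun y => g (h (i y))) := by
    intro R h hUR hRN hh hhv hfix
    have hgR : img g R ≤ img g (normalizerIn S U) := img_mono g hRN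
    have hiR : ∀ y ∈ img g R, i y ∈ R := by
      intro y hy
      obtain ⟨x, hx, rfl⟩ := (hg.restrict hRN).mem_img.1 hy
      rwa [hig x (hRN hx)]
    have hm : IsMap F (img g R) (fun y => g (h (i y))) :=
      hg.comp (hh.comp (hi.restrict hgR) hiR) fun y hy => hhv _ (hiR y hy)
    have hXR : X ≤ img g R := hXU.trans (img_mono g hUR)
    refine (isMap_cent_iff hC).2 ⟨hgR.trans hNX, fun y hy =>
      hNX (mem_img_self g (hhv _ (hiR y hy))), fun y => g (h (i y)), ?_, fun _ _ => rfl,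
      fun x hx => ?_⟩
    · rwa [sup_eq_left.2 hXR]
    · obtain ⟨u, hu, rfl⟩ := (hg.restrict hUN).mem_img.1 (hXU hx)
      show g (h (i (g u))) = g u
      rw [hig u (hUN hu), hfix u hu]
  -- extension over `Q`
  have extQ : ∀ (R : Subgroup Ω) (h : Ω → Ω), U ≤ R → R ≤ normalizerIn S U → IsMap F R h →
      (∀ x ∈ R, h x ∈ normalizerIn S U) → (∀ u ∈ U, h u = u) →
      ∃ k, IsMap C (img g R ⊔ Q) k ∧ (∀ x ∈ R, k (g x) = g (h x)) ∧ img k Q = Q ∧
        (∀ a ∈ img g U, k a = a) ∧ img k Q' = Q' := by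
    intro R h hUR hRN hh hhv hfix
    obtain ⟨k, hk, hke, hkQ⟩ := (isNormal_iff.1 hQn).2 _ _ (push R h hUR hRN hh hhv hfix)
    have hke' : ∀ x ∈ R, k (g x) = g (h x) := fun x hx => by
      rw [hke _ (mem_img_self g hx)]
      show g (h (i (g x))) = _
      rw [hig x (hRN hx)]
    have hkU : ∀ a ∈ img g U, k a = a := by
      intro a ha
      obtain ⟨u, hu, rfl⟩ := (hg.restrict hUN).mem_img.1 ha
      rw [hke' u (hUR hu), hfix u hu]
    refine ⟨k, hk, hke', hkQ, hkU, ?_⟩
    have : Finite Q' := finite_of_le (hQ'Q.trans hQS)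
    have hkQ' := hk.restrict ((hQ'Q).trans le_sup_right)
    refine eq_of_le_card (img_le fun y hy => ⟨hkQ.le (mem_img_self k hy.1), fun a ha => ?_⟩)
      hkQ'.card_img.ge
    have haR : a ∈ img g R ⊔ Q := Subgroup.mem_sup_left (img_mono g hUR ha)
    have hyR : y ∈ img g R ⊔ Q := Subgroup.mem_sup_right hy.1
    rw [← hkU a ha, ← hk.map_mul haR hyR, ← hk.map_mul hyR haR, hy.2 a ha]
  -- maps of `C₁`
  have hC₁map : ∀ {P : Subgroup Ω} {f : Ω → Ω}, IsMap C₁ P f →
      ∃ h, IsMap F (P ⊔ U) h ∧ (∀ x ∈ P ⊔ U, h x ∈ normalizerIn S U) ∧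
        (∀ x ∈ P, h x = f x) ∧ ∀ u ∈ U, h u = u := by
    intro P f hf
    obtain ⟨-, -, h, hh, hhe, hhfix⟩ := (isMap_cent_iff hC₁).1 hf
    exact ⟨h, NormalizerModel.isMap_le hE hh, fun x hx => hh.mem hx, hhe, hhfix⟩
  have hQ₁n : C₁.IsNormal Q₁ := by
    refine isNormal_iff.2 ⟨hQ₁U, fun P f hf => ?_⟩
    obtain ⟨h, hh, hhv, hhe, hhfix⟩ := hC₁map hf
    have hRN : P ⊔ U ≤ normalizerIn S U := sup_le (hf.le.trans centralizerIn_le) hUN
    obtain ⟨k, hk, hke, hkQ, hkU, hkQ'⟩ := extQ _ h le_sup_right hRN hh hhv hhfix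
    have hkF : IsMap F (img g (P ⊔ U) ⊔ Q) k := by
      obtain ⟨-, -, k', hk', hk'e, -⟩ := (isMap_cent_iff hC).1 hk
      exact (hk'.restrict le_sup_left).congr hk'e
    have hdomN : P ⊔ Q₁ ⊔ U ≤ normalizerIn S U :=
      sup_le (sup_le (hf.le.trans centralizerIn_le) hQ₁N) hUN
    have hgdom : ∀ x ∈ P ⊔ Q₁ ⊔ U, g x ∈ img g (P ⊔ U) ⊔ Q' := by
      intro x hx
      have h1 : img g (P ⊔ Q₁ ⊔ U) ≤ img g (P ⊔ U) ⊔ Q' := by
        rw [show P ⊔ Q₁ ⊔ U = P ⊔ U ⊔ Q₁ by ac_rfl,
          (hg.restrict (sup_le hRN hQ₁N)).img_sup, hgQ₁]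
      exact h1 (mem_img_self g hx)
    have hkv : ∀ y ∈ img g (P ⊔ U) ⊔ Q', k y ∈ img g (normalizerIn S U) := by
      intro y hy
      have hk' := hkF.restrict (sup_le_sup_left hQ'Q (img g (P ⊔ U)))
      have h1 : img k (img g (P ⊔ U) ⊔ Q') ≤ img g (normalizerIn S U) := by
        rw [hk'.img_sup, hkQ']
        refine sup_le (img_le fun z hz => ?_) hQ'N
        obtain ⟨x, hx, rfl⟩ := (hg.restrict hRN).mem_img.1 hz
        rw [hke x hx]
        exact mem_img_self g (hhv x hx)
      exact h1 (mem_img_self k hy)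
    have hG : IsMap F (P ⊔ Q₁ ⊔ U) (fun x => i (k (g x))) :=
      hi.comp (hkF.comp (hg.restrict hdomN)
        fun x hx => sup_le_sup_left hQ'Q _ (hgdom x hx)) fun x hx => hkv _ (hgdom x hx)
    have hGv : ∀ x ∈ P ⊔ Q₁ ⊔ U, i (k (g x)) ∈ normalizerIn S U := fun x hx =>
      hiimg.le (mem_img_self i (hkv _ (hgdom x hx)))
    have hGR : ∀ x ∈ P ⊔ U, i (k (g x)) = h x := fun x hx => by rw [hke x hx, hig _ (hhv x hx)]
    have hGU : ∀ u ∈ U, i (k (g u)) = u := fun u hu => by
      rw [hGR u (Subgroup.mem_sup_right hu), hhfix u hu]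
    have hGQ : img (fun x => i (k (g x))) Q₁ = Q₁ := by
      rw [← (hg.restrict hQ₁N).img_img (fun y => i (k y)), hgQ₁,
        ← (hkF.restrict (hQ'Q.trans le_sup_right)).img_img i, hkQ']
    have hGE : IsMap E (P ⊔ Q₁ ⊔ U) (fun x => i (k (g x))) := by
      refine (NormalizerModel.isMap_iff hE).2 ⟨hdomN, hGv, fun x => i (k (g x)), ?_,
        fun _ _ => rfl, (img_congr (g := id) hGU).trans (img_id U)⟩
      rwa [sup_eq_left.2 le_sup_right]
    refine ⟨fun x => i (k (g x)), (isMap_cent_iff hC₁).2 ⟨sup_le hf.le hQ₁U, fun x hx => ?_, _,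
      hGE, fun _ _ => rfl, hGU⟩, fun x hx => ?_, hGQ⟩
    · refine ⟨hGv x (Subgroup.mem_sup_left hx), fun u hu => ?_⟩
      have hxm : x ∈ P ⊔ Q₁ ⊔ U := Subgroup.mem_sup_left hx
      have hum : u ∈ P ⊔ Q₁ ⊔ U := Subgroup.mem_sup_right hu
      rw [← hGU u hu, ← hG.map_mul hum hxm, ← hG.map_mul hxm hum,
        ((sup_le hf.le hQ₁U) hx).2 u hu]
    · show i (k (g x)) = f x
      rw [hGR x (Subgroup.mem_sup_left hx), hhe x hx]
  -- no automorphisms of order prime to `p` centralize `Q₁`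
  obtain ⟨C₂, hC₂⟩ := KNormalizer.exists_centralizerSystem (F := C₁) hQ₁n.1
  have hC₂s := KNormalizer.centralizerSystem_saturated hTp hC₁s (normal_fullyCentralized hQ₁n) hC₂
  have hfinT₂ : Finite (centralizerIn (centralizerIn (normalizerIn S U) U) Q₁) :=
    finite_of_le centralizerIn_le
  refine constrained_of_centralizer hTp hC₁s hQ₁n hC₂ (constrained_of_pAut
    (hTp.to_le centralizerIn_le) hC₂s fun P hP α hα hαc => ?_)
  obtain ⟨-, -, g₁, hg₁, hg₁e, hg₁fix⟩ := (isMap_cent_iff hC₂).1 (isMap_of_mem_autGroup hP hα)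
  obtain ⟨h, hh, hhv, hhe, hhfix⟩ := hC₁map hg₁
  have hPN : P ≤ normalizerIn S U := (hP.trans centralizerIn_le).trans centralizerIn_le
  have hRN : P ⊔ Q₁ ⊔ U ≤ normalizerIn S U := sup_le (sup_le hPN hQ₁N) hUN
  have hhα : ∀ x ∈ P, h x = autFun α x := fun x hx => by
    rw [hhe x (Subgroup.mem_sup_left hx), hg₁e x hx]
  have hhQ₁ : ∀ x ∈ Q₁, h x = x := fun x hx => by
    rw [hhe x (Subgroup.mem_sup_right hx), hg₁fix x hx]
  obtain ⟨k, hk, hke, hkQ, hkU, -⟩ := extQ _ h le_sup_right hRN hh hhv hhfix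
  set K := img g (P ⊔ Q₁ ⊔ U) ⊔ Q with hKdef
  have hKC : K ≤ centralizerIn S X := hk.le
  have hfinK : Finite K := finite_of_le hKC
  have hhR : img h (P ⊔ Q₁ ⊔ U) = P ⊔ Q₁ ⊔ U := by
    rw [hh.img_sup, (hh.restrict le_sup_left).img_sup, img_congr hhα, autFun_img,
      img_congr (g := id) hhQ₁, img_id, img_congr (g := id) hhfix, img_id]
  have hkK : img k K = K := by
    rw [hKdef, hk.img_sup, hkQ, (hg.restrict hRN).img_img k,
      img_congr (g := fun x => g (h x)) hke, ← hh.img_img g, hhR]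
  obtain ⟨β₀, hβ₀, hβ₀e⟩ := hk.exists_aut hkK
  have hgP : img g P ≤ K := (img_mono g (le_sup_left.trans le_sup_left)).trans le_sup_left
  obtain ⟨kα, hkα, hkαm⟩ : ∃ j : ℕ, (orderOf (β₀ ^ j)).Coprime p ∧
      ∀ x ∈ P, autFun (α ^ j) x = autFun α x := by
    obtain ⟨j, m, hdvd, hm, hj⟩ :=
      Hyperfocal.exists_exp (p := p) (n := orderOf β₀) (orderOf_pos β₀).ne' hαc
    refine ⟨j, Nat.Coprime.coprime_dvd_left (orderOf_dvd_of_pow_eq_one ?_) hm, fun x _ => ?_⟩
    · rw [← pow_mul]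
      exact orderOf_dvd_iff_pow_eq_one.1 hdvd
    · congr 1
      rw [← pow_mod_orderOf, hj, pow_mod_orderOf, pow_one]
  set β := β₀ ^ kα with hβdef
  have hβmem : β ∈ C.autGroup K := Subgroup.pow_mem _ hβ₀ _
  have hβm := isMap_of_mem_autGroup hKC hβmem
  have hfixpow : ∀ y ∈ K, k y = y → ∀ n : ℕ, autFun (β₀ ^ n) y = y := by
    intro y hy hky n
    induction n with
    | zero => rw [pow_zero, autFun_one]; rfl
    | succ n ih => rw [pow_succ', autFun_mul, ih, hβ₀e y hy, hky]
  have hgQK : ∀ x ∈ P ⊔ Q₁ ⊔ U, g x ∈ K := fun x hx =>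
    Subgroup.mem_sup_left (mem_img_self g hx)
  have hβA : ∀ a ∈ img g U, autFun β a = a := fun a ha =>
    hfixpow a (Subgroup.mem_sup_left (img_mono g le_sup_right ha)) (hkU a ha) _
  have hβQ' : ∀ y ∈ Q', autFun β y = y := by
    intro y hy
    obtain ⟨x, hx, rfl⟩ := (hg.restrict hQ₁N).mem_img.1 (hgQ₁.ge hy)
    refine hfixpow _ (hgQK x (Subgroup.mem_sup_left (Subgroup.mem_sup_right hx))) ?_ _
    rw [hke x (Subgroup.mem_sup_left (Subgroup.mem_sup_right hx)), hhQ₁ x hx]
  have hpowQ : ∀ n : ℕ, ∀ y ∈ Q, autFun (β₀ ^ n) y ∈ Q := by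
    intro n
    induction n with
    | zero => intro y hy; rwa [pow_zero, autFun_one]
    | succ n ih =>
      intro y hy
      rw [pow_succ', autFun_mul, hβ₀e _ (Subgroup.mem_sup_right (ih y hy))]
      exact hkQ.le (mem_img_self k (ih y hy))
  have hQnorm : centralizerIn S X ≤ Subgroup.normalizer (Q : Set Ω) :=
    le_normalizer_of_stronglyClosed (normal_stronglyClosed hQn)
  have hgUX : img g U ≤ centralizerIn S X := (img_mono g hUN).trans hNX
  have hβQ : ∀ y ∈ Q, autFun β y = y :=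
    fix_of_centralizer hS (hgUX.trans centralizerIn_le) hQS (hKC.trans centralizerIn_le)
      ((img_mono g le_sup_right).trans le_sup_left) le_sup_right (hgUX.trans hQnorm) β hkα hβA
      (hpowQ kα) fun y hy hyc => hβQ' y ⟨hy, fun a ha => hyc a ha⟩
  obtain ⟨z, hzQ, -, hze⟩ := CentricExt.aut_fix_centric hCp hCs hQc le_sup_right hKC
    (hKC.trans hQnorm) hβm (autFun_img β) hβQ
  -- hence `β` is trivial
  have hβ1 : β = 1 := by
    have hpow : ∀ n : ℕ, ∀ y ∈ K, autFun (β ^ n) y = z ^ n * y * (z ^ n)⁻¹ := by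
      intro n
      induction n with
      | zero => intro y _; simp [autFun_one]
      | succ n ih =>
        intro y hy
        rw [pow_succ', autFun_mul, hze _ (autFun_mem _ hy), ih y hy, pow_succ' z]
        group
    obtain ⟨e, he⟩ := hS ⟨z, hQS hzQ⟩
    have hz : z ^ p ^ e = 1 := congrArg Subtype.val he
    have h1 : β ^ p ^ e = 1 := autFun_ext fun y hy => by
      rw [hpow _ y hy, hz, one_mul, inv_one, mul_one, autFun_one, id]
    exact orderOf_eq_one_iff.1 (Nat.eq_one_of_dvd_coprimes (hkα.pow_right e) dvd_rfl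
      (orderOf_dvd_of_pow_eq_one h1))
  refine autFun_ext fun x hx => ?_
  rw [autFun_one, id, ← hkαm x hx]
  refine hg.inj (hPN (autFun_mem _ hx)) (hPN hx) ?_
  have hagree : ∀ n : ℕ, autFun (β₀ ^ n) (g x) = g (autFun (α ^ n) x) := by
    intro n
    induction n with
    | zero => rw [pow_zero, pow_zero, autFun_one, autFun_one]; rfl
    | succ n ih =>
      have hm : autFun (α ^ n) x ∈ P ⊔ Q₁ ⊔ U :=
        Subgroup.mem_sup_left (Subgroup.mem_sup_left (autFun_mem _ hx))
      rw [pow_succ', pow_succ', autFun_mul, autFun_mul, ih, hβ₀e _ (hgQK _ hm), hke _ hm,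
        hhα _ (autFun_mem _ hx)]
  rw [← hagree, ← hβdef, hβ1, autFun_one, id]

/-- Every saturated system is of characteristic `p`-type or of component type. -/
theorem charPType_or_componentType (hS : IsPGroup p S) (hF : F.IsSaturated p) :
    F.IsOfCharacteristicPType p ∨ F.IsOfComponentType p := by
  by_contra hcon
  push Not at hcon
  obtain ⟨hchar, hcomp⟩ := hcon
  refine hchar fun U hU1 hU E hE => ?_
  have hfinN : Finite (normalizerIn S U) := finite_of_le normalizerIn_le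
  have hUN : U ≤ normalizerIn S U := le_normalizerIn hU.1
  have : Group.IsNilpotent (normalizerIn S U) := (hS.to_le normalizerIn_le).isNilpotent
  have hn : (U.subgroupOf (normalizerIn S U)).Normal :=
    Subgroup.normal_subgroupOf_of_le_normalizer inf_le_right
  have hne : U.subgroupOf (normalizerIn S U) ≠ ⊥ := by
    rw [Ne, Subgroup.subgroupOf_eq_bot, disjoint_iff, inf_eq_left.2 hUN]
    exact hU1
  obtain ⟨w, hw, hw1⟩ :=
    (Subgroup.bot_or_exists_ne_one _).resolve_left (Cores.inf_center_ne_bot hne)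
  obtain ⟨k, hk⟩ := (hS.to_le normalizerIn_le) w
  obtain ⟨j, hj⟩ : ∃ j : ℕ, orderOf (w ^ j) = p := by
    obtain ⟨m, -, hm⟩ := (Nat.dvd_prime_pow Fact.out).1 (orderOf_dvd_of_pow_eq_one hk)
    rcases m with _ | m
    · rw [pow_zero, orderOf_eq_one_iff] at hm
      exact absurd hm hw1
    · refine ⟨p ^ m, ?_⟩
      rw [orderOf_pow_of_dvd (pow_ne_zero _ (Fact.out : p.Prime).ne_zero)
        (hm ▸ pow_dvd_pow p (Nat.le_succ m)), hm, pow_succ,
        Nat.mul_div_cancel_left _ (pow_pos (Fact.out : p.Prime).pos m)]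
  set x : Ω := ((w ^ j : normalizerIn S U) : Ω) with hxdef
  have hxU : x ∈ U := by
    rw [hxdef, SubmonoidClass.coe_pow]
    exact U.pow_mem hw.1 j
  have hX₀U : Subgroup.zpowers x ≤ U := Subgroup.zpowers_le.2 hxU
  have hX₀S : Subgroup.zpowers x ≤ S := hX₀U.trans hU.1
  have hcard : Nat.card (Subgroup.zpowers x) = p := by
    rw [Nat.card_zpowers, hxdef, Subgroup.orderOf_coe, hj]
  have hNX₀ : normalizerIn S U ≤ centralizerIn S (Subgroup.zpowers x) := by
    intro n hn'
    refine ⟨hn'.1, fun y hy => ?_⟩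
    obtain ⟨m, rfl⟩ := Subgroup.mem_zpowers_iff.1 hy
    have h1 : Commute n x :=
      congrArg Subtype.val (Subgroup.mem_center_iff.1 (Subgroup.pow_mem _ hw.2 j) ⟨n, hn'⟩)
    exact (h1.zpow_right m).symm
  obtain ⟨X, hXc, hX⟩ := exists_fullyNormalized (F := F) hX₀S
  obtain ⟨g₀, hg₀, hg₀X⟩ := exists_map_to_fullyNormalized hS hF hX hXc
  have hg : IsMap F (normalizerIn S U) g₀ :=
    hg₀.restrict (hNX₀.trans centralizerIn_le_normalizerIn)
  obtain ⟨C, hC⟩ := KNormalizer.exists_centralizerSystem (F := F) hX.1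
  have hXcard : Nat.card X = p := by rw [isConj_card hXc, hcard]
  have hCs := KNormalizer.centralizerSystem_saturated hS hF
    (fullyNormalized_fullyCentralized hS hF hX) hC
  have hfinC : Finite (centralizerIn S X) := finite_of_le centralizerIn_le
  have hCc : C.IsConstrained p :=
    (ComponentExists.constrained_iff (hS.to_le centralizerIn_le) hCs).2
      fun ⟨T, D, hD⟩ => hcomp ⟨X, hXcard, hX, C, hC, T, D, hD⟩
  refine constrained_normalizer hS hF hU hE hg ?_ hX ?_ ?_ hC hCc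
  · rw [← hg₀X]
    exact img_mono g₀ hX₀U
  · have hfin' : Finite (normalizerIn S (img g₀ U)) := finite_of_le normalizerIn_le
    refine (eq_of_le_card (hg.img_normalizerIn_le hUN le_rfl) ?_).symm
    rw [hg.card_img]
    exact hU.2 _ (hg.restrict hUN).isConj
  · intro y hy
    obtain ⟨n, hn', rfl⟩ := hg.mem_img.1 hy
    refine ⟨hg.mem hn', ?_⟩
    rw [← hg₀X]
    exact hg.mem_centralizer_img (hX₀U.trans hUN) hn' (hNX₀ hn').2

end Cfsg.Agent.Fusion.CharPType
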