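/-
The factors of a central product are normal in it.
-/
import Mathlib
import Cfsg.Agent.Lib.Fusion.CentralProduct
import Cfsg.Agent.Lib.Fusion.Component

set_option autoImplicit false
set_option linter.all false

namespace Cfsg.Agent.Fusion.ProductFactor

open Cfsg Cfsg.FusionSystem Cfsg.Agent.Fusion.Basic Cfsg.Agent.Fusion.Saturation
  Cfsg.Agent.Fusion.Normal Cfsg.Agent.Fusion.Product Cfsg.Agent.Fusion.CentralProduct
  Cfsg.Agent.Fusion.Factor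

variable {Ω : Type*} [Group Ω] {T T₁ T₂ P : Subgroup Ω} {E₁ : FusionSystem T₁}
  {E₂ : FusionSystem T₂} {D : FusionSystem T}

theorem proj_eq_of_le {A B : Subgroup Ω} (hP : P ≤ A) (hV : A ⊓ B ≤ P) (h : Comm A B) :
    proj A B P = P := by
  refine le_antisymm (fun x hx => ?_) fun x hx => ⟨Subgroup.mem_sup_left hx, hP hx⟩
  obtain ⟨hxA, y, hy, hxy⟩ := (h.mem_proj (hP.trans le_sup_left)).1 hx
  have hyA : y ∈ A := by simpa using A.mul_mem (A.inv_mem hxA) (hP hxy)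
  simpa using P.mul_mem hxy (P.inv_mem (hV ⟨hyA, hy⟩))

theorem cmap_symm (h : Comm T₁ T₂) {f : Ω → Ω} (hf : CMap E₁ E₂ P f) : CMap E₂ E₁ P f := by
  obtain ⟨hP, f₁, f₂, hf₁, hf₂, he⟩ := hf
  refine ⟨sup_comm T₁ T₂ ▸ hP, f₂, f₁, hf₂, hf₁, fun y hy x hx hyx => ?_⟩
  rw [← h x hx y hy] at hyx ⊢
  rw [he x hx y hy hyx, h _ (hf₁.mem ((h.mem_proj hP).2 ⟨hx, y, hy, hyx⟩)) _
    (hf₂.mem ((h.mem_proj' hP).2 ⟨hy, x, hx, hyx⟩))]

/-- The intersection of the groups is central in both factors. -/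
theorem inf_le_center [Finite T₁] [Finite T₂] (hc : IsCentralProductOf E₁ E₂ D) :
    T₁ ⊓ T₂ ≤ E₁.center ∧ T₁ ⊓ T₂ ≤ E₂.center := by
  obtain ⟨D₀, hD₀, Z, θ, hZ, -, -, h₁, h₂, hfac⟩ := hc
  have hfin := finite_prod T₁ T₂
  obtain ⟨-, hext⟩ := (isCentral_iff (F := D₀)).1 center_isCentral
  have hv : ∀ v ∈ T₁ ⊓ T₂, ((v, v⁻¹) : Ω × Ω) ∈ Z := fun v hv => by
    have hm : ((v, v⁻¹) : Ω × Ω) ∈ T₁.prod T₂ := ⟨hv.1, T₂.inv_mem hv.2⟩
    refine (hfac.2.1 ⟨_, hm⟩).1 ?_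
    rw [show (⟨(v, v⁻¹), hm⟩ : T₁.prod T₂) =
      ⟨(v, 1), hv.1, T₂.one_mem⟩ * ⟨(1, v⁻¹), T₁.one_mem, T₂.inv_mem hv.2⟩ from
        Subtype.ext (by simp), map_mul]
    exact (congrArg₂ (· * ·) (h₁ v _) (h₂ v⁻¹ _)).trans (mul_inv_cancel v)
  have hv' : ∀ v ∈ T₁ ⊓ T₂, ((v⁻¹, v) : Ω × Ω) ∈ Z := fun v hv₀ => by
    simpa using Z.inv_mem (hv v hv₀)
  refine ⟨le_center (isCentral_iff.2 ⟨inf_le_left, fun P f hf => ?_⟩),
    le_center (isCentral_iff.2 ⟨inf_le_right, fun P f hf => ?_⟩)⟩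
  · have hfst : fstOf (P.prod (⊥ : Subgroup Ω)) ≤ P := by rintro _ ⟨z, hz, rfl⟩; exact hz.1
    have hsnd : sndOf (P.prod (⊥ : Subgroup Ω)) ≤ T₂ := by
      rintro _ ⟨z, hz, rfl⟩; exact bot_le (a := T₂) hz.2
    have hk : IsMap D₀ (P.prod ⊥) fun z => (f z.1, z.2) :=
      (isMap_prod_iff hD₀).2 ⟨Subgroup.prod_mono hf.le bot_le, f, id, hf.restrict hfst,
        isMap_id hsnd, fun _ _ => rfl⟩
    obtain ⟨k, hk', hke, hkZ⟩ := hext _ _ hk
    obtain ⟨-, g₁, g₂, hg₁, -, hge⟩ := (isMap_prod_iff hD₀).1 hk'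
    refine ⟨g₁, hg₁.restrict (sup_le (fun x hx => ⟨(x, 1), Subgroup.mem_sup_left ⟨hx, one_mem _⟩,
      rfl⟩) fun v hv₀ => ⟨(v, v⁻¹), Subgroup.mem_sup_right (hZ (hv v hv₀)), rfl⟩),
      fun x hx => ?_, fun v hv₀ => ?_⟩
    · have h := hge (x, 1) (Subgroup.mem_sup_left ⟨hx, one_mem _⟩)
      rw [hke (x, 1) ⟨hx, one_mem _⟩] at h
      exact (congrArg Prod.fst h).symm
    · have h := hge (v, v⁻¹) (Subgroup.mem_sup_right (hZ (hv v hv₀)))
      rw [hkZ _ (hZ (hv v hv₀))] at h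
      exact (congrArg Prod.fst h).symm
  · have hsnd : sndOf ((⊥ : Subgroup Ω).prod P) ≤ P := by rintro _ ⟨z, hz, rfl⟩; exact hz.2
    have hfst : fstOf ((⊥ : Subgroup Ω).prod P) ≤ T₁ := by
      rintro _ ⟨z, hz, rfl⟩; exact bot_le (a := T₁) hz.1
    have hk : IsMap D₀ ((⊥ : Subgroup Ω).prod P) fun z => (z.1, f z.2) :=
      (isMap_prod_iff hD₀).2 ⟨Subgroup.prod_mono bot_le hf.le, id, f, isMap_id hfst,
        hf.restrict hsnd, fun _ _ => rfl⟩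
    obtain ⟨k, hk', hke, hkZ⟩ := hext _ _ hk
    obtain ⟨-, g₁, g₂, -, hg₂, hge⟩ := (isMap_prod_iff hD₀).1 hk'
    refine ⟨g₂, hg₂.restrict (sup_le (fun x hx => ⟨(1, x), Subgroup.mem_sup_left ⟨one_mem _, hx⟩,
      rfl⟩) fun v hv₀ => ⟨(v⁻¹, v), Subgroup.mem_sup_right (hZ (hv' v hv₀)), rfl⟩),
      fun x hx => ?_, fun v hv₀ => ?_⟩
    · have h := hge (1, x) (Subgroup.mem_sup_left ⟨one_mem _, hx⟩)
      rw [hke (1, x) ⟨one_mem _, hx⟩] at h
      exact (congrArg Prod.snd h).symm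
    · have h := hge (v⁻¹, v) (Subgroup.mem_sup_right (hZ (hv' v hv₀)))
      rw [hkZ _ (hZ (hv' v hv₀))] at h
      exact (congrArg Prod.snd h).symm

/-- A factor is normal in the product. -/
theorem normal_factor {S : Subgroup Ω} {F : FusionSystem S} {p : ℕ} [Finite S] [Fact p.Prime]
    (hF : F.IsSaturated p) (h₁ : E₁.IsSaturated p) (hcomm : Comm T₁ T₂) (hS : S = T₁ ⊔ T₂)
    (hiff : ∀ P f, IsMap F P f ↔ CMap E₁ E₂ P f) (hc₁ : T₁ ⊓ T₂ ≤ E₁.center)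
    (hc₂ : T₁ ⊓ T₂ ≤ E₂.center) : E₁.IsNormalIn F p := by
  classical
  have hT₁ : T₁ ≤ S := hS.ge.trans' le_sup_left
  have hT₂ : T₂ ≤ S := hS.ge.trans' le_sup_right
  have hfin₁ : Finite T₁ := finite_of_le hT₁
  have hfin₂ : Finite T₂ := finite_of_le hT₂
  -- the maps of `F` inside `T₁` are those of `E₁`
  have hdown : ∀ {P : Subgroup Ω} {f : Ω → Ω}, P ≤ T₁ → IsMap F P f → IsMap E₁ P f := by
    intro P f hP hf
    obtain ⟨hPT, f₁, f₂, hf₁, hf₂, he⟩ := (hiff P f).1 hf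
    refine (hf₁.restrict fun x hx => (hcomm.mem_proj hPT).2
      ⟨hP hx, 1, T₂.one_mem, by rwa [mul_one]⟩).congr fun x hx => ?_
    have h := he x (hP hx) 1 T₂.one_mem (by rwa [mul_one])
    rw [mul_one, hf₂.map_one, mul_one] at h
    exact h.symm
  -- every map of `E₁` extends fixing `T₂`
  have hup : ∀ {P : Subgroup Ω} {f : Ω → Ω}, IsMap E₁ P f →
      ∃ g, IsMap F (P ⊔ T₂) g ∧ (∀ x ∈ P, g x = f x) ∧ ∀ y ∈ T₂, g y = y := by
    intro P f hf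
    obtain ⟨k, hk, hke, hkV⟩ := (isCentral_iff.1 center_isCentral).2 P f hf
    have hPT : P ⊔ T₂ ≤ T₁ ⊔ T₂ := sup_le_sup_right hf.le T₂
    have hproj : proj T₁ T₂ (P ⊔ T₂) ≤ P ⊔ E₁.center := by
      rintro x hx
      obtain ⟨hx₁, y, hy, hxy⟩ := (hcomm.mem_proj hPT).1 hx
      obtain ⟨a, ha, b, hb, hab⟩ := coe_sup_of_normal (S := T₁ ⊔ T₂) hcomm.sup_normalizer
        (hf.le.trans le_sup_left) hxy
      have hv : a⁻¹ * x ∈ T₁ ⊓ T₂ := by
        refine ⟨T₁.mul_mem (T₁.inv_mem (hf.le ha)) hx₁, ?_⟩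
        show a⁻¹ * x ∈ T₂
        rw [show a⁻¹ * x = b * y⁻¹ by
          rw [show x = a * b * y⁻¹ by rw [hab, mul_inv_cancel_right]]; group]
        exact T₂.mul_mem hb (T₂.inv_mem hy)
      rw [← mul_inv_cancel_left a x]
      exact Subgroup.mul_mem_sup ha (hc₁ hv)
    have hdom : ∀ {x y : Ω}, x ∈ T₁ → y ∈ T₂ → x * y ∈ P ⊔ T₂ → x ∈ P ⊔ E₁.center :=
      fun {x y} hx hy hxy => hproj ((hcomm.mem_proj hPT).2 ⟨hx, y, hy, hxy⟩)
    have hwd : ∀ z ∈ P ⊔ T₂, ∃ w, ∀ x ∈ T₁, ∀ y ∈ T₂, x * y = z → w = k x * y := by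
      intro z hz
      obtain ⟨x₀, hx₀, y₀, hy₀, rfl⟩ := hcomm.exists_mul (hPT hz)
      refine ⟨k x₀ * y₀, fun x hx y hy he => ?_⟩
      have hv : x₀⁻¹ * x ∈ T₁ ⊓ T₂ := by
        refine ⟨T₁.mul_mem (T₁.inv_mem hx₀) hx, ?_⟩
        show x₀⁻¹ * x ∈ T₂
        rw [show x₀⁻¹ * x = y₀ * y⁻¹ by
          rw [show x = x₀ * y₀ * y⁻¹ by rw [← he, mul_inv_cancel_right]]; group]
        exact T₂.mul_mem hy₀ (T₂.inv_mem hy)
      have e : k x = k x₀ * (x₀⁻¹ * x) := by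
        conv_lhs => rw [← mul_inv_cancel_left x₀ x]
        rw [hk.map_mul (hdom hx₀ hy₀ hz) (Subgroup.mem_sup_right (hc₁ hv)), hkV _ (hc₁ hv)]
      rw [e, mul_assoc (k x₀)]
      congr 1
      rw [show x₀⁻¹ * x * y = x₀⁻¹ * (x * y) by group, he, inv_mul_cancel_left]
    obtain ⟨g, hg⟩ : ∃ g : Ω → Ω,
        ∀ x ∈ T₁, ∀ y ∈ T₂, x * y ∈ P ⊔ T₂ → g (x * y) = k x * y :=
      ⟨fun z => if hz : z ∈ P ⊔ T₂ then Classical.choose (hwd z hz) else 1,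
        fun x hx y hy hxy => by
          simp only
          rw [dif_pos hxy]
          exact Classical.choose_spec (hwd _ hxy) x hx y hy rfl⟩
    refine ⟨g, (hiff _ _).2 ⟨hPT, k, id, hk.restrict hproj, isMap_id proj_le, hg⟩,
      fun x hx => ?_, fun y hy => ?_⟩
    · have h := hg x (hf.le hx) 1 T₂.one_mem
        (by rw [mul_one]; exact Subgroup.mem_sup_left hx)
      rw [mul_one, mul_one] at h
      rw [h, hke x hx]
    · have h := hg 1 T₁.one_mem y hy (by rw [one_mul]; exact Subgroup.mem_sup_right hy)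
      rw [one_mul, hk.map_one, one_mul] at h
      exact h
  have hsub : ∀ P f, IsMap E₁ P f → IsMap F P f := fun P f hf => by
    obtain ⟨g, hg, hge, -⟩ := hup hf
    exact (hg.restrict le_sup_left).congr hge
  have hsc : F.StronglyClosed T₁ := ⟨hT₁, fun R hR φ hφ x => by
    rw [← ext_apply φ x]
    exact (hdown hR (IsMap.of_hom hφ)).mem x.2⟩
  have hn : ∀ α ∈ E₁.autGroup T₁, ∃ β ∈ F.autGroup (T₁ ⊔ centralizerIn S T₁),
      (∀ x ∈ T₁, autFun β x = autFun α x) ∧ ∀ c ∈ centralizerIn S T₁, c⁻¹ * autFun β c ∈ T₁ := by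
    intro α hα
    obtain ⟨g, hg, hge, hgT⟩ := hup (isMap_of_mem_autGroup le_rfl hα)
    have e : T₁ ⊔ centralizerIn S T₁ = T₁ ⊔ T₂ := le_antisymm
      (sup_le le_sup_left (centralizerIn_le.trans hS.le))
      (sup_le_sup_left (fun y hy => ⟨hT₂ hy, fun x hx => hcomm x hx y hy⟩) _)
    have key : ∀ A : Subgroup Ω, T₁ ⊔ T₂ = A →
        ∃ β ∈ F.autGroup A, ∀ z ∈ A, autFun β z = g z := by
      rintro _ rfl
      have hfin : Finite (T₁ ⊔ T₂ : Subgroup Ω) := finite_of_le hg.le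
      exact hg.exists_aut (eq_of_le_card (img_le fun z hz => hS.le (hg.mem hz)) hg.card_img.ge)
    obtain ⟨β, hβ, hβe⟩ := key _ e.symm
    refine ⟨β, hβ, fun x hx => by rw [hβe x (Subgroup.mem_sup_left hx), hge x hx],
      fun c hc => ?_⟩
    rw [hβe c (Subgroup.mem_sup_right hc)]
    obtain ⟨x, hx, y, hy, rfl⟩ := hcomm.exists_mul (hS.le hc.1)
    rw [hg.map_mul (Subgroup.mem_sup_left hx) (Subgroup.mem_sup_right hy), hge x hx, hgT y hy,
      show (x * y)⁻¹ * (autFun α x * y) = y⁻¹ * (x⁻¹ * autFun α x * y) by group,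
      hcomm _ (T₁.mul_mem (T₁.inv_mem hx) (autFun_mem α hx)) y hy, inv_mul_cancel_left]
    exact T₁.mul_mem (T₁.inv_mem hx) (autFun_mem α hx)
  refine ⟨⟨h₁, hF, Meet.invariant_mk hsub hsc (fun P f hf α hα => ?_)
    (fun P f hP hf => ?_)⟩, fun α hα => ?_⟩
  · have hαE := hdown le_rfl (isMap_of_mem_autGroup hT₁ hα)
    have hαi := hdown le_rfl (isMap_of_mem_autGroup hT₁ (Subgroup.inv_mem _ hα))
    have hm : IsMap E₁ (img (autFun α) P) fun z => autFun α (f (autFun α⁻¹ z)) :=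
      hαE.comp (hf.comp (hαi.restrict (img_le fun x hx => autFun_mem α (hf.le hx))) fun z hz => by
        obtain ⟨x, hx, rfl⟩ := (hαE.restrict hf.le).mem_img.1 hz
        rwa [autFun_inv_apply]) fun z hz => hf.mem (by
        obtain ⟨x, hx, rfl⟩ := (hαE.restrict hf.le).mem_img.1 hz
        rwa [autFun_inv_apply])
    exact ⟨_, hm, fun x hx => by rw [autFun_inv_apply]⟩
  · exact ⟨1, one_mem _, f, hdown hP hf, fun x _ => by rw [autFun_one]; rfl⟩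
  · obtain ⟨β, hβ, hβT, hβX⟩ := hn α hα
    refine ⟨β, hβ, fun x => ?_, fun c hc => ⟨?_, ?_⟩⟩
    · rw [← autFun_apply β, ← autFun_apply α]; exact hβT x x.2
    · rw [← autFun_apply β]; exact hβX c hc
    · refine Subgroup.mul_mem _ (Subgroup.inv_mem _ hc.2) ?_
      rw [← autFun_apply β]
      have hm := isMap_of_mem_autGroup (sup_le hT₁ centralizerIn_le) hβ
      have h2 := hm.mem_centralizer_img le_sup_left (Subgroup.mem_sup_right hc) hc.2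
      rwa [Normal.stronglyClosed_img hsc hm le_sup_left] at h2

/-- Both factors of a central product are normal in it. -/
theorem normal_factors {S : Subgroup Ω} {F : FusionSystem S} {p : ℕ} [Finite S] [Fact p.Prime]
    (hF : F.IsSaturated p) (h₁ : E₁.IsSaturated p) (h₂ : E₂.IsSaturated p)
    (hc : IsCentralProductOf E₁ E₂ F) : E₁.IsNormalIn F p ∧ E₂.IsNormalIn F p := by
  obtain ⟨hcomm, hS⟩ := comm_and_sup hc
  have hfin₁ : Finite T₁ := finite_of_le (hS.ge.trans' le_sup_left)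
  have hfin₂ : Finite T₂ := finite_of_le (hS.ge.trans' le_sup_right)
  obtain ⟨hc₁, hc₂⟩ := inf_le_center hc
  refine ⟨normal_factor hF h₁ hcomm hS (fun P f => CentralProduct.isMap_iff hc) hc₁ hc₂,
    normal_factor hF h₂ hcomm.symm (hS.trans (sup_comm T₁ T₂)) (fun P f =>
      ⟨fun h => cmap_symm hcomm ((CentralProduct.isMap_iff hc).1 h),
        fun h => (CentralProduct.isMap_iff hc).2 (cmap_symm hcomm.symm h)⟩)
      (inf_comm T₁ T₂ ▸ hc₂) (inf_comm T₁ T₂ ▸ hc₁)⟩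

end Cfsg.Agent.Fusion.ProductFactor
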