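/-
The central product of two normal subsystems with commuting groups is normal.
-/
import Mathlib
import Cfsg.Agent.Lib.Fusion.CentralProduct
import Cfsg.Agent.Lib.Fusion.FixExt
import Cfsg.Agent.Lib.Fusion.Meet
import Cfsg.Agent.Lib.Fusion.MeetNormal

set_option autoImplicit false
set_option linter.all false

namespace Cfsg.Agent.Fusion.ProductNormal

open Cfsg Cfsg.FusionSystem Cfsg.Agent.Fusion.Basic Cfsg.Agent.Fusion.Saturation
  Cfsg.Agent.Fusion.Normal Cfsg.Agent.Fusion.Factor Cfsg.Agent.Fusion.Subsystems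
  Cfsg.Agent.Fusion.SylIn Cfsg.Agent.Fusion.MeetAut Cfsg.Agent.Fusion.CentralProduct
  Cfsg.Agent.Fusion.PPrimeNormal Cfsg.Agent.Fusion.PPrimeResidual

variable {Ω : Type*} [Group Ω] {S T T₁ T₂ P Q : Subgroup Ω} {F : FusionSystem S} {p : ℕ}
  [Finite S] [Fact p.Prime]

/-- The Frattini condition, when the automorphisms of the fully normalized subgroups extend after
a map of the subsystem. -/
theorem fac_of_steps (hS : IsPGroup p S) (hF : F.IsSaturated p) {E : FusionSystem T}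
    (hT : F.StronglyClosed T)
    (htr : ∀ P φ, IsMap E P φ → ∀ α ∈ F.autGroup T,
      ∃ g, IsMap E (img (autFun α) P) g ∧ ∀ x ∈ P, g (autFun α x) = autFun α (φ x))
    (hstep : ∀ Q, Q < T → F.IsFullyNormalized Q → ∀ a ∈ F.autGroup Q,
      ∃ b ∈ E.autGroup Q, ∃ R θ, Q < R ∧ R ≤ T ∧ IsMap F R θ ∧
        ∀ x ∈ Q, θ x = autFun (b * a) x)
    {f : Ω → Ω} (hPT : P ≤ T) (hf : IsMap F P f) :
    ∃ α ∈ F.autGroup T, ∃ f₀, IsMap E P f₀ ∧ ∀ x ∈ P, f x = autFun α (f₀ x) := by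
  have hfinT : Finite T := finite_of_le hT.1
  let Fc : Subgroup Ω → (Ω → Ω) → Prop := fun P f =>
    ∃ α ∈ F.autGroup T, ∃ f₀, IsMap E P f₀ ∧ ∀ x ∈ P, f x = autFun α (f₀ x)
  have fcongr : ∀ {P f g}, Fc P f → (∀ x ∈ P, f x = g x) → Fc P g :=
    fun ⟨α, hα, f₀, hf₀, he⟩ h => ⟨α, hα, f₀, hf₀, fun x hx => (h x hx).symm.trans (he x hx)⟩
  have frestr : ∀ {P Q f}, Fc P f → Q ≤ P → Fc Q f :=
    fun ⟨α, hα, f₀, hf₀, he⟩ h => ⟨α, hα, f₀, hf₀.restrict h, fun x hx => he x (h hx)⟩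
  have fcomp : ∀ {P Q f g}, Fc P f → Fc Q g → (∀ x ∈ P, f x ∈ Q) → Fc P fun x => g (f x) := by
    rintro P Q f g ⟨β, hβ, f₀, hf₀, hfe⟩ ⟨α, hα, g₀, hg₀, hge⟩ h
    obtain ⟨k, hk, hke⟩ := htr Q g₀ hg₀ β⁻¹ (Subgroup.inv_mem _ hβ)
    have hmem : ∀ x ∈ P, f₀ x ∈ img (autFun β⁻¹) Q := fun x hx => by
      have := mem_img_self (autFun β⁻¹) (h x hx)
      rwa [hfe x hx, autFun_inv_apply] at this
    refine ⟨α * β, mul_mem hα hβ, fun x => k (f₀ x), hk.comp hf₀ hmem, fun x hx => ?_⟩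
    show g (f x) = autFun (α * β) (k (f₀ x))
    have h1 := hke _ (h x hx)
    rw [show autFun β⁻¹ (f x) = f₀ x by rw [hfe x hx, autFun_inv_apply]] at h1
    rw [h1, autFun_mul, autFun_apply_inv, hge _ (h x hx)]
  have finv : ∀ {P f i}, Fc P f → (∀ x ∈ P, i (f x) = x) → IsMap F P f → Fc (img f P) i := by
    rintro P f i ⟨α, hα, f₀, hf₀, hfe⟩ hi hfm
    obtain ⟨j, hj, -, hjf, -⟩ := hf₀.exists_inv
    obtain ⟨k, hk, hke⟩ := htr _ j hj α hα
    have heq : img (autFun α) (img f₀ P) = img f P := by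
      rw [hf₀.img_img]
      exact (img_congr hfe).symm
    refine ⟨α⁻¹, Subgroup.inv_mem _ hα, k, heq ▸ hk, fun y hy => ?_⟩
    obtain ⟨x, hx, rfl⟩ := hfm.mem_img.1 hy
    rw [hi x hx, hfe x hx, hke _ (mem_img_self f₀ hx), autFun_inv_apply, hjf x hx]
  show Fc P f
  induction hn : Nat.card T - Nat.card P using Nat.strong_induction_on generalizing P f with
  | _ n ih =>
  have hbig : ∀ R : Subgroup Ω, R ≤ T → Nat.card P < Nat.card R →
      ∀ θ : Ω → Ω, IsMap F R θ → Fc R θ := fun R hR hlt θ hθ => by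
    have := card_le_card hR
    exact ih (Nat.card T - Nat.card R) (by omega) hR hθ rfl
  rcases eq_or_lt_of_le hPT with rfl | hlt
  · obtain ⟨α, hα, he⟩ := hf.exists_aut (eq_of_le_card
      (img_le fun x hx => stronglyClosed_mem hT hf hx hx) hf.card_img.ge)
    exact ⟨α, hα, id, isMap_id le_rfl, fun x hx => (he x hx).symm⟩
  obtain ⟨Q, hPQ, hQ⟩ := exists_fullyNormalized (F := F) hf.le
  have hmove : ∀ R : Subgroup Ω, R ≤ T → F.IsConj R P →
      ∃ g, IsMap F R g ∧ img g R = Q ∧ Q ≤ T ∧ Fc R g := by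
    intro R hRT hR
    obtain ⟨g, hg, hgQ⟩ := exists_map_to_fullyNormalized hS hF hQ (isConj_trans hR hPQ)
    have hle : normalizerIn T R ≤ normalizerIn S R := inf_le_inf_right _ hT.1
    have hres := hg.restrict hle
    have hfinR : Finite R := finite_of_le hRT
    have hRlt : R < T := lt_of_le_of_ne hRT fun h => by
      have h1 := card_lt_card hlt
      have h2 := isConj_card hR
      subst h
      omega
    have hNlt := lt_normalizerIn (hS.to_le hT.1) hRlt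
    have hfinN : Finite (normalizerIn T R) := finite_of_le normalizerIn_le
    have hcard : Nat.card P < Nat.card (normalizerIn T R) := by
      have h1 := card_lt_card hNlt
      have h2 := isConj_card hR
      omega
    refine ⟨g, hres.restrict hNlt.le, hgQ, ?_, frestr (hbig _ normalizerIn_le hcard g hres) hNlt.le⟩
    rw [← hgQ]
    exact img_le fun x hx => stronglyClosed_mem hT hres (hNlt.le hx) (hRT hx)
  have hfP : img f P ≤ T := img_le fun x hx => stronglyClosed_mem hT hf hx (hPT hx)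
  obtain ⟨g₁, hg₁, hg₁Q, hQT, hg₁F⟩ := hmove P hPT (isConj_refl hf.le)
  obtain ⟨g₂, hg₂, hg₂Q, -, hg₂F⟩ := hmove (img f P) hfP (isConj_symm hf.isConj)
  subst hg₁Q
  obtain ⟨i₁, hi₁, hi₁img, hi₁g, -⟩ := hg₁.exists_inv
  obtain ⟨i₂, hi₂, hi₂img, hi₂g, -⟩ := hg₂.exists_inv
  have hmapsto : ∀ x ∈ img g₁ P, i₁ x ∈ P := fun x hx => le_of_eq hi₁img (mem_img_self i₁ hx)
  have hin : IsMap F (img g₁ P) (fun x => f (i₁ x)) := hf.comp hi₁ hmapsto
  have hcomp : IsMap F (img g₁ P) (fun x => g₂ (f (i₁ x))) :=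
    hg₂.comp hin fun x hx => mem_img_self f (hmapsto x hx)
  have himg : img (fun x => g₂ (f (i₁ x))) (img g₁ P) = img g₁ P := by
    rw [← hin.img_img g₂, ← hi₁.img_img f, hi₁img, hg₂Q]
  obtain ⟨α, hα, he⟩ := hcomp.exists_aut himg
  have hQlt : img g₁ P < T := lt_of_le_of_ne hQT fun h => by
    have h1 := card_lt_card hlt
    have h2 := hg₁.card_img
    rw [h] at h2
    omega
  have ha : Fc (img g₁ P) (autFun α) := by
    obtain ⟨b, hb, R, θ, hlt', hRT, hθ, hθe⟩ := hstep _ hQlt hQ α hα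
    have hfinR : Finite R := finite_of_le hRT
    have hθF : Fc (img g₁ P) θ :=
      frestr (hbig R hRT (by rw [← hg₁.card_img]; exact card_lt_card hlt') θ hθ) hlt'.le
    have hbF : Fc (img g₁ P) (autFun b⁻¹) :=
      ⟨1, one_mem _, _, isMap_of_mem_autGroup hQT (Subgroup.inv_mem _ hb),
        fun x _ => by rw [autFun_one]; rfl⟩
    refine fcongr (fcomp hθF hbF fun x hx => by rw [hθe x hx]; exact autFun_mem _ hx)
      fun x hx => ?_
    show autFun b⁻¹ (θ x) = autFun α x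
    rw [hθe x hx, autFun_mul, autFun_inv_apply]
  have hi₂F : Fc (img g₁ P) i₂ := by
    rw [← hg₂Q]
    exact finv hg₂F hi₂g hg₂
  refine fcongr (fcomp (fcomp hg₁F ha fun x hx => mem_img_self g₁ hx) hi₂F
    fun x hx => autFun_mem α (mem_img_self g₁ hx)) fun x hx => ?_
  show i₂ (autFun α (g₁ x)) = f x
  rw [he _ (mem_img_self g₁ hx), hi₁g x hx, hi₂g _ (mem_img_self f hx)]

variable {E₁ : FusionSystem T₁} {E₂ : FusionSystem T₂}

/-- A normal subgroup of `S` extends an automorphism trivial on it and modulo it. -/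
theorem exists_ext_layer (hS : IsPGroup p S) (hF : F.IsSaturated p) {A : Subgroup Ω}
    (hA : F.StronglyClosed A) (hQ : F.IsFullyNormalized Q) {q t : Ω} (hq : q ∈ Q) (ht : t ∈ S)
    (htN : t ∈ Subgroup.normalizer (Q : Set Ω)) (hmod : ∀ x ∈ Q, x⁻¹ * (t * x * t⁻¹) ∈ A)
    (hin : ∀ x ∈ Q, x ∈ A → t * x * t⁻¹ = q * x * q⁻¹) {a : MulAut Q} (ha : a ∈ F.autGroup Q) :
    ∃ θ, IsMap F (Q ⊔ Subgroup.zpowers t) θ ∧ ∀ x ∈ Q, θ x = autFun a x := by
  have hQS := hQ.1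
  have hfinQ : Finite Q := finite_of_le hQS
  have hfinA : Finite A := finite_of_le hA.1
  have hAQ : ∀ a ∈ F.autGroup Q, ∀ x ∈ Q, x ∈ A → autFun a x ∈ A := fun a ha x hx hxA =>
    stronglyClosed_mem hA (isMap_of_mem_autGroup hQS ha) hx hxA
  let L : Subgroup (F.autGroup Q) :=
    let M : Submonoid (F.autGroup Q) :=
    { carrier := {c | (∀ x ∈ Q, x⁻¹ * autFun (c : MulAut Q) x ∈ A) ∧
        ∃ r ∈ Q, ∀ x ∈ Q, x ∈ A → autFun (c : MulAut Q) x = r * x * r⁻¹}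
      one_mem' := ⟨fun x _ => by simp [autFun_one, A.one_mem], 1, Q.one_mem,
        fun x _ _ => by simp [autFun_one]⟩
      mul_mem' := by
        rintro c d ⟨hc, r, hr, hre⟩ ⟨hd, u, hu, hue⟩
        refine ⟨fun x hx => ?_, r * u, Q.mul_mem hr hu, fun x hx hxA => ?_⟩
        · rw [Subgroup.coe_mul, autFun_mul]
          have h1 := A.mul_mem (hd x hx) (hc _ (autFun_mem (d : MulAut Q) hx))
          simpa [mul_assoc] using h1
        · rw [Subgroup.coe_mul, autFun_mul, hue x hx hxA, hre _ (Q.mul_mem (Q.mul_mem hu hx)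
            (Q.inv_mem hu)) (by rw [← hue x hx hxA]; exact hAQ _ d.2 x hx hxA)]
          group }
    { M with
      inv_mem' := fun {c} hc => by
        have h1 : c⁻¹ = c ^ (orderOf c - 1) := by
          refine inv_eq_of_mul_eq_one_right ?_
          rw [← pow_succ', Nat.sub_add_cancel (orderOf_pos c), pow_orderOf_eq_one]
        rw [h1]
        exact M.pow_mem hc _ }
  have hL : ∀ {c : F.autGroup Q}, c ∈ L ↔ (∀ x ∈ Q, x⁻¹ * autFun (c : MulAut Q) x ∈ A) ∧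
      ∃ r ∈ Q, ∀ x ∈ Q, x ∈ A → autFun (c : MulAut Q) x = r * x * r⁻¹ := Iff.rfl
  have hLn : L.Normal := by
    refine ⟨fun c hc b => hL.2 ⟨fun x hx => ?_, ?_⟩⟩
    · have hy := autFun_mem (b : MulAut Q)⁻¹ hx
      have hw := hc.1 _ hy
      rw [Subgroup.coe_mul, Subgroup.coe_mul, Subgroup.coe_inv, autFun_mul, autFun_mul]
      set y := autFun (b : MulAut Q)⁻¹ x with hy'
      have hwQ : y⁻¹ * autFun (c : MulAut Q) y ∈ Q := Q.mul_mem (Q.inv_mem hy) (autFun_mem _ hy)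
      conv => arg 2; rw [show autFun (c : MulAut Q) y = y * (y⁻¹ * autFun (c : MulAut Q) y) from
        (mul_inv_cancel_left _ _).symm]
      rw [autFun_isHom _ _ hy _ hwQ, hy', autFun_apply_inv, inv_mul_cancel_left]
      exact hAQ _ b.2 _ hwQ hw
    · obtain ⟨r, hr, hre⟩ := hc.2
      refine ⟨autFun (b : MulAut Q) r, autFun_mem _ hr, fun x hx hxA => ?_⟩
      have hy := autFun_mem (b : MulAut Q)⁻¹ hx
      have hyA := hAQ _ (Subgroup.inv_mem _ b.2) x hx hxA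
      rw [Subgroup.coe_mul, Subgroup.coe_mul, Subgroup.coe_inv, autFun_mul, autFun_mul,
        hre _ hy hyA, (autFun_isHom (b : MulAut Q)).map_conj hr hy, autFun_apply_inv]
  have hLp : IsPGroup p L := by
    obtain ⟨e, he⟩ := IsPGroup.iff_card.1 hS
    have hexp : ∀ z ∈ S, z ^ p ^ e = 1 := fun z hz => by
      have h1 : (⟨z, hz⟩ : S) ^ Nat.card S = 1 := pow_card_eq_one'
      rw [← he]
      exact congrArg Subtype.val h1
    intro c
    refine ⟨e + e, Subtype.ext (Subtype.ext (autFun_ext fun x hx => ?_))⟩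
    obtain ⟨hcA, r, hr, hre⟩ := hL.1 c.2
    set γ := ((c : F.autGroup Q) : MulAut Q) with hγ
    have hp1 : ∀ n : ℕ, ∀ z ∈ Q, z ∈ A → autFun (γ ^ n) z = r ^ n * z * (r ^ n)⁻¹ := by
      intro n
      induction n with
      | zero => intro z _ _; rw [pow_zero, autFun_one, pow_zero, one_mul, inv_one, mul_one]; rfl
      | succ n ih =>
        intro z hz hzA
        have hm : r ^ n * z * (r ^ n)⁻¹ ∈ Q :=
          Q.mul_mem (Q.mul_mem (Q.pow_mem hr n) hz) (Q.inv_mem (Q.pow_mem hr n))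
        have hmA : r ^ n * z * (r ^ n)⁻¹ ∈ A := (Subgroup.mem_normalizer_iff.1
          (le_normalizer_of_stronglyClosed hA (hQS (Q.pow_mem hr n))) z).1 hzA
        rw [pow_succ', autFun_mul, ih z hz hzA, hre _ hm hmA, pow_succ']
        group
    set δ := γ ^ p ^ e with hδ
    have hδA : ∀ z ∈ Q, z ∈ A → autFun δ z = z := fun z hz hzA => by
      rw [hδ, hp1 _ z hz hzA, hexp r (hQS hr), one_mul, inv_one, mul_one]
    have hmodn : ∀ n : ℕ, x⁻¹ * autFun (γ ^ n) x ∈ A := by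
      intro n
      induction n with
      | zero => rw [pow_zero, autFun_one]; simp [A.one_mem]
      | succ n ih =>
        rw [pow_succ', autFun_mul]
        have h1 := A.mul_mem ih (hcA _ (autFun_mem (γ ^ n) hx))
        simpa [mul_assoc] using h1
    set w := x⁻¹ * autFun δ x with hw
    have hwQ : w ∈ Q := Q.mul_mem (Q.inv_mem hx) (autFun_mem _ hx)
    have hpow : ∀ n : ℕ, autFun (δ ^ n) x = x * w ^ n := by
      intro n
      induction n with
      | zero => rw [pow_zero, autFun_one, pow_zero, mul_one]; rfl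
      | succ n ih =>
        rw [pow_succ', autFun_mul, ih, autFun_isHom δ _ hx _ (Q.pow_mem hwQ n),
          hδA _ (Q.pow_mem hwQ n) (A.pow_mem (hmodn _) n), pow_succ', ← mul_assoc x, hw,
          mul_inv_cancel_left]
    rw [Subgroup.coe_pow, Subgroup.coe_pow, Subgroup.coe_one, Subgroup.coe_one, ← hγ, pow_add,
      pow_mul, ← hδ, hpow, hexp w (hQS hwQ), mul_one, autFun_one]
    rfl
  obtain ⟨R, hR⟩ := (fullyNormalized_fullyAutomized hS hF hQ).2
  obtain ⟨d, hd⟩ := exists_conj_le_sylow R hLp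
  have hLS : ∀ c ∈ L, (c : MulAut Q) ∈ autInducedBy S Q := fun c hc => by
    have h1 := hd _ (hLn.conj_mem c hc d⁻¹)
    simp only [inv_inv, mul_assoc, mul_inv_cancel_left, mul_inv_cancel, mul_one] at h1
    rw [hR] at h1
    exact Subgroup.mem_subgroupOf.1 h1
  have hm := isMap_of_mem_autGroup hQS ha
  obtain ⟨θ, hθ, hθe⟩ := exists_extension hS hF hm
    (by rw [autFun_img]; exact fullyNormalized_fullyCentralized hS hF hQ)
  refine ⟨θ, hθ.restrict (sup_le (le_nSub hm) (Subgroup.zpowers_le.2 ?_)), hθe⟩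
  have htS : t ∈ normalizerIn S Q := ⟨ht, htN⟩
  have hc : (⟨conjAut S Q ⟨t, htS⟩,
      autInducedBy_le hQS ((conjAut_range S Q).le ⟨_, rfl⟩)⟩ : F.autGroup Q) ∈ L :=
    hL.2 ⟨fun x hx => by rw [conjAut_apply _ hx]; exact hmod x hx,
      q, hq, fun x hx hxA => by rw [conjAut_apply _ hx]; exact hin x hx hxA⟩
  obtain ⟨u, hu, hue⟩ := mem_autInducedBy_iff'.1 (hLS _ (hLn.conj_mem _ hc ⟨a, ha⟩))
  refine mem_nSub.2 ⟨ht, htN, u, hu.1, fun x hx => ?_⟩
  have h3 := hue _ (autFun_mem a hx)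
  rw [Subgroup.coe_mul, Subgroup.coe_mul, Subgroup.coe_inv, autFun_mul, autFun_mul,
    autFun_inv_apply, conjAut_apply _ hx] at h3
  exact h3

section Main

variable (h : Pair F E₁ E₂ p) (hcomm : Comm T₁ T₂) (hc₁ : T₁ ⊓ T₂ ≤ E₁.center)
  (hc₂ : T₁ ⊓ T₂ ≤ E₂.center)
include h

/-- The maps of a factor extend fixing the other group. -/
theorem fixes_other (hcomm : Comm T₁ T₂) (hc₁ : T₁ ⊓ T₂ ≤ E₁.center) :
    FixExt.Fixes F E₁ T₂ := by
  have hfin : Finite T₁ := finite_of_le (T₁_le h)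
  exact FixExt.fixes_of_coprime h.pg h.left.1.1 (T₁_le h) (T₂_le h)
    (le_normalizer_of_stronglyClosed (closed₂ h)) (fun a ha b hb => (hcomm a ha b hb).symm)
    (FixExt.fixesCoprime_step h le_rfl (FixExt.fixes_center hc₁))

variable {D : FusionSystem (T₁ ⊔ T₂)} (hD : IsCentralProductOf E₁ E₂ D)
include hcomm hc₁ hc₂ hD

theorem sub (P : Subgroup Ω) (f : Ω → Ω) (hf : IsMap D P f) : IsMap F P f := by
  have hfin₁ : Finite T₁ := finite_of_le (T₁_le h)
  have hfin₂ : Finite T₂ := finite_of_le (T₂_le h)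
  obtain ⟨hP, f₁, f₂, hf₁, hf₂, he⟩ := (CentralProduct.isMap_iff hD).1 hf
  obtain ⟨g₁, hg₁, hg₁e, hg₁T⟩ := fixes_other h hcomm hc₁ _ _ hf₁
  obtain ⟨g₂, hg₂, hg₂e, hg₂T⟩ :=
    fixes_other ⟨h.pg, h.sat, h.right, h.left⟩ hcomm.symm (inf_comm T₁ T₂ ▸ hc₂) _ _ hf₂
  have hle : P ≤ proj T₂ T₁ P ⊔ T₁ := fun z hz => by
    obtain ⟨x, hx, y, hy, rfl⟩ := hcomm.exists_mul (hP hz)
    exact Subgroup.mul_mem _ (Subgroup.mem_sup_right hx)
      (Subgroup.mem_sup_left ((hcomm.mem_proj' hP).2 ⟨hy, x, hx, hz⟩))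
  have hparts : ∀ z ∈ P, ∃ x ∈ proj T₁ T₂ P, ∃ y ∈ proj T₂ T₁ P, z = x * y ∧
      g₂ z = x * f₂ y ∧ f z = f₁ x * f₂ y := by
    intro z hz
    obtain ⟨x, hx, y, hy, rfl⟩ := hcomm.exists_mul (hP hz)
    have hxp : x ∈ proj T₁ T₂ P := (hcomm.mem_proj hP).2 ⟨hx, y, hy, hz⟩
    have hyp : y ∈ proj T₂ T₁ P := (hcomm.mem_proj' hP).2 ⟨hy, x, hx, hz⟩
    refine ⟨x, hxp, y, hyp, rfl, ?_, he x hx y hy hz⟩
    rw [hg₂.map_mul (Subgroup.mem_sup_right hx) (Subgroup.mem_sup_left hyp), hg₂T x hx,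
      hg₂e y hyp]
  refine (hg₁.comp (hg₂.restrict hle) fun z hz => ?_).congr fun z hz => ?_
  · obtain ⟨x, hx, y, hy, -, hg, -⟩ := hparts z hz
    rw [hg]
    exact Subgroup.mul_mem_sup hx (hf₂.mem hy)
  · obtain ⟨x, hx, y, hy, -, hg, hfz⟩ := hparts z hz
    show g₁ (g₂ z) = f z
    rw [hg, hfz, hg₁.map_mul (Subgroup.mem_sup_left hx) (Subgroup.mem_sup_right (hf₂.mem hy)),
      hg₁e x hx, hg₁T _ (hf₂.mem hy)]

theorem transport (P : Subgroup Ω) (f : Ω → Ω) (hf : IsMap D P f)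
    (α : MulAut (T₁ ⊔ T₂ : Subgroup Ω)) (hα : α ∈ F.autGroup (T₁ ⊔ T₂)) :
    ∃ g, IsMap D (img (autFun α) P) g ∧ ∀ x ∈ P, g (autFun α x) = autFun α (f x) := by
  have hfin₁ : Finite T₁ := finite_of_le (T₁_le h)
  have hfin₂ : Finite T₂ := finite_of_le (T₂_le h)
  have hTS : T₁ ⊔ T₂ ≤ S := sup_le (T₁_le h) (T₂_le h)
  have hαm := isMap_of_mem_autGroup hTS hα
  obtain ⟨hP, f₁, f₂, hf₁, hf₂, he⟩ := (CentralProduct.isMap_iff hD).1 hf
  obtain ⟨α₁, hα₁, hα₁e⟩ := (hαm.restrict le_sup_left).exists_aut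
    (Normal.stronglyClosed_img (closed₁ h) hαm le_sup_left)
  obtain ⟨α₂, hα₂, hα₂e⟩ := (hαm.restrict le_sup_right).exists_aut
    (Normal.stronglyClosed_img (closed₂ h) hαm le_sup_right)
  obtain ⟨g₁, hg₁, hg₁e⟩ := invariant_transport h.left.1.2.2 proj_le hf₁ hα₁
  obtain ⟨g₂, hg₂, hg₂e⟩ := invariant_transport h.right.1.2.2 proj_le hf₂ hα₂
  have hP' : img (autFun α) P ≤ T₁ ⊔ T₂ := img_le fun x hx => autFun_mem α (hP hx)
  have hαi := Subgroup.inv_mem _ hα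
  -- the preimages of the factors
  have hpre : ∀ x ∈ T₁, ∀ y ∈ T₂, x * y ∈ img (autFun α) P →
      ∃ a ∈ T₁, ∃ b ∈ T₂, a * b ∈ P ∧ autFun α a = x ∧ autFun α b = y := by
    intro x hx y hy hxy
    obtain ⟨z, hz, hze⟩ := (hαm.restrict hP).mem_img.1 hxy
    refine ⟨autFun α⁻¹ x, stronglyClosed_mem (closed₁ h) (isMap_of_mem_autGroup hTS hαi)
      (Subgroup.mem_sup_left hx) hx, autFun α⁻¹ y, stronglyClosed_mem (closed₂ h)
      (isMap_of_mem_autGroup hTS hαi) (Subgroup.mem_sup_right hy) hy, ?_, autFun_apply_inv α x,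
      autFun_apply_inv α y⟩
    rw [← autFun_isHom α⁻¹ _ (Subgroup.mem_sup_left hx) _ (Subgroup.mem_sup_right hy), ← hze,
      autFun_inv_apply]
    exact hz
  have h₁' : proj T₁ T₂ (img (autFun α) P) ≤ img (autFun α₁) (proj T₁ T₂ P) := fun x hx => by
    obtain ⟨hx₁, y, hy, hxy⟩ := (hcomm.mem_proj hP').1 hx
    obtain ⟨a, ha, b, hb, hab, hax, -⟩ := hpre x hx₁ y hy hxy
    rw [← hax, ← hα₁e a ha]
    exact mem_img_self _ ((hcomm.mem_proj hP).2 ⟨ha, b, hb, hab⟩)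
  have h₂' : proj T₂ T₁ (img (autFun α) P) ≤ img (autFun α₂) (proj T₂ T₁ P) := fun y hy => by
    obtain ⟨hy₂, x, hx, hxy⟩ := (hcomm.mem_proj' hP').1 hy
    obtain ⟨a, ha, b, hb, hab, -, hby⟩ := hpre x hx y hy₂ hxy
    rw [← hby, ← hα₂e b hb]
    exact mem_img_self _ ((hcomm.mem_proj' hP).2 ⟨hb, a, ha, hab⟩)
  have hval : ∀ a ∈ T₁, ∀ b ∈ T₂, a * b ∈ P →
      g₁ (autFun α a) * g₂ (autFun α b) = autFun α (f (a * b)) := by
    intro a ha b hb hab
    have hap : a ∈ proj T₁ T₂ P := (hcomm.mem_proj hP).2 ⟨ha, b, hb, hab⟩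
    have hbp : b ∈ proj T₂ T₁ P := (hcomm.mem_proj' hP).2 ⟨hb, a, ha, hab⟩
    rw [← hα₁e a ha, ← hα₂e b hb, hg₁e a hap, hg₂e b hbp, hα₁e _ (hf₁.mem hap),
      hα₂e _ (hf₂.mem hbp), he a ha b hb hab,
      autFun_isHom α _ (Subgroup.mem_sup_left (hf₁.mem hap)) _ (Subgroup.mem_sup_right (hf₂.mem hbp))]
  have hchoice : ∀ z ∈ img (autFun α) P, ∃ w, ∀ x ∈ P, autFun α x = z → w = autFun α (f x) := by
    intro z hz
    obtain ⟨x₀, hx₀, rfl⟩ := (hαm.restrict hP).mem_img.1 hz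
    exact ⟨autFun α (f x₀), fun x hx hxe => by rw [(hαm.restrict hP).inj hx hx₀ hxe]⟩
  classical
  obtain ⟨g, hg⟩ : ∃ g : Ω → Ω, ∀ x ∈ P, g (autFun α x) = autFun α (f x) :=
    ⟨fun z => if hz : z ∈ img (autFun α) P then Classical.choose (hchoice z hz) else 1,
      fun x hx => by
        simp only
        rw [dif_pos (mem_img_self _ hx)]
        exact Classical.choose_spec (hchoice _ (mem_img_self _ hx)) x hx rfl⟩
  refine ⟨g, (CentralProduct.isMap_iff hD).2 ⟨hP', g₁, g₂, hg₁.restrict h₁', hg₂.restrict h₂',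
    fun x hx y hy hxy => ?_⟩, hg⟩
  obtain ⟨a, ha, b, hb, hab, rfl, rfl⟩ := hpre x hx y hy hxy
  rw [← autFun_isHom α _ (Subgroup.mem_sup_left ha) _ (Subgroup.mem_sup_right hb), hg _ hab,
    hval a ha b hb hab]

theorem step (Q : Subgroup Ω) (hQT : Q < T₁ ⊔ T₂) (hQ : F.IsFullyNormalized Q) (a : MulAut Q)
    (ha : a ∈ F.autGroup Q) :
    ∃ b ∈ D.autGroup Q, ∃ R θ, Q < R ∧ R ≤ T₁ ⊔ T₂ ∧ IsMap F R θ ∧
      ∀ x ∈ Q, θ x = autFun (b * a) x := by
  classical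
  have hfin₁ : Finite T₁ := finite_of_le (T₁_le h)
  have hfin₂ : Finite T₂ := finite_of_le (T₂_le h)
  have hTS : T₁ ⊔ T₂ ≤ S := sup_le (T₁_le h) (T₂_le h)
  have hQS := hQ.1
  have hfinQ : Finite Q := finite_of_le hQS
  have hfinT : Finite (T₁ ⊔ T₂ : Subgroup Ω) := finite_of_le hTS
  have hm := isMap_of_mem_autGroup hQS ha
  obtain ⟨θ, hθ, hθe⟩ := exists_extension h.pg h.sat hm
    (by rw [autFun_img]; exact fullyNormalized_fullyCentralized h.pg h.sat hQ)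
  by_cases hV : T₁ ⊓ T₂ ≤ Q
  swap
  · refine ⟨1, one_mem _, Q ⊔ (T₁ ⊓ T₂), θ, left_lt_sup.2 hV,
      sup_le hQT.le (inf_le_left.trans le_sup_left), hθ.restrict (sup_le (le_nSub hm) ?_),
      fun x hx => by rw [one_mul, hθe x hx]⟩
    intro v hv
    refine centralizerIn_le_nSub ⟨hTS (Subgroup.mem_sup_left hv.1), fun z hz => ?_⟩
    obtain ⟨x, hx, y, hy, rfl⟩ := hcomm.exists_mul (hQT.le hz)
    rw [mul_assoc, ← hcomm v hv.1 y hy, ← mul_assoc, hcomm x hx v hv.2, mul_assoc]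
  by_cases hprod : proj T₂ T₁ Q ≤ Q
  swap
  · -- not a product: an element of `T₂` gives the extension
    set R₀ := Q ⊔ proj T₂ T₁ Q with hR₀
    have hR₀S : R₀ ≤ S := sup_le hQS (proj_le.trans (T₂_le h))
    have hfinP : Finite (proj T₂ T₁ Q) := finite_of_le (proj_le.trans (T₂_le h))
    have hR₀n : R₀ ≤ Subgroup.normalizer (proj T₂ T₁ Q : Set Ω) := by
      refine sup_le (fun z hz => mem_normalizer_of_forall fun y hy => ?_) Subgroup.le_normalizer
      obtain ⟨u, hu, v, hv, rfl⟩ := hcomm.exists_mul (hQT.le hz)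
      have hvp : v ∈ proj T₂ T₁ Q := (hcomm.mem_proj' hQT.le).2 ⟨hv, u, hu, hz⟩
      have hc : v * y * v⁻¹ ∈ proj T₂ T₁ Q :=
        Subgroup.mul_mem _ (Subgroup.mul_mem _ hvp hy) (Subgroup.inv_mem _ hvp)
      rw [show u * v * y * (u * v)⁻¹ = u * (v * y * v⁻¹) * u⁻¹ by group,
        hcomm u hu _ (proj_le hc), mul_inv_cancel_right]
      exact hc
    have hfinR : Finite R₀ := finite_of_le hR₀S
    obtain ⟨w, hw, hwN, hwQ⟩ : ∃ w, w ∈ proj T₂ T₁ Q ∧
        w ∈ Subgroup.normalizer (Q : Set Ω) ∧ w ∉ Q := by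
      by_contra hcon
      push Not at hcon
      exact hprod (le_of_normalizer_inf_le (h.pg.to_le hR₀S) le_sup_left le_sup_right hR₀n hcon)
    obtain ⟨hw₂, u, hu, huw⟩ := (hcomm.mem_proj' hQT.le).1 hw
    obtain ⟨θ', hθ', hθ'e⟩ := exists_ext_layer h.pg h.sat (closed₂ h) hQ huw (T₂_le h hw₂) hwN
      (fun z hz => by
        obtain ⟨x, hx, y, hy, rfl⟩ := hcomm.exists_mul (hQT.le hz)
        rw [show (x * y)⁻¹ * (w * (x * y) * w⁻¹) = y⁻¹ * (x⁻¹ * (w * x)) * y * w⁻¹ by group,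
          ← hcomm x hx w hw₂, inv_mul_cancel_left]
        exact T₂.mul_mem (T₂.mul_mem (T₂.mul_mem (T₂.inv_mem hy) hw₂) hy) (T₂.inv_mem hw₂))
      (fun z hz hz₂ => by
        rw [show u * w * z * (u * w)⁻¹ = u * (w * z * w⁻¹) * u⁻¹ by group,
          hcomm u hu _ (T₂.mul_mem (T₂.mul_mem hw₂ hz₂) (T₂.inv_mem hw₂)), mul_inv_cancel_right])
      ha
    refine ⟨1, one_mem _, Q ⊔ Subgroup.zpowers w, θ', left_lt_sup.2 fun hle =>
      hwQ (hle (Subgroup.mem_zpowers w)), sup_le hQT.le (Subgroup.zpowers_le.2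
        (Subgroup.mem_sup_right hw₂)), hθ', fun x hx => by rw [one_mul, hθ'e x hx]⟩
  -- a product: the automorphisms in `D` form a normal subgroup
  have hpart : ∀ {x y : Ω}, x ∈ T₁ → y ∈ T₂ → x * y ∈ Q → x ∈ Q ∧ y ∈ Q := fun {x y} hx hy hxy => by
    have hyQ := hprod ((hcomm.mem_proj' hQT.le).2 ⟨hy, x, hx, hxy⟩)
    exact ⟨by simpa using Q.mul_mem hxy (Q.inv_mem hyQ), hyQ⟩
  have hp₁ : proj T₁ T₂ Q = Q ⊓ T₁ := le_antisymm (fun x hx => by
    obtain ⟨hx₁, y, hy, hxy⟩ := (hcomm.mem_proj hQT.le).1 hx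
    exact ⟨(hpart hx₁ hy hxy).1, hx₁⟩) inf_le_proj
  have hp₂ : proj T₂ T₁ Q = Q ⊓ T₂ := le_antisymm (fun x hx => ⟨hprod hx, proj_le hx⟩) inf_le_proj
  have hDn : ((D.autGroup Q).subgroupOf (F.autGroup Q)).Normal := by
    refine ⟨fun c hc e => Subgroup.mem_subgroupOf.2 ?_⟩
    obtain ⟨-, f₁, f₂, hf₁, hf₂, he⟩ := (CentralProduct.isMap_iff hD).1
      (isMap_of_mem_autGroup hQT.le (Subgroup.mem_subgroupOf.1 hc))
    rw [hp₁] at hf₁
    rw [hp₂] at hf₂
    have hem := isMap_of_mem_autGroup hQS e.2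
    have key : ∀ {A : Subgroup Ω} {E : FusionSystem A} {g : Ω → Ω}, E.IsInvariantIn F →
        IsMap E (Q ⊓ A) g → (∀ x ∈ Q, x ∈ A → autFun (c : MulAut Q) x = g x) →
        ∃ g', IsMap E (Q ⊓ A) g' ∧ ∀ x ∈ Q, x ∈ A →
          g' x = autFun ((e * c * e⁻¹ : F.autGroup Q) : MulAut Q) x := by
      intro A E g hinv hg hge
      have hAS := hinv.2.1.1
      have hfinA : Finite A := finite_of_le hAS
      have hfinQA : Finite (Q ⊓ A : Subgroup Ω) := finite_of_le inf_le_left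
      have himg : img g (Q ⊓ A) = Q ⊓ A := eq_of_le_card (img_le fun x hx => ⟨by
        rw [← hge x hx.1 hx.2]; exact autFun_mem _ hx.1, hg.mem hx⟩) hg.card_img.ge
      obtain ⟨d, hd, hde⟩ := hg.exists_aut himg
      obtain ⟨b, hb, hbe⟩ := (hem.restrict (inf_le_left : Q ⊓ A ≤ Q)).exists_aut
        (eq_of_le_card (img_le fun x hx => ⟨autFun_mem _ hx.1,
          stronglyClosed_mem hinv.2.1 hem hx.1 hx.2⟩) (hem.restrict inf_le_left).card_img.ge)
      have hn := InvariantCriterion.autGroup_conj hAS hinv.1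
        (InvariantCriterion.strong_of_invariant hinv) (inf_le_right : Q ⊓ A ≤ A)
      have hdF : d ∈ F.autGroup (Q ⊓ A) := (mem_autGroup_iff (inf_le_left.trans hQS)).2
        (isMap_of_subset hinv.1 (isMap_of_mem_autGroup inf_le_right hd))
      refine ⟨autFun (b * d * b⁻¹), isMap_of_mem_autGroup inf_le_right (Subgroup.mem_subgroupOf.1
        (hn.conj_mem ⟨d, hdF⟩ (Subgroup.mem_subgroupOf.2 hd) ⟨b, hb⟩)), fun x hx hxA => ?_⟩
      have hy := autFun_mem b⁻¹ (show x ∈ Q ⊓ A from ⟨hx, hxA⟩)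
      have e1 : autFun (e : MulAut Q)⁻¹ x = autFun b⁻¹ x := by
        conv_lhs => rw [← autFun_apply_inv b x, hbe _ hy, autFun_inv_apply]
      rw [Subgroup.coe_mul, Subgroup.coe_mul, Subgroup.coe_inv, autFun_mul, autFun_mul, autFun_mul,
        autFun_mul, e1, hge _ hy.1 hy.2, hbe _ (autFun_mem _ hy), hde _ hy]
    have hone : ∀ x ∈ Q, x ∈ T₁ → autFun (c : MulAut Q) x = f₁ x := fun x hx hx₁ => by
      have h1 := he x hx₁ 1 T₂.one_mem (by rwa [mul_one])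
      rwa [mul_one, hf₂.map_one, mul_one] at h1
    have htwo : ∀ x ∈ Q, x ∈ T₂ → autFun (c : MulAut Q) x = f₂ x := fun x hx hx₂ => by
      have h1 := he 1 T₁.one_mem x hx₂ (by rwa [one_mul])
      rwa [one_mul, hf₁.map_one, one_mul] at h1
    obtain ⟨g₁, hg₁, hg₁e⟩ := key h.left.1.2.2 hf₁ hone
    obtain ⟨g₂, hg₂, hg₂e⟩ := key h.right.1.2.2 hf₂ htwo
    refine (mem_autGroup_iff hQT.le).2 ((CentralProduct.isMap_iff hD).2
      ⟨hQT.le, g₁, g₂, hp₁.symm ▸ hg₁, hp₂.symm ▸ hg₂, fun x hx y hy hxy => ?_⟩)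
    obtain ⟨hxQ, hyQ⟩ := hpart hx hy hxy
    rw [hg₁e x hxQ hx, hg₂e y hyQ hy, ← autFun_isHom _ _ hxQ _ hyQ]
  set K := (D.autGroup Q).subgroupOf (F.autGroup Q) with hK
  have hA : SylIn p ((autInducedBy S Q).subgroupOf (F.autGroup Q)) ⊤ := by
    refine ⟨le_top, (isPGroup_autInducedBy h.pg).comap_of_injective _ Subtype.val_injective, ?_⟩
    rw [Subgroup.relIndex_top_right]
    exact ((fullyAutomized_iff h.pg).1 (fullyNormalized_fullyAutomized h.pg h.sat hQ)).2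
  obtain ⟨b, hb, hc⟩ := exists_frattini (K := K) hA ⟨a, ha⟩
  have hmβ := isMap_of_mem_autGroup hQS (b * ⟨a, ha⟩ : F.autGroup Q).2
  obtain ⟨θ', hθ', hθ'e⟩ := exists_extension h.pg h.sat hmβ
    (by rw [autFun_img]; exact fullyNormalized_fullyCentralized h.pg h.sat hQ)
  have hle : normalizerIn (T₁ ⊔ T₂) Q ≤
      nSub S Q (autFun ((b * ⟨a, ha⟩ : F.autGroup Q) : MulAut Q)) := by
    rintro g hg
    have hgS : g ∈ normalizerIn S Q := ⟨hTS hg.1, hg.2⟩
    let c : F.autGroup Q := ⟨conjAut S Q ⟨g, hgS⟩,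
      autInducedBy_le hQS ((conjAut_range S Q).le ⟨_, rfl⟩)⟩
    have hcA : c ∈ (autInducedBy S Q).subgroupOf (F.autGroup Q) :=
      Subgroup.mem_subgroupOf.2 (mem_autInducedBy_iff'.2 ⟨g, hgS, fun x hx => conjAut_apply _ hx⟩)
    have hcK : c ∈ K := Subgroup.mem_subgroupOf.2 ((mem_autGroup_iff hQT.le).2
      ((isMap_cj hQT.le hg.1).congr fun x hx => (conjAut_apply ⟨g, hgS⟩ hx).symm))
    obtain ⟨v, hv, he⟩ := mem_autInducedBy_iff'.1 (Subgroup.mem_subgroupOf.1 (hc c ⟨hcA, hcK⟩))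
    refine mem_nSub.2 ⟨hTS hg.1, hg.2, v, hv.1, fun x hx => ?_⟩
    have h3 := he _ (autFun_mem ((b * ⟨a, ha⟩ : F.autGroup Q) : MulAut Q) hx)
    rw [Subgroup.coe_mul, Subgroup.coe_mul, Subgroup.coe_inv, autFun_mul, autFun_mul,
      autFun_inv_apply, conjAut_apply ⟨g, hgS⟩ hx] at h3
    exact h3
  exact ⟨b, Subgroup.mem_subgroupOf.1 hb, normalizerIn (T₁ ⊔ T₂) Q, θ',
    lt_normalizerIn (h.pg.to_le hTS) hQT, normalizerIn_le, hθ'.restrict hle,
    fun x hx => by rw [hθ'e x hx]; rfl⟩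

theorem invariant : D.IsInvariantIn F := by
  have hclosed : F.StronglyClosed (T₁ ⊔ T₂) :=
    stronglyClosed_sup h.pg h.sat (closed₁ h) (closed₂ h)
  refine Meet.invariant_mk (sub h hcomm hc₁ hc₂ hD) hclosed
    (transport h hcomm hc₁ hc₂ hD) fun P f hP hf => ?_
  exact fac_of_steps h.pg h.sat hclosed (transport h hcomm hc₁ hc₂ hD)
    (step h hcomm hc₁ hc₂ hD) hP hf

omit hD in
/-- The automorphisms of `E₁` are good for `T₁ T₂` after extension by the identity. -/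
theorem good_left {d : MulAut T₁} (hd : d ∈ E₁.autGroup T₁) (hdc : (orderOf d).Coprime p) :
    ∃ e ∈ good (F := F) (T := T₁ ⊔ T₂),
      (∀ x ∈ T₁, autFun e x = autFun d x) ∧ ∀ y ∈ T₂, autFun e y = y := by
  have h₁ := T₁_le h
  have hfin₁ : Finite T₁ := finite_of_le h₁
  have hfin₂ : Finite T₂ := finite_of_le (T₂_le h)
  have hTS : T₁ ⊔ T₂ ≤ S := sup_le h₁ (T₂_le h)
  obtain ⟨β₀, hβ₀, hβ₀T, hβ₀C⟩ := MeetNormal.good_of_normal h.left hd
  have hR₁S : cen S T₁ ≤ S := sup_le h₁ centralizerIn_le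
  have hfinR₁ : Finite (cen S T₁) := finite_of_le hR₁S
  have hT₂C : T₂ ≤ centralizerIn S T₁ := fun y hy => ⟨T₂_le h hy, fun x hx => hcomm x hx y hy⟩
  have hleT : T₁ ⊔ T₂ ≤ cen S T₁ := sup_le le_sup_left (hT₂C.trans le_sup_right)
  have hCle : centralizerIn S (T₁ ⊔ T₂) ≤ centralizerIn S T₁ := fun x hx =>
    ⟨hx.1, fun y hy => hx.2 y (Subgroup.mem_sup_left hy)⟩
  have hRle : cen S (T₁ ⊔ T₂) ≤ cen S T₁ := sup_le hleT (hCle.trans le_sup_right)
  obtain ⟨k, hkc, hkT⟩ := GoodExtension.exists_pow_coprime (p := p)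
    (le_sup_left : T₁ ≤ cen S T₁) (a := β₀) (d := d) hβ₀T hdc
  have hm₀ := isMap_of_mem_autGroup hR₁S hβ₀
  have hVfix : ∀ v ∈ T₁ ⊓ T₂, autFun β₀ v = v := fun v hv => by
    obtain ⟨g, -, hge, hgZ⟩ := (isCentral_iff.1 center_isCentral).2 T₁ _
      (isMap_of_mem_autGroup (F := E₁) le_rfl hd)
    rw [hβ₀T v hv.1, ← hge v hv.1, hgZ v (hc₁ hv)]
  have hpowC : ∀ n : ℕ, ∀ x ∈ centralizerIn S T₁, x⁻¹ * autFun (β₀ ^ n) x ∈ T₁ := by
    intro n
    induction n with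
    | zero => intro x _; rw [pow_zero, autFun_one]; simp [T₁.one_mem]
    | succ n ih =>
      intro x hx
      have hz := ih x hx
      rw [pow_succ', autFun_mul, show autFun (β₀ ^ n) x = x * (x⁻¹ * autFun (β₀ ^ n) x) from
        (mul_inv_cancel_left _ _).symm, autFun_isHom β₀ _ (Subgroup.mem_sup_right hx) _
        (Subgroup.mem_sup_left hz), ← mul_assoc]
      exact T₁.mul_mem (hβ₀C x hx) (hβ₀T _ hz ▸ autFun_mem d hz)
  have hfix₂ : ∀ y ∈ T₂, autFun (β₀ ^ k) y = y := by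
    intro y hy
    have hyR : y ∈ cen S T₁ := Subgroup.mem_sup_right (hT₂C hy)
    set v := y⁻¹ * autFun β₀ y with hv
    have hvV : v ∈ T₁ ⊓ T₂ := ⟨hβ₀C y (hT₂C hy),
      T₂.mul_mem (T₂.inv_mem hy) (stronglyClosed_mem (closed₂ h) hm₀ hyR hy)⟩
    have hpow : ∀ n : ℕ, autFun (β₀ ^ n) y = y * v ^ n := by
      intro n
      induction n with
      | zero => rw [pow_zero, autFun_one, pow_zero, mul_one]; rfl
      | succ n ih =>
        rw [pow_succ', autFun_mul, ih, autFun_isHom β₀ _ hyR _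
          (Subgroup.mem_sup_left (T₁.pow_mem hvV.1 n)), hVfix _ (Subgroup.pow_mem _ hvV n),
          pow_succ', ← mul_assoc y, hv, mul_inv_cancel_left]
    have h1 := hpow (k * orderOf (β₀ ^ k))
    rw [pow_mul, pow_orderOf_eq_one, autFun_one, id, pow_mul] at h1
    obtain ⟨l, hl⟩ := h.pg ⟨v ^ k, S.pow_mem (h₁ hvV.1) k⟩
    have h2 : v ^ k = 1 := Elementwise.eq_one_of_coprime_pow ⟨l, congrArg Subtype.val hl⟩ hkc
      (mul_eq_left.1 h1.symm)
    rw [hpow k, h2, mul_one]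
  have hbm := isMap_of_mem_autGroup hR₁S (Subgroup.pow_mem _ hβ₀ k)
  have himgT : img (autFun (β₀ ^ k)) (T₁ ⊔ T₂) = T₁ ⊔ T₂ := by
    rw [(hbm.restrict hleT).img_sup, img_congr hkT, autFun_img, img_congr (g := id) hfix₂, img_id]
  have hfinR : Finite (cen S (T₁ ⊔ T₂)) := finite_of_le (sup_le hTS centralizerIn_le)
  have himg : img (autFun (β₀ ^ k)) (cen S (T₁ ⊔ T₂)) = cen S (T₁ ⊔ T₂) := by
    refine eq_of_le_card ?_ (hbm.restrict hRle).card_img.ge
    show img _ ((T₁ ⊔ T₂) ⊔ centralizerIn S (T₁ ⊔ T₂)) ≤ (T₁ ⊔ T₂) ⊔ centralizerIn S (T₁ ⊔ T₂)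
    rw [IsMap.img_sup (hbm.restrict hRle), himgT]
    refine sup_le le_sup_left (img_le fun x hx =>
      Subgroup.mem_sup_right ⟨hbm.mem (hRle (Subgroup.mem_sup_right hx)), ?_⟩)
    have h1 := hbm.mem_centralizer_img hleT (hRle (Subgroup.mem_sup_right hx)) hx.2
    rwa [himgT] at h1
  obtain ⟨β, hβ, hβe⟩ := (hbm.restrict hRle).exists_aut himg
  obtain ⟨e, -, hee⟩ := (hbm.restrict hleT).exists_aut himgT
  refine ⟨e, ⟨β, hβ, fun x hx => by rw [hβe x (Subgroup.mem_sup_left hx), hee x hx],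
    fun x hx => ?_⟩, fun x hx => by rw [hee x (Subgroup.mem_sup_left hx), hkT x hx],
    fun y hy => by rw [hee y (Subgroup.mem_sup_right hy), hfix₂ y hy]⟩
  rw [hβe x (Subgroup.mem_sup_right hx)]
  exact Subgroup.mem_sup_left (hpowC k x (hCle hx))

theorem normal (hDs : D.IsSaturated p) : D.IsNormalIn F p := by
  classical
  have hinv := invariant h hcomm hc₁ hc₂ hD
  have hfin₁ : Finite T₁ := finite_of_le (T₁_le h)
  have hfin₂ : Finite T₂ := finite_of_le (T₂_le h)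
  have hTS : T₁ ⊔ T₂ ≤ S := sup_le (T₁_le h) (T₂_le h)
  have hfinT : Finite (T₁ ⊔ T₂ : Subgroup Ω) := finite_of_le hTS
  have hTp := h.pg.to_le hTS
  have hgood : D.autGroup (T₁ ⊔ T₂) ≤ good (F := F) (T := T₁ ⊔ T₂) := by
    have hfn : D.IsFullyNormalized (T₁ ⊔ T₂) := ⟨le_rfl, fun Q hQ => by
      rw [Alperin.eq_top_of_card le_rfl hQ rfl]⟩
    obtain ⟨R, hR⟩ := (fullyNormalized_fullyAutomized hTp hDs hfn).2
    have htop := LayerCentralizer.eq_top_of_parts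
      ((good (F := F) (T := T₁ ⊔ T₂)).subgroupOf (D.autGroup (T₁ ⊔ T₂))) R ?_ ?_
    · exact fun a ha => Subgroup.mem_subgroupOf.1
        (htop.ge (Subgroup.mem_top (⟨a, ha⟩ : D.autGroup (T₁ ⊔ T₂))))
    · rw [hR]
      exact Subgroup.comap_mono fun a ha => inn_good hinv h.pg h.sat ha
    · rintro ⟨a, ha⟩ hac
      rw [Subgroup.orderOf_mk] at hac
      have ham := isMap_of_mem_autGroup le_rfl ha
      obtain ⟨-, f₁, f₂, hf₁, hf₂, he⟩ := (CentralProduct.isMap_iff hD).1 ham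
      have hone : ∀ x ∈ T₁, autFun a x = f₁ x := fun x hx => by
        have h1 := he x hx 1 T₂.one_mem (by rw [mul_one]; exact Subgroup.mem_sup_left hx)
        rwa [mul_one, hf₂.map_one, mul_one] at h1
      have htwo : ∀ x ∈ T₂, autFun a x = f₂ x := fun x hx => by
        have h1 := he 1 T₁.one_mem x hx (by rw [one_mul]; exact Subgroup.mem_sup_right hx)
        rwa [one_mul, hf₁.map_one, one_mul] at h1
      have hp₁ : T₁ ≤ proj T₁ T₂ (T₁ ⊔ T₂) := fun x hx =>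
        ⟨Subgroup.mem_sup_left (Subgroup.mem_sup_left hx), hx⟩
      have hp₂ : T₂ ≤ proj T₂ T₁ (T₁ ⊔ T₂) := fun x hx =>
        ⟨Subgroup.mem_sup_left (Subgroup.mem_sup_right hx), hx⟩
      have hg₁ := hf₁.restrict hp₁
      have hg₂ := hf₂.restrict hp₂
      obtain ⟨d₁, hd₁, hd₁e⟩ := hg₁.exists_aut
        (eq_of_le_card (img_le fun x hx => hg₁.mem hx) hg₁.card_img.ge)
      obtain ⟨d₂, hd₂, hd₂e⟩ := hg₂.exists_aut
        (eq_of_le_card (img_le fun x hx => hg₂.mem hx) hg₂.card_img.ge)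
      have hord : ∀ {A : Subgroup Ω} {d : MulAut A}, A ≤ T₁ ⊔ T₂ →
          (∀ x ∈ A, autFun a x = autFun d x) → (orderOf d).Coprime p := fun {A d} hA hd =>
        Nat.Coprime.coprime_dvd_left (orderOf_dvd_of_pow_eq_one (autFun_ext fun x hx => by
          rw [← GoodExtension.pow_agree hA hd _ x hx, pow_orderOf_eq_one, autFun_one, autFun_one])) hac
      obtain ⟨e₁, he₁, he₁₁, he₁₂⟩ := good_left h hcomm hc₁ hc₂ hd₁
        (hord le_sup_left fun x hx => by rw [hone x hx, hd₁e x hx])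
      obtain ⟨e₂, he₂, he₂₂, he₂₁⟩ := good_left ⟨h.pg, h.sat, h.right, h.left⟩ hcomm.symm
        (inf_comm T₁ T₂ ▸ hc₂) (inf_comm T₁ T₂ ▸ hc₁) hd₂
        (hord le_sup_right fun x hx => by rw [htwo x hx, hd₂e x hx])
      rw [Subgroup.mem_subgroupOf]
      have he₂' : ∃ e' ∈ good (F := F) (T := T₁ ⊔ T₂), (∀ x ∈ T₂, autFun e' x = autFun d₂ x) ∧
          ∀ x ∈ T₁, autFun e' x = x := by
        revert he₂ he₂₂ he₂₁ e₂
        rw [sup_comm T₂ T₁]
        exact fun e₂ h1 h2 h3 => ⟨e₂, h1, h2, h3⟩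
      obtain ⟨e₂', he₂g, he₂'₂, he₂'₁⟩ := he₂'
      show a ∈ good (F := F) (T := T₁ ⊔ T₂)
      rw [show a = e₁ * e₂' from autFun_ext fun z hz => by
        obtain ⟨x, hx, y, hy, rfl⟩ := hcomm.exists_mul hz
        rw [he x hx y hy hz, autFun_mul, autFun_isHom e₂' _ (Subgroup.mem_sup_left hx) _
          (Subgroup.mem_sup_right hy), he₂'₁ x hx, he₂'₂ y hy, autFun_isHom e₁ _
          (Subgroup.mem_sup_left hx) _ (Subgroup.mem_sup_right (autFun_mem _ hy)), he₁₁ x hx,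
          he₁₂ _ (autFun_mem _ hy), hd₁e x hx, hd₂e y hy]]
      exact mul_mem he₁ he₂g
  refine ⟨⟨hDs, h.sat, hinv⟩, fun α hα => ?_⟩
  obtain ⟨β, hβ, hβT, hβX⟩ := hgood hα
  refine ⟨β, hβ, fun x => ?_, fun c hc => ⟨?_, ?_⟩⟩
  · rw [← autFun_apply β, ← autFun_apply α]; exact hβT x x.2
  · rw [← autFun_apply β]; exact hβX c hc
  · refine Subgroup.mul_mem _ (Subgroup.inv_mem _ hc.2) ?_
    rw [← autFun_apply β]
    have hm := isMap_of_mem_autGroup (sup_le hTS centralizerIn_le) hβ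
    have h2 := hm.mem_centralizer_img le_sup_left (Subgroup.mem_sup_right hc) hc.2
    rwa [Normal.stronglyClosed_img hinv.2.1 hm le_sup_left] at h2

end Main

end Cfsg.Agent.Fusion.ProductNormal

namespace Cfsg.Agent.Fusion.ProductNormal

open Cfsg Cfsg.FusionSystem Cfsg.Agent.Fusion.Basic Cfsg.Agent.Fusion.Saturation
  Cfsg.Agent.Fusion.Normal Cfsg.Agent.Fusion.KNormalizer Cfsg.Agent.Fusion.SylIn

/-- A subgroup of `Z(T)` is central in the `p'`-residual of a saturated system over `T`. -/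
theorem residual_center {Ω : Type*} [Group Ω] {T Z : Subgroup Ω} [Finite T] {p : ℕ}
    [Fact p.Prime] (hT : IsPGroup p T) {E : FusionSystem T} (hE : E.IsSaturated p)
    (hZsc : E.StronglyClosed Z) (hZc : ∀ z ∈ Z, ∀ t ∈ T, z * t = t * z) {R : FusionSystem T}
    (hR : E.IsPPrimeResidual p R) : Z ≤ R.center := by
  have hZT := hZsc.1
  have hfinZ : Finite Z := finite_of_le hZT
  have hcT : centralizerIn T Z = T := le_antisymm centralizerIn_le fun t ht =>
    ⟨ht, fun z hz => hZc z hz t ht⟩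
  have hfn : ∀ {G : FusionSystem T}, G.IsFullyNormalized Z := fun {G} => ⟨hZT, fun Q _ => by
    have : Finite (normalizerIn T Z) := finite_of_le normalizerIn_le
    exact card_le_card (normalizerIn_le.trans (hcT.ge.trans centralizerIn_le_normalizerIn))⟩
  have hfc : E.IsFullyCentralized Z := fullyNormalized_fullyCentralized hT hE hfn
  have hkT : T = kNorm T (⊥ : Subgroup (MulAut Z)) := by rw [kNorm_bot, hcT]
  obtain ⟨C, hC⟩ := exists_kSystem' (F := E) hkT hZT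
  have hCs := KNormalizer.saturated hT hE (kFull_bot hfc) hkT C hC
  have hmC : ∀ {P : Subgroup Ω} {f : Ω → Ω}, IsMap C P f ↔
      P ≤ T ∧ ∃ g, IsMap E (P ⊔ Z) g ∧ (∀ x ∈ P, g x = f x) ∧ ∀ z ∈ Z, g z = z := by
    intro P f
    rw [MeetTwist.isMap_k hC]
    constructor
    · rintro ⟨hP, -, g, hg, hge, k, hk, hke⟩
      exact ⟨hP.trans hkT.ge, g, hg, hge, fun z hz => by
        rw [hke z hz, Subgroup.mem_bot.1 hk, autFun_one]; rfl⟩
    · rintro ⟨hP, g, hg, hge, hgZ⟩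
      refine ⟨hP.trans hkT.le, fun x hx => hkT.le ?_, g, hg, hge, 1, one_mem _,
        fun z hz => by rw [hgZ z hz, autFun_one]; rfl⟩
      rw [← hge x hx]; exact hg.mem (Subgroup.mem_sup_left hx)
  -- the automorphisms of `p`-power order of the centric subgroups fix `Z`
  have hgen : ∀ (P : Subgroup Ω) (f : Ω → Ω), PPrimeGen.Gen E p P f → IsMap C P f := by
    intro P f hf
    induction hf with
    | @base P W β k hW hβ hP =>
      have hWT : W ≤ T := hW.1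
      have hfinW : Finite W := finite_of_le hWT
      have hZW : Z ≤ W := fun z hz =>
        centric_centralizerIn_le hW ⟨hZT hz, fun w hw => (hZc z hz w (hWT hw)).symm⟩
      have hm := isMap_of_mem_autGroup hWT β.2
      refine hmC.2 ⟨hP.trans hWT, _, hm.restrict (sup_le hP hZW), fun _ _ => rfl, ?_⟩
      obtain ⟨b, hb, hbe⟩ := (hm.restrict hZW).exists_aut (eq_of_le_card
        (img_le fun z hz => stronglyClosed_mem hZsc hm (hZW hz) hz) (hm.restrict hZW).card_img.ge)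
      have hb1 : b = 1 := by
        have hbk : b ^ p ^ k = 1 := autFun_ext fun x hx => by
          rw [← GoodExtension.pow_agree hZW (a := (β : MulAut W)) (d := b)
            (fun y hy => (hbe y hy).symm) _ x hx, ← SubmonoidClass.coe_pow, hβ, Subgroup.coe_one,
            autFun_one, autFun_one]
        have h1 := ((fullyAutomized_iff hT).1 (fullyNormalized_fullyAutomized hT hE hfn)).2
        have hbot : autInducedBy T Z = ⊥ := (Subgroup.eq_bot_iff_forall _).2 fun a ha => by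
          obtain ⟨t, ht, hte⟩ := mem_autInducedBy_iff'.1 ha
          exact autFun_ext fun z hz => by
            rw [hte z hz, cj_apply, ← hZc z hz t ht.1, mul_inv_cancel_right, autFun_one]; rfl
        rw [hbot, Subgroup.relIndex_bot_left] at h1
        have hord : orderOf (⟨b, hb⟩ : E.autGroup Z) ∣ Nat.card (E.autGroup Z) :=
          orderOf_dvd_natCard _
        rw [Subgroup.orderOf_mk] at hord
        obtain ⟨j, -, hj⟩ := (Nat.dvd_prime_pow Fact.out).1 (orderOf_dvd_of_pow_eq_one hbk)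
        rcases Nat.eq_zero_or_pos j with rfl | hj0
        · exact orderOf_eq_one_iff.1 (by rwa [pow_zero] at hj)
        · exact absurd ((dvd_pow_self p hj0.ne').trans (hj ▸ hord)) h1
      intro z hz
      rw [← hbe z hz, hb1, autFun_one]; rfl
    | ident hP => exact isMap_id hP
    | comp _ _ hPQ ihf ihg => exact IsMap.comp ihg ihf hPQ
    | congr _ he ih => exact ih.congr he
  have hCE : C.IsSubsystemOf E := fun P => subset_of_isMap fun f hf => by
    obtain ⟨-, g, hg, hge, -⟩ := hmC.1 hf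
    exact (hg.restrict le_sup_left).congr hge
  have hRC := hR.2.2 C hCs ⟨hCE, fun P hP => PPrimeGen.primeIndex_of_gen hT hE hgen hP⟩
  refine le_center (isCentral_iff.2 ⟨hZT, fun P f hf => ?_⟩)
  have hfinP : Finite P := finite_of_le hf.le
  obtain ⟨Q, hPQ, hQ⟩ := exists_fullyNormalized (F := R) hf.le
  -- extend inside `R` through a fully normalized conjugate
  have hext : ∀ {A : Subgroup Ω} {u : Ω → Ω}, IsMap R A u → R.IsFullyNormalized (img u A) →
      ∃ g, IsMap R (A ⊔ Z) g ∧ (∀ x ∈ A, g x = u x) ∧ ∀ z ∈ Z, g z = z := by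
    intro A u hu hfnu
    obtain ⟨g, hg, hge⟩ := exists_extension hT hR.1 hu
      (fullyNormalized_fullyCentralized hT hR.1 hfnu)
    have hg' := hg.restrict (show A ⊔ Z ≤ nSub T A u from sup_le (le_nSub hu) fun z hz =>
      centralizerIn_le_nSub ⟨hZT hz, fun x hx => (hZc z hz x (hu.le hx)).symm⟩)
    refine ⟨g, hg', hge, fun z hz => ?_⟩
    obtain ⟨-, k, -, hke, hkZ⟩ := hmC.1 (isMap_of_subset hRC hg')
    rw [← hke z (Subgroup.mem_sup_right hz), hkZ z hz]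
  obtain ⟨u, hu, rfl⟩ := isConj_iff_map.1 hPQ
  obtain ⟨w, hw, hwimg⟩ := isConj_iff_map.1 (isConj_trans (isConj_symm hf.isConj) hu.isConj)
  obtain ⟨g₂, hg₂, hg₂e, hg₂Z⟩ := hext hw (hwimg.symm ▸ hQ)
  have hwf : IsMap R P fun x => w (f x) := hw.comp hf fun x hx => mem_img_self f hx
  obtain ⟨g₁, hg₁, hg₁e, hg₁Z⟩ := hext hwf (by rwa [← hf.img_img, hwimg])
  obtain ⟨j, hj, -, hjg, -⟩ := hg₂.exists_inv
  have himg : img g₁ (P ⊔ Z) ≤ img g₂ (img f P ⊔ Z) := by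
    rw [hg₁.img_sup]
    refine sup_le (img_le fun x hx => ?_) (img_le fun z hz => ?_)
    · rw [hg₁e x hx, ← hg₂e _ (mem_img_self f hx)]
      exact mem_img_self g₂ (Subgroup.mem_sup_left (mem_img_self f hx))
    · rw [hg₁Z z hz, ← hg₂Z z hz]
      exact mem_img_self g₂ (Subgroup.mem_sup_right hz)
  refine ⟨fun x => j (g₁ x), hj.comp hg₁ fun x hx => himg (mem_img_self g₁ hx), fun x hx => ?_,
    fun z hz => ?_⟩
  · show j (g₁ x) = f x
    rw [hg₁e x hx, ← hg₂e _ (mem_img_self f hx), hjg _ (Subgroup.mem_sup_left (mem_img_self f hx))]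
  · show j (g₁ z) = z
    rw [hg₁Z z hz]
    conv_lhs => rw [← hg₂Z z hz]
    exact hjg z (Subgroup.mem_sup_right hz)

end Cfsg.Agent.Fusion.ProductNormal
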