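/-
The generalized Fitting subsystem.
-/
import Mathlib
import Cfsg.Prelude.Def_FusionFitting
import Cfsg.Agent.Lib.Fusion.Component
import Cfsg.Agent.Lib.Fusion.ProductNormal
import Cfsg.Agent.Lib.Fusion.ProductFactor
import Cfsg.Agent.Lib.Fusion.LayerCentralizer

set_option autoImplicit false
set_option linter.all false

namespace Cfsg.Agent.Fusion.Fitting

open Cfsg Cfsg.FusionSystem Cfsg.Agent.Fusion.Basic Cfsg.Agent.Fusion.Saturation
  Cfsg.Agent.Fusion.Normal Cfsg.Agent.Fusion.Subsystems Cfsg.Agent.Fusion.CentralProduct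

variable {Ω : Type*} [Group Ω] {S T U : Subgroup Ω} {F : FusionSystem S} {E : FusionSystem T}
  {p : ℕ} [Finite S] [Fact p.Prime]

/-- The data for the product of the largest normal subgroup and the layer. -/
theorem core_layer (hS : IsPGroup p S) (hF : F.IsSaturated p) (hE : E.IsLayerOf F p) :
    MeetAut.Pair F (innerFusionSystem F.core) E p ∧ Comm F.core T ∧
      F.core ⊓ T ≤ (innerFusionSystem F.core).center ∧ F.core ⊓ T ≤ E.center := by
  have hQ : F.IsNormal F.core := core_isNormal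
  have hTS : T ≤ S := subsystem_le hE.1.1.2.2.1
  have hfinT : Finite T := finite_of_le hTS
  have hfinQ : Finite F.core := finite_of_le hQ.1
  have hcomm : Comm F.core T := fun q hq t ht => by
    obtain ⟨φ, hφ, hφe⟩ := isMap_id (F := E) (P := T) le_rfl
    obtain ⟨-, hT, -⟩ := LayerCentralizer.layer_centralizes hS hF hE T hφ
    exact (hT ht).2 q hq
  have hext : ∀ P f, IsMap E P f → ∃ g, IsMap F (P ⊔ F.core) g ∧ (∀ x ∈ P, g x = f x) ∧
      ∀ q ∈ F.core, g q = q := by
    rintro P f ⟨φ, hφ, hφe⟩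
    obtain ⟨-, -, -, ψ, hψ, hψe, hψfix⟩ := LayerCentralizer.layer_centralizes hS hF hE P hφ
    refine ⟨ext ψ, IsMap.of_hom hψ, fun x hx => ?_, fun q hq => ?_⟩
    · rw [ext_of_mem ψ (Subgroup.mem_sup_left hx), ← hφe ⟨x, hx⟩]
      exact hψe ⟨x, hx⟩
    · rw [ext_of_mem ψ (Subgroup.mem_sup_right hq)]
      exact hψfix ⟨q, hq⟩
  refine ⟨⟨hS, hF, ComponentExists.inner_isNormalIn hS hF hQ, hE.1⟩, hcomm,
    le_center (isCentral_iff.2 ⟨inf_le_left, fun P f hf => ?_⟩),
    le_center (isCentral_iff.2 ⟨inf_le_right, fun P f hf => ?_⟩)⟩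
  · obtain ⟨hP, g, hg, hge⟩ := isMap_inner_iff.1 hf
    refine ⟨cj g, isMap_cj (sup_le hP inf_le_left) hg, fun x hx => (hge x hx).symm, fun v hv => ?_⟩
    rw [cj_apply, hcomm g hg v hv.2, mul_inv_cancel_right]
  · obtain ⟨e, he, hee, -⟩ :=
      (isNormal_iff.1 (LayerCentralizer.normal_inf hS hQ hE.1.1)).2 P f hf
    obtain ⟨g, -, hge, hgfix⟩ := hext _ e he
    exact ⟨e, he, hee, fun v hv => by rw [← hge v (Subgroup.mem_sup_right hv), hgfix v hv.1]⟩

/-- A generalized Fitting subsystem is normal, and exists. -/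
theorem exists_fitting (hS : IsPGroup p S) (hF : F.IsSaturated p) (hE : E.IsLayerOf F p) :
    ∃ D : FusionSystem (F.core ⊔ T), IsCentralProductOf (innerFusionSystem F.core) E D ∧
      D.IsNormalIn F p := by
  obtain ⟨h, hcomm, hc₁, hc₂⟩ := core_layer hS hF hE
  have hfinT : Finite T := finite_of_le (MeetAut.T₂_le h)
  have hQ : F.IsNormal F.core := core_isNormal
  have hfinQ : Finite F.core := finite_of_le hQ.1
  obtain ⟨D, hD, hDs⟩ := exists_product (hS.to_le hQ.1) (hS.to_le (MeetAut.T₂_le h))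
    h.left.1.1 h.right.1.1 hcomm hc₁ hc₂
  exact ⟨D, hD, ProductNormal.normal h hcomm hc₁ hc₂ hD hDs⟩

theorem fitting_normal (hS : IsPGroup p S) (hF : F.IsSaturated p) {D : FusionSystem U}
    (hD : D.IsGeneralizedFittingOf F p) : D.IsNormalIn F p := by
  obtain ⟨T, E, hE, hc⟩ := hD
  have hfinQ : Finite F.core := finite_of_le (core_isNormal (F := F)).1
  have hfinT : Finite T := finite_of_le (subsystem_le hE.1.1.2.2.1)
  obtain ⟨D₀, hD₀, hn⟩ := exists_fitting hS hF hE
  obtain ⟨-, hU⟩ := comm_and_sup hc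
  subst hU
  obtain rfl : D = D₀ := fs_ext (CentralProduct.hom_eq hc hD₀)
  exact hn

end Cfsg.Agent.Fusion.Fitting
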