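/-
Isomorphisms of fusion systems carry components to components.
-/
import Mathlib
import Cfsg.Agent.Lib.Fusion.Transport
import Cfsg.Agent.Lib.Fusion.QuasisimpleNormal

set_option autoImplicit false
set_option linter.all false

namespace Cfsg.Agent.Fusion.ComponentTransport

open Cfsg Cfsg.FusionSystem Cfsg.Agent.Fusion.Basic Cfsg.Agent.Fusion.Saturation
  Cfsg.Agent.Fusion.Normal Cfsg.Agent.Fusion.Subsystems Cfsg.Agent.Fusion.Transport

variable {Ω Ω' : Type*} [Group Ω] [Group Ω'] {S T Q U : Subgroup Ω} {S' : Subgroup Ω'}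
  {F : FusionSystem S} {C : FusionSystem U} {p : ℕ} (e : Iso S S')

theorem push_normal (hQ : F.IsNormal Q) : (push e F).IsNormal (im e.fwd Q) := by
  refine isNormal_iff.2 ⟨e.img_le hQ.1, fun P' f' hf' => ?_⟩
  obtain ⟨hP', hS', hm⟩ := (isMap_push_iff e).1 hf'
  obtain ⟨g, hg, hge, hgQ⟩ := (isNormal_iff.1 hQ).2 _ _ hm
  have hg' := isMap_push e hg
  rw [img_sup e hm.le hQ.1, e.img_symm hP'] at hg'
  refine ⟨_, hg', fun y hy => ?_, ?_⟩
  · show e.fwd (g (e.bwd y)) = f' y
    rw [hge _ (mem_im_self _ hy), e.to_inv y (hP' hy), e.to_inv _ (hS' y hy)]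
  · refine le_antisymm (img_le fun y hy => ?_) fun y hy => ?_
    · obtain ⟨x, hx, rfl⟩ := (e.mem_img hQ.1).1 hy
      show e.fwd (g (e.bwd (e.fwd x))) ∈ _
      rw [e.inv_to x (hQ.1 hx)]
      exact mem_im_self _ (hgQ.le (mem_img_self g hx))
    · obtain ⟨x, hx, rfl⟩ := (e.mem_img hQ.1).1 hy
      obtain ⟨z, hz, rfl⟩ := (hg.restrict le_sup_right).mem_img.1 (hgQ.ge hx)
      have := mem_img_self (fun y => e.fwd (g (e.bwd y))) (mem_im_self e.fwd hz)
      simp only [e.inv_to z (hQ.1 hz)] at this
      exact this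

theorem push_centric (hQ : F.IsCentric Q) : (push e F).IsCentric (im e.fwd Q) := by
  refine ⟨e.img_le hQ.1, fun R hR => ?_⟩
  obtain ⟨f', hf', rfl⟩ := isConj_iff_map.1 hR
  obtain ⟨hP', hS', hm⟩ := (isMap_push_iff e).1 hf'
  rw [e.img_img hQ.1] at hm
  set X := img (fun x => e.bwd (f' (e.fwd x))) Q with hX
  have hXS : X ≤ S := hm.img_le_S
  have hR' : img f' (im e.fwd Q) = im e.fwd X := by
    refine le_antisymm (img_le fun y hy => ?_) (im_le fun x hx => ?_)
    · obtain ⟨x, hx, rfl⟩ := (e.mem_img hQ.1).1 hy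
      rw [← e.to_inv (f' (e.fwd x)) (hS' _ (mem_im_self _ hx))]
      exact mem_im_self _ (mem_img_self _ hx)
    · obtain ⟨z, hz, rfl⟩ := hm.mem_img.1 hx
      rw [e.to_inv _ (hS' _ (mem_im_self _ hz))]
      exact mem_img_self _ (mem_im_self _ hz)
  rw [hR']
  show centralizerIn S' (im e.fwd X) ≤ _
  rw [← img_centralizerIn e hXS]
  exact im_mono _ (hQ.2 X hm.isConj)

variable [Finite S] [Fact p.Prime]

theorem push_constrained (hS : IsPGroup p S) (h : F.IsConstrained p) :
    (push e F).IsConstrained p := by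
  obtain ⟨hF, Q, hQn, hQc⟩ := h
  exact ⟨push_saturated e hS hF, _, push_normal e hQn, push_centric e hQc⟩

omit e in
/-- A saturated system over an abelian group is constrained. -/
theorem constrained_of_abelian (hS : IsPGroup p S) (hF : F.IsSaturated p)
    (hab : ∀ x ∈ S, ∀ y ∈ S, x * y = y * x) : F.IsConstrained p := by
  have hn : F.IsNormal S := by
    refine normal_of_series hS hF 1 (fun i => if i = 0 then ⊥ else S) rfl rfl (fun i hi => ?_)
      (fun i hi => ?_) fun i hi x hx y hy => ?_
    · obtain rfl : i = 0 := Nat.lt_one_iff.1 hi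
      exact bot_le
    · rcases Nat.eq_zero_or_pos i with rfl | h0
      · exact normal_stronglyClosed isNormal_bot
      · rw [if_neg h0.ne']
        exact ⟨le_rfl, fun R _ φ hφ x => (F.le_of_mem hφ).2 x⟩
    · obtain rfl : i = 0 := Nat.lt_one_iff.1 hi
      show x * y * x⁻¹ * y⁻¹ ∈ (⊥ : Subgroup Ω)
      rw [Subgroup.mem_bot, hab x hx y hy, mul_inv_cancel_right, mul_inv_cancel]
  exact ⟨hF, S, hn, NormalCentralizer.centric_of_normal hn centralizerIn_le⟩

theorem push_quasisimple (hS : IsPGroup p S) (hq : F.Quasisimple p) :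
    (push e F).Quasisimple p := by
  have hfin' : Finite S' := e.finite
  have hS' : IsPGroup p S' := e.isPGroup hS
  have hsat : (push e F).IsSaturated p := push_saturated e hS hq.1
  have hnc : ¬ (push e F).IsConstrained p := fun hc => by
    have h1 := push_constrained e.symm hS' hc
    rw [push_push e F] at h1
    exact ComponentExists.not_quasisimple_of_constrained hS h1 hq
  refine ComponentExists.min_quasisimple hS' hsat hnc fun U' D' hD' hDnc => ?_
  have hU' : U' ≤ S' := subsystem_le hD'.1.2.2.1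
  have hback := push_isNormalIn e.symm hS' hD' hU'
  rw [push_push e F] at hback
  rcases QuasisimpleNormal.central_or_all hS hq hback with hz | ⟨htop, hmaps⟩
  · refine absurd ?_ hDnc
    have hfinU : Finite U' := finite_of_le hU'
    refine constrained_of_abelian (hS'.to_le hU') hD'.1.1 fun x hx y hy => ?_
    have h1 : e.bwd y * e.bwd x = e.bwd x * e.bwd y :=
      F.center_le_centralizer (hz (mem_im_self e.symm.fwd hx)) _ (e.inv_mem y (hU' hy))
    rw [← e.inv_mul y (hU' hy) x (hU' hx), ← e.inv_mul x (hU' hx) y (hU' hy)] at h1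
    have h2 := congrArg e.fwd h1
    rw [e.to_inv _ (S'.mul_mem (hU' hy) (hU' hx)), e.to_inv _ (S'.mul_mem (hU' hx) (hU' hy))] at h2
    exact h2.symm
  · have hUS : U' = S' := by
      rw [← e.img_symm hU', show im e.bwd U' = S from htop, e.img_self]
    refine ⟨hUS, fun P' => Set.Subset.antisymm (hD'.1.2.2.1 P') fun φ' hφ' => ?_⟩
    obtain ⟨hP, hS'', hm⟩ := (isMap_push_iff e).1 (IsMap.of_hom hφ')
    have hm' : IsMap (push (e.symm.restrict hU') D') (im e.bwd P')
        (fun x => e.bwd (ext φ' (e.fwd x))) := by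
      obtain ⟨ψ, hψ, hψe⟩ := hm
      exact ⟨ψ, hmaps _ hψ, hψe⟩
    obtain ⟨-, -, hm2⟩ := (isMap_push_iff _).1 hm'
    change IsMap D' (im e.fwd (im e.bwd P'))
      (fun y => e.fwd (e.bwd (ext φ' (e.fwd (e.bwd y))))) at hm2
    rw [e.img_symm hP] at hm2
    refine hm2.hom_mem fun x => ?_
    rw [e.to_inv _ (hP x.2), ext_apply, e.to_inv _ (by rw [← ext_apply φ' x]; exact hS'' _ x.2)]

theorem push_component (hC : C.IsComponentIn F p) (hS : IsPGroup p S) (hF : F.IsSaturated p)
    (hU : U ≤ S) : (push (e.restrict hU) C).IsComponentIn (push e F) p := by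
  have hfinU : Finite U := finite_of_le hU
  refine ⟨?_, push_quasisimple _ (hS.to_le hU) hC.2⟩
  have hsub₀ := hC.1
  clear hC
  have gen : ∀ {S : Subgroup Ω} {F : FusionSystem S} {p : ℕ}, C.IsSubnormalIn F p →
      Finite S → Fact p.Prime → IsPGroup p S → F.IsSaturated p → ∀ {S' : Subgroup Ω'}
      (e : Iso S S') (hU : U ≤ S),
        ((push (e.restrict hU) C).IsSubnormalIn (push e F) p) := by
    intro S F p hsub
    clear hsub₀ hfinU
    induction hsub with
    | refl F' p' =>
      intro _ _ _ _ S' e hU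
      have key : ∀ (V : Subgroup Ω') (e' : Iso _ V), V = S' → e'.fwd = e.fwd → e'.bwd = e.bwd →
          (push e' F').IsSubnormalIn (push e F') p' := by
        rintro V e' rfl hf hb
        obtain rfl : e' = e := by
          cases e'; cases e; cases hf; cases hb; rfl
        exact FusionSystem.IsSubnormalIn.refl _ _
      exact key _ (e.restrict hU) e.img_self rfl rfl
    | step hsub hN ih =>
      intro hfin hp hS₀ hF₀ S' e hU
      have hT := subsystem_le hN.1.2.2.1
      have hUT := (ComponentExists.subnormal_facts hsub hN.1.1).1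
      have h1 := ih (finite_of_le hT) hp (hS₀.to_le hT) hN.1.1 (e.restrict hT) hUT
      exact FusionSystem.IsSubnormalIn.step h1 (push_isNormalIn e hS₀ hN hT)
  exact gen hsub₀ inferInstance inferInstance hS hF e hU

end Cfsg.Agent.Fusion.ComponentTransport
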