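/-
The layer of a normal subsystem is normal.
-/
import Mathlib
import Cfsg.Agent.Lib.Fusion.ComponentTransport
import Cfsg.Agent.Lib.Fusion.Component

set_option autoImplicit false
set_option linter.all false

namespace Cfsg.Agent.Fusion.LayerNormal

open Cfsg Cfsg.FusionSystem Cfsg.Agent.Fusion.Basic Cfsg.Agent.Fusion.Saturation
  Cfsg.Agent.Fusion.Normal Cfsg.Agent.Fusion.Subsystems Cfsg.Agent.Fusion.Transport
  Cfsg.Agent.Fusion.Component Cfsg.Agent.Fusion.ComponentTransport
  Cfsg.Agent.Fusion.ComponentExists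

variable {Ω : Type*} [Group Ω] {S T T' : Subgroup Ω} {F : FusionSystem S} {M : FusionSystem T}
  {L : FusionSystem T'} {p : ℕ} [Finite S] [Fact p.Prime]

/-- An automorphism of a subgroup as an isomorphism. -/
noncomputable def autIso (α : MulAut T) : Iso T T :=
  ⟨autFun α, autFun α⁻¹, fun _ h => autFun_mem α h, fun _ h => autFun_mem α⁻¹ h,
    fun x hx y hy => autFun_isHom α x hx y hy, fun x _ => autFun_inv_apply α x,
    fun x _ => autFun_apply_inv α x⟩

omit [Finite S] [Fact p.Prime] in
theorem im_eq_img (f : Ω → Ω) (P : Subgroup Ω) : im f P = img f P := rfl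

omit [Finite S] [Fact p.Prime] in
theorem push_autIso (hM : M.IsInvariantIn F) {α : MulAut T} (hα : α ∈ F.autGroup T) :
    push (autIso α) M = M := by
  refine fs_ext_le (le_of_isMap fun P f hf => ?_) (le_of_isMap fun P f hf => ?_)
  · obtain ⟨hP, hv, hm⟩ := (isMap_push_iff (autIso α)).1 hf
    obtain ⟨g, hg, hge⟩ := invariant_transport hM hm.le hm hα
    have e : img (autFun α) (im (autIso α).bwd P) = P := (autIso α).img_symm hP
    rw [e] at hg
    refine hg.congr fun y hy => ?_
    have h := hge _ (mem_im_self _ hy)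
    simp only [autIso, autFun_apply_inv] at h
    exact h
  · refine (isMap_push_iff (autIso α)).2 ⟨hf.le, fun x hx => hf.mem hx, ?_⟩
    obtain ⟨g, hg, hge⟩ := invariant_transport hM hf.le hf (Subgroup.inv_mem _ hα)
    refine hg.congr fun y hy => ?_
    obtain ⟨x, hx, rfl⟩ := ((autIso α).symm.mem_img hf.le).1 hy
    show g (autFun α⁻¹ x) = autFun α⁻¹ (f (autFun α (autFun α⁻¹ x)))
    rw [hge x hx, autFun_apply_inv]

/-- An automorphism from `F` of the group of `M` stabilizes the layer of `M`. -/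
theorem stable (hS : IsPGroup p S) (hM : M.IsNormalIn F p) (hL : L.IsLayerOf M p) {α : MulAut T}
    (hα : α ∈ F.autGroup T) {P : Subgroup Ω} {f : Ω → Ω} (hf : IsMap L P f) :
    IsMap L (img (autFun α) P) fun y => autFun α (f (autFun α⁻¹ y)) := by
  have hinv : M.IsInvariantIn F := hM.1.2.2
  have hTS : T ≤ S := subsystem_le hinv.1
  have hfinT : Finite T := finite_of_le hTS
  have hTp : IsPGroup p T := hS.to_le hTS
  have hT' : T' ≤ T := subsystem_le hL.1.1.2.2.1
  have hα' : α⁻¹ ∈ F.autGroup T := Subgroup.inv_mem _ hα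
  let e := autIso α⁻¹
  have he : push e M = M := push_autIso hinv hα'
  have hn := push_isNormalIn e hTp hL.1 hT'
  rw [he] at hn
  have hsub : L.IsSubsystemOf (push (e.restrict hT') L) := by
    refine hL.2.2 _ _ hn fun U C hC => ?_
    have hU : U ≤ T := (subnormal_facts hC.1 hM.1.1).1
    have hC' := push_component (autIso α) hC hTp hM.1.1 hU
    rw [push_autIso hinv hα] at hC'
    have hsub' := hL.2.1 _ _ hC'
    refine fun P => subset_of_isMap fun f hf => ?_
    have hm := isMap_of_subset hsub' (isMap_push ((autIso α).restrict hU) hf)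
    have hP : P ≤ T := hf.le.trans hU
    have hd : im e.bwd P = im (autIso α).fwd P := by simp [e, autIso]
    have hm' : IsMap L (im e.bwd P) (fun y => e.bwd (f (e.fwd y))) := by
      rw [hd]
      refine hm.congr fun y hy => ?_
      simp [e, autIso, Iso.restrict]
    have hdom : P ≤ im e.fwd T' := by
      rw [← e.img_symm hP]
      exact im_mono _ hm'.le
    refine (isMap_push_iff (e.restrict hT')).2 ⟨hdom, fun x hx => ?_, hm'⟩
    have hfx : f x ∈ T := hU (hf.mem hx)
    refine (e.inv_mem_iff hT' hfx).1 ?_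
    have h := hm'.mem (mem_im_self e.bwd hx)
    rwa [e.to_inv x (hP hx)] at h
  obtain ⟨-, -, hm⟩ := (isMap_push_iff (e.restrict hT')).1 (isMap_of_subset hsub hf)
  simp only [e, autIso, Iso.restrict, inv_inv] at hm
  exact hm

/-- The layer of a normal subsystem is normal. -/
theorem layer_normal (hS : IsPGroup p S) (hF : F.IsSaturated p) (hM : M.IsNormalIn F p)
    (hL : L.IsLayerOf M p) : L.IsNormalIn F p := by
  have hMi : M.IsInvariantIn F := hM.1.2.2
  have hLi : L.IsInvariantIn M := hL.1.1.2.2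
  have hTS : T ≤ S := subsystem_le hMi.1
  have hfinT : Finite T := finite_of_le hTS
  have hTp : IsPGroup p T := hS.to_le hTS
  have hT'T : T' ≤ T := subsystem_le hLi.1
  have hT'S : T' ≤ S := hT'T.trans hTS
  have hfinT' : Finite T' := finite_of_le hT'T
  have hT'p : IsPGroup p T' := hS.to_le hT'S
  have hclosedα : ∀ α ∈ F.autGroup T, ∀ x ∈ T', autFun α x ∈ T' := fun α hα x hx =>
    (stable hS hM hL hα (isMap_id (F := L) (le_refl T'))).le (mem_img_self _ hx)
  have hsc : F.StronglyClosed T' := stronglyClosed_of_invariant hMi hLi.2.1 hclosedα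
  -- the automorphisms of `F` on the layer come from those of `F` on `M` and those of `M`
  have hrestr : ∀ α ∈ F.autGroup T, ∃ a ∈ F.autGroup T', ∀ x ∈ T', autFun a x = autFun α x := by
    intro α hα
    have hm := (isMap_of_mem_autGroup hTS hα).restrict hT'T
    exact hm.exists_aut (eq_of_le_card (img_le fun x hx => hclosedα α hα x hx) hm.card_img.ge)
  have hwn : L.IsWeaklyNormalIn F p := by
    refine ⟨hL.1.1.1, hF, Meet.invariant_mk (fun P f hf =>
      isMap_of_subset hMi.1 (isMap_of_subset hLi.1 hf)) hsc (fun P f hf a ha => ?_)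
      fun P f hP hf => ?_⟩
    · obtain ⟨α, hα, f₀, hf₀, hae⟩ :=
        invariant_frattini hMi hT'T (isMap_of_mem_autGroup hT'S ha)
      obtain ⟨a₀, ha₀, ha₀e⟩ := hf₀.exists_aut (eq_of_le_card
        (img_le fun x hx => stronglyClosed_mem hLi.2.1 hf₀ hx hx) hf₀.card_img.ge)
      obtain ⟨g₀, hg₀, hg₀e⟩ := invariant_transport hLi hf.le hf ha₀
      have hg := stable hS hM hL hα hg₀
      have hdom : img (autFun a) P = img (autFun α) (img (autFun a₀) P) := by
        rw [((isMap_of_mem_autGroup hT'T ha₀).restrict hf.le).img_img]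
        refine img_congr fun x hx => ?_
        rw [hae x (hf.le hx), ha₀e x (hf.le hx)]
      refine ⟨_, hdom ▸ hg, fun x hx => ?_⟩
      rw [hae x (hf.le hx), autFun_inv_apply, ← ha₀e x (hf.le hx), hg₀e x hx,
        hae _ (hf.mem hx), ← ha₀e _ (hf.mem hx)]
    · obtain ⟨α, hα, f₀, hf₀, hfe⟩ := invariant_frattini hMi (hP.trans hT'T) hf
      obtain ⟨b, hb, f₁, hf₁, hf₀e⟩ := invariant_frattini hLi hP hf₀
      obtain ⟨a, ha, hae⟩ := hrestr α hα
      refine ⟨a * b, mul_mem ha (Focal.autGroup_mono hMi.1 T' hb), f₁, hf₁, fun x hx => ?_⟩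
      rw [autFun_mul, hae _ (autFun_mem b (hf₁.mem hx)), hfe x hx, hf₀e x hx]
  -- the residual of the layer is the layer
  obtain ⟨R, hR⟩ := PPrimeResidual.exists_residual (F := L) hT'p hL.1.1.1
  have hRF := residual_isNormal hS hF hwn hR
  have hRM := residual_isNormal hTp hM.1.1 hL.1.1 hR
  have hRL := residual_isNormal hT'p hL.1.1.1 (weaklyNormal_refl hL.1.1.1) hR
  have hle : L.IsSubsystemOf R := hL.2.2 _ R hRM fun U C hC => by
    have hUT' : U ≤ T' := subsystem_le (hL.2.1 U C hC)
    obtain ⟨-, hCL⟩ := component_of_subsystem hTp hM.1.1 hC hL.1 hUT'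
    exact (component_of_subsystem hT'p hL.1.1.1 hCL hRL (subsystem_le (hL.2.1 U C hC))).1
  obtain rfl : L = R := fs_ext fun P => Set.Subset.antisymm (hle P) (hR.2.1.1 P)
  exact hRF

end Cfsg.Agent.Fusion.LayerNormal
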