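/-
A component is normal in the layer.
-/
import Mathlib
import Cfsg.Agent.Lib.Fusion.LayerNormal
import Cfsg.Agent.Lib.Fusion.Fitting
import Cfsg.Agent.Lib.Fusion.SubsystemCentralizerSystem

set_option autoImplicit false
set_option linter.all false

namespace Cfsg.Agent.Fusion.ComponentNormal

open Cfsg Cfsg.FusionSystem Cfsg.Agent.Fusion.Basic Cfsg.Agent.Fusion.Saturation
  Cfsg.Agent.Fusion.Normal Cfsg.Agent.Fusion.Subsystems Cfsg.Agent.Fusion.CentralProduct
  Cfsg.Agent.Fusion.Component Cfsg.Agent.Fusion.ComponentExists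
  Cfsg.Agent.Fusion.SubsystemCentralizer Cfsg.Agent.Fusion.NormalCentralizer

variable {Ω : Type*} [Group Ω] {S T TA TB Z : Subgroup Ω} {F : FusionSystem S} {p : ℕ}
  [Fact p.Prime]

/-- A commuting subgroup fixed by all maps is central. -/
theorem center_of_fixes [Finite S] (hS : IsPGroup p S) (hF : F.IsSaturated p) (hZS : Z ≤ S)
    (hZc : ∀ z ∈ Z, ∀ t ∈ S, z * t = t * z)
    (hfix : ∀ (P : Subgroup Ω) (f : Ω → Ω), IsMap F P f → ∀ z ∈ Z, z ∈ P → f z = z) :
    Z ≤ F.center := by
  refine le_center (isCentral_iff.2 ⟨hZS, fun P f hf => ?_⟩)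
  have hfinP : Finite P := finite_of_le hf.le
  have hext : ∀ {A : Subgroup Ω} {u : Ω → Ω}, IsMap F A u → F.IsFullyNormalized (img u A) →
      ∃ g, IsMap F (A ⊔ Z) g ∧ (∀ x ∈ A, g x = u x) ∧ ∀ z ∈ Z, g z = z := by
    intro A u hu hfn
    obtain ⟨g, hg, hge⟩ := exists_extension hS hF hu
      (fullyNormalized_fullyCentralized hS hF hfn)
    have hg' := hg.restrict (show A ⊔ Z ≤ nSub S A u from sup_le (le_nSub hu) fun z hz =>
      centralizerIn_le_nSub ⟨hZS hz, fun x hx => (hZc z hz x (hu.le hx)).symm⟩)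
    exact ⟨g, hg', hge, fun z hz => hfix _ g hg' z hz (Subgroup.mem_sup_right hz)⟩
  obtain ⟨Q, hPQ, hQ⟩ := exists_fullyNormalized (F := F) hf.le
  obtain ⟨u, hu, rfl⟩ := isConj_iff_map.1 hPQ
  obtain ⟨w, hw, hwimg⟩ := isConj_iff_map.1 (isConj_trans (isConj_symm hf.isConj) hu.isConj)
  obtain ⟨g₂, hg₂, hg₂e, hg₂Z⟩ := hext hw (hwimg.symm ▸ hQ)
  have hwf : IsMap F P fun x => w (f x) := hw.comp hf fun x hx => mem_img_self f hx
  obtain ⟨g₁, hg₁, hg₁e, hg₁Z⟩ := hext hwf (by rwa [← hf.img_img, hwimg])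
  obtain ⟨j, hj, -, hjg, -⟩ := hg₂.exists_inv
  have himg : img g₁ (P ⊔ Z) ≤ img g₂ (img f P ⊔ Z) := by
    rw [hg₁.img_sup]
    refine sup_le (img_le fun x hx => ?_) (img_le fun z hz => ?_)
    · rw [hg₁e x hx, ← hg₂e _ (mem_img_self f hx)]
      exact mem_img_self g₂ (Subgroup.mem_sup_left (mem_img_self f hx))
    · rw [hg₁Z z hz, ← hg₂Z z hz]
      exact mem_img_self g₂ (Subgroup.mem_sup_right hz)
  refine ⟨fun x => j (g₁ x), hj.comp hg₁ fun x hx => himg (mem_img_self g₁ hx), fun x hx => ?_,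
    fun z hz => ?_⟩
  · show j (g₁ x) = f x
    rw [hg₁e x hx, ← hg₂e _ (mem_img_self f hx), hjg _ (Subgroup.mem_sup_left (mem_img_self f hx))]
  · show j (g₁ z) = z
    rw [hg₁Z z hz]
    conv_lhs => rw [← hg₂Z z hz]
    exact hjg z (Subgroup.mem_sup_right hz)

/-- A normal subsystem of a factor of a central product is normal in the product. -/
theorem normal_in_product [Finite S] (hS : IsPGroup p S) (hF : F.IsSaturated p)
    {A : FusionSystem TA} {B : FusionSystem TB} (hA : A.IsSaturated p) (hB : B.IsSaturated p)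
    (hcomm : Comm TA TB) (hsup : S = TA ⊔ TB) (hiff : ∀ P f, IsMap F P f ↔ CMap A B P f)
    (hcA : TA ⊓ TB ≤ A.center) (hcB : TA ⊓ TB ≤ B.center) {C : FusionSystem T}
    (hC : C.IsNormalIn A p) : C.IsNormalIn F p := by
  have hTA : TA ≤ S := hsup.ge.trans' le_sup_left
  have hTB : TB ≤ S := hsup.ge.trans' le_sup_right
  have hfinA : Finite TA := finite_of_le hTA
  have hfinB : Finite TB := finite_of_le hTB
  have hnA := ProductFactor.normal_factor hF hA hcomm hsup hiff hcA hcB
  have hnB := ProductFactor.normal_factor hF hB hcomm.symm (hsup.trans (sup_comm TA TB))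
    (fun P f => ⟨fun h => ProductFactor.cmap_symm hcomm ((hiff P f).1 h),
      fun h => (hiff P f).2 (ProductFactor.cmap_symm hcomm.symm h)⟩)
    (inf_comm TA TB ▸ hcB) (inf_comm TA TB ▸ hcA)
  have hp : MeetAut.Pair F A B p := ⟨hS, hF, hnA, hnB⟩
  have hfix := ProductNormal.fixes_other hp hcomm hcA
  have hCi : C.IsInvariantIn A := hC.1.2.2
  have hTTA : T ≤ TA := subsystem_le hCi.1
  have hTS : T ≤ S := hTTA.trans hTA
  have hfinT : Finite T := finite_of_le hTS
  have hdown : ∀ {P : Subgroup Ω} {f : Ω → Ω}, P ≤ TA → IsMap F P f → IsMap A P f := by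
    intro P f hP hf
    obtain ⟨hPT, f₁, f₂, hf₁, hf₂, he⟩ := (hiff P f).1 hf
    refine (hf₁.restrict fun x hx => (hcomm.mem_proj hPT).2
      ⟨hP hx, 1, TB.one_mem, by rwa [mul_one]⟩).congr fun x hx => ?_
    have h := he x (hP hx) 1 TB.one_mem (by rwa [mul_one])
    rw [mul_one, hf₂.map_one, mul_one] at h
    exact h.symm
  have hAF : A.IsSubsystemOf F := hnA.1.2.2.1
  have hsc : F.StronglyClosed T := ⟨hTS, fun R hR φ hφ x => by
    rw [← ext_apply φ x]
    exact stronglyClosed_mem hCi.2.1 (hdown (hR.trans hTTA) (IsMap.of_hom hφ)) x.2 (hR x.2)⟩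
  refine ⟨⟨hC.1.1, hF, Meet.invariant_mk
    (fun P f hf => isMap_of_subset hAF (isMap_of_subset hCi.1 hf)) hsc
    (fun P f hf a ha => ?_) (fun P f hP hf => ?_)⟩, fun α hα => ?_⟩
  · have haA : a ∈ A.autGroup T :=
      (mem_autGroup_iff hTTA).2 (hdown hTTA (isMap_of_mem_autGroup hTS ha))
    exact invariant_transport hCi hf.le hf haA
  · obtain ⟨a, ha, f₀, hf₀, he⟩ := invariant_frattini hCi hP (hdown (hP.trans hTTA) hf)
    exact ⟨a, Focal.autGroup_mono hAF T ha, f₀, hf₀, he⟩
  · obtain ⟨β, hβ, hβT, hβX⟩ := MeetNormal.good_of_normal hC hα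
    have hβA := isMap_of_mem_autGroup (sup_le hTTA centralizerIn_le) hβ
    obtain ⟨g, hg, hge, hgB⟩ := hfix _ _ hβA
    have hTBc : TB ≤ centralizerIn S T := fun y hy =>
      ⟨hTB hy, fun x hx => hcomm x (hTTA hx) y hy⟩
    have hsplit : ∀ c ∈ centralizerIn S T, ∃ x ∈ centralizerIn TA T, ∃ y ∈ TB, c = x * y := by
      intro c hc
      obtain ⟨x, hx, y, hy, rfl⟩ := hcomm.exists_mul (hsup.le hc.1)
      refine ⟨x, ⟨hx, ?_⟩, y, hy, rfl⟩
      have h := Subgroup.mul_mem _ hc.2 (Subgroup.inv_mem _ (hTBc hy).2)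
      rwa [mul_inv_cancel_right] at h
    have hle : T ⊔ centralizerIn S T ≤ T ⊔ centralizerIn TA T ⊔ TB := by
      refine sup_le (le_sup_left.trans le_sup_left) fun c hc => ?_
      obtain ⟨x, hx, y, hy, rfl⟩ := hsplit c hc
      exact Subgroup.mul_mem_sup (Subgroup.mem_sup_right hx) hy
    have hgT : ∀ x ∈ T, g x = autFun α x := fun x hx => by
      rw [hge x (Subgroup.mem_sup_left hx), hβT x hx]
    have hgC : ∀ c ∈ centralizerIn S T, c⁻¹ * g c ∈ T ∧
        c⁻¹ * g c ∈ Subgroup.centralizer (T : Set Ω) := by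
      intro c hc
      obtain ⟨x, hx, y, hy, rfl⟩ := hsplit c hc
      have hβx := hβX x hx
      have hq : (x * y)⁻¹ * g (x * y) = x⁻¹ * autFun β x := by
        rw [hg.map_mul (Subgroup.mem_sup_left (Subgroup.mem_sup_right hx))
          (Subgroup.mem_sup_right hy), hge x (Subgroup.mem_sup_right hx), hgB y hy,
          show (x * y)⁻¹ * (autFun β x * y) = y⁻¹ * (x⁻¹ * autFun β x * y) by group,
          hcomm _ (hTTA hβx) y hy, inv_mul_cancel_left]
      rw [hq]
      refine ⟨hβx, Subgroup.mul_mem _ (Subgroup.inv_mem _ hx.2) ?_⟩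
      have h2 := hβA.mem_centralizer_img le_sup_left (Subgroup.mem_sup_right hx) hx.2
      rwa [Normal.stronglyClosed_img hCi.2.1 hβA le_sup_left] at h2
    have hres := hg.restrict hle
    have hfinV : Finite (T ⊔ centralizerIn S T : Subgroup Ω) :=
      finite_of_le (sup_le hTS centralizerIn_le)
    have himg : img g (T ⊔ centralizerIn S T) = T ⊔ centralizerIn S T := by
      refine eq_of_le_card ?_ hres.card_img.ge
      rw [hres.img_sup]
      refine sup_le (img_le fun x hx => ?_) (img_le fun c hc => ?_)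
      · rw [hgT x hx]
        exact Subgroup.mem_sup_left (autFun_mem α hx)
      · rw [← mul_inv_cancel_left c (g c)]
        exact Subgroup.mul_mem _ (Subgroup.mem_sup_right hc) (Subgroup.mem_sup_left (hgC c hc).1)
    obtain ⟨γ, hγ, hγe⟩ := hres.exists_aut himg
    refine ⟨γ, hγ, fun x => ?_, fun c hc => ?_⟩
    · rw [← autFun_apply γ, ← autFun_apply α]
      exact (hγe _ (Subgroup.mem_sup_left x.2)).trans (hgT x x.2)
    · rw [← autFun_apply γ, hγe c c.2]
      exact hgC c hc

/-- Every normal subsystem containing all components is the whole. -/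
def Layered (F : FusionSystem S) (p : ℕ) : Prop :=
  ∀ (R : Subgroup Ω) (D : FusionSystem R), D.IsNormalIn F p → HasComponents F p D →
    F.IsSubsystemOf D

/-- A layer is its own layer. -/
theorem layered_of_layer [Finite S] (hS : IsPGroup p S) (hF : F.IsSaturated p)
    {E : FusionSystem T} (hE : E.IsLayerOf F p) : Layered E p := by
  intro R D hD hDc
  have hTS : T ≤ S := subsystem_le hE.1.1.2.2.1
  have hfinT : Finite T := finite_of_le hTS
  obtain ⟨T₂, L, hL⟩ := exists_layer (hS.to_le hTS) hE.1.1.1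
  have hLn := LayerNormal.layer_normal hS hF hE.1 hL
  have h1 : E.IsSubsystemOf L := hE.2.2 _ L hLn fun U C hC =>
    hL.2.1 U C (component_of_subsystem hS hF hC hE.1 (subsystem_le (hE.2.1 U C hC))).2
  exact fun P => (h1 P).trans (hL.2.2 R D hD hDc P)

/-- A component is the whole or lies in a proper normal subsystem. -/
theorem whole_or_proper {U : Subgroup Ω} {C : FusionSystem U} (hsub : C.IsSubnormalIn F p) :
    (U = S ∧ ∀ P, C.Hom P = F.Hom P) ∨ ∃ (T : Subgroup Ω) (M : FusionSystem T),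
      M.IsNormalIn F p ∧ C.IsSubnormalIn M p ∧ ¬ (T = S ∧ ∀ P, M.Hom P = F.Hom P) := by
  induction hsub with
  | refl => exact Or.inl ⟨rfl, fun P => rfl⟩
  | step hsub hN ih =>
    rename_i U' S' C' M' F' p'
    by_cases h : U' = S' ∧ ∀ P, M'.Hom P = F'.Hom P
    · obtain ⟨rfl, hh⟩ := h
      obtain rfl : M' = F' := fs_ext hh
      exact ih
    · exact Or.inr ⟨_, M', hN, hsub, h⟩

/-- In a system that is its own layer every component is normal. -/
theorem component_normal : ∀ (n m : ℕ) (S : Subgroup Ω) (F : FusionSystem S), Nat.card S = n →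
    size F = m → Finite S → IsPGroup p S → F.IsSaturated p → Layered F p →
    ∀ (U : Subgroup Ω) (C : FusionSystem U), C.IsComponentIn F p → C.IsNormalIn F p := by
  intro n
  induction n using Nat.strong_induction_on with
  | _ n ihn =>
  intro m
  induction m using Nat.strong_induction_on with
  | _ m ihm =>
  intro S F hn hm hfin hS hF hlay U C hC
  rcases whole_or_proper hC.1 with ⟨rfl, hh⟩ | ⟨T, M, hM, hCM, hne⟩
  · obtain rfl : C = F := fs_ext hh
    exact normal_self hF
  have hTS : T ≤ S := subsystem_le hM.1.2.2.1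
  have hfinT : Finite T := finite_of_le hTS
  have hTp : IsPGroup p T := hS.to_le hTS
  obtain ⟨TL, L, hL⟩ := exists_layer hTp hM.1.1
  have hLF : L.IsNormalIn F p := LayerNormal.layer_normal hS hF hM hL
  have hLT : TL ≤ T := subsystem_le hL.1.1.2.2.1
  have hLS : TL ≤ S := hLT.trans hTS
  have hfinL : Finite TL := finite_of_le hLS
  have hLp : IsPGroup p TL := hS.to_le hLS
  have hCM' : C.IsComponentIn M p := ⟨hCM, hC.2⟩
  have hUL : U ≤ TL := subsystem_le (hL.2.1 U C hCM')
  have hCL : C.IsComponentIn L p := (component_of_subsystem hS hF hC hLF hUL).2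
  have hIH : C.IsNormalIn L p := by
    have hlayL := layered_of_layer hTp hM.1.1 hL
    rcases eq_or_lt_of_le hLS with rfl | hlt
    · have hne' : ¬ ∀ P : Subgroup Ω, L.Hom P = F.Hom P := fun he => by
        obtain rfl : T = TL := le_antisymm hTS hLT
        exact hne ⟨rfl, fun P => Set.Subset.antisymm (hM.1.2.2.1 P)
          ((he P).ge.trans (hL.1.1.2.2.1 P))⟩
      exact ihm (size L) (hm ▸ size_lt hLF.1.2.2.1 hne') _ L hn rfl hfinL hLp hL.1.1.1 hlayL U C hCL
    · exact ihn _ (hn ▸ card_lt_card hlt) _ TL L rfl rfl hfinL hLp hL.1.1.1 hlayL U C hCL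
  -- the centralizer of the layer
  obtain ⟨N, hN, hNc⟩ := SubsystemCentralizerSystem.exists_centSystem hS hF hLF
  have hNS : (cent F L) ≤ S := cent_le.trans centralizerIn_le
  have hfinN : Finite (cent F L) := finite_of_le hNS
  have hcomm : Comm TL (cent F L) := fun a ha b hb => (cent_le (F := F) (D := L) hb).2 a ha
  have hc₁ : TL ⊓ (cent F L) ≤ L.center := by
    refine center_of_fixes hLp hL.1.1.1 inf_le_left
      (fun z hz t ht => (hcomm t ht z hz.2).symm) fun P f hf z hz hzP => ?_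
    obtain ⟨g, -, hge, hgfix⟩ := exists_ext_cent hS hF hLF hf
    rw [← hge z hzP, hgfix z hz.2]
  have hc₂ : TL ⊓ (cent F L) ≤ N.center := by
    refine center_of_fixes (hS.to_le hNS) hN.1.1 inf_le_right
      (fun z hz t ht => hcomm z hz.1 t ht) fun P f hf z hz hzP => ?_
    obtain ⟨φ, hφ, hφe⟩ := hf
    obtain ⟨-, -, -, ψ, -, hψe, hψfix⟩ := hNc P hφ
    have h1 := hψe ⟨z, hzP⟩
    have h2 := hψfix ⟨z, hz.1⟩
    rw [← hφe ⟨z, hzP⟩, ← h1]
    exact (congrArg ψ (Subtype.ext rfl)).trans h2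
  have hp : MeetAut.Pair F L N p := ⟨hS, hF, hLF, hN⟩
  obtain ⟨D, hD, hDs⟩ := exists_product hLp (hS.to_le hNS) hL.1.1.1 hN.1.1 hcomm hc₁ hc₂
  have hDF := ProductNormal.normal hp hcomm hc₁ hc₂ hD hDs
  obtain ⟨hnL, hnN⟩ := by
    have hfinD : Finite (TL ⊔ (cent F L) : Subgroup Ω) := finite_of_le (sup_le hLS hNS)
    exact ProductFactor.normal_factors hDs hL.1.1.1 hN.1.1 hD
  have hall : HasComponents F p D := by
    intro U' C' hC'
    rcases dichotomy hC'.1 hfin inferInstance hS hF hC'.2 hLF with ⟨h1, -⟩ | ⟨hU', hfix⟩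
    · exact fun P => (h1 P).trans (hnL.1.2.2.1 P)
    · obtain ⟨CT, hCT⟩ := KNormalizer.exists_centralizerSystem (F := F) hLS
      have hU'S : U' ≤ S := (subnormal_facts hC'.1 hF).1
      have hU'C : U' ≤ centralizerIn S TL := le_inf hU'S hU'
      have hsubCT : C'.IsSubsystemOf CT := fun P => subset_of_isMap fun f hf =>
        (isMap_cent_iff hCT).2 ⟨hf.le.trans hU'C, fun x hx => hU'C (hf.mem hx), hfix P f hf⟩
      have hle : U' ≤ (cent F L) := by
        rw [← hC'.2.2.1]
        exact (Focal.hyp_mono hU'C hsubCT).trans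
          (SubsystemCentralizerSystem.hyp_le_cent hS hF hLF hCT)
      exact fun P => ((component_of_subsystem hS hF hC' hN hle).1 P).trans (hnN.1.2.2.1 P)
  have hFD := hlay _ D hDF hall
  have hsup : S = TL ⊔ (cent F L) := le_antisymm (subsystem_le hFD) (sup_le hLS hNS)
  exact normal_in_product hS hF hL.1.1.1 hN.1.1 hcomm hsup
    (fun P f => ⟨fun h => (CentralProduct.isMap_iff hD).1 (isMap_of_subset hFD h),
      fun h => isMap_of_subset hDF.1.2.2.1 ((CentralProduct.isMap_iff hD).2 h)⟩) hc₁ hc₂ hIH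

/-- A component is normal in the generalized Fitting subsystem. -/
theorem normal_in_fitting [Finite S] (hS : IsPGroup p S) (hF : F.IsSaturated p) {U V : Subgroup Ω}
    {C : FusionSystem V} (hC : C.IsComponentIn F p) {D : FusionSystem U}
    (hD : D.IsGeneralizedFittingOf F p) : C.IsNormalIn D p := by
  have hDn := Fitting.fitting_normal hS hF hD
  obtain ⟨T, E, hE, hc⟩ := hD
  obtain ⟨-, hcomm, hc₁, hc₂⟩ := Fitting.core_layer hS hF hE
  have hTS : T ≤ S := subsystem_le hE.1.1.2.2.1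
  have hQS : F.core ≤ S := (core_isNormal (F := F)).1
  have hfinT : Finite T := finite_of_le hTS
  have hfinQ : Finite F.core := finite_of_le hQS
  have hUS : U ≤ S := subsystem_le hDn.1.2.2.1
  have hfinU : Finite U := finite_of_le hUS
  have hTp := hS.to_le hTS
  obtain ⟨-, hCE⟩ := component_of_subsystem hS hF hC hE.1 (subsystem_le (hE.2.1 V C hC))
  have hn : C.IsNormalIn E p := component_normal _ _ T E rfl rfl hfinT hTp hE.1.1.1
    (layered_of_layer hS hF hE) V C hCE
  obtain ⟨-, hU⟩ := comm_and_sup hc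
  refine normal_in_product (hS.to_le hUS) hDn.1.1 hE.1.1.1 (inner_saturated (hS.to_le hQS))
    hcomm.symm (hU.trans (sup_comm F.core T)) (fun P f =>
      ⟨fun h => ProductFactor.cmap_symm hcomm ((CentralProduct.isMap_iff hc).1 h),
        fun h => (CentralProduct.isMap_iff hc).2 (ProductFactor.cmap_symm hcomm.symm h)⟩)
    (inf_comm F.core T ▸ hc₂) (inf_comm F.core T ▸ hc₁) hn

end Cfsg.Agent.Fusion.ComponentNormal
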