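/-
For odd `p` a strongly closed metacyclic subgroup of a saturated system is normal.
-/
import Mathlib
import Cfsg.Prelude.Def_OddOrderLocal
import Cfsg.Agent.Lib.Fusion.SmallElements
import Cfsg.Agent.Lib.PGroups.UniqueSubgroup
import Cfsg.Agent.Lib.PLocal.CyclicExtension

set_option autoImplicit false
set_option linter.all false

namespace Cfsg.Agent.Fusion.MetacyclicClosed

open Subgroup

section Pure

variable {G : Type*} [Group G] [Finite G] {p : ℕ} [hp : Fact p.Prime]

/-- The elements of order dividing `p` in a metacyclic `p`-group, `p` odd. -/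
theorem omega_structure (hp2 : p ≠ 2) (hG : IsPGroup p G) (hm : Cfsg.IsMetacyclic G) :
    ∃ W : Subgroup G, (∀ y, y ∈ W ↔ y ^ p = 1) ∧ (∀ x ∈ W, ∀ y ∈ W, x * y = y * x) ∧
      Nat.card W ∣ p ^ 2 := by
  classical
  have hpp := hp.out
  obtain ⟨N, hN, hNc, hQc⟩ := hm
  obtain ⟨⟨a, haN⟩, hgen⟩ := IsCyclic.exists_generator (α := N)
  have hpow : ∀ y ∈ N, ∃ j : ℕ, y = a ^ j := by
    intro y hy
    refine Cfsg.Agent.PLocal.CyclicExtension.exists_pow_eq_of_mem_zpowers ?_
    obtain ⟨i, hi⟩ := mem_zpowers_iff.mp (hgen ⟨y, hy⟩)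
    exact ⟨i, congrArg Subtype.val hi⟩
  -- the elements of order dividing `p` of `N`
  set Z : Subgroup G :=
    { carrier := {y | y ∈ N ∧ y ^ p = 1}
      one_mem' := ⟨N.one_mem, one_pow p⟩
      mul_mem' := fun {u v} hu hv => ⟨N.mul_mem hu.1 hv.1, by
        obtain ⟨i, rfl⟩ := hpow u hu.1
        obtain ⟨j, rfl⟩ := hpow v hv.1
        rw [(Commute.pow_pow_self a i j).mul_pow, hu.2, hv.2, one_mul]⟩
      inv_mem' := fun {u} hu => ⟨N.inv_mem hu.1, by rw [inv_pow, hu.2, inv_one]⟩ } with hZdef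
  have hZmem : ∀ y, y ∈ Z ↔ y ∈ N ∧ y ^ p = 1 := fun y => Iff.rfl
  have hZn : Z.Normal := ⟨fun y hy g => ⟨hN.conj_mem y hy.1 g, by
    rw [conj_pow, hy.2, mul_one, mul_inv_cancel]⟩⟩
  have hZcard : Nat.card Z ∣ p := by
    have hle : Z ≤ N := fun y hy => hy.1
    have : IsCyclic Z := isCyclic_of_injective (inclusion hle) (inclusion_injective hle)
    rw [← IsCyclic.exponent_eq_card]
    exact Monoid.exponent_dvd_of_forall_pow_eq_one fun y => Subtype.ext (by simpa using y.2.2)
  have hZc : Z ≤ center G := by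
    rcases (Nat.dvd_prime hpp).mp hZcard with h | h
    · rw [eq_bot_of_card_eq Z h]
      exact bot_le
    · exact Cfsg.Agent.PLocal.CyclicExtension.le_center_of_card_eq hG h
  have hZab : ∀ x ∈ Z, ∀ y : G, x * y = y * x := fun x hx y => (mem_center_iff.mp (hZc hx) y).symm
  by_cases hout : ∀ y : G, y ^ p = 1 → y ∈ N
  · exact ⟨Z, fun y => ⟨fun h => h.2, fun h => ⟨hout y h, h⟩⟩, fun x hx y _ => hZab x hx y,
      hZcard.trans (dvd_pow_self p two_ne_zero)⟩
  push Not at hout
  obtain ⟨x, hxp, hxN⟩ := hout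
  set π := QuotientGroup.mk' N with hπ
  have hπx : orderOf (π x) = p := orderOf_eq_prime (by rw [← map_pow, hxp, map_one])
    fun h => hxN ((QuotientGroup.eq_one_iff x).mp h)
  have key : ∀ y : G, y ^ p = 1 → ∃ i : ℕ, (y * (x ^ i)⁻¹) ∈ Z := by
    intro y hy
    have hmem : π y ∈ zpowers (π x) := by
      have hab := hQc.isMulCommutative
      let K : Subgroup (G ⧸ N) :=
        { carrier := {q | q ^ p = 1}
          one_mem' := one_pow p
          mul_mem' := fun {u v} hu hv => by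
            show (u * v) ^ p = 1
            rw [(show Commute u v from hab.is_comm.comm u v).mul_pow,
              show u ^ p = 1 from hu, show v ^ p = 1 from hv, one_mul]
          inv_mem' := fun {u} hu => by
            show u⁻¹ ^ p = 1
            rw [inv_pow, show u ^ p = 1 from hu, inv_one] }
      have hK : Nat.card K ∣ p := by
        rw [← IsCyclic.exponent_eq_card]
        exact Monoid.exponent_dvd_of_forall_pow_eq_one fun q => Subtype.ext (by rw [coe_pow]; exact q.2)
      have hle : zpowers (π x) ≤ K := zpowers_le.mpr (show (π x) ^ p = 1 by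
        rw [← map_pow, hxp, map_one])
      have heq : zpowers (π x) = K := eq_of_le_of_card_ge hle (by
        rw [Nat.card_zpowers, hπx]
        exact Nat.le_of_dvd hpp.pos hK)
      rw [heq]
      show (π y) ^ p = 1
      rw [← map_pow, hy, map_one]
    obtain ⟨i, hi⟩ := Cfsg.Agent.PLocal.CyclicExtension.exists_pow_eq_of_mem_zpowers hmem
    refine ⟨i, ?_, ?_⟩
    · refine (QuotientGroup.eq_one_iff _).mp ?_
      show π (y * (x ^ i)⁻¹) = 1
      rw [map_mul, map_inv, map_pow, hi, mul_inv_cancel]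
    · have hn : y * (x ^ i)⁻¹ ∈ N := (QuotientGroup.eq_one_iff _).mp (show π (y * (x ^ i)⁻¹) = 1 by
        rw [map_mul, map_inv, map_pow, hi, mul_inv_cancel])
      obtain ⟨j, hj⟩ := hpow _ hn
      rw [hj]
      set x' := x ^ i with hx'
      have hx'p : x' ^ p = 1 := by rw [hx', ← pow_mul, mul_comm, pow_mul, hxp, one_pow]
      obtain ⟨r, hr⟩ := hpow _ (hN.conj_mem a haN x')
      obtain ⟨k, hk⟩ := IsPGroup.iff_orderOf.mp hG a
      rcases Nat.eq_zero_or_pos k with rfl | hk0
      · rw [(show a = 1 from orderOf_eq_one_iff.mp (by simpa using hk)), one_pow, one_pow]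
      have hrp : r % p = 1 := by
        have h := Cfsg.Agent.PGroups.UniqueSubgroup.pow_conj_eq hr p
        rw [hx'p, one_mul, inv_one, mul_one] at h
        have h' : a ^ 1 = a ^ (r ^ p) := by rw [pow_one]; exact h
        rw [pow_eq_pow_iff_modEq, hk] at h'
        have h2 : 1 ≡ r ^ p [MOD p] := h'.of_dvd (dvd_pow_self p hk0.ne')
        have h3 : r ^ p ≡ r [MOD p] := by
          rw [← ZMod.natCast_eq_natCast_iff]
          push_cast
          exact ZMod.pow_card _
        have h4 : r % p = 1 % p := (h2.trans h3).symm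
        rwa [Nat.mod_eq_of_lt hpp.one_lt] at h4
      obtain ⟨u, hu, hu'⟩ := Cfsg.Agent.PGroups.UniqueSubgroup.geom_sum_of_mod hpp hrp
        (fun h => absurd h hp2)
      have hyeq : y = a ^ j * x' := by rw [← hj, inv_mul_cancel_right]
      have h5 := Cfsg.Agent.PGroups.UniqueSubgroup.mul_pow_eq hr j p
      rw [← hyeq, hy, hx'p, mul_one, hu] at h5
      have h6 : orderOf a ∣ j * (p * u) := orderOf_dvd_of_pow_eq_one h5.symm
      rw [← pow_mul, ← orderOf_dvd_iff_pow_eq_one]
      rw [← mul_assoc] at h6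
      exact (Nat.Coprime.dvd_of_dvd_mul_right
        (by rw [hk]; exact ((hpp.coprime_iff_not_dvd.mpr hu').pow_left k)) h6)
  set W := Z ⊔ zpowers x with hW
  have hZx : ∀ w ∈ W, ∃ z ∈ Z, ∃ i : ℤ, w = z * x ^ i := by
    intro w hw
    obtain ⟨z, hz, v, hv, rfl⟩ := mem_sup_of_normal_left.mp hw
    obtain ⟨i, rfl⟩ := mem_zpowers_iff.mp hv
    exact ⟨z, hz, i, rfl⟩
  refine ⟨W, fun y => ⟨fun hy => ?_, fun hy => ?_⟩, fun u hu v hv => ?_, ?_⟩
  · obtain ⟨z, hz, i, rfl⟩ := hZx y hy
    rw [(show Commute z (x ^ i) from hZab z hz _).mul_pow, hz.2, one_mul, ← zpow_natCast,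
      ← zpow_mul, mul_comm, zpow_mul, zpow_natCast, hxp, one_zpow]
  · obtain ⟨i, hi⟩ := key y hy
    have := W.mul_mem (mem_sup_left hi) (mem_sup_right (pow_mem (mem_zpowers x) i))
    rwa [inv_mul_cancel_right] at this
  · obtain ⟨z, hz, i, rfl⟩ := hZx u hu
    obtain ⟨z', hz', i', rfl⟩ := hZx v hv
    exact (((show Commute z z' from hZab z hz _).mul_right (hZab z hz _)).mul_left
      ((show Commute z' (x ^ i) from hZab z' hz' _).symm.mul_right
        (Commute.zpow_zpow_self x i i'))).eq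
  · have h2 : Nat.card (W.map π) ∣ p := by
      rw [hW, Subgroup.map_sup, (Subgroup.map_eq_bot_iff Z).mpr (show Z ≤ π.ker from fun y hy => by
        rw [hπ, QuotientGroup.ker_mk']; exact hy.1), bot_sup_eq, MonoidHom.map_zpowers,
        Nat.card_zpowers, hπx]
    have h3 : Nat.card W = Nat.card (N.subgroupOf W) * Nat.card (W.map π) := by
      let f : W →* G ⧸ N := π.comp W.subtype
      have hker : f.ker = N.subgroupOf W := by
        ext w
        exact QuotientGroup.eq_one_iff _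
      have hrange : f.range = W.map π := by
        rw [MonoidHom.range_comp, Subgroup.range_subtype]
      rw [← hrange, ← Subgroup.index_ker, hker, Subgroup.card_mul_index]
    have h4 : Nat.card (N.subgroupOf W) ∣ p := by
      refine dvd_trans ?_ hZcard
      have hle : ∀ w : N.subgroupOf W, ((w : W) : G) ∈ Z := fun w => ⟨w.2, by
        obtain ⟨z, hz, i, e⟩ := hZx _ (w : W).2
        rw [e, (show Commute z (x ^ i) from hZab z hz _).mul_pow, hz.2, one_mul, ← zpow_natCast,
          ← zpow_mul, mul_comm, zpow_mul, zpow_natCast, hxp, one_zpow]⟩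
      exact Subgroup.card_dvd_of_injective ((W.subtype.comp (N.subgroupOf W).subtype).codRestrict Z hle)
        (fun u v h => Subtype.ext (Subtype.ext ((congrArg (fun z : Z => (z : G)) h :) : ((u : W) : G) = (v : W))))
    rw [h3, pow_two]
    exact mul_dvd_mul h4 h2

end Pure

open Cfsg Cfsg.FusionSystem Cfsg.Agent.Fusion.Basic Cfsg.Agent.Fusion.Saturation
  Cfsg.Agent.Fusion.Normal Cfsg.Agent.Fusion.SmallElements Cfsg.Agent.Fusion.Alperin

variable {Ω : Type*} [Group Ω] {S P W : Subgroup Ω} {F : FusionSystem S} {p : ℕ}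

/-- Two transvections with distinct centres generate inversion on an abelian group. -/
theorem swap_sq {A : Type*} [Group A] {c y : A} (hcy : c * y = y * c) {u v : MulAut A}
    (huc : u c = c) (huy : u y = c * y) (hvy : v y = y) (hvc : v c = c * y⁻¹) :
    ((u * v * u) ^ 2) c = c⁻¹ ∧ ((u * v * u) ^ 2) y = y⁻¹ := by
  have hwy : (u * v * u) y = c := by
    rw [MulAut.mul_apply, MulAut.mul_apply, huy, map_mul, hvc, hvy, inv_mul_cancel_right, huc]
  have hwc : (u * v * u) c = y⁻¹ := by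
    rw [MulAut.mul_apply, MulAut.mul_apply, huc, hvc, map_mul, map_inv, huc, huy, mul_inv_rev,
      ← mul_assoc, (show Commute c y from hcy).inv_right.eq, mul_assoc, mul_inv_cancel, mul_one]
  constructor
  · rw [pow_two, MulAut.mul_apply, hwc, map_inv, hwy]
  · rw [pow_two, MulAut.mul_apply, hwy, hwc]

variable [Finite S] [Fact p.Prime]

/-- An automorphism inverting the elements of order `p` forces `P` to be abelian. -/
theorem comm_of_inverted {G : Type*} [Group G] [Finite G] (hp2 : p ≠ 2) (hG : IsPGroup p G)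
    (β : MulAut G) (hβ : ∀ x : G, x ^ p = 1 → β x = x⁻¹) : ∀ x y : G, x * y = y * x := by
  obtain ⟨s, o, ho, hn⟩ := Nat.exists_eq_two_pow_mul_odd (n := orderOf β) (orderOf_pos β).ne'
  set δ := β ^ o with hδ
  have hinv2 : ∀ x : G, x ^ p = 1 → (β ^ 2) x = x := fun x hx => by
    rw [pow_two, MulAut.mul_apply, hβ x hx, map_inv, hβ x hx, inv_inv]
  have hev : ∀ (k : ℕ) (x : G), x ^ p = 1 → ((β ^ 2) ^ k) x = x := by
    intro k x hx
    induction k with
    | zero => simp
    | succ k ih => rw [pow_succ', MulAut.mul_apply, ih, hinv2 x hx]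
  have hδinv : ∀ x : G, x ^ p = 1 → δ x = x⁻¹ := by
    intro x hx
    obtain ⟨k, rfl⟩ := ho
    rw [hδ, pow_succ', MulAut.mul_apply, pow_mul, hev k x hx, hβ x hx]
  have hδ2 : δ ^ 2 = 1 := by
    refine aut_eq_one_of_fix_small hG _ ?_ fun x hx => ?_
    · have h1 : (δ ^ 2) ^ 2 ^ s = 1 := by
        rw [hδ, ← pow_mul, ← pow_mul, show o * (2 * 2 ^ s) = orderOf β * 2 by rw [hn]; ring,
          pow_mul, pow_orderOf_eq_one, one_pow]
      obtain ⟨i, -, hi⟩ := (Nat.dvd_prime_pow Nat.prime_two).mp (orderOf_dvd_of_pow_eq_one h1)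
      rw [hi]
      exact ((Nat.coprime_primes Nat.prime_two (Fact.out : p.Prime)).mpr hp2.symm).pow_left i
    · rcases hx with hx | ⟨h, -⟩
      · rw [hδ, ← pow_mul, mul_comm, pow_mul]
        exact hev o x hx
      · exact absurd h hp2
  have hfpf : MonoidHom.FixedPointFree (fun x => δ x) := by
    intro g hg
    by_contra h1
    obtain ⟨k, hk⟩ := IsPGroup.iff_orderOf.mp hG g
    rcases Nat.eq_zero_or_pos k with rfl | hk0
    · exact h1 (orderOf_eq_one_iff.mp (by simpa using hk))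
    obtain ⟨m, rfl⟩ := Nat.exists_eq_succ_of_ne_zero hk0.ne'
    have hzp : (g ^ p ^ m) ^ p = 1 := by rw [← pow_mul, ← pow_succ, ← hk, pow_orderOf_eq_one]
    have hfix : δ (g ^ p ^ m) = g ^ p ^ m := by rw [map_pow]; exact congrArg (· ^ p ^ m) hg
    rw [hδinv _ hzp, inv_eq_iff_mul_eq_one, ← pow_two] at hfix
    have h2 : orderOf (g ^ p ^ m) ∣ Nat.gcd p 2 :=
      Nat.dvd_gcd (orderOf_dvd_of_pow_eq_one hzp) (orderOf_dvd_of_pow_eq_one hfix)
    rw [(Nat.coprime_primes (Fact.out : p.Prime) Nat.prime_two).mpr hp2, Nat.dvd_one,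
      orderOf_eq_one_iff] at h2
    have h3 := orderOf_dvd_of_pow_eq_one h2
    rw [hk, Nat.pow_dvd_pow_iff_le_right (Fact.out : p.Prime).one_lt] at h3
    omega
  intro x y
  exact (MonoidHom.FixedPointFree.commute_all_of_involutive (φ := δ) hfpf
    (fun z => by rw [← MulAut.mul_apply, ← pow_two, hδ2, MulAut.one_apply]) x y).eq

/-- A strongly closed line in `W = Ω₁(P)`. -/
theorem line_stronglyClosed (hS : IsPGroup p S) (hF : F.IsSaturated p) (hp2 : p ≠ 2)
    (hP : F.StronglyClosed P) (hWP : W ≤ P) (hWmem : ∀ x ∈ P, x ^ p = 1 → x ∈ W)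
    (hWexp : ∀ x ∈ W, x ^ p = 1) (hWab : ∀ x ∈ W, ∀ y ∈ W, x * y = y * x)
    (hWcard : Nat.card W ∣ p ^ 2) (hne : ∃ g ∈ P, ∃ w ∈ W, g * w ≠ w * g) :
    F.StronglyClosed (W ⊓ centralizer (P : Set Ω)) ∧
      ∀ g ∈ P, ∀ w ∈ W, g * w * g⁻¹ * w⁻¹ ∈ W ⊓ centralizer (P : Set Ω) := by
  have hpp : p.Prime := Fact.out
  have : Finite P := finite_of_le hP.1
  have : Finite W := finite_of_le hWP
  have hWS : W ≤ S := hWP.trans hP.1
  have hWsc : F.StronglyClosed W := by
    refine ⟨hWS, fun R hR φ hφ x => hWmem _ (hP.2 R (hR.trans hWP) φ hφ x) ?_⟩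
    rw [← map_pow, show x ^ p = 1 from Subtype.ext (by simpa using hWexp x (hR x.2)), map_one]
  have hWn := le_normalizer_of_stronglyClosed hWsc
  set X := W ⊓ centralizer (P : Set Ω) with hX
  have hXW : X ≤ W := inf_le_left
  have hcen : ∀ z ∈ X, ∀ g ∈ P, g * z = z * g := fun z hz g hg => hz.2 g hg
  obtain ⟨g₀, hg₀, w₀, hw₀, hgw⟩ := hne
  have hXne : X ≠ ⊥ := by
    have : Group.IsNilpotent P := (hS.to_le hP.1).isNilpotent
    have hn : (W.subgroupOf P).Normal := ⟨fun n hn g =>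
      (mem_normalizer_iff.mp (hWn (hP.1 g.2)) n).mp hn⟩
    have hne' : W.subgroupOf P ≠ ⊥ := fun h => by
      rw [subgroupOf_eq_bot] at h
      have : w₀ ∈ W ⊓ P := ⟨hw₀, hWP hw₀⟩
      rw [h.eq_bot, mem_bot] at this
      exact hgw (by rw [this, mul_one, one_mul])
    intro h
    refine Cfsg.Agent.Solvable.Basics.inf_center_ne_bot hne' (eq_bot_iff.mpr fun z hz => ?_)
    have hzX : (z : Ω) ∈ X := ⟨hz.1, fun g hg =>
      congrArg Subtype.val (mem_center_iff.mp hz.2 ⟨g, hg⟩)⟩
    rw [h, mem_bot] at hzX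
    exact mem_bot.mpr (Subtype.ext hzX)
  have : Finite X := finite_of_le hXW
  have hXlt : X < W := lt_of_le_of_ne hXW fun h => hgw (hcen w₀ (h.symm ▸ hw₀) g₀ hg₀)
  have hXp : Nat.card X = p ∧ Nat.card W = p ^ 2 := by
    obtain ⟨i, hi, hic⟩ := (Nat.dvd_prime_pow hpp).mp hWcard
    obtain ⟨j, hj, hjc⟩ := (Nat.dvd_prime_pow hpp).mp ((card_dvd_of_le hXW).trans hWcard)
    have h1 := card_lt_card hXlt
    rw [hic, hjc, Nat.pow_lt_pow_iff_right hpp.one_lt] at h1
    have hj0 : j ≠ 0 := fun h => hXne (eq_bot_of_card_eq _ (by rw [hjc, h, pow_zero]))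
    obtain rfl : j = 1 := by omega
    obtain rfl : i = 2 := by omega
    exact ⟨by rw [hjc, pow_one], hic⟩
  have hgenX : ∀ c ∈ X, c ≠ 1 → zpowers c = X := fun c hc hc1 => eq_of_le_card (zpowers_le.mpr hc)
    (by rw [Nat.card_zpowers, orderOf_eq_prime (hWexp c (hXW hc)) hc1, hXp.1])
  have hcomm : ∀ g ∈ P, ∀ w ∈ W, g * w * g⁻¹ * w⁻¹ ∈ X := by
    intro g hg w hw
    have hXn : (X.subgroupOf P).Normal := ⟨fun n hn g => by
      rw [mem_subgroupOf] at hn ⊢
      rw [coe_mul, coe_mul, coe_inv, hcen _ hn _ g.2, mul_inv_cancel_right]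
      exact hn⟩
    set π := QuotientGroup.mk' (X.subgroupOf P)
    have hn : (W.subgroupOf P).Normal := ⟨fun n hn g =>
      (mem_normalizer_iff.mp (hWn (hP.1 g.2)) n).mp hn⟩
    have : ((W.subgroupOf P).map π).Normal := hn.map π (QuotientGroup.mk'_surjective _)
    have hc : Nat.card ((W.subgroupOf P).map π) = p := by
      let f : W.subgroupOf P →* P ⧸ X.subgroupOf P := π.comp (W.subgroupOf P).subtype
      have hker : f.ker = (X.subgroupOf P).subgroupOf (W.subgroupOf P) := by
        ext z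
        exact QuotientGroup.eq_one_iff _
      have hrange : f.range = (W.subgroupOf P).map π := by
        rw [MonoidHom.range_comp, Subgroup.range_subtype]
      have h1 := Subgroup.card_mul_index f.ker
      have hle' : X.subgroupOf P ≤ W.subgroupOf P := comap_mono hXW
      rw [Subgroup.index_ker, hrange, hker,
        Nat.card_congr (subgroupOfEquivOfLe hle').toEquiv,
        Nat.card_congr (subgroupOfEquivOfLe (hXW.trans hWP)).toEquiv,
        Nat.card_congr (subgroupOfEquivOfLe hWP).toEquiv, hXp.1, hXp.2, pow_two] at h1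
      exact Nat.eq_of_mul_eq_mul_left hpp.pos h1
    have h2 := mem_center_iff.mp (Cfsg.Agent.PLocal.CyclicExtension.le_center_of_card_eq
      ((hS.to_le hP.1).to_quotient _) hc ⟨⟨w, hWP hw⟩, hw, rfl⟩) (π ⟨g, hg⟩)
    have h3 : π (⟨g, hg⟩ * ⟨w, hWP hw⟩ * (⟨g, hg⟩ : P)⁻¹ * (⟨w, hWP hw⟩ : P)⁻¹) = 1 := by
      rw [map_mul, map_mul, map_mul, map_inv, map_inv, h2, mul_inv_cancel_right, mul_inv_cancel]
    exact ((QuotientGroup.eq_one_iff (N := X.subgroupOf P) _).mp h3 :)
  refine ⟨⟨hXW.trans hWS, fun R hR φ hφ x => ?_⟩, hcomm⟩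
  by_contra hxX
  -- a map moving the line, extended to `W`
  set f := ext φ
  have hf : IsMap F R f := IsMap.of_hom hφ
  rw [← ext_apply φ x] at hxX
  have hx1 : (x : Ω) ≠ 1 := fun h => hxX (by
    show f x ∈ X
    rw [h, hf.map_one]; exact X.one_mem)
  have hR' : zpowers (x : Ω) = X := hgenX _ (hR x.2) hx1
  have hRX : R = X := le_antisymm hR (hR'.symm.le.trans (zpowers_le.mpr x.2))
  subst hRX
  set y := f x with hy
  have hyW : y ∈ W := stronglyClosed_mem hWsc hf x.2 (hXW x.2)
  have hXfc : F.IsFullyCentralized X := by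
    refine ⟨hXW.trans hWS, fun Q _ => ?_⟩
    have hXc : (X.subgroupOf S).Normal := ⟨fun n hn g => by
      rw [mem_subgroupOf] at hn ⊢
      refine ⟨(mem_normalizer_iff.mp (hWn g.2) n).mp hn.1, fun q hq => ?_⟩
      have hq' : (g : Ω)⁻¹ * q * g ∈ P := by
        have := (mem_normalizer_iff.mp
          (le_normalizer_of_stronglyClosed hP (S.inv_mem g.2)) q).mp hq
        simpa using this
      have h1 := hn.2 _ hq'
      simp only [coe_mul, coe_inv]
      calc q * (↑g * ↑n * (↑g)⁻¹) = ↑g * ((↑g)⁻¹ * q * ↑g * ↑n) * (↑g)⁻¹ := by group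
        _ = ↑g * (↑n * ((↑g)⁻¹ * q * ↑g)) * (↑g)⁻¹ := by rw [h1]
        _ = ↑g * ↑n * (↑g)⁻¹ * q := by group⟩
    have hc : S ≤ centralizerIn S X := by
      refine fun s hs => ⟨hs, fun z hz => ?_⟩
      have h1 := Cfsg.Agent.PLocal.CyclicExtension.le_center_of_card_eq hS
        (Z := X.subgroupOf S)
        (by rw [Nat.card_congr (subgroupOfEquivOfLe (hXW.trans hWS)).toEquiv, hXp.1])
      have h2 := mem_center_iff.mp (h1 (show (⟨z, hWS (hXW hz)⟩ : S) ∈ X.subgroupOf S from hz))
        ⟨s, hs⟩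
      exact (congrArg Subtype.val h2).symm
    have : Finite (centralizerIn S X) := finite_of_le inf_le_left
    exact (card_le_card (inf_le_left : centralizerIn S Q ≤ S)).trans (card_le_card hc)
  obtain ⟨i, hi, himg, hif, -⟩ := hf.exists_inv
  obtain ⟨k, hk, hke⟩ := exists_extension hS hF hi (by rw [himg]; exact hXfc)
  have himgW : img f X ≤ W := img_le fun z hz => stronglyClosed_mem hWsc hf hz (hXW hz)
  have hle : W ≤ nSub S (img f X) i := fun w hw => mem_nSub.2 ⟨hWS hw,
    centralizer_le_normalizer _ fun z hz => hWab z (himgW hz) w hw, 1, S.one_mem,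
    fun z hz => by rw [← hWab z (himgW hz) w hw, mul_inv_cancel_right]; simp⟩
  obtain ⟨a, ha, hae⟩ := (hk.restrict hle).exists_aut
    (stronglyClosed_img hWsc (hk.restrict hle) le_rfl)
  let Y : W := ⟨y, hyW⟩
  have haY : ((a Y : W) : Ω) = x := by
    rw [← autFun_apply, hae y hyW, hke y (mem_img_self f x.2), hif x x.2]
  have hyX : y ∉ X := hxX
  obtain ⟨g, hg, hgy⟩ : ∃ g ∈ P, g * y ≠ y * g := by
    by_contra h
    push Not at h
    exact hyX ⟨hyW, h⟩
  let ug : normalizerIn S W := ⟨g, hP.1 hg, hWn (hP.1 hg)⟩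
  set u := conjAut S W ug with hu
  have huF : u ∈ F.autGroup W := autInducedBy_le hWS (conjAut_range S W ▸ ⟨_, rfl⟩)
  have huapp : ∀ z : W, ((u z : W) : Ω) = g * z * g⁻¹ := fun z => rfl
  have hufix : ∀ z : W, (z : Ω) ∈ X → u z = z := fun z hz => Subtype.ext (by
    rw [huapp, hcen _ hz g hg, mul_inv_cancel_right])
  let c : W := u Y * Y⁻¹
  have hcX : (c : Ω) ∈ X := hcomm g hg y hyW
  have hc1 : (c : Ω) ≠ 1 := fun h => hgy (by
    have h' : g * y * g⁻¹ * y⁻¹ = 1 := h
    rw [mul_inv_eq_one, mul_inv_eq_iff_eq_mul] at h'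
    exact h')
  have hac : (((a c : W)) : Ω) ∉ X := by
    intro h
    have hx' : (x : Ω) ∈ X := x.2
    have : ((a c : W) : Ω) ∈ zpowers (x : Ω) := hR'.symm ▸ h
    obtain ⟨m, hm⟩ := mem_zpowers_iff.mp this
    have h1 : a c = a (Y ^ m) := Subtype.ext (by rw [map_zpow, coe_zpow, haY, hm])
    have h2 : (c : Ω) = y ^ m := by
      rw [a.injective h1]; rfl
    refine hyX ?_
    have h3 : (c : Ω) ∈ zpowers y := ⟨m, h2.symm⟩
    have : Finite (zpowers y) := finite_of_le (zpowers_le.mpr hyW)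
    have h4 : zpowers (c : Ω) = zpowers y := eq_of_le_card (zpowers_le.mpr h3) (by
      rw [Nat.card_zpowers, Nat.card_zpowers, orderOf_eq_prime (hWexp _ c.2) hc1]
      exact Nat.le_of_dvd hpp.pos (orderOf_dvd_of_pow_eq_one (hWexp y hyW)))
    exact (zpowers_le.mpr hcX) (h4.symm ▸ mem_zpowers y)
  set v := a⁻¹ * u * a with hv
  have hvY : v Y = Y := by
    rw [hv, MulAut.mul_apply, MulAut.mul_apply, hufix (a Y) (by rw [haY]; exact x.2)]
    exact a.symm_apply_apply Y
  let t : W := v c * c⁻¹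
  have hab : ∀ z w : W, z * w = w * z := fun z w => Subtype.ext (hWab z z.2 w w.2)
  have hat : a t = u (a c) * (a c)⁻¹ := by
    show a ((a⁻¹ * u * a) c * c⁻¹) = _
    rw [map_mul, map_inv, MulAut.mul_apply, MulAut.mul_apply, MulAut.apply_inv_self]
  have htX : ((a t : W) : Ω) ∈ X := by
    rw [hat]; exact hcomm g hg _ (a c).2
  have ht1 : t ≠ 1 := by
    intro h
    rw [h, map_one] at hat
    refine hac ⟨(a c).2, fun q hq => ?_⟩
    -- `a c` would be fixed by `g`, so `W` would be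
    have hfix : u (a c) = a c := mul_inv_eq_one.mp hat.symm
    have hK : ∀ z : W, u z = z := by
      let K : Subgroup W := u.toMonoidHom.eqLocus (MonoidHom.id W)
      have hcK : X.subgroupOf W ≤ K := fun z hz => hufix z hz
      have hltK : X < K.map W.subtype := by
        refine lt_of_le_of_ne (fun z hz => ⟨⟨z, hXW hz⟩, hcK hz, rfl⟩) fun h => hac ?_
        rw [h]
        exact ⟨a c, hfix, rfl⟩
      have : Finite (K.map W.subtype : Subgroup Ω) := finite_of_le (map_subtype_le K)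
      have h1 := card_lt_card hltK
      obtain ⟨j, hj, hjc⟩ := (Nat.dvd_prime_pow hpp).mp
        ((card_dvd_of_le (map_subtype_le K)).trans hWcard)
      rw [hXp.1, hjc] at h1
      have h2 : K.map W.subtype = W := eq_of_le_card (map_subtype_le K) (by
        rw [hXp.2, hjc]
        refine Nat.pow_le_pow_right hpp.pos ?_
        have : 1 < j := (Nat.pow_lt_pow_iff_right hpp.one_lt).mp (by rwa [pow_one])
        omega)
      intro z
      obtain ⟨z', hz', e⟩ : (z : Ω) ∈ K.map W.subtype := h2.symm ▸ z.2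
      rw [← Subtype.ext (e : (z' : Ω) = z)]
      exact hz'
    have h3 : (c : Ω) = 1 := by
      show ((u Y * Y⁻¹ : W) : Ω) = 1
      rw [hK Y, mul_inv_cancel]; rfl
    exact absurd h3 hc1
  obtain ⟨j, hj⟩ : ∃ j : ℕ, t ^ j = Y⁻¹ := by
    have h1 : zpowers ((a t : W) : Ω) = X := hgenX _ htX (fun h =>
      ht1 (a.injective (by rw [map_one]; exact Subtype.ext h)))
    have hmem : (a Y : W) ∈ zpowers (a t) := by
      obtain ⟨m, hm⟩ := mem_zpowers_iff.mp
        (show (x : Ω) ∈ zpowers ((a t : W) : Ω) from h1.symm ▸ x.2)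
      exact mem_zpowers_iff.mpr ⟨m, Subtype.ext (by rw [coe_zpow, hm, haY])⟩
    obtain ⟨m, hm'⟩ := Cfsg.Agent.PLocal.CyclicExtension.exists_pow_eq_of_mem_zpowers hmem
    have hm : ((a t : W) : Ω) ^ m = x := by rw [← coe_pow, ← hm', haY]
    have h2 : t ^ m = Y := a.injective (Subtype.ext (by rw [map_pow, coe_pow, hm, haY]))
    refine ⟨m * (p - 1), ?_⟩
    rw [pow_mul, h2]
    have hY : Y ^ p = 1 := Subtype.ext (by simpa using hWexp y hyW)
    rw [eq_inv_iff_mul_eq_one, ← pow_succ, show p - 1 + 1 = p by have := hpp.one_le; omega, hY]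
  have hvt : v t = t := by
    have h1 : u (a t) = a t := hufix _ htX
    rw [hv, MulAut.mul_apply, MulAut.mul_apply, h1]
    exact a.symm_apply_apply t
  have hvc : (v ^ j) c = c * Y⁻¹ := by
    have : ∀ m : ℕ, (v ^ m) c = c * t ^ m := by
      intro m
      induction m with
      | zero => simp
      | succ m ih =>
        rw [pow_succ', MulAut.mul_apply, ih, map_mul, map_pow, hvt,
          show v c = t * c from (inv_mul_cancel_right (v c) c).symm, hab t c, pow_succ', mul_assoc]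
    rw [this, hj]
  have hvyj : (v ^ j) Y = Y := by
    have : ∀ m : ℕ, (v ^ m) Y = Y := by
      intro m
      induction m with
      | zero => simp
      | succ m ih => rw [pow_succ', MulAut.mul_apply, ih, hvY]
    exact this j
  obtain ⟨hwc, hwy⟩ := swap_sq (hab c Y) (hufix c hcX)
    (inv_mul_cancel_right (u Y) Y).symm hvyj hvc
  set w := (u * v ^ j * u) ^ 2 with hwdef
  have hwF : w ∈ F.autGroup W :=
    pow_mem (mul_mem (mul_mem huF (pow_mem (mul_mem (mul_mem (inv_mem ha) huF) ha) j)) huF) 2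
  -- `w` inverts `W`
  have hinv : ∀ z : W, w z = z⁻¹ := by
    let K : Subgroup W :=
      { carrier := {z | w z = z⁻¹}
        one_mem' := by simp
        mul_mem' := fun {z z'} hz hz' => by
          show w (z * z') = (z * z')⁻¹
          rw [map_mul, show w z = z⁻¹ from hz, show w z' = z'⁻¹ from hz', mul_inv_rev, hab]
        inv_mem' := fun {z} hz => by
          show w z⁻¹ = z⁻¹⁻¹
          rw [map_inv, show w z = z⁻¹ from hz] }
    have hltK : X < K.map W.subtype := by
      refine lt_of_le_of_ne ?_ fun h => hyX (h.symm ▸ ⟨Y, hwy, rfl⟩)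
      rw [← hgenX _ hcX hc1, zpowers_le]
      exact ⟨c, hwc, rfl⟩
    have : Finite (K.map W.subtype : Subgroup Ω) := finite_of_le (map_subtype_le K)
    have h1 := card_lt_card hltK
    obtain ⟨i', hi', hic⟩ := (Nat.dvd_prime_pow hpp).mp
      ((card_dvd_of_le (map_subtype_le K)).trans hWcard)
    rw [hXp.1, hic] at h1
    have h2 : K.map W.subtype = W := eq_of_le_card (map_subtype_le K) (by
      rw [hXp.2, hic]
      refine Nat.pow_le_pow_right hpp.pos ?_
      have : 1 < i' := (Nat.pow_lt_pow_iff_right hpp.one_lt).mp (by rwa [pow_one])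
      omega)
    intro z
    obtain ⟨z', hz', e⟩ : (z : Ω) ∈ K.map W.subtype := h2.symm ▸ z.2
    rw [← Subtype.ext (e : (z' : Ω) = z)]
    exact hz'
  have hmw := isMap_of_mem_autGroup hWS hwF
  have hwfun : ∀ z ∈ W, autFun w z = z⁻¹ := fun z hz => by
    rw [autFun_of_mem w hz, hinv]; rfl
  have hWfc : F.IsFullyCentralized W := fullyNormalized_fullyCentralized hS hF
    ⟨hWS, fun Q _ => by
      have e : normalizerIn S W = S := inf_eq_left.mpr hWn
      rw [e]
      exact card_le_card normalizerIn_le⟩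
  obtain ⟨θ, hθ, hθe⟩ := exists_extension hS hF hmw (by rw [autFun_img]; exact hWfc)
  have hPn : P ≤ nSub S W (autFun w) := fun s hs => mem_nSub.2 ⟨hP.1 hs, hWn (hP.1 hs), s, hP.1 hs,
    fun z hz => by
      rw [hwfun z hz, hwfun _ ((mem_normalizer_iff.mp (hWn (hP.1 hs)) z).mp hz)]
      group⟩
  obtain ⟨β, -, hβe⟩ := (hθ.restrict hPn).exists_aut
    (stronglyClosed_img hP (hθ.restrict hPn) le_rfl)
  have hPab := comm_of_inverted hp2 (hS.to_le hP.1) β fun z hz => Subtype.ext (by
    have hzW : (z : Ω) ∈ W := hWmem z z.2 (by simpa using congrArg Subtype.val hz)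
    rw [← autFun_apply, hβe z z.2, hθe z hzW, hwfun z hzW]; rfl)
  exact hgy (congrArg Subtype.val (hPab ⟨g, hg⟩ ⟨y, hWP hyW⟩))

end Cfsg.Agent.Fusion.MetacyclicClosed
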