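/-
A strongly closed subgroup `P` with `Φ(P) = P'` of order `p` (apart from the two exceptional
shapes) has `P'` strongly closed, so is normal.
-/
import Mathlib
import Cfsg.Agent.Lib.Fusion.MetacyclicClosed
import Cfsg.Agent.Lib.Transfer.Special
import Cfsg.Agent.Lib.Classical.CyclicExt
import Cfsg.Agent.GenA.SymplecticType
import Cfsg.Agent.S3074

set_option autoImplicit false
set_option linter.all false

namespace Cfsg.Agent.Fusion.GenExtraspecialClosed

open Subgroup
open scoped commutatorElement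

section Pure

variable {G : Type*} [Group G] [Finite G] {p : ℕ} [hp : Fact p.Prime]

theorem exists_small_group (X : Type*) [Group X] [Finite X] :
    ∃ (X' : Type) (_ : Group X'), Nonempty (X' ≃* X) := by
  haveI : Small.{0} X := Small.mk' (Finite.equivFin X)
  exact ⟨Shrink.{0} X, inferInstance, ⟨Shrink.mulEquiv⟩⟩

theorem exists_small_commGroup (X : Type*) [CommGroup X] [Finite X] :
    ∃ (X' : Type) (_ : CommGroup X'), Nonempty (X' ≃* X) := by
  haveI : Small.{0} X := Small.mk' (Finite.equivFin X)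
  exact ⟨Shrink.{0} X, inferInstance, ⟨Shrink.mulEquiv⟩⟩

theorem card_sup_zpowers {N : Subgroup G} [N.Normal] {x : G} (hx : x ^ p = 1) (hxN : x ∉ N) :
    Nat.card (N ⊔ zpowers x : Subgroup G) = Nat.card N * p := by
  set W := N ⊔ zpowers x
  let f : W →* G ⧸ N := (QuotientGroup.mk' N).comp W.subtype
  have hker : f.ker = N.subgroupOf W := by
    ext w
    exact QuotientGroup.eq_one_iff _
  have hrange : Nat.card f.range = p := by
    rw [MonoidHom.range_comp, Subgroup.range_subtype, Subgroup.map_sup,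
      (Subgroup.map_eq_bot_iff N).mpr (QuotientGroup.ker_mk' N).ge, bot_sup_eq,
      MonoidHom.map_zpowers, Nat.card_zpowers]
    exact orderOf_eq_prime (by rw [← map_pow, hx, map_one])
      fun h => hxN ((QuotientGroup.eq_one_iff x).mp h)
  rw [← Subgroup.card_mul_index f.ker, Subgroup.index_ker, hrange, hker,
    Nat.card_congr (subgroupOfEquivOfLe (le_sup_left : N ≤ W)).toEquiv]

/-- A complement of `⟨z⟩` in an elementary abelian central subgroup. -/
theorem exists_central_complement {z : G} (hz : z ^ p = 1) (hzc : z ∈ center G) (hz1 : z ≠ 1)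
    (hexp : ∀ w ∈ center G, w ^ p = 1) :
    ∃ A ≤ center G, A ⊓ zpowers z = ⊥ ∧ center G ≤ A ⊔ zpowers z := by
  classical
  have hpp := hp.out
  obtain ⟨A, -, ⟨hA, hAd⟩, hmax⟩ := Set.Finite.exists_le_maximal
    (Set.toFinite {A : Subgroup G | A ≤ center G ∧ A ⊓ zpowers z = ⊥}) (a := ⊥)
    ⟨bot_le, bot_inf_eq _⟩
  refine ⟨A, hA, hAd, fun w hw => ?_⟩
  by_contra hwn
  have hAn : A.Normal := ⟨fun a ha g => by
    rwa [mem_center_iff.mp (hA ha) g, mul_inv_cancel_right]⟩
  refine hwn (mem_sup_left (hmax ⟨sup_le hA (zpowers_le.mpr hw), ?_⟩ le_sup_left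
    (mem_sup_right (mem_zpowers w))))
  by_contra hne
  obtain ⟨v, hv, hv1⟩ := (bot_or_exists_ne_one _).resolve_left hne
  obtain ⟨hvs, hvz⟩ := mem_inf.mp hv
  obtain ⟨a, ha, q, hq, hvq⟩ := mem_sup_of_normal_left.mp hvs
  obtain ⟨i, rfl⟩ := mem_zpowers_iff.mp hq
  by_cases hi : (p : ℤ) ∣ i
  · obtain ⟨j, rfl⟩ := hi
    rw [zpow_mul, zpow_natCast, hexp w hw, one_zpow, mul_one] at hvq
    subst hvq
    exact hv1 (mem_bot.mp (hAd ▸ mem_inf.mpr ⟨ha, hvz⟩))
  · obtain ⟨r, s, hrs⟩ : ∃ r s : ℤ, r * i + s * p = 1 :=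
      Int.isCoprime_iff_gcd_eq_one.mpr (by
        rw [Int.gcd_comm, Int.gcd_def, Int.natAbs_natCast]
        exact hpp.coprime_iff_not_dvd.mpr fun h => hi (Int.natCast_dvd.mpr h))
    have hmem : w ^ i ∈ A ⊔ zpowers z := by
      have : w ^ i = a⁻¹ * v := by rw [← hvq, inv_mul_cancel_left]
      rw [this]
      exact mul_mem (mem_sup_left (inv_mem ha)) (mem_sup_right hvz)
    have : w = (w ^ i) ^ r := by
      conv_lhs => rw [← zpow_one w, ← hrs, zpow_add, zpow_mul' w s, zpow_natCast, hexp w hw,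
        one_zpow, mul_one, mul_comm, zpow_mul]
    exact hwn (this ▸ zpow_mem hmem r)

/-- The shape `D₈ × A`. -/
theorem exceptional_two {z y g : G} (hz : z ^ 2 = 1) (hzc : z ∈ center G)
    (hc : ∀ a b : G, ⁅a, b⁆ ∈ zpowers z) (hexp : ∀ w ∈ center G, w ^ 2 = 1)
    (hy : y ^ 2 = 1) (hg : g ^ 2 = 1) (hgy : g * y ≠ y * g)
    (hgen : ∀ x : G, x ∈ center G ⊔ zpowers y ⊔ zpowers g) :
    ∃ (A : Type) (_ : CommGroup A), (∀ a : A, a ^ 2 = 1) ∧ Nonempty (G ≃* DihedralGroup 4 × A) := by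
  classical
  haveI : Fact (Nat.Prime 2) := ⟨Nat.prime_two⟩
  have hyi : y⁻¹ = y := inv_eq_of_mul_eq_one_right (by rw [← pow_two, hy])
  have hgi : g⁻¹ = g := inv_eq_of_mul_eq_one_right (by rw [← pow_two, hg])
  have hne : ⁅g, y⁆ ≠ 1 := fun h => hgy (commutatorElement_eq_one_iff_mul_comm.mp h)
  have hz1 : z ≠ 1 := fun h => hne (by
    have := hc g y
    rw [h, zpowers_one_eq_bot, mem_bot] at this
    exact this)
  have hzz : zpowers z ≤ center G := zpowers_le.mpr hzc
  have hcm : ⁅g, y⁆ = z := by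
    obtain ⟨i, hi⟩ := mem_zpowers_iff.mp (hc g y)
    rcases Int.even_or_odd i with ⟨k, rfl⟩ | ⟨k, rfl⟩
    · rw [← two_mul, zpow_mul, zpow_two, ← pow_two, hz, one_zpow] at hi
      exact absurd hi.symm hne
    · rw [zpow_add, zpow_one, zpow_mul, zpow_two, ← pow_two, hz, one_zpow, one_mul] at hi
      exact hi.symm
  obtain ⟨r, hr⟩ : ∃ r, r = g * y := ⟨_, rfl⟩
  have hr2 : r ^ 2 = z := by
    rw [← hcm, hr, pow_two, commutatorElement_def, hgi, hyi]
    group
  have hr4 : orderOf r = 4 := by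
    refine orderOf_eq_prime_pow (p := 2) (n := 1) ?_ ?_
    · rw [pow_one, hr2]; exact hz1
    · rw [show 2 ^ (1 + 1) = 2 * 2 by norm_num, pow_mul, hr2, hz]
  have hconj : y * r * y⁻¹ = r⁻¹ := by
    rw [hr, mul_inv_rev, hgi, hyi, mul_assoc y, mul_assoc g, ← pow_two, hy, mul_one]
  have hrc : ∀ n : ℕ, Commute r (r ^ n) := fun n => Commute.self_pow r n
  have hyr : y ∉ zpowers r := by
    intro h
    obtain ⟨i, hi⟩ := mem_zpowers_iff.mp h
    refine hgy ?_
    have h1 : Commute r y := hi ▸ Commute.self_zpow r i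
    have h2 : g * y * y = y * (g * y) := hr ▸ h1.eq
    rw [mul_assoc g y y, ← pow_two, hy, mul_one] at h2
    calc g * y = y * (g * y) * y := by rw [← h2]
      _ = y * g * (y * y) := by simp only [mul_assoc]
      _ = y * g := by rw [← pow_two, hy, mul_one]
  obtain ⟨f, hf, hrf, hyf⟩ := Cfsg.Agent.Classical.CyclicExt.exists_dihedral_hom r y hr4
    (by rw [← pow_two, hy]) hconj hyr
  obtain ⟨A, hA, hAd, hAZ⟩ := exists_central_complement (p := 2) hz hzc hz1 hexp
  have hzf : z ∈ f.range := hr2 ▸ pow_mem hrf 2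
  have hgf : g ∈ f.range := by
    have := mul_mem hrf (inv_mem hyf)
    rwa [hr, mul_inv_cancel_right] at this
  -- transfer `A` to the bottom universe
  letI : CommGroup A := { (inferInstance : Group A) with
    mul_comm := fun a b => Subtype.ext (mem_center_iff.mp (hA b.2) a) }
  obtain ⟨A', instA, ⟨eA⟩⟩ := exists_small_commGroup A
  let Φ : DihedralGroup 4 × A' →* G := MonoidHom.noncommCoprod f
    (A.subtype.comp eA.toMonoidHom) fun d a => mem_center_iff.mp (hA (eA a).2) (f d)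
  have hΦ : ∀ d a, Φ (d, a) = f d * (eA a : G) := fun d a => rfl
  refine ⟨A', inferInstance, fun a => eA.injective ?_, ⟨(MulEquiv.ofBijective Φ
    ⟨?_, ?_⟩).symm⟩⟩
  · rw [map_pow, map_one]
    exact Subtype.ext (by rw [coe_pow]; exact hexp _ (hA (eA a).2))
  · rw [injective_iff_map_eq_one]
    rintro ⟨d, a⟩ h
    rw [hΦ] at h
    have hmem : f d ∈ A := by
      rw [mul_eq_one_iff_eq_inv] at h
      rw [h]
      exact inv_mem (eA a).2
    -- `f d` is central, hence in `⟨z⟩`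
    have hdz : f d ∈ zpowers z := by
      have hcd : ∀ q : G, Commute (f d) q := fun q => (mem_center_iff.mp (hA hmem) q).symm
      cases d with
      | r i =>
        have hd : f (.r i) ∈ zpowers (f (.r 1)) := by
          rw [← ZMod.natCast_zmod_val i, ← DihedralGroup.r_one_pow, map_pow]
          exact pow_mem (mem_zpowers _) _
        have hz' : ∀ x : DihedralGroup 4, (∀ q, x * q = q * x) → x = .r 0 ∨ x = .r 2 := by decide
        rcases hz' (.r i) (fun q => hf (by rw [map_mul, map_mul]; exact (hcd (f q)).eq)) with h | h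
        · rw [h, DihedralGroup.r_zero, map_one]; exact one_mem _
        · obtain ⟨x, hx⟩ := hzf
          have hx' : x = .r 2 := by
            have hq : ∀ x : DihedralGroup 4, (∀ q, x * q = q * x) → x ≠ 1 → x = .r 2 := by decide
            refine hq x (fun q => hf ?_) (fun h0 => hz1 (by rw [← hx, h0, map_one]))
            rw [map_mul, map_mul, hx]
            exact (mem_center_iff.mp hzc (f q)).symm
          rw [h, ← hx', hx]
          exact mem_zpowers z
      | sr i =>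
        have hq : ∀ i : ZMod 4, ∃ q : DihedralGroup 4, .sr i * q ≠ q * .sr i := by decide
        obtain ⟨q, hq⟩ := hq i
        exact absurd (hf (by rw [map_mul, map_mul]; exact (hcd (f q)).eq)) hq
    have h1 : f d = 1 := mem_bot.mp (hAd ▸ mem_inf.mpr ⟨hmem, hdz⟩)
    rw [h1, one_mul] at h
    exact Prod.ext (hf (h1.trans (map_one f).symm)) (eA.injective (Subtype.ext (by simp [h])))
  · intro x
    suffices hx : x ∈ Φ.range from hx
    have h1 : f.range ≤ Φ.range := by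
      rintro _ ⟨d, rfl⟩
      exact ⟨(d, 1), by rw [hΦ, map_one, coe_one, mul_one]⟩
    have h2 : A ≤ Φ.range := fun a ha => ⟨(1, eA.symm ⟨a, ha⟩), by
      rw [hΦ, map_one, one_mul, MulEquiv.apply_symm_apply]⟩
    refine (sup_le (sup_le (hAZ.trans (sup_le h2 ?_)) ?_) ?_ : _ ≤ Φ.range) (hgen x)
    · exact zpowers_le.mpr (h1 hzf)
    · exact zpowers_le.mpr (h1 hyf)
    · exact zpowers_le.mpr (h1 hgf)

/-- The shape `p^{1+2}_+ × A`. -/
theorem exceptional_odd {z y g : G} (hG : IsPGroup p G) (hzc : z ∈ center G)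
    (hc : ∀ a b : G, ⁅a, b⁆ ∈ zpowers z) (hexp : ∀ w : G, w ^ p = 1)
    (hyz : y ∉ zpowers z) (hgy : g * y ≠ y * g)
    (hgen : ∀ x : G, x ∈ center G ⊔ zpowers y ⊔ zpowers g) :
    ∃ (E : Type) (_ : Group E) (A : Type) (_ : CommGroup A), Cfsg.IsExtraspecial p E ∧
      Nat.card E = p ^ 3 ∧ Monoid.exponent E = p ∧ (∀ a : A, a ^ p = 1) ∧ Nonempty (G ≃* E × A) := by
  classical
  have hpp := hp.out
  have hne : ⁅g, y⁆ ≠ 1 := fun h => hgy (commutatorElement_eq_one_iff_mul_comm.mp h)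
  have hz1 : z ≠ 1 := fun h => hne (by
    have := hc g y
    rw [h, zpowers_one_eq_bot, mem_bot] at this
    exact this)
  have hordz : orderOf z = p := orderOf_eq_prime (hexp z) hz1
  have hzz : zpowers z ≤ center G := zpowers_le.mpr hzc
  have hcomm : commutator G ≤ zpowers z := by
    rw [commutator_def, commutator_le]
    exact fun a _ b _ => hc a b
  have hDn : (zpowers z).Normal := Normal.of_commutator_le G hcomm
  set M := zpowers z ⊔ zpowers y with hM
  have hMn : M.Normal := Normal.of_commutator_le G (hcomm.trans le_sup_left)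
  have hMc : ∀ x ∈ M, y * x = x * y := by
    intro x hx
    obtain ⟨d, hd, q, hq, rfl⟩ := mem_sup_of_normal_left.mp hx
    obtain ⟨i, rfl⟩ := mem_zpowers_iff.mp hq
    exact ((show Commute y d from mem_center_iff.mp (hzz hd) y).mul_right (Commute.self_zpow y i)).eq
  have hgM : g ∉ M := fun h => hgy (hMc g h).symm
  set E := M ⊔ zpowers g with hE
  have hEcard : Nat.card E = p ^ 3 := by
    rw [hE, card_sup_zpowers (hexp g) hgM, hM, card_sup_zpowers (hexp y) hyz, Nat.card_zpowers,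
      hordz]
    ring
  have hzE : z ∈ E := mem_sup_left (mem_sup_left (mem_zpowers z))
  have hyE : y ∈ E := mem_sup_left (mem_sup_right (mem_zpowers y))
  have hgE : g ∈ E := mem_sup_right (mem_zpowers g)
  -- the central elements of `E`
  have hEc : ∀ x ∈ E, y * x = x * y → g * x = x * g → x ∈ zpowers z := by
    intro x hx hxy hxg
    obtain ⟨m, hm, q, hq, rfl⟩ := mem_sup_of_normal_left.mp hx
    obtain ⟨k, rfl⟩ := mem_zpowers_iff.mp hq
    have hgk : g ^ k = 1 := by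
      by_cases hk : (p : ℤ) ∣ k
      · obtain ⟨j, rfl⟩ := hk
        rw [zpow_mul, zpow_natCast, hexp g, one_zpow]
      · exfalso
        obtain ⟨r, s, hrs⟩ : ∃ r s : ℤ, r * k + s * p = 1 :=
          Int.isCoprime_iff_gcd_eq_one.mpr (by
            rw [Int.gcd_comm, Int.gcd_def, Int.natAbs_natCast]
            exact hpp.coprime_iff_not_dvd.mpr fun h => hk (Int.natCast_dvd.mpr h))
        have h1 : Commute y (g ^ k) := by
          have := (show Commute y m from hMc m hm).inv_right.mul_right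
            (show Commute y (m * g ^ k) from hxy)
          rwa [inv_mul_cancel_left] at this
        have h2 : g = (g ^ k) ^ r := by
          conv_lhs => rw [← zpow_one g, ← hrs, zpow_add, zpow_mul' g s, zpow_natCast, hexp g,
            one_zpow, mul_one, mul_comm, zpow_mul]
        have h3 := h1.zpow_right r
        rw [← h2] at h3
        exact hgy h3.eq.symm
    rw [hgk, mul_one] at hxg ⊢
    obtain ⟨d, hd, q, hq, rfl⟩ := mem_sup_of_normal_left.mp hm
    obtain ⟨j, rfl⟩ := mem_zpowers_iff.mp hq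
    have hyj : y ^ j = 1 := by
      by_cases hj : (p : ℤ) ∣ j
      · obtain ⟨i, rfl⟩ := hj
        rw [zpow_mul, zpow_natCast, hexp y, one_zpow]
      · exfalso
        obtain ⟨r, s, hrs⟩ : ∃ r s : ℤ, r * j + s * p = 1 :=
          Int.isCoprime_iff_gcd_eq_one.mpr (by
            rw [Int.gcd_comm, Int.gcd_def, Int.natAbs_natCast]
            exact hpp.coprime_iff_not_dvd.mpr fun h => hj (Int.natCast_dvd.mpr h))
        have h1 : Commute g (y ^ j) := by
          have := (show Commute g d from mem_center_iff.mp (hzz hd) g).inv_right.mul_right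
            (show Commute g (d * y ^ j) from hxg)
          rwa [inv_mul_cancel_left] at this
        have h2 : y = (y ^ j) ^ r := by
          conv_lhs => rw [← zpow_one y, ← hrs, zpow_add, zpow_mul' y s, zpow_natCast, hexp y,
            one_zpow, mul_one, mul_comm, zpow_mul]
        have h3 := h1.zpow_right r
        rw [← h2] at h3
        exact hgy h3.eq
    rw [hyj, mul_one]
    exact hd
  have hEe : Cfsg.IsExtraspecial p E := by
    refine Cfsg.Agent.GenA.SymplecticType.isExtraspecial (hG.to_subgroup E)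
      (z := ⟨z, hzE⟩) (by rw [Subgroup.orderOf_mk, hordz]) ?_ ?_ ?_ ?_
    · ext x
      constructor
      · intro hx
        obtain ⟨i, hi⟩ := mem_zpowers_iff.mp (hEc x x.2
          (congrArg Subtype.val (mem_center_iff.mp hx ⟨y, hyE⟩))
          (congrArg Subtype.val (mem_center_iff.mp hx ⟨g, hgE⟩)))
        exact mem_zpowers_iff.mpr ⟨i, Subtype.ext hi⟩
      · intro hx
        refine mem_center_iff.mpr fun q => Subtype.ext ?_
        obtain ⟨i, rfl⟩ := mem_zpowers_iff.mp hx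
        exact mem_center_iff.mp (hzz (zpow_mem (mem_zpowers z) i)) q
    · intro a b
      obtain ⟨i, hi⟩ := mem_zpowers_iff.mp (hc (a : G) b)
      exact mem_zpowers_iff.mpr ⟨i, Subtype.ext hi⟩
    · intro a
      have : a ^ p = 1 := Subtype.ext (by rw [coe_pow, hexp]; rfl)
      rw [this]; exact one_mem _
    · exact ⟨⟨g, hgE⟩, ⟨y, hyE⟩, fun h => hne (congrArg Subtype.val h)⟩
  obtain ⟨A, hA, hAd, hAZ⟩ := exists_central_complement (p := p) (hexp z) hzc hz1 fun w _ => hexp w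
  letI : CommGroup A := { (inferInstance : Group A) with
    mul_comm := fun a b => Subtype.ext (mem_center_iff.mp (hA b.2) a) }
  obtain ⟨A', instA, ⟨eA⟩⟩ := exists_small_commGroup A
  obtain ⟨E', instE, ⟨eE⟩⟩ := exists_small_group E
  haveI : Finite E' := Finite.of_equiv _ eE.toEquiv.symm
  let Φ : E' × A' →* G := MonoidHom.noncommCoprod
    (E.subtype.comp eE.toMonoidHom) (A.subtype.comp eA.toMonoidHom)
    fun d a => mem_center_iff.mp (hA (eA a).2) ((eE d : E) : G)
  have hΦ : ∀ d a, Φ (d, a) = ((eE d : E) : G) * (eA a : G) := fun d a => rfl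
  refine ⟨E', inferInstance, A', inferInstance,
    Cfsg.Agent.S3074.isExtraspecial_of_equiv eE.symm hEe, ?_, ?_, fun a => eA.injective ?_,
    ⟨(MulEquiv.ofBijective Φ ⟨?_, ?_⟩).symm⟩⟩
  · rw [Nat.card_congr eE.toEquiv, hEcard]
  · rw [Monoid.exponent_eq_of_mulEquiv eE]
    refine Nat.dvd_antisymm (Monoid.exponent_dvd_of_forall_pow_eq_one fun a => Subtype.ext
      (by rw [coe_pow, hexp]; rfl)) ?_
    have := Monoid.order_dvd_exponent (⟨z, hzE⟩ : E)
    rwa [Subgroup.orderOf_mk, hordz] at this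
  · rw [map_pow, map_one]
    exact Subtype.ext (by rw [coe_pow, hexp]; rfl)
  · rw [injective_iff_map_eq_one]
    rintro ⟨d, a⟩ h
    rw [hΦ] at h
    have hmem : ((eE d : E) : G) ∈ A := by
      rw [mul_eq_one_iff_eq_inv] at h
      rw [h]
      exact inv_mem (eA a).2
    have hdz := hEc _ (eE d).2 (mem_center_iff.mp (hA hmem) y) (mem_center_iff.mp (hA hmem) g)
    have h1 : ((eE d : E) : G) = 1 := mem_bot.mp (hAd ▸ mem_inf.mpr ⟨hmem, hdz⟩)
    rw [h1, one_mul] at h
    exact Prod.ext (eE.injective (Subtype.ext (by simp [h1])))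
      (eA.injective (Subtype.ext (by simp [h])))
  · intro x
    suffices hx : x ∈ Φ.range from hx
    have h1 : E ≤ Φ.range := fun d hd => ⟨(eE.symm ⟨d, hd⟩, 1), by
      rw [hΦ, map_one, coe_one, mul_one, MulEquiv.apply_symm_apply]⟩
    have h2 : A ≤ Φ.range := fun a ha => ⟨(1, eA.symm ⟨a, ha⟩), by
      rw [hΦ, map_one, coe_one, one_mul, MulEquiv.apply_symm_apply]⟩
    refine (sup_le (sup_le (hAZ.trans (sup_le h2 ?_)) ?_) ?_ : _ ≤ Φ.range) (hgen x)
    · exact zpowers_le.mpr (h1 hzE)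
    · exact zpowers_le.mpr (h1 hyE)
    · exact zpowers_le.mpr (h1 hgE)

end Pure

open Cfsg Cfsg.FusionSystem Cfsg.Agent.Fusion.Basic Cfsg.Agent.Fusion.Saturation
  Cfsg.Agent.Fusion.Normal Cfsg.Agent.Fusion.SmallElements Cfsg.Agent.Fusion.Alperin
  Cfsg.Agent.Fusion.MetacyclicClosed

variable {Ω : Type*} [Group Ω] {S P D : Subgroup Ω} {F : FusionSystem S} {p : ℕ}
variable [Finite S] [Fact p.Prime]

/-- The derived subgroup is strongly closed, apart from the exceptional shapes. -/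
theorem derived_stronglyClosed (hS : IsPGroup p S) (hF : F.IsSaturated p) (hP : F.StronglyClosed P)
    (hDP : D ≤ P) (hDc : ∀ a ∈ P, ∀ b ∈ P, a * b * a⁻¹ * b⁻¹ ∈ D) (hDpow : ∀ a ∈ P, a ^ p ∈ D)
    (hDcard : Nat.card D = p) (hDn : S ≤ normalizer (D : Set Ω))
    (hPna : ¬ ∀ a ∈ P, ∀ b ∈ P, a * b = b * a)
    (h2 : p = 2 → ¬ ∃ (A : Type) (_ : CommGroup A), (∀ a : A, a ^ 2 = 1) ∧
      Nonempty (↥P ≃* DihedralGroup 4 × A))
    (hodd : p ≠ 2 → ¬ ∃ (E : Type) (_ : Group E) (A : Type) (_ : CommGroup A),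
      Cfsg.IsExtraspecial p E ∧ Nat.card E = p ^ 3 ∧ Monoid.exponent E = p ∧
        (∀ a : A, a ^ p = 1) ∧ Nonempty (↥P ≃* E × A)) :
    F.StronglyClosed D := by
  classical
  have hpp : p.Prime := Fact.out
  have : Finite P := finite_of_le hP.1
  have : Finite D := finite_of_le hDP
  have hDS : D ≤ S := hDP.trans hP.1
  have hDexp : ∀ x ∈ D, x ^ p = 1 := fun x hx => by
    have := hDcard ▸ (pow_card_eq_one' : (⟨x, hx⟩ : D) ^ Nat.card D = 1)
    simpa using congrArg Subtype.val this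
  have hgenD : ∀ x ∈ D, x ≠ 1 → zpowers x = D := fun x hx hx1 =>
    eq_of_le_card (zpowers_le.mpr hx) (by
      rw [Nat.card_zpowers, orderOf_eq_prime (hDexp x hx) hx1, hDcard])
  have hDS' : (D.subgroupOf S).Normal := ⟨fun n hn g =>
    (mem_normalizer_iff.mp (hDn g.2) n).mp hn⟩
  have hDcen : ∀ x ∈ D, ∀ s ∈ S, x * s = s * x := by
    intro x hx s hs
    have h1 := Cfsg.Agent.PLocal.CyclicExtension.le_center_of_card_eq hS (Z := D.subgroupOf S)
      (by rw [Nat.card_congr (subgroupOfEquivOfLe hDS).toEquiv, hDcard])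
    exact (congrArg Subtype.val (mem_center_iff.mp
      (h1 (show (⟨x, hDS hx⟩ : S) ∈ D.subgroupOf S from hx)) ⟨s, hs⟩)).symm
  have hDfc : F.IsFullyCentralized D := by
    refine ⟨hDS, fun Q _ => ?_⟩
    have hc : S ≤ centralizerIn S D := fun s hs => ⟨hs, fun x hx => hDcen x hx s hs⟩
    have : Finite (centralizerIn S D) := finite_of_le inf_le_left
    exact (card_le_card (inf_le_left : centralizerIn S Q ≤ S)).trans (card_le_card hc)
  -- the inverse of a map out of `D`, extended to a centraliser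
  have hext : ∀ (R : Subgroup Ω) (f : Ω → Ω), IsMap F R f → ∀ x ∈ R, x ∈ D → x ≠ 1 →
      ∃ k, IsMap F (P ⊓ centralizer {f x}) k ∧ k (f x) = x ∧
        ∀ w ∈ P ⊓ centralizer {f x}, k w ∈ P := by
    intro R f hf x hxR hxD hx1
    have hfD : IsMap F D f := hf.restrict ((hgenD x hxD hx1).ge.trans (zpowers_le.mpr hxR))
    obtain ⟨i, hi, himg, hif, -⟩ := hfD.exists_inv
    obtain ⟨k, hk, hke⟩ := exists_extension hS hF hi (by rw [himg]; exact hDfc)
    have himgc : img f D ≤ zpowers (f x) := img_le fun d hd => by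
      obtain ⟨j, rfl⟩ := mem_zpowers_iff.mp ((hgenD x hxD hx1).ge hd)
      have h1 : IsMap F (zpowers x) f := hfD.restrict (zpowers_le.mpr hxD)
      obtain ⟨φ, -, he⟩ := h1
      refine mem_zpowers_iff.mpr ⟨j, ?_⟩
      rw [← he ⟨x, mem_zpowers x⟩, ← he ⟨x ^ j, zpow_mem (mem_zpowers x) j⟩, ← map_zpow]
      rfl
    have hle : P ⊓ centralizer {f x} ≤ nSub S (img f D) i := fun w hw => by
      have hcw : ∀ q ∈ img f D, w * q = q * w := fun q hq => by
        obtain ⟨j, rfl⟩ := mem_zpowers_iff.mp (himgc hq)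
        exact (((show Commute (f x) w from hw.2 (f x) rfl)).zpow_left j).symm.eq
      refine mem_nSub.2 ⟨hP.1 hw.1, centralizer_le_normalizer _ fun q hq => (hcw q hq).symm, 1,
        S.one_mem, fun q hq => ?_⟩
      rw [hcw q hq, mul_inv_cancel_right]
      simp
    refine ⟨k, hk.restrict hle, ?_, fun w hw => stronglyClosed_mem hP (hk.restrict hle) hw hw.1⟩
    rw [hke _ (mem_img_self f hxD), hif x hxD]
  refine ⟨hDS, fun R hR φ hφ x => ?_⟩
  by_contra hxD
  set f := ext φ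
  have hf : IsMap F R f := IsMap.of_hom hφ
  rw [← ext_apply φ x] at hxD
  have hx1 : (x : Ω) ≠ 1 := fun h => hxD (by
    show f x ∈ D
    rw [h, hf.map_one]; exact D.one_mem)
  set y := f x with hy
  have hyP : y ∈ P := stronglyClosed_mem hP hf x.2 (hDP (hR x.2))
  have hy1 : y ≠ 1 := fun h => hxD (by show y ∈ D; rw [h]; exact D.one_mem)
  have hyp : y ^ p = 1 := by
    show (ext φ x) ^ p = 1
    rw [ext_apply φ x, ← map_pow,
      show x ^ p = 1 from Subtype.ext (by simpa using hDexp x (hR x.2)), map_one]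
  obtain ⟨k, hk, hky, hkP⟩ := hext R f hf x x.2 (hR x.2) hx1
  set M := P ⊓ centralizer {y} with hM
  have hyM : y ∈ M := ⟨hyP, fun q hq => by rw [Set.mem_singleton_iff.mp hq]⟩
  have hkD : ∀ w ∈ M, k w ∈ D → w ∈ zpowers y := by
    intro w hw hwD
    obtain ⟨j, hj⟩ := mem_zpowers_iff.mp ((hgenD x (hR x.2) hx1).ge hwD)
    obtain ⟨ψ, -, he⟩ := id hk
    refine mem_zpowers_iff.mpr ⟨j, (hk.inj hw (zpow_mem hyM j) ?_).symm⟩
    rw [← hj, ← hky, ← he ⟨y, hyM⟩, ← he ⟨y ^ j, zpow_mem hyM j⟩, ← map_zpow]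
    rfl
  have hyD : ∀ w ∈ D, w ∈ zpowers y → w = 1 := by
    intro w hw hwy
    by_contra hw1
    have h1 : zpowers w ≤ zpowers y := zpowers_le.mpr hwy
    have : Finite (zpowers y) := finite_of_le (zpowers_le.mpr hyP)
    have h2 : zpowers w = zpowers y := eq_of_le_card h1 (by
      rw [Nat.card_zpowers, Nat.card_zpowers, orderOf_eq_prime (hDexp w hw) hw1]
      exact Nat.le_of_dvd hpp.pos (orderOf_dvd_of_pow_eq_one hyp))
    exact hxD ((zpowers_le.mpr hw) (h2.ge (mem_zpowers y)))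
  have hMab : ∀ a ∈ M, ∀ b ∈ M, a * b = b * a := by
    intro a ha b hb
    have hcm : a * b * a⁻¹ * b⁻¹ ∈ M := mul_mem (mul_mem (mul_mem ha hb) (inv_mem ha)) (inv_mem hb)
    have h1 : k (a * b * a⁻¹ * b⁻¹) ∈ D := by
      rw [hk.map_mul (mul_mem (mul_mem ha hb) (inv_mem ha)) (inv_mem hb),
        hk.map_conj ha hb, hk.map_inv hb]
      exact hDc _ (hkP a ha) _ (hkP b hb)
    have h2 := hyD _ (hDc a ha.1 b hb.1) (hkD _ hcm h1)
    exact commutatorElement_eq_one_iff_mul_comm.mp h2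
  have hMexp : ∀ a ∈ M, a ^ p = 1 := by
    intro a ha
    obtain ⟨ψ, -, he⟩ := id hk
    refine hyD _ (hDpow a ha.1) (hkD _ (pow_mem ha p) ?_)
    have h1 : k (a ^ p) = (k a) ^ p := by
      rw [← he ⟨a, ha⟩, ← he ⟨a ^ p, pow_mem ha p⟩, ← map_pow]
      rfl
    rw [h1]
    exact hDpow _ (hkP a ha)
  -- a map out of `D` does not reach a further central element of `P`
  have hnocen : ∀ (R' : Subgroup Ω) (f' : Ω → Ω), IsMap F R' f' → ∀ x' ∈ R', x' ∈ D →
      f' x' ∈ P → (∀ q ∈ P, q * f' x' = f' x' * q) → f' x' ∈ D := by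
    intro R' f' hf' x' hx'R hx'D hy'P hcen
    by_cases hx'1 : x' = 1
    · subst hx'1; rw [hf'.map_one]; exact D.one_mem
    obtain ⟨k', hk', hk'y, hk'P⟩ := hext R' f' hf' x' hx'R hx'D hx'1
    by_contra hy'D
    have hM' : P ⊓ centralizer {f' x'} = P := inf_eq_left.mpr fun q hq w hw => by
      rw [Set.mem_singleton_iff.mp hw]; exact (hcen q hq).symm
    rw [hM'] at hk'
    have hne : ∃ a ∈ P, ∃ b ∈ P, a * b * a⁻¹ * b⁻¹ ≠ 1 := by
      by_contra hcomm
      push Not at hcomm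
      -- `P` is then abelian, which the hypotheses on `D` exclude for the map at hand
      have hab : ∀ a ∈ P, ∀ b ∈ P, a * b = b * a := fun a ha b hb =>
        commutatorElement_eq_one_iff_mul_comm.mp (hcomm a ha b hb)
      exact hPna hab
    obtain ⟨a, ha, b, hb, hab⟩ := hne
    have hcD := hDc a ha b hb
    have hcP : a * b * a⁻¹ * b⁻¹ ∈ P := hDP hcD
    have h1 : k' (a * b * a⁻¹ * b⁻¹) ∈ D := by
      rw [hk'.map_mul (mul_mem (mul_mem ha hb) (inv_mem ha)) (inv_mem hb),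
        hk'.map_conj ha hb, hk'.map_inv hb]
      exact hDc _ (stronglyClosed_mem hP hk' ha ha) _ (stronglyClosed_mem hP hk' hb hb)
    obtain ⟨j, hj⟩ := mem_zpowers_iff.mp ((hgenD x' hx'D hx'1).ge h1)
    obtain ⟨ψ, -, he⟩ := id hk'
    have e1 : k' (f' x' ^ j) = x' ^ j := by
      have e2 : ψ ⟨f' x', hy'P⟩ = x' := (he _).trans hk'y
      rw [← he ⟨f' x' ^ j, zpow_mem hy'P j⟩,
        show (⟨f' x' ^ j, zpow_mem hy'P j⟩ : P) = ⟨f' x', hy'P⟩ ^ j from rfl, map_zpow, e2]
    have h2 : a * b * a⁻¹ * b⁻¹ = f' x' ^ j := hk'.inj hcP (zpow_mem hy'P j) (hj.symm.trans e1.symm)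
    refine hy'D ((hgenD _ hcD hab).le ?_)
    have h3 : zpowers (f' x' ^ j) ≤ zpowers (f' x') := zpowers_le.mpr (zpow_mem (mem_zpowers _) j)
    have : Finite (zpowers (f' x')) := finite_of_le (zpowers_le.mpr hy'P)
    have hpow : (f' x') ^ p = 1 := by
      obtain ⟨ψ', -, he'⟩ := id hf'
      rw [← he' ⟨x', hx'R⟩, ← map_pow,
        show (⟨x', hx'R⟩ : R') ^ p = 1 from Subtype.ext (by simpa using hDexp x' hx'D), map_one]
    rw [h2, eq_of_le_card h3 (by
      rw [Nat.card_zpowers, Nat.card_zpowers, ← h2, orderOf_eq_prime (hDexp _ hcD) hab]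
      exact Nat.le_of_dvd hpp.pos (orderOf_dvd_of_pow_eq_one hpow))]
    exact mem_zpowers _
  obtain ⟨g, hgP, hgy⟩ : ∃ g ∈ P, g * y ≠ y * g := by
    by_contra h
    push Not at h
    exact hxD (hnocen R f hf x x.2 (hR x.2) hyP h)
  set c := g * y * g⁻¹ * y⁻¹ with hc
  have hcD : c ∈ D := hDc g hgP y hyP
  have hc1 : c ≠ 1 := fun h => hgy (commutatorElement_eq_one_iff_mul_comm.mp h)
  have hgenc : zpowers c = D := hgenD c hcD hc1
  have hDM : D ≤ M := fun d hd => ⟨hDP hd, fun q hq => by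
    rw [Set.mem_singleton_iff.mp hq]; exact (hDcen d hd y (hP.1 hyP)).symm⟩
  -- `P = M⟨g⟩`
  have hconjy : ∀ q ∈ P, ∃ i : ℤ, q * y * q⁻¹ = c ^ i * y := by
    intro q hq
    obtain ⟨i, hi⟩ := mem_zpowers_iff.mp (hgenc.ge (hDc q hq y hyP))
    exact ⟨i, by rw [hi]; group⟩
  have hcy : ∀ q ∈ P, c * q = q * c := fun q hq => hDcen c hcD q (hP.1 hq)
  have hgconj : g * y * g⁻¹ = c * y := by rw [hc]; group
  have hgy_pow : ∀ i : ℤ, g ^ i * y * (g ^ i)⁻¹ = c ^ i * y := by
    intro i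
    induction i with
    | zero => simp
    | succ n ih =>
      rw [zpow_add_one, zpow_add_one, mul_inv_rev,
        show g ^ (n : ℤ) * g * y * (g⁻¹ * (g ^ (n : ℤ))⁻¹)
          = g ^ (n : ℤ) * (g * y * g⁻¹) * (g ^ (n : ℤ))⁻¹ by group,
        hgconj, show g ^ (n : ℤ) * (c * y) * (g ^ (n : ℤ))⁻¹
          = (g ^ (n : ℤ) * c) * y * (g ^ (n : ℤ))⁻¹ by group,
        ← hcy _ (zpow_mem hgP _), mul_assoc c, mul_assoc c, ih]
      group
    | pred n ih =>
      have hg' : g⁻¹ * y * g = c⁻¹ * y := by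
        have h1 : y = g⁻¹ * (c * y) * g := by rw [← hgconj]; group
        have h2 : g⁻¹ * c = c * g⁻¹ := (hcy _ (inv_mem hgP)).symm
        rw [← mul_assoc, h2, mul_assoc c, mul_assoc c] at h1
        exact (inv_mul_eq_iff_eq_mul.mpr h1).symm
      rw [zpow_sub_one, zpow_sub_one, mul_inv_rev, inv_inv,
        show g ^ (-(n : ℤ)) * g⁻¹ * y * (g * (g ^ (-(n : ℤ)))⁻¹)
          = g ^ (-(n : ℤ)) * (g⁻¹ * y * g) * (g ^ (-(n : ℤ)))⁻¹ by group,
        hg', show g ^ (-(n : ℤ)) * (c⁻¹ * y) * (g ^ (-(n : ℤ)))⁻¹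
          = (g ^ (-(n : ℤ)) * c⁻¹) * y * (g ^ (-(n : ℤ)))⁻¹ by group,
        ← (show Commute c (g ^ (-(n : ℤ))) from hcy _ (zpow_mem hgP _)).inv_left.eq,
        mul_assoc c⁻¹, mul_assoc c⁻¹, ih]
      group
  have hdec : ∀ q ∈ P, ∃ m ∈ M, ∃ i : ℤ, q = m * g ^ i := by
    intro q hq
    obtain ⟨i, hi⟩ := hconjy q hq
    refine ⟨q * (g ^ i)⁻¹, ⟨P.mul_mem hq (P.inv_mem (zpow_mem hgP i)), fun w hw => ?_⟩, i, by group⟩
    rw [Set.mem_singleton_iff.mp hw]
    have h1 : (g ^ i)⁻¹ * y * g ^ i = c ^ (-i) * y := by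
      have := hgy_pow (-i)
      rwa [show g ^ (-i) = (g ^ i)⁻¹ from zpow_neg g i, inv_inv] at this
    have h2 : q * (g ^ i)⁻¹ * y * (q * (g ^ i)⁻¹)⁻¹ = y := by
      rw [mul_inv_rev, inv_inv,
        show q * (g ^ i)⁻¹ * y * (g ^ i * q⁻¹) = q * ((g ^ i)⁻¹ * y * g ^ i) * q⁻¹ by group,
        h1, show q * (c ^ (-i) * y) * q⁻¹ = (q * c ^ (-i)) * y * q⁻¹ by group,
        ← ((show Commute c q from hcy q hq).zpow_left (-i)).eq, mul_assoc (c ^ (-i)),
        mul_assoc (c ^ (-i)), hi, ← mul_assoc, ← zpow_add, neg_add_cancel, zpow_zero, one_mul]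
    exact (mul_inv_eq_iff_eq_mul.mp h2).symm
  have hgM : g ∉ M := fun h => hgy (hMab g h y hyM)
  -- a description of the centre
  have hcenM : ∀ w ∈ P, (∀ q ∈ P, q * w = w * q) → w ∈ M := fun w hw h =>
    ⟨hw, fun q hq => by rw [Set.mem_singleton_iff.mp hq]; exact h y hyP⟩
  have hcentre : ∀ w ∈ M, g * w = w * g → ∀ q ∈ P, q * w = w * q := by
    intro w hw hgw q hq
    obtain ⟨m, hm, i, rfl⟩ := hdec q hq
    exact ((show Commute m w from hMab m hm w hw).mul_left ((show Commute g w from hgw).zpow_left i)).eq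
  have hMdec : ∀ w ∈ M, ∃ e : ℤ, g * (w * (y ^ e)⁻¹) = w * (y ^ e)⁻¹ * g := by
    intro w hw
    obtain ⟨e, he⟩ := mem_zpowers_iff.mp (hgenc.ge (hDc g hgP w hw.1))
    refine ⟨e, ?_⟩
    have h1 : g * w * g⁻¹ = c ^ e * w := by rw [he]; group
    have h2 : g * y ^ e * g⁻¹ = c ^ e * y ^ e := by
      rw [← conj_zpow, hgconj, (show Commute c y from hcy y hyP).mul_zpow]
    have h3 : g * (w * (y ^ e)⁻¹) * g⁻¹ = w * (y ^ e)⁻¹ := by
      rw [show g * (w * (y ^ e)⁻¹) * g⁻¹ = g * w * g⁻¹ * (g * y ^ e * g⁻¹)⁻¹ by group, h1, h2,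
        mul_inv_rev, ← mul_assoc, mul_assoc (c ^ e), ((show Commute c (w * (y ^ e)⁻¹) from
          hcy _ (mul_mem hw.1 (inv_mem (zpow_mem hyP e)))).zpow_left e).eq, mul_inv_cancel_right]
    exact mul_inv_eq_iff_eq_mul.mp h3
  -- facts inside `P`
  have hGgen : ∀ g' : P, (g' : Ω) ∉ M → (∀ q ∈ P, ∃ m ∈ M, ∃ i : ℤ, q = m * (g' : Ω) ^ i) →
      ∀ q : P, q ∈ center P ⊔ zpowers (⟨y, hyP⟩ : P) ⊔ zpowers g' := by
    intro g' _ hd q
    obtain ⟨m, hm, i, hq⟩ := hd q q.2
    obtain ⟨e, he⟩ := hMdec m hm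
    set w := m * (y ^ e)⁻¹ with hw
    have hwM : w ∈ M := mul_mem hm (inv_mem (zpow_mem hyM e))
    have hwc : (⟨w, hwM.1⟩ : P) ∈ center P :=
      mem_center_iff.mpr fun r => Subtype.ext (hcentre w hwM he r r.2)
    have : q = ⟨w, hwM.1⟩ * (⟨y, hyP⟩ : P) ^ e * g' ^ i := Subtype.ext (by
      rw [coe_mul, coe_mul, coe_zpow, coe_zpow, hq]
      show _ = m * (y ^ e)⁻¹ * y ^ e * _
      rw [inv_mul_cancel_right])
    rw [this]
    exact mul_mem (mem_sup_left (mul_mem (mem_sup_left hwc)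
      (mem_sup_right (zpow_mem (mem_zpowers _) e)))) (mem_sup_right (zpow_mem (mem_zpowers g') i))
  have hGc : ∀ a b : P, ⁅a, b⁆ ∈ zpowers (⟨c, hDP hcD⟩ : P) := by
    intro a b
    obtain ⟨i, hi⟩ := mem_zpowers_iff.mp (hgenc.ge (hDc a a.2 b b.2))
    exact mem_zpowers_iff.mpr ⟨i, Subtype.ext (by rw [coe_zpow, hi]; rfl)⟩
  have hGz : (⟨c, hDP hcD⟩ : P) ∈ center P :=
    mem_center_iff.mpr fun r => Subtype.ext (hcy r r.2).symm
  have hGexpc : ∀ w ∈ center P, w ^ p = 1 := fun w hw => Subtype.ext (by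
    rw [coe_pow]
    exact hMexp w (hcenM w w.2 fun q hq => congrArg Subtype.val (mem_center_iff.mp hw ⟨q, hq⟩)))
  by_cases hp2 : p = 2
  · subst hp2
    -- find an involution outside `M`
    have hinv : ∃ g' : P, g' ^ 2 = 1 ∧ (g' : Ω) * y ≠ y * g' ∧
        ∀ q ∈ P, ∃ m ∈ M, ∃ i : ℤ, q = m * (g' : Ω) ^ i := by
      by_cases hg2 : g ^ 2 = 1
      · exact ⟨⟨g, hgP⟩, Subtype.ext hg2, hgy, hdec⟩
      refine ⟨⟨g * y, mul_mem hgP hyP⟩, Subtype.ext ?_, ?_, ?_⟩
      · show (g * y) ^ 2 = 1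
        have hyi : y⁻¹ = y := inv_eq_of_mul_eq_one_right (by rw [← pow_two, hyp])
        have hg2c : g ^ 2 = c := by
          obtain ⟨i, hi⟩ := mem_zpowers_iff.mp (hgenc.ge (hDpow g hgP))
          have hc2 : c * c = 1 := by rw [← pow_two, hDexp c hcD]
          rcases Int.even_or_odd i with ⟨j, rfl⟩ | ⟨j, rfl⟩
          · rw [← two_mul, zpow_mul, zpow_two, hc2, one_zpow] at hi
            exact absurd hi.symm hg2
          · rw [zpow_add, zpow_one, zpow_mul, zpow_two, hc2, one_zpow, one_mul] at hi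
            exact hi.symm
        calc (g * y) ^ 2 = (g * y * g⁻¹) * (g ^ 2) * y := by
              rw [pow_two, pow_two]; simp only [mul_assoc, inv_mul_cancel_left]
          _ = c * y * c * y := by rw [hgconj, hg2c]
          _ = c * (c * y) * y := by rw [mul_assoc c y c, ← hcy y hyP]
          _ = (c * c) * (y * y) := by simp only [mul_assoc]
          _ = 1 := by rw [← pow_two, ← pow_two, hDexp c hcD, hyp, one_mul]
      · intro h
        exact hgy (mul_right_cancel (h.trans (mul_assoc y g y).symm))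
      · intro q hq
        obtain ⟨m, hm, i, rfl⟩ := hdec q hq
        rcases Int.even_or_odd i with ⟨j, rfl⟩ | ⟨j, rfl⟩
        · refine ⟨m * (g ^ 2) ^ j, mul_mem hm (zpow_mem (hDM (hDpow g hgP)) j), 0, ?_⟩
          rw [zpow_zero, mul_one, ← zpow_natCast, ← zpow_mul]
          congr 1
          ring_nf
        · refine ⟨m * (g ^ 2) ^ j * (g * y⁻¹ * g⁻¹), mul_mem (mul_mem hm
            (zpow_mem (hDM (hDpow g hgP)) j)) ?_, 1, ?_⟩
          · rw [show g * y⁻¹ * g⁻¹ = (g * y * g⁻¹)⁻¹ by group, hgconj]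
            exact inv_mem (mul_mem (hDM hcD) hyM)
          · rw [zpow_one, zpow_add, zpow_one, ← zpow_natCast, ← zpow_mul]
            push_cast
            group
    obtain ⟨g', hg'2, hg'y, hg'dec⟩ := hinv
    refine h2 rfl (exceptional_two (G := P) (z := ⟨c, hDP hcD⟩) (y := ⟨y, hyP⟩) (g := g')
      (Subtype.ext (hDexp c hcD)) hGz hGc hGexpc (Subtype.ext hyp) hg'2
      (fun h => hg'y (congrArg Subtype.val h))
      (hGgen g' (fun h => hg'y (hMab _ h y hyM)) hg'dec))
  -- odd `p`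
  by_cases hexpP : ∀ q ∈ P, q ^ p = 1
  · refine hodd hp2 (exceptional_odd (G := P) (z := ⟨c, hDP hcD⟩) (y := ⟨y, hyP⟩) (g := ⟨g, hgP⟩)
      (hS.to_le hP.1) hGz hGc (fun w => Subtype.ext (hexpP w w.2)) ?_
      (fun h => hgy (congrArg Subtype.val h)) (hGgen ⟨g, hgP⟩ hgM hdec))
    intro h
    obtain ⟨i, hi⟩ := mem_zpowers_iff.mp h
    have h' : c ^ i = y := congrArg Subtype.val hi
    exact hxD (show y ∈ D from h' ▸ zpow_mem hcD i)
  have hcls : commutator P ≤ center P := by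
    rw [_root_.commutator_def, commutator_le]
    exact fun a _ b _ => (zpowers_le.mpr hGz) (hGc a b)
  have hpowHom : ∀ a ∈ P, ∀ b ∈ P, (a * b) ^ p = a ^ p * b ^ p := fun a ha b hb => by
    have h1 := Cfsg.Agent.Transfer.Special.mul_pow_of_class_two hp2 hcls (⟨a, ha⟩ : P) ⟨b, hb⟩
      (mem_center_iff.mpr fun r => Subtype.ext (hDcen _ (hDpow b hb) r (hP.1 r.2)).symm)
    simpa using congrArg Subtype.val h1
  have hgp : g ^ p ≠ 1 := by
    intro h
    apply hexpP
    intro q hq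
    obtain ⟨m, hm, i, rfl⟩ := hdec q hq
    rw [hpowHom m hm.1 _ (zpow_mem hgP i), hMexp m hm, one_mul, ← zpow_natCast, ← zpow_mul,
      mul_comm, zpow_mul, zpow_natCast, h, one_zpow]
  have hMeq : ∀ q ∈ P, q ^ p = 1 → q ∈ M := by
    intro q hq hqp
    obtain ⟨m, hm, i, rfl⟩ := hdec q hq
    rw [hpowHom m hm.1 _ (zpow_mem hgP i), hMexp m hm, one_mul, ← zpow_natCast, ← zpow_mul,
      mul_comm, zpow_mul, zpow_natCast] at hqp
    have hd : (p : ℤ) ∣ i := by
      have h3 := orderOf_dvd_iff_zpow_eq_one.mpr hqp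
      rwa [orderOf_eq_prime (hDexp _ (hDpow g hgP)) hgp] at h3
    obtain ⟨j, rfl⟩ := hd
    rw [zpow_mul, zpow_natCast]
    exact mul_mem hm (zpow_mem (hDM (hDpow g hgP)) j)
  have hMS : M ≤ S := inf_le_left.trans hP.1
  have hfinM : Finite M := finite_of_le hMS
  have hMsc : F.StronglyClosed M := by
    refine ⟨hMS, fun R' hR' ψ hψ w => hMeq _ (hP.2 R' (hR'.trans inf_le_left) ψ hψ w) ?_⟩
    rw [← map_pow, show w ^ p = 1 from Subtype.ext (by simpa using hMexp w (hR' w.2)), map_one]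
  have hMn := le_normalizer_of_stronglyClosed hMsc
  obtain ⟨a, ha, hae⟩ := hk.exists_aut (stronglyClosed_img hMsc hk le_rfl)
  let Y : M := ⟨y, hyM⟩
  let C : M := ⟨c, hDM hcD⟩
  have hab : ∀ z w : M, z * w = w * z := fun z w => Subtype.ext (hMab z z.2 w w.2)
  have haY : ((a Y : M) : Ω) = x := by rw [← autFun_apply, hae y hyM, hky]
  let ug : normalizerIn S M := ⟨g, hP.1 hgP, hMn (hP.1 hgP)⟩
  set u := conjAut S M ug with hu
  have huF : u ∈ F.autGroup M := autInducedBy_le hMS (conjAut_range S M ▸ ⟨_, rfl⟩)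
  have huapp : ∀ z : M, ((u z : M) : Ω) = g * z * g⁻¹ := fun z => rfl
  have hufix : ∀ z : M, (z : Ω) ∈ D → u z = z := fun z hz => Subtype.ext (by
    rw [huapp, ← hDcen _ hz g (hP.1 hgP), mul_inv_cancel_right])
  set v := a⁻¹ * u * a with hv
  have hvY : v Y = Y := by
    rw [hv, MulAut.mul_apply, MulAut.mul_apply, hufix (a Y) (by rw [haY]; exact hR x.2)]
    exact a.symm_apply_apply Y
  let t : M := v C * C⁻¹
  have hat : a t = u (a C) * (a C)⁻¹ := by
    show a ((a⁻¹ * u * a) C * C⁻¹) = _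
    rw [map_mul, map_inv, MulAut.mul_apply, MulAut.mul_apply, MulAut.apply_inv_self]
  have hdisp : ∀ z : M, ((u z * z⁻¹ : M) : Ω) ∈ D := fun z => hDc g hgP z z.2.1
  have htD : ((a t : M) : Ω) ∈ D := by rw [hat]; exact hdisp _
  have haCD : ((a C : M) : Ω) ∉ D := by
    intro h
    rw [← autFun_apply, hae c (hDM hcD)] at h
    exact hc1 (hyD c hcD (hkD c (hDM hcD) h))
  have ht1 : t ≠ 1 := by
    intro h
    rw [h, map_one] at hat
    have hfix : u (a C) = a C := mul_inv_eq_one.mp hat.symm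
    have hgC : g * ((a C : M) : Ω) = ((a C : M) : Ω) * g := by
      have := congrArg Subtype.val hfix
      rw [huapp] at this
      exact mul_inv_eq_iff_eq_mul.mp this
    have hma := isMap_of_mem_autGroup hMS ha
    have := hnocen M (autFun a) hma c (hDM hcD) hcD
      (by rw [autFun_of_mem a (hDM hcD)]; exact (a C).2.1)
      (by rw [autFun_of_mem a (hDM hcD)]; exact hcentre _ (a C).2 hgC)
    rw [autFun_of_mem a (hDM hcD)] at this
    exact haCD this
  have hat1 : ((a t : M) : Ω) ≠ 1 := fun h =>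
    ht1 (a.injective (by rw [map_one]; exact Subtype.ext h))
  have htgen : zpowers ((a t : M) : Ω) = D := hgenD _ htD hat1
  have htY : t ∈ zpowers Y := by
    have h1 : ((a t : M) : Ω) ∈ zpowers (x : Ω) := (hgenD x (hR x.2) hx1).ge htD
    obtain ⟨i, hi⟩ := mem_zpowers_iff.mp h1
    exact mem_zpowers_iff.mpr ⟨i, a.injective (Subtype.ext (by rw [map_zpow, coe_zpow, haY, hi]))⟩
  obtain ⟨j, hj⟩ : ∃ j : ℕ, t ^ j = Y⁻¹ := by
    have hmem : (a Y : M) ∈ zpowers (a t) := by
      obtain ⟨m, hm⟩ := mem_zpowers_iff.mp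
        (show (x : Ω) ∈ zpowers ((a t : M) : Ω) from htgen.symm ▸ hR x.2)
      exact mem_zpowers_iff.mpr ⟨m, Subtype.ext (by rw [coe_zpow, hm, haY])⟩
    obtain ⟨m, hm⟩ := Cfsg.Agent.PLocal.CyclicExtension.exists_pow_eq_of_mem_zpowers hmem
    have h2 : t ^ m = Y := a.injective (by rw [map_pow, ← hm])
    refine ⟨m * (p - 1), ?_⟩
    rw [pow_mul, h2]
    have hY : Y ^ p = 1 := Subtype.ext (by simpa using hyp)
    rw [eq_inv_iff_mul_eq_one, ← pow_succ, show p - 1 + 1 = p by have := hpp.one_le; omega, hY]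
  have hvt : v t = t := by
    obtain ⟨i, hi⟩ := mem_zpowers_iff.mp htY
    rw [← hi, map_zpow, hvY]
  have hvpow : ∀ m : ℕ, (v ^ m) C = C * t ^ m := by
    intro m
    induction m with
    | zero => simp
    | succ m ih =>
      rw [pow_succ', MulAut.mul_apply, ih, map_mul, map_pow, hvt,
        show v C = t * C from (inv_mul_cancel_right (v C) C).symm, hab t C, pow_succ', mul_assoc]
  have hvYpow : ∀ m : ℕ, (v ^ m) Y = Y := by
    intro m
    induction m with
    | zero => simp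
    | succ m ih => rw [pow_succ', MulAut.mul_apply, ih, hvY]
  have hvc : (v ^ j) C = C * Y⁻¹ := by rw [hvpow, hj]
  have huY : u Y = C * Y := Subtype.ext hgconj
  obtain ⟨hwc, hwy⟩ := swap_sq (hab C Y) (hufix C hcD) huY (hvYpow j) hvc
  set w := (u * v ^ j * u) ^ 2 with hwdef
  have hwF : w ∈ F.autGroup M :=
    pow_mem (mul_mem (mul_mem huF (pow_mem (mul_mem (mul_mem (inv_mem ha) huF) ha) j)) huF) 2
  -- `w` commutes with `u`
  have hcommw : ∀ z : M, u (w z) = w (u z) := by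
    intro z
    obtain ⟨e, he⟩ := mem_zpowers_iff.mp (hgenc.ge (hdisp z))
    obtain ⟨e', he'⟩ : ∃ e' : ℤ, v z * z⁻¹ = t ^ e' := by
      obtain ⟨e', he'⟩ := mem_zpowers_iff.mp (htgen.ge (hdisp (a z)))
      refine ⟨e', a.injective (Subtype.ext ?_)⟩
      rw [map_zpow, coe_zpow, he', map_mul, map_inv, hv, MulAut.mul_apply, MulAut.mul_apply,
        MulAut.apply_inv_self]
    set z' := z * (Y ^ e)⁻¹ * (C ^ e')⁻¹ with hz'
    have huz' : u z' = z' := by
      have h1 : u z = C ^ e * z := by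
        rw [show C ^ e = u z * z⁻¹ from Subtype.ext (by rw [coe_zpow]; exact he), inv_mul_cancel_right]
      rw [hz', map_mul, map_mul, map_inv, map_inv, map_zpow, map_zpow, huY, hufix C hcD, h1,
        (show Commute C Y from hab C Y).mul_zpow, mul_inv_rev,
        show (Y ^ e)⁻¹ * (C ^ e)⁻¹ = (C ^ e)⁻¹ * (Y ^ e)⁻¹ from hab _ _, hab (C ^ e) z,
        mul_assoc z (C ^ e), mul_inv_cancel_left]
    have hvz' : v z' = z' := by
      have h1 : v z = t ^ e' * z := by rw [← he', inv_mul_cancel_right]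
      have h2 : v C = t * C := (inv_mul_cancel_right (v C) C).symm
      rw [hz', map_mul, map_mul, map_inv, map_inv, map_zpow, map_zpow, hvY, h2, h1,
        (show Commute t C from hab t C).mul_zpow, mul_inv_rev, hab (t ^ e') z, mul_assoc z (t ^ e'),
        hab (t ^ e') _, hab (C ^ e')⁻¹ (t ^ e')⁻¹, ← mul_assoc, ← mul_assoc, mul_inv_cancel_right]
    have hwz' : w z' = z' := by
      have hvj : ∀ m : ℕ, (v ^ m) z' = z' := by
        intro m
        induction m with
        | zero => simp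
        | succ m ih => rw [pow_succ', MulAut.mul_apply, ih, hvz']
      simp only [hwdef, pow_two, MulAut.mul_apply, huz', hvj]
    have hz : z = z' * C ^ e' * Y ^ e := by rw [hz']; group
    have hYy : u Y⁻¹ = w (u Y) := by
      rw [huY, map_mul, hwc, hwy, map_inv, huY, mul_inv_rev]
      exact hab _ _
    rw [hz]
    simp only [map_mul, map_zpow, hwz', huz', hwc, hwy, hufix C hcD]
    rw [hYy, map_inv (u) C, hufix C hcD]
  have hmw := isMap_of_mem_autGroup hMS hwF
  have hwu : ∀ z ∈ M, autFun w (g * z * g⁻¹) = g * autFun w z * g⁻¹ := fun z hz => by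
    have hmem : g * z * g⁻¹ ∈ M := (mem_normalizer_iff.mp (hMn (hP.1 hgP)) z).mp hz
    rw [autFun_of_mem w hmem, autFun_of_mem w hz]
    have := congrArg Subtype.val (hcommw ⟨z, hz⟩)
    rw [huapp] at this
    rw [this]
    rfl
  have hMfc : F.IsFullyCentralized M := fullyNormalized_fullyCentralized hS hF
    ⟨hMS, fun Q _ => by
      have e : normalizerIn S M = S := inf_eq_left.mpr hMn
      rw [e]
      exact card_le_card normalizerIn_le⟩
  obtain ⟨θ, hθ, hθe⟩ := exists_extension hS hF hmw (by rw [autFun_img]; exact hMfc)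
  have hPn : P ≤ nSub S M (autFun w) := by
    intro q hq
    obtain ⟨m, hm, i, rfl⟩ := hdec q hq
    refine mul_mem (mem_nSub.2 ⟨hMS hm, le_normalizer hm, autFun w m,
      hmw.mem hm, fun z hz => hmw.map_conj hm hz⟩) (zpow_mem (mem_nSub.2 ⟨hP.1 hgP, hMn (hP.1 hgP),
      g, hP.1 hgP, hwu⟩) i)
  have hθP := hθ.restrict hPn
  have hθgP : θ g ∈ P := stronglyClosed_mem hP hθP hgP hgP
  -- `θ g` agrees with `g` modulo `M`
  have hmg : g⁻¹ * θ g ∈ M := by
    have hw0 : autFun w y = y⁻¹ := by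
      rw [autFun_of_mem w hyM]; exact congrArg Subtype.val hwy
    have hmem : g * y * g⁻¹ ∈ M := (mem_normalizer_iff.mp (hMn (hP.1 hgP)) y).mp hyM
    have h1 : θ g * y⁻¹ * (θ g)⁻¹ = g * y⁻¹ * g⁻¹ := by
      have := hθP.map_conj hgP hyP
      rw [hθe _ hmem, hwu y hyM, hθe y hyM, hw0] at this
      exact this.symm
    have h2 : θ g * y * (θ g)⁻¹ = g * y * g⁻¹ := by
      have := congrArg (·⁻¹) h1
      simpa [mul_assoc] using this
    refine ⟨P.mul_mem (P.inv_mem hgP) hθgP, fun q hq => ?_⟩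
    rw [Set.mem_singleton_iff.mp hq]
    calc y * (g⁻¹ * θ g) = g⁻¹ * (g * y * g⁻¹) * θ g := by group
      _ = g⁻¹ * (θ g * y * (θ g)⁻¹) * θ g := by rw [h2]
      _ = g⁻¹ * θ g * y := by group
  have h1 : (θ g) ^ p = g ^ p := by
    have := hpowHom g hgP _ hmg.1
    rw [mul_inv_cancel_left, hMexp _ hmg, mul_one] at this
    exact this
  have h2 : θ (g ^ p) = (g ^ p)⁻¹ := by
    rw [hθe _ (hDM (hDpow g hgP)), autFun_of_mem w (hDM (hDpow g hgP))]
    obtain ⟨i, hi⟩ := mem_zpowers_iff.mp (hgenc.ge (hDpow g hgP))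
    rw [show (⟨g ^ p, hDM (hDpow g hgP)⟩ : M) = C ^ i from Subtype.ext (by rw [coe_zpow]; exact hi.symm),
      map_zpow, hwc, inv_zpow, coe_inv, coe_zpow, hi]
  have h3 : θ (g ^ p) = g ^ p := by
    obtain ⟨ψ, -, he⟩ := id hθP
    have e1 : ψ ⟨g ^ p, pow_mem hgP p⟩ = ψ ⟨g, hgP⟩ ^ p := by rw [← map_pow]; rfl
    refine ((he ⟨g ^ p, pow_mem hgP p⟩).symm.trans e1).trans ?_
    rw [he ⟨g, hgP⟩, h1]
  rw [h3, eq_inv_iff_mul_eq_one, ← pow_two] at h2
  have h4 : orderOf (g ^ p) ∣ Nat.gcd p 2 :=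
    Nat.dvd_gcd (orderOf_dvd_of_pow_eq_one (hDexp _ (hDpow g hgP))) (orderOf_dvd_of_pow_eq_one h2)
  rw [(Nat.coprime_primes hpp Nat.prime_two).mpr hp2, Nat.dvd_one, orderOf_eq_one_iff] at h4
  exact hgp h4

end Cfsg.Agent.Fusion.GenExtraspecialClosed
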