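/-
Generating families of subgroups; the class of an essential subgroup cannot be omitted.
-/
import Mathlib
import Cfsg.Agent.Lib.Fusion.Alperin

set_option autoImplicit false

namespace Cfsg.Agent.Fusion.Generating

open Cfsg Cfsg.FusionSystem Cfsg.Agent.Fusion.Basic Cfsg.Agent.Fusion.Saturation
  Cfsg.Agent.Fusion.Alperin

open scoped Classical

variable {Ω : Type*} [Group Ω] {S : Subgroup Ω} [Finite S] {F : FusionSystem S} {Q R : Subgroup Ω}

/-- A chosen map of `N_S(R)` sending `R` to `Q`. -/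
noncomputable def tr (F : FusionSystem S) (Q R : Subgroup Ω) : Ω → Ω :=
  if h : ∃ g, IsMap F (normalizerIn S R) g ∧ img g R = Q then h.choose else id

theorem tr_spec {p : ℕ} [Fact p.Prime] (hS : IsPGroup p S) (hF : F.IsSaturated p)
    (hQ : F.IsFullyNormalized Q) (hR : F.IsConj R Q) :
    IsMap F (normalizerIn S R) (tr F Q R) ∧ img (tr F Q R) R = Q := by
  have h : ∃ g, IsMap F (normalizerIn S R) g ∧ img g R = Q :=
    exists_map_to_fullyNormalized hS hF hQ hR
  unfold tr
  rw [dif_pos h]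
  exact h.choose_spec

/-- `f` on `R` is, read at `Q`, in the group generated by extendable automorphisms. -/
def Good (F : FusionSystem S) (Q R : Subgroup Ω) (f : Ω → Ω) : Prop :=
  ∃ α ∈ extGroup F Q, ∀ x ∈ R, tr F Q (img f R) (f x) = autFun α (tr F Q R x)

theorem good_congr {f f' : Ω → Ω} (h : ∀ x ∈ R, f x = f' x) (hf : Good F Q R f) :
    Good F Q R f' := by
  obtain ⟨α, hα, he⟩ := hf
  refine ⟨α, hα, fun x hx => ?_⟩
  rw [← img_congr h, ← h x hx]
  exact he x hx

variable {p : ℕ} [Fact p.Prime]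

theorem good_of_bigger (hS : IsPGroup p S) (hF : F.IsSaturated p) (hQ : F.IsFullyNormalized Q)
    (hR : F.IsConj R Q) {T : Subgroup Ω} {ψ : Ω → Ω} (hψ : IsMap F T ψ) (hRT : R < T) :
    Good F Q R ψ := by
  have hT : T ≤ S := hψ.le
  have hfinT : Finite T := finite_of_le hT
  have hR' : F.IsConj (img ψ R) Q :=
    isConj_trans (isConj_symm (hψ.restrict hRT.le).isConj) hR
  obtain ⟨hg, hgQ⟩ := tr_spec hS hF hQ hR
  obtain ⟨hg', hg'Q⟩ := tr_spec hS hF hQ hR'
  set g := tr F Q R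
  set g' := tr F Q (img ψ R)
  set M := normalizerIn T R with hMdef
  have hRM : R < M := lt_normalizerIn (hS.to_le hT) hRT
  have hMS : M ≤ normalizerIn S R := inf_le_inf_right _ hT
  have hgM := hg.restrict hMS
  obtain ⟨k, hk, hkimg, hkg, -⟩ := hgM.exists_inv
  have hψM : ∀ x ∈ M, ψ x ∈ normalizerIn S (img ψ R) := fun x hx =>
    ⟨hψ.mem hx.1, hψ.mem_normalizer_img hRT.le hx.1 hx.2⟩
  have hh : IsMap F (img g M) (fun y => g' (ψ (k y))) :=
    (hg'.comp (hψ.restrict inf_le_left) hψM).comp hk fun y hy =>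
      le_of_eq hkimg (mem_img_self k hy)
  have himg : img (fun y => g' (ψ (k y))) Q = Q := by
    have hk' : img (fun x => k (g x)) R = R := by
      rw [img_congr (g := id) fun x hx => hkg x (hRM.le hx), img_id]
    conv_lhs => rw [← hgQ, (hgM.restrict hRM.le).img_img]
    rw [img_congr (g := fun x => g' (ψ x)) fun x hx => by rw [hkg x (hRM.le hx)],
      ← (hψ.restrict hRT.le).img_img, hg'Q]
  have hQle : Q ≤ img g M := hgQ ▸ img_mono g hRM.le
  have hlt : Q < img g M := by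
    refine lt_of_le_of_ne hQle fun h => ?_
    have hfinM : Finite M := finite_of_le normalizerIn_le
    have h1 := card_lt_card hRM
    have h2 : Nat.card (img g M) = Nat.card M := hgM.card_img
    have h3 : Nat.card (img g R) = Nat.card R := (hgM.restrict hRM.le).card_img
    rw [hgQ] at h3
    rw [← h] at h2
    omega
  obtain ⟨α, hα, hαe⟩ := (hh.restrict hQle).exists_aut himg
  refine ⟨α, Subgroup.subset_closure ⟨img g M, _, hlt, hh, fun x hx => (hαe x hx).symm⟩,
    fun x hx => ?_⟩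
  rw [hαe _ (hgQ.le (mem_img_self g hx))]
  show g' (ψ x) = g' (ψ (k (g x)))
  rw [hkg x (hRM.le hx)]

/-- The maps of `F` that are good on the class of `Q`. -/
def avoidSystem (hS : IsPGroup p S) (hF : F.IsSaturated p) (hQ : F.IsFullyNormalized Q)
    (hQS : Q < S) : FusionSystem S where
  Hom P := {φ | φ ∈ F.Hom P ∧ (F.IsConj P Q → Good F Q P (ext φ))}
  le_of_mem h := F.le_of_mem h.1
  injective_of_mem h := F.injective_of_mem h.1
  conj_mem := by
    intro P a hP ha
    refine ⟨F.conj_mem hP ha, fun hPQ => good_congr (f := cj a) ?_ ?_⟩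
    · intro x hx; rw [ext_of_mem _ hx]; rfl
    · refine good_of_bigger hS hF hQ hPQ (isMap_cj le_rfl ha) (lt_of_le_of_ne hP fun h => ?_)
      exact hQS.ne (eq_top_of_card hP hPQ h)
  comp_mem := by
    rintro P T φ ψ ⟨hφ, hφ'⟩ ⟨hψ, hψ'⟩ h
    refine ⟨F.comp_mem hφ hψ h, fun hPQ => good_congr (f := fun x => ext ψ (ext φ x)) ?_ ?_⟩
    · intro x hx
      rw [ext_of_mem φ hx, ext_of_mem ψ (h ⟨x, hx⟩), ext_of_mem _ hx]
      rfl
    have hm := IsMap.of_hom hφ
    have hR : F.IsConj (img (ext φ) P) Q := isConj_trans (isConj_symm hm.isConj) hPQ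
    have hle : img (ext φ) P ≤ T := img_le fun x hx => by rw [ext_of_mem φ hx]; exact h _
    have hgood : Good F Q (img (ext φ) P) (ext ψ) := by
      rcases eq_or_lt_of_le hle with e | hlt
      · rw [e] at hR ⊢
        exact hψ' hR
      · exact good_of_bigger hS hF hQ hR (IsMap.of_hom hψ) hlt
    obtain ⟨α, hα, he⟩ := hφ' hPQ
    obtain ⟨β, hβ, he'⟩ := hgood
    refine ⟨β * α, mul_mem hβ hα, fun x hx => ?_⟩
    rw [← hm.img_img, autFun_mul, ← he x hx]
    exact he' _ (mem_img_self _ hx)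
  inv_mem := by
    rintro P φ ⟨hφ, hφ'⟩
    obtain ⟨ψ, hψ, hψe⟩ := F.inv_mem hφ
    refine ⟨ψ, ⟨hψ, fun hrQ => ?_⟩, hψe⟩
    have hm := IsMap.of_hom hφ
    have hPQ : F.IsConj P Q := isConj_trans ⟨φ, hφ, rfl⟩ hrQ
    obtain ⟨α, hα, he⟩ := hφ' hPQ
    have hr : φ.range = img (ext φ) P := range_eq_img φ
    have hinv : ∀ x ∈ P, ext ψ (ext φ x) = x := fun x hx => by
      rw [ext_of_mem φ hx, ext_of_mem ψ (⟨⟨x, hx⟩, rfl⟩ : φ ⟨x, hx⟩ ∈ φ.range)]
      exact hψe ⟨x, hx⟩
    have him : img (ext ψ) φ.range = P := by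
      refine (congrArg (img (ext ψ)) hr).trans ?_
      rw [hm.img_img, img_congr (g := id) hinv, img_id]
    refine ⟨α⁻¹, inv_mem hα, fun y hy => ?_⟩
    obtain ⟨x, hx, rfl⟩ := hm.mem_img.1 (hr.le hy)
    rw [him, hinv x hx, hr, he x hx, autFun_inv_apply]

/-- The class of an essential subgroup cannot be left out. -/
theorem exists_avoid (hS : IsPGroup p S) (hF : F.IsSaturated p) (hQ : F.IsEssential p Q) :
    ∃ E : FusionSystem S, (∀ R : Subgroup Ω, R ≤ S → ¬ F.IsConj Q R →
      F.autGroup R ≤ E.autGroup R) ∧ ¬ F ≤ E := by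
  have hQn := hQ.2.1
  have hQS : Q < S := essential_lt hS hF hQ
  refine ⟨avoidSystem hS hF hQn hQS, fun R hR hne α hα => ?_, fun hle => ?_⟩
  · have hm := isMap_of_mem_autGroup hR hα
    exact (mem_autGroup_iff hR).2
      ⟨hm.hom, ⟨hm.hom_mem_self, fun h => absurd (isConj_symm h) hne⟩, fun _ => rfl⟩
  · refine (essential_iff hS hF hQS hQn).1 hQ (le_antisymm (extGroup_le hQS.le) fun γ hγ => ?_)
    obtain ⟨hg, hgQ⟩ := tr_spec hS hF hQn (isConj_refl (F := F) hQS.le)
    obtain ⟨β, hβ, hβe⟩ := (hg.restrict (le_normalizerIn hQS.le)).exists_aut hgQ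
    have hmem : β⁻¹ * γ * β ∈ F.autGroup Q := mul_mem (mul_mem (inv_mem hβ) hγ) hβ
    have hm := isMap_of_mem_autGroup hQS.le hmem
    obtain ⟨-, hgood⟩ := hle Q hm.hom_mem_self
    obtain ⟨a, ha, hae⟩ := good_congr (f' := autFun (β⁻¹ * γ * β)) (fun x hx => by
      rw [ext_of_mem _ hx]; rfl) (hgood (isConj_refl hQS.le))
    rw [autFun_img] at hae
    have e : β * (β⁻¹ * γ * β) = a * β := autFun_ext fun x hx => by
      rw [autFun_mul β, autFun_mul a, hβe x hx, hβe _ (autFun_mem _ hx)]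
      exact hae x hx
    have : γ = a := by
      have h2 : γ * β = a * β := by rw [← e]; group
      exact mul_right_cancel h2
    exact this ▸ ha

omit [Fact p.Prime] in
/-- The intersection of two conjugation closed generating families is generating. -/
theorem inter_generating (𝒬₁ 𝒬₂ : Set (Subgroup Ω))
    (h₁ : ∀ R ∈ 𝒬₁, ∀ R', F.IsConj R R' → R' ∈ 𝒬₁)
    (h₂ : ∀ R ∈ 𝒬₂, ∀ R', F.IsConj R R' → R' ∈ 𝒬₂)
    (hg₁ : ∀ E : FusionSystem S, (∀ R ∈ 𝒬₁, F.autGroup R ≤ E.autGroup R) → F ≤ E)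
    (hg₂ : ∀ E : FusionSystem S, (∀ R ∈ 𝒬₂, F.autGroup R ≤ E.autGroup R) → F ≤ E)
    (E : FusionSystem S) (hE : ∀ R ∈ 𝒬₁ ∩ 𝒬₂, F.autGroup R ≤ E.autGroup R) : F ≤ E := by
  intro P
  induction hn : Nat.card S - Nat.card P using Nat.strong_induction_on generalizing P with
  | _ n ih =>
  intro φ hφ
  have hPS := (F.le_of_mem hφ).1
  have hbig : ∀ {A T : Subgroup Ω} {f : Ω → Ω}, F.IsConj P A → A < T → IsMap F T f → IsMap E A f := by
    intro A T f hPA hAT hf
    have hfin : Finite T := finite_of_le hf.le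
    have h1 := card_lt_card hAT
    have h2 := card_le_card hf.le
    have h3 := isConj_card hPA
    have h4 : hf.hom ∈ E.Hom T := ih (Nat.card S - Nat.card T) (by omega) T rfl hf.hom_mem_self
    exact ((IsMap.of_hom h4).congr fun x hx => by rw [ext_of_mem _ hx]; rfl).restrict hAT.le
  let E' : FusionSystem S :=
    { Hom := fun A => {ψ | ψ ∈ F.Hom A ∧ (F.IsConj P A → ψ ∈ E.Hom A)}
      le_of_mem := fun h => F.le_of_mem h.1
      injective_of_mem := fun h => F.injective_of_mem h.1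
      conj_mem := fun hA ha => ⟨F.conj_mem hA ha, fun _ => E.conj_mem hA ha⟩
      comp_mem := by
        rintro A T α β ⟨hα, hα'⟩ ⟨hβ, hβ'⟩ h
        refine ⟨F.comp_mem hα hβ h, fun hPA => ?_⟩
        have hαE := hα' hPA
        have hconj : F.IsConj P α.range := isConj_trans hPA ⟨α, hα, rfl⟩
        have hle : α.range ≤ T := by rintro _ ⟨x, rfl⟩; exact h x
        have hm : IsMap E α.range (ext β) := by
          rcases eq_or_lt_of_le hle with e | hlt
          · rw [e]
            exact IsMap.of_hom (hβ' (e ▸ hconj))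
          · exact hbig hconj hlt (IsMap.of_hom hβ)
        refine (hm.comp (IsMap.of_hom hαE) fun x hx => ?_).hom_mem fun x => ?_
        · rw [ext_of_mem α hx]; exact ⟨_, rfl⟩
        · rw [ext_apply α x, ext_of_mem β (h x)]; rfl
      inv_mem := by
        rintro A α ⟨hα, hα'⟩
        obtain ⟨β, hβ, hβe⟩ := F.inv_mem hα
        refine ⟨β, ⟨hβ, fun hPr => ?_⟩, hβe⟩
        obtain ⟨β', hβ', hβ'e⟩ := E.inv_mem (hα' (isConj_trans hPr (isConj_symm ⟨α, hα, rfl⟩)))
        have e : β = β' := MonoidHom.ext fun y => by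
          obtain ⟨x, hx⟩ := y.2
          obtain rfl : y = ⟨α x, ⟨x, rfl⟩⟩ := Subtype.ext hx.symm
          rw [hβe, hβ'e]
        exact e ▸ hβ' }
  have haut : ∀ R : Subgroup Ω, (F.IsConj P R → F.autGroup R ≤ E.autGroup R) →
      F.autGroup R ≤ E'.autGroup R := by
    intro R hR α hα
    refine Subgroup.closure_induction (p := fun a _ => a ∈ E'.autGroup R) ?_ (one_mem _)
      (fun a b _ _ => mul_mem) (fun a _ => inv_mem) hα
    intro a ha
    refine Subgroup.subset_closure ⟨ha, fun hPR => ?_⟩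
    have hRS := (isConj_le hPR).2
    exact (isMap_of_mem_autGroup hRS (hR hPR (Subgroup.subset_closure ha))).hom_mem
      fun x => (autFun_apply a x).symm
  suffices hle : F ≤ E' from (hle P hφ).2 (isConj_refl hPS)
  by_cases hP1 : P ∈ 𝒬₁
  · refine hg₂ E' fun R hR => haut R fun hPR => hE R ⟨h₁ P hP1 R hPR, hR⟩
  · refine hg₁ E' fun R hR => haut R fun hPR => ?_
    exact absurd (h₁ R hR P (isConj_symm hPR)) hP1

end Cfsg.Agent.Fusion.Generating
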