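/-
Lifting conjugations from a quotient group to maps between subgroups of a Sylow subgroup.
-/
import Mathlib
import Cfsg.Agent.Lib.Fusion.SylIn

set_option autoImplicit false

namespace Cfsg.Agent.Fusion.GroupQuot

open Cfsg Cfsg.Agent.Fusion.Basic Cfsg.Agent.Fusion.Saturation Cfsg.Agent.Fusion.SylIn

/-- A conjugation of `G ⧸ H` carrying the image of `P ≤ S` into the image of `S` is induced by an
element of `G` carrying `P` into `S`. -/
theorem exists_lift_conj {G : Type*} [Group G] [Finite G] {p : ℕ} [Fact p.Prime] (S : Sylow p G)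
    (H : Subgroup G) [H.Normal] {P : Subgroup G} (hP : P ≤ (S : Subgroup G)) (γ : G ⧸ H)
    (h : ∀ x ∈ P, γ * QuotientGroup.mk x * γ⁻¹ ∈
      (S : Subgroup G).map (QuotientGroup.mk' H)) :
    ∃ g : G, (g : G ⧸ H) = γ ∧ ∀ x ∈ P, g * x * g⁻¹ ∈ (S : Subgroup G) := by
  obtain ⟨g, rfl⟩ := QuotientGroup.mk_surjective γ
  have hle : img (cj g) P ≤ (S : Subgroup G) ⊔ H := by
    refine img_le fun x hx => ?_
    obtain ⟨s, hs, hse⟩ := h x hx
    have h1 : s⁻¹ * (g * x * g⁻¹) ∈ H := by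
      rw [← QuotientGroup.eq, QuotientGroup.mk_mul, QuotientGroup.mk_mul, QuotientGroup.mk_inv]
      exact hse
    have h2 := Subgroup.mul_mem _ (Subgroup.mem_sup_left (T := H) hs) (Subgroup.mem_sup_right h1)
    simpa [cj, mul_assoc] using h2
  obtain ⟨m, hm, hmle⟩ := ((of_sylow S).mono le_sup_left le_top).exists_conj hle
    (isPGroup_img_cj (S.2.to_le hP))
  obtain ⟨s, hs, k, hk, rfl⟩ := Subgroup.mem_sup_of_normal_right.1 hm
  refine ⟨k * g, ?_, fun x hx => ?_⟩
  · rw [QuotientGroup.mk_mul, (QuotientGroup.eq_one_iff k).2 hk, one_mul]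
  · have h1 := hmle (mem_img_self _ (mem_img_self (cj g) hx))
    have h2 := (S : Subgroup G).mul_mem ((S : Subgroup G).mul_mem ((S : Subgroup G).inv_mem hs) h1) hs
    simpa [cj, mul_assoc] using h2

end Cfsg.Agent.Fusion.GroupQuot
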