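/-
Residual limits: perfect subnormal subsystems.
-/
import Mathlib
import Cfsg.Prelude.Def_FusionReduction
import Cfsg.Agent.Lib.Fusion.Component
import Cfsg.Agent.Lib.Fusion.PPowerNormal
import Cfsg.Agent.Lib.Fusion.WeaklyNormalTop

set_option autoImplicit false
set_option linter.all false

namespace Cfsg.Agent.Fusion.ResidualLimit

open Cfsg Cfsg.FusionSystem Cfsg.Agent.Fusion.Basic Cfsg.Agent.Fusion.Saturation
  Cfsg.Agent.Fusion.Subsystems Cfsg.Agent.Fusion.ComponentExists Cfsg.Agent.Fusion.Component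
  Cfsg.Agent.Fusion.PPrimeGen Cfsg.Agent.Fusion.Normal Cfsg.Agent.Fusion.MeetAut

variable {Ω : Type*} [Group Ω] {S T U : Subgroup Ω} {F : FusionSystem S} {C : FusionSystem U}
  {p : ℕ}

/-- A system which is its own `p`-residual and its own `p'`-residual. -/
def Perfect (C : FusionSystem U) (p : ℕ) : Prop :=
  C.hyperfocalSubgroup p = U ∧ C.IsPPrimeResidual p C

variable [Finite S] [Fact p.Prime]

/-- A normal subsystem over `S` contains the generated maps. -/
theorem gen_mem_normal (hS : IsPGroup p S) (hF : F.IsSaturated p) {D : FusionSystem S}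
    (hD : D.IsInvariantIn F) {P : Subgroup Ω} {f : Ω → Ω} (hf : Gen F p P f) : IsMap D P f := by
  induction hf with
  | @base P V β k hV hβ hP =>
    refine IsMap.restrict ?_ hP
    have : Finite V := finite_of_le hV.1
    obtain ⟨V', hVV', hV'⟩ := exists_fullyNormalized (F := F) hV.1
    obtain ⟨g, hg, rfl⟩ := isConj_iff_map.1 hVV'
    -- the part of `g` in `D` already leads to a fully normalized subgroup
    obtain ⟨a, ha, g₀, hg₀, hge⟩ := invariant_frattini hD hV.1 hg
    have hg₀F : IsMap F V g₀ := isMap_of_subset hD.1 hg₀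
    obtain ⟨i, hi, -, hig, hgi⟩ := hg₀.exists_inv
    have hV₀ : F.IsFullyNormalized (img g₀ V) := by
      have h2 : img g V = img (autFun a) (img g₀ V) := by
        rw [hg₀F.img_img, img_congr hge]
      exact PPrimeResidual.fn_aut hg₀F.img_le_S ⟨a, ha⟩ (h2 ▸ hV')
    obtain ⟨ι, hι⟩ := hg₀F.exists_autEquiv
    obtain ⟨l, -, hl⟩ := (Nat.dvd_prime_pow (Fact.out : p.Prime)).1 (orderOf_dvd_of_pow_eq_one hβ)
    have hord : orderOf ((ι β : F.autGroup (img g₀ V)) : MulAut (img g₀ V)) = p ^ l := by
      rw [Subgroup.orderOf_coe, MulEquiv.orderOf_eq, hl]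
    have hmem : ((ι β : F.autGroup (img g₀ V)) : MulAut (img g₀ V)) ∈ D.autGroup (img g₀ V) :=
      WeaklyNormalTop.pElement_mem hS hF hD hV₀ (ι β).2 hord
    have h1 := (isMap_of_mem_autGroup hg₀F.img_le_S hmem).comp hg₀ fun x hx => mem_img_self g₀ hx
    refine (hi.comp h1 fun x hx => autFun_mem _ (mem_img_self g₀ hx)).congr fun x hx => ?_
    show i (autFun _ (g₀ x)) = _
    rw [hι β x hx, hig _ (autFun_mem _ hx)]
  | ident hP => exact isMap_id hP
  | comp _ _ hPQ ihf ihg => exact ihg.comp ihf hPQ
  | congr _ he ih => exact ih.congr he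

/-- A `p'`-residual system has no proper normal subsystem over the same group. -/
theorem whole_of_normal (hS : IsPGroup p S) (hres : F.IsPPrimeResidual p F) {D : FusionSystem S}
    (hD : D.IsNormalIn F p) : D = F := by
  have hidx : D.HasPrimeToPIndexIn F p :=
    ⟨hD.1.2.2.1, fun P hP => primeIndex_of_gen hS hres.1
      (fun Q f hf => gen_mem_normal hS hres.1 hD.1.2.2 hf) hP⟩
  exact fs_ext fun P =>
    Set.Subset.antisymm (hD.1.2.2.1 P) (hres.2.2 D hD.1.1 hidx P)

/-- A subnormal `p'`-residual subsystem is subnormal in every normal subsystem over a group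
containing its own. -/
theorem subnormal_in_normal (hsub : C.IsSubnormalIn F p) (hfin : Finite S) (hp : Fact p.Prime)
    (hS : IsPGroup p S) (hF : F.IsSaturated p) (hres : C.IsPPrimeResidual p C) {T : Subgroup Ω}
    {N : FusionSystem T} (hN : N.IsNormalIn F p) (hUT : U ≤ T) : C.IsSubnormalIn N p := by
  induction hsub generalizing T with
  | refl F' p' =>
    obtain rfl := le_antisymm hUT (subsystem_le hN.1.2.2.1)
    rw [whole_of_normal hS hres hN]
    exact FusionSystem.IsSubnormalIn.refl F' p'
  | step hsub hDn ih =>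
    rename_i U' S' C' M' F' p'
    have h : Pair F' M' N p' := ⟨hS, hF, hDn, hN⟩
    have hU'S : U' ≤ S' := T₁_le h
    have hfinU' : Finite U' := finite_of_le hU'S
    obtain ⟨K, -, hKM, hKN⟩ := exists_inter h
    have hUU' : U ≤ U' := (subnormal_facts hsub hDn.1.1).1
    exact subnormal_trans (ih hfinU' hp (hS.to_le hU'S) hDn.1.1 hres hKM (le_inf hUU' hUT))
      (normal_subnormal hKN)

/-- A subnormal perfect subsystem lies over the hyperfocal subgroup. -/
theorem le_hyp (hF : F.IsSaturated p) (hsub : C.IsSubnormalIn F p) (hC : Perfect C p) :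
    U ≤ F.hyperfocalSubgroup p := by
  have h := Focal.hyp_mono (p := p) (subnormal_facts hsub hF).1 (subsystem_of_subnormal hsub)
  rwa [hC.1] at h

/-- The residual limit is the largest perfect subnormal subsystem. -/
theorem limit_facts {p : ℕ} {S U : Subgroup Ω} {F : FusionSystem S} {X : FusionSystem U}
    (hX : X.IsResidualLimitOf F p) :
    ∀ [Fact p.Prime] [Finite S], IsPGroup p S → F.IsSaturated p →
      X.IsSubnormalIn F p ∧ Perfect X p ∧
        ∀ (V : Subgroup Ω) (C : FusionSystem V), C.IsSubnormalIn F p → Perfect C p →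
          C.IsSubnormalIn X p := by
  induction hX with
  | stable F p h1 h2 =>
    intro _ _ _ _
    exact ⟨FusionSystem.IsSubnormalIn.refl F p, ⟨h1, h2⟩, fun _ _ hC _ => hC⟩
  | @step S E F p D D' hD hD' hE ih =>
    intro _ _ hS hF
    have hle : F.hyperfocalSubgroup p ≤ S := Focal.hyp_le
    have : Finite (F.hyperfocalSubgroup p) := finite_of_le hle
    have hhp : IsPGroup p (F.hyperfocalSubgroup p) := hS.to_le hle
    have hDn : D.IsNormalIn F p := PPowerNormal.isNormalIn_of_pPowerIndex hS hF hle
      (fun a ha x hx => Focal.conj_mem_hyp ha hx) hD.1 hD.2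
    have hD'n : D'.IsNormalIn D p := residual_isNormal hhp hD.1 (weaklyNormal_refl hD.1) hD'
    obtain ⟨h1, h2, h3⟩ := ih hhp hD'.1
    refine ⟨subnormal_trans (subnormal_trans h1 (normal_subnormal hD'n)) (normal_subnormal hDn),
      h2, fun V C hC hCp => ?_⟩
    have hV := le_hyp hF hC hCp
    exact h3 V C (subnormal_in_normal (subnormal_in_normal hC inferInstance inferInstance hS hF
      hCp.2 hDn hV) inferInstance inferInstance hhp hD.1 hCp.2 hD'n hV) hCp

/-- Two residual limits with the same perfect subnormal subsystems coincide. -/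
theorem limit_eq {V : Subgroup Ω} {D : FusionSystem V} (h₁ : C.IsSubnormalIn D p)
    (h₂ : D.IsSubnormalIn C p) (P : Subgroup Ω) : C.Hom P = D.Hom P :=
  Set.Subset.antisymm (subsystem_of_subnormal h₁ P) (subsystem_of_subnormal h₂ P)

end Cfsg.Agent.Fusion.ResidualLimit
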