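/-
The normal subsystem on `T C_S(T)` attached to a normal subsystem over `T` with `p`-solvable
outer automizer.
-/
import Mathlib
import Cfsg.Agent.Lib.Fusion.ResidualLimit
import Cfsg.Agent.Lib.Fusion.PPrimeIndex
import Cfsg.Agent.Lib.Fusion.LayerNormal
import Cfsg.Agent.Lib.Fusion.Factor
import Cfsg.Agent.Lib.PLocal.PSolvable

set_option autoImplicit false
set_option linter.all false

namespace Cfsg.Agent.Fusion.NormalCore

open Cfsg Cfsg.FusionSystem Cfsg.Agent.Fusion.Basic Cfsg.Agent.Fusion.Saturation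
  Cfsg.Agent.Fusion.Subsystems Cfsg.Agent.Fusion.Normal Cfsg.Agent.Fusion.PPrimeResidual
  Cfsg.Agent.Fusion.PPrimeNormal Cfsg.Agent.Fusion.ResidualLimit

universe u

variable {Ω : Type u} [Group Ω] {S T R W : Subgroup Ω} {F : FusionSystem S} {E : FusionSystem T}
  {p : ℕ}

/-- A nontrivial `p`-solvable group has a proper normal subgroup of index a power of `p` or prime
to `p`. -/
theorem exists_top_normal {G : Type*} [Group G] [Nontrivial G] (h : IsPSolvable p G) :
    ∃ N : Subgroup G, N.Normal ∧ N ≠ ⊤ ∧ ((∃ m, N.index = p ^ m) ∨ N.index.Coprime p) := by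
  obtain ⟨n, H, h0, h1, hmono, hn, hi⟩ := h
  by_contra hcon
  have hall : ∀ i, H i ≠ ⊤ := by
    intro i
    induction i using Fin.induction with
    | zero => rw [h0]; exact bot_ne_top
    | succ i ih =>
      intro htop
      have h2 := hi i
      rw [htop, Subgroup.relIndex_top_right] at h2
      exact hcon ⟨_, hn _, ih, h2⟩
  exact hall _ h1

variable [Finite S] [Fact p.Prime]

/-- An automorphism of `p`-power order of the group of a saturated system is inner. -/
theorem inner_of_pElement (hS : IsPGroup p S) (hF : F.IsSaturated p) {α : MulAut S}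
    (hα : α ∈ F.autGroup S) {k : ℕ} (hk : α ^ p ^ k = 1) : α ∈ autInducedBy S S := by
  set N := (autInducedBy S S).subgroupOf (F.autGroup S) with hN
  have : N.Normal := by
    refine ⟨fun c hc b => Subgroup.mem_subgroupOf.2 ?_⟩
    obtain ⟨t, ht, hte⟩ := mem_autInducedBy_iff'.1 (Subgroup.mem_subgroupOf.1 hc)
    have hbt : autFun (b : MulAut S) t ∈ S := autFun_mem _ ht.1
    refine mem_autInducedBy_iff'.2 ⟨_, ⟨hbt, Subgroup.le_normalizer hbt⟩, fun x hx => ?_⟩
    have hy : autFun (b : MulAut S)⁻¹ x ∈ S := autFun_mem _ hx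
    rw [Subgroup.coe_mul, Subgroup.coe_mul, Subgroup.coe_inv, autFun_mul, autFun_mul, hte _ hy,
      cj_apply, cj_apply, (autFun_isHom (b : MulAut S)).map_conj ht.1 hy, autFun_apply_inv]
  have hfn : F.IsFullyNormalized S :=
    ⟨le_rfl, fun Q hQ => le_of_eq (by rw [Alperin.eq_top_of_card le_rfl hQ rfl])⟩
  have hnd : ¬ p ∣ N.index :=
    ((fullyAutomized_iff hS).1 (fullyNormalized_fullyAutomized hS hF hfn)).2
  have h1 : orderOf (QuotientGroup.mk' N ⟨α, hα⟩) ∣ p ^ k :=
    (orderOf_map_dvd _ _).trans (by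
      rw [Subgroup.orderOf_mk]; exact orderOf_dvd_of_pow_eq_one hk)
  have h2 : orderOf (QuotientGroup.mk' N ⟨α, hα⟩) ∣ N.index := orderOf_dvd_natCard _
  have hcop : N.index.Coprime p := ((Fact.out : p.Prime).coprime_iff_not_dvd.2 hnd).symm
  have h3 : QuotientGroup.mk' N ⟨α, hα⟩ = 1 :=
    orderOf_eq_one_iff.1 (Nat.eq_one_of_dvd_coprimes (hcop.pow_right k) h2 h1)
  exact Subgroup.mem_subgroupOf.1 ((QuotientGroup.eq_one_iff _).1 h3)

/-- A normal subsystem is normal in a saturated subsystem containing it, with enough extensions. -/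
theorem normal_in (hS : IsPGroup p S) (hE : E.IsNormalIn F p) (hRS : R ≤ S) {G : FusionSystem R}
    (hG : G.IsSaturated p) (hGF : G.IsSubsystemOf F) (hEG : E.IsSubsystemOf G)
    (hgood : E.IsInvariantIn G → ∀ α ∈ E.autGroup T, α ∈ good (F := G) (T := T)) :
    E.IsNormalIn G p := by
  have hfinR : Finite R := finite_of_le hRS
  have hinv := hE.1.2.2
  have hTS : T ≤ S := subsystem_le hinv.1
  have hTR : T ≤ R := subsystem_le hEG
  have hT : G.StronglyClosed T :=
    ⟨hTR, fun P hP φ hφ x => hinv.2.1.2 P hP φ (hGF P hφ) x⟩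
  have hst := InvariantCriterion.strong_of_invariant hinv
  have hstG : InvariantCriterion.Strong G E := fun P Q φ ψ hPQ hQ hφ hm hψ =>
    hst P Q φ ψ hPQ hQ hφ hm (isMap_of_subset hGF hψ)
  have hi : E.IsInvariantIn G := by
    refine Meet.invariant_mk (fun P f hf => isMap_of_subset hEG hf) hT
      (fun P f hf α hα => ?_) fun P f hP hf => ?_
    · exact invariant_transport hinv hf.le hf
        ((mem_autGroup_iff hTS).2 (isMap_of_subset hGF (isMap_of_mem_autGroup hTR hα)))
    · exact InvariantCriterion.fac_of_strong (hS.to_le hRS) hG hT hEG hstG hP hf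
  refine ⟨⟨hE.1.1, hG, hi⟩, fun α hα => ?_⟩
  obtain ⟨β, hβ, hβT, hβX⟩ := hgood hi α hα
  refine ⟨β, hβ, fun x => ?_, fun c hc => ⟨?_, ?_⟩⟩
  · rw [← autFun_apply β, ← autFun_apply α]
    exact hβT x x.2
  · rw [← autFun_apply β]
    exact hβX c hc
  · refine Subgroup.mul_mem _ (Subgroup.inv_mem _ hc.2) ?_
    rw [← autFun_apply β]
    have hm := isMap_of_mem_autGroup (sup_le hTR centralizerIn_le) hβ
    have h2 := hm.mem_centralizer_img le_sup_left (Subgroup.mem_sup_right hc) hc.2
    rwa [stronglyClosed_img hT hm le_sup_left] at h2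

/-- The data carried through the induction. -/
structure Core (F : FusionSystem S) (E : FusionSystem T) (p : ℕ) (F₀ : FusionSystem W) : Prop where
  normal : F₀.IsNormalIn F p
  sub : E.IsSubsystemOf F₀
  aut : F₀.autGroup T ≤ E.autGroup T
  largest : ∀ N : FusionSystem W, N.IsSaturated p → N.IsSubsystemOf F →
    N.autGroup T ≤ E.autGroup T → N.IsSubsystemOf F₀
  perfect : ∀ (V : Subgroup Ω) (C : FusionSystem V), C.IsSubnormalIn F p → Perfect C p → V ≤ W

/-- What one step of the induction gives. -/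
def Step (F : FusionSystem S) (E : FusionSystem T) (p : ℕ) : Prop :=
  ∃ (R : Subgroup Ω) (F₁ : FusionSystem R), T ⊔ centralizerIn S T ≤ R ∧ F₁.IsNormalIn F p ∧
    E.IsNormalIn F₁ p ∧
    Nat.card R + Nat.card (F₁.autGroup T) < Nat.card S + Nat.card (F.autGroup T) ∧
    (∀ N : FusionSystem (T ⊔ centralizerIn S T), N.IsSaturated p → N.IsSubsystemOf F →
      N.autGroup T ≤ E.autGroup T → N.IsSubsystemOf F₁) ∧
    ∀ (V : Subgroup Ω) (C : FusionSystem V), C.IsSubnormalIn F p → Perfect C p → V ≤ R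

/-- The step for a quotient of `p`-power order. -/
theorem step_pPower (hS : IsPGroup p S) (hF : F.IsSaturated p) (hE : E.IsNormalIn F p)
    (K : Subgroup (F.autGroup T)) [K.Normal]
    (hBK : (E.autGroup T).subgroupOf (F.autGroup T) ≤ K) (hne : K ≠ ⊤) {m : ℕ}
    (hidx : K.index = p ^ m) : Step F E p := by
  have hinv := hE.1.2.2
  have hT := hinv.2.1
  have hTS : T ≤ S := hT.1
  have hfinT : Finite T := finite_of_le hTS
  have hTp : IsPGroup p T := hS.to_le hTS
  have hTn : S ≤ Subgroup.normalizer (T : Set Ω) := le_normalizer_of_stronglyClosed hT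
  obtain ⟨c, hc⟩ : ∃ c : S →* F.autGroup T,
      ∀ (s : S), ∀ x ∈ T, autFun (c s : MulAut T) x = cj (s : Ω) x :=
    ⟨((conjAut S T).comp (Subgroup.inclusion (le_inf le_rfl hTn))).codRestrict _
      fun s => autInducedBy_le hTS (conjAut_range S T ▸ ⟨_, rfl⟩), fun s x hx => conjAut_apply _ hx⟩
  set R := (K.comap c).map S.subtype with hR
  have hRS : R ≤ S := Subgroup.map_subtype_le _
  have hfinR : Finite R := finite_of_le hRS
  have hmemR : ∀ {s : Ω} (hs : s ∈ S), c ⟨s, hs⟩ ∈ K → s ∈ R :=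
    fun {s} hs h => ⟨⟨s, hs⟩, h, rfl⟩
  have hTR : T ≤ R := fun t ht => hmemR (hTS ht) (hBK (Subgroup.mem_subgroupOf.2
    ((mem_autGroup_iff le_rfl).2 ((isMap_cj le_rfl ht).congr fun x hx =>
      (hc ⟨t, hTS ht⟩ x hx).symm))))
  have hCR : centralizerIn S T ≤ R := fun s hs => hmemR hs.1 (by
    have : c ⟨s, hs.1⟩ = 1 := Subtype.ext (autFun_ext fun x hx => by
      rw [hc _ x hx, OneMemClass.coe_one, autFun_one, cj_apply]
      show s * x * s⁻¹ = x
      rw [← hs.2 x hx, mul_inv_cancel_right])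
    rw [this]; exact one_mem K)
  have hKc : (K.comap c).Normal := Subgroup.Normal.comap ‹K.Normal› c
  have hn : ∀ a ∈ S, ∀ x ∈ R, a * x * a⁻¹ ∈ R := by
    intro a ha x hx
    rw [hR, Subgroup.mem_map] at hx ⊢
    obtain ⟨x', hx', rfl⟩ := hx
    refine ⟨⟨a, ha⟩ * x' * (⟨a, ha⟩ : S)⁻¹, hKc.conj_mem x' hx' _, ?_⟩
    simp only [map_mul, map_inv, Subgroup.subtype_apply]
  have hcop1 : ∀ g : F.autGroup T, (orderOf g).Coprime p → g ∈ K := fun g hg => by
    refine (QuotientGroup.eq_one_iff g).1 (orderOf_eq_one_iff.1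
      (Nat.eq_one_of_dvd_coprimes (hg.pow_right m) (orderOf_map_dvd (QuotientGroup.mk' K) g) ?_))
    exact (orderOf_dvd_natCard _).trans (dvd_of_eq hidx)
  have hhyp : F.hyperfocalSubgroup p ≤ R := by
    refine Hyperfocal.hyp_le_of fun P hP α hα x hx => ?_
    have hQS : P ⊔ T ≤ S := sup_le hP hTS
    obtain ⟨γ, hγ, hγe⟩ := Hyperfocal.exists_lift_aut hS hF hT hP hα
    have hfinQ : Finite (P ⊔ T : Subgroup Ω) := finite_of_le hQS
    have hγm := isMap_of_mem_autGroup hQS γ.2
    obtain ⟨g, hg, hge⟩ := (hγm.restrict le_sup_right).exists_aut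
      (stronglyClosed_img hT hγm le_sup_right)
    have hgc : (orderOf g).Coprime p := by
      refine Nat.Coprime.coprime_dvd_left ?_ hγ
      refine orderOf_dvd_of_pow_eq_one (autFun_ext fun y hy => ?_)
      rw [← GoodExtension.pow_agree le_sup_right
        (a := (γ : MulAut (P ⊔ T : Subgroup Ω))) (fun z hz => (hge z hz).symm) _ y hy, ← Subgroup.orderOf_coe, pow_orderOf_eq_one,
        autFun_one, autFun_one]
    have hgK : (⟨g, hg⟩ : F.autGroup T) ∈ K := hcop1 _ (by rwa [Subgroup.orderOf_mk])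
    have hxS : x ∈ S := hP hx
    have hxQ : x ∈ P ⊔ T := Subgroup.mem_sup_left hx
    have hgx : autFun (γ : MulAut (P ⊔ T : Subgroup Ω)) x ∈ S := hQS (autFun_mem _ hxQ)
    set w := x⁻¹ * autFun (γ : MulAut (P ⊔ T : Subgroup Ω)) x with hw
    have hwS : w ∈ S := S.mul_mem (S.inv_mem hxS) hgx
    have hwR : w ∈ R := by
      refine hmemR hwS ?_
      have heq : c ⟨w, hwS⟩ =
          (c ⟨x, hxS⟩)⁻¹ * ⟨g, hg⟩ * c ⟨x, hxS⟩ * (⟨g, hg⟩ : F.autGroup T)⁻¹ := by
        refine Subtype.ext (autFun_ext fun y hy => ?_)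
        simp only [Subgroup.coe_mul, Subgroup.coe_inv, autFun_mul]
        have hy' : autFun g⁻¹ y ∈ T := autFun_mem _ hy
        rw [hc _ y hy, hc ⟨x, hxS⟩ _ hy']
        have hz : cj x (autFun g⁻¹ y) ∈ T :=
          stronglyClosed_mem hT (isMap_cj hTS hxS) hy' hy'
        have h1 : autFun g (cj x (autFun g⁻¹ y)) =
            cj (autFun (γ : MulAut (P ⊔ T : Subgroup Ω)) x) y := by
          rw [hge _ hz, cj_apply, hγm.map_conj hxQ (Subgroup.mem_sup_right hy'), ← hge _ hy',
            autFun_apply_inv, cj_apply]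
        rw [h1, ← Subgroup.coe_inv, ← map_inv,
          hc _ _ (stronglyClosed_mem hT (isMap_cj hTS hgx) hy hy)]
        show cj w y = cj x⁻¹ _
        rw [← cj_mul]
      rw [heq]
      exact K.mul_mem (by simpa [mul_assoc] using
        Subgroup.Normal.conj_mem inferInstance _ hgK (c ⟨x, hxS⟩)⁻¹) (K.inv_mem hgK)
    have ht := hTR (hγe x hx)
    rw [show x⁻¹ * autFun (α : MulAut P) x = w *
      ((autFun (α : MulAut P) x)⁻¹ * autFun (γ : MulAut (P ⊔ T : Subgroup Ω)) x)⁻¹ by
      rw [hw]; group]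
    exact R.mul_mem hwR (R.inv_mem ht)
  obtain ⟨F₁, hF₁, hF₁i⟩ := PPowerIndex.exists_pPowerIndex hS hF hRS hhyp
  have hEF₁ : E.IsSubsystemOf F₁ :=
    PPowerNormal.subsystem_le_pPowerIndex hS hE.1.1 hinv.1 hTR hRS hF₁i
  have hRlt : R < S := by
    refine lt_of_le_of_ne hRS fun heq => hne ?_
    have hall : ∀ s : S, c s ∈ K := fun s => by
      obtain ⟨s', hs', he⟩ := Subgroup.mem_map.1 (heq.symm ▸ s.2 : (s : Ω) ∈ R)
      have : s' = s := Subtype.ext he
      exact this ▸ hs'
    have hfn : F.IsFullyNormalized T := by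
      refine ⟨hTS, fun Q hQ => ?_⟩
      obtain ⟨q, hq, rfl⟩ := isConj_iff_map.1 hQ
      rw [stronglyClosed_img hT hq le_rfl]
    have hle : (autInducedBy S T).subgroupOf (F.autGroup T) ≤ K := by
      intro a ha
      obtain ⟨s, hs, hse⟩ := mem_autInducedBy_iff'.1 (Subgroup.mem_subgroupOf.1 ha)
      have : a = c ⟨s, hs.1⟩ := Subtype.ext (autFun_ext fun y hy => by
        rw [hse y hy, hc _ y hy])
      exact this ▸ hall _
    have hnd := ((fullyAutomized_iff hS).1 (fullyNormalized_fullyAutomized hS hF hfn)).2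
    have hnd' : ¬ p ∣ K.index := fun h => hnd (h.trans (Subgroup.index_dvd_of_le hle))
    rw [hidx] at hnd'
    rw [← Subgroup.index_eq_one, hidx]
    rcases Nat.eq_zero_or_pos m with rfl | hm
    · rfl
    · exact absurd (dvd_pow_self p hm.ne') hnd'
  have hcR : centralizerIn R T = centralizerIn S T :=
    le_antisymm (fun s hs => ⟨hRS hs.1, hs.2⟩) fun s hs => ⟨hCR hs, hs.2⟩
  refine ⟨R, F₁, sup_le hTR hCR, PPowerNormal.isNormalIn_of_pPowerIndex hS hF hRS hn hF₁ hF₁i,
    normal_in hS hE hRS hF₁ hF₁i.1 hEF₁ fun hi α hα => ?_, ?_,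
    fun N hN hNF _ => PPowerNormal.subsystem_le_pPowerIndex hS hN hNF (sup_le hTR hCR) hRS hF₁i,
    fun V C hC hCp => (le_hyp hF hC hCp).trans hhyp⟩
  · obtain ⟨e, n, hn', hem⟩ :=
      Nat.exists_eq_pow_mul_and_not_dvd (orderOf_pos α).ne' p (Fact.out : p.Prime).ne_one
    have hnc : n.Coprime p := ((Fact.out : p.Prime).coprime_iff_not_dvd.2 hn').symm
    refine GoodExtension.mem_of_pow_mem (m := p ^ e) (n := n)
      (Nat.Coprime.pow_left e hnc.symm) ?_ ?_
    · set d := α ^ p ^ e with hd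
      have hdc : (orderOf d).Coprime p := Nat.Coprime.coprime_dvd_left
        (orderOf_dvd_of_pow_eq_one (by rw [hd, ← pow_mul, ← hem, pow_orderOf_eq_one])) hnc
      obtain ⟨β, hβ, hβd, hβX⟩ := MeetNormal.good_of_normal hE (pow_mem hα (p ^ e))
      have hWS : cen S T ≤ S := sup_le hTS centralizerIn_le
      have hfinW : Finite (cen S T) := finite_of_le hWS
      obtain ⟨k, hk, hkd⟩ :=
        GoodExtension.exists_pow_coprime (p := p) le_sup_left hβd hdc
      have hX : ∀ j : ℕ, ∀ x ∈ centralizerIn S T, x⁻¹ * autFun (β ^ j) x ∈ T := by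
        intro j
        induction j with
        | zero => intro x _; simp [autFun_one]
        | succ j ih =>
          intro x hx
          have hxW : x ∈ cen S T := Subgroup.mem_sup_right hx
          have hz := ih x hx
          rw [pow_succ', autFun_mul,
            show autFun (β ^ j) x = x * (x⁻¹ * autFun (β ^ j) x) from (mul_inv_cancel_left _ _).symm,
            autFun_isHom β _ hxW _ (Subgroup.mem_sup_left hz), hβd _ hz, ← mul_assoc]
          exact T.mul_mem (hβX x hx) (autFun_mem _ hz)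
      have hβ₁ := PPowerNormal.pPrime_mem hF₁i (sup_le hTR hCR) (pow_mem hβ k) hk
      have key : ∀ A : Subgroup Ω, cen S T = A → ∃ β' ∈ F₁.autGroup A,
          ∀ x ∈ A, autFun β' x = autFun (β ^ k) x := by
        rintro _ rfl
        exact ⟨_, hβ₁, fun _ _ => rfl⟩
      obtain ⟨β', hβ', hβ'e⟩ := key (cen R T) (by rw [cen, cen, hcR])
      refine ⟨β', hβ', fun x hx => ?_, fun x hx => ?_⟩
      · rw [hβ'e x (Subgroup.mem_sup_left hx)]
        exact hkd x hx
      · rw [hβ'e x (Subgroup.mem_sup_right hx)]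
        exact hX k x (hcR.le hx)
    · exact inn_good (E := E) hi (hS.to_le hRS) hF₁ (inner_of_pElement hTp hE.1.1 (pow_mem hα n)
        (k := e) (by rw [← pow_mul, mul_comm, ← hem, pow_orderOf_eq_one]))
  · have h1 := card_lt_card hRlt
    have h2 := card_le_card (Focal.autGroup_mono hF₁i.1 T)
    omega

/-- The step for a quotient of order prime to `p`. -/
theorem step_pPrime (hS : IsPGroup p S) (hF : F.IsSaturated p) (hE : E.IsNormalIn F p)
    (K : Subgroup (F.autGroup T)) [K.Normal]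
    (hBK : (E.autGroup T).subgroupOf (F.autGroup T) ≤ K) (hne : K ≠ ⊤)
    (hidx : K.index.Coprime p) : Step F E p := by
  have hinv := hE.1.2.2
  have hT := hinv.2.1
  have hTS : T ≤ S := hT.1
  have hfinT : Finite T := finite_of_le hTS
  have hEs := hE.1.1
  let χ := QuotientGroup.mk' K
  have hker : (E.autGroup T).subgroupOf (F.autGroup T) ≤ χ.ker := by
    rwa [QuotientGroup.ker_mk']
  have hcop : (Nat.card (↥(F.autGroup T) ⧸ K)).Coprime p := hidx
  obtain ⟨r, hr⟩ := PPrimeIndex.exists_res hinv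
  obtain ⟨F₁, hF₁⟩ := PPrimeIndex.exists_sys hS χ r
  have hsat := PPrimeIndex.saturated hS hF hinv hEs hcop χ hker r hr hF₁
  have hsub := PPrimeIndex.sub χ r hF₁
  have hEF₁ := PPrimeIndex.e_sub hS hF hinv hEs hcop χ hker r hr hF₁
  have hval : ∀ {P : Subgroup Ω} {f : Ω → Ω}, T ≤ P → IsMap F P f →
      (∀ g, ∀ hg : g ∈ F.autGroup T, (∀ x ∈ T, autFun g x = f x) → χ ⟨g, hg⟩ = 1) →
        IsMap F₁ P f := by
    intro P f hTP hf h
    obtain ⟨d, hd⟩ := PPrimeIndex.exists_wval hS hF χ r hf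
    obtain ⟨g, hg, hge⟩ := (hf.restrict hTP).exists_aut (stronglyClosed_img hT hf hTP)
    have hd' : PPrimeIndex.WVal p χ r T (autFun g) d :=
      (hd.restrict χ r hTP).congr χ r fun x hx => (hge x hx).symm
    have h1 := PPrimeIndex.value_top hS hF hinv hEs hcop χ hker r hr hg hd'
    rw [h g hg hge] at h1
    rw [← h1] at hd
    exact (hF₁ _ _).2 hd
  have hWS : T ⊔ centralizerIn S T ≤ S := sup_le hTS centralizerIn_le
  refine ⟨S, F₁, hWS, PPrimeIndex.isNormalIn hS hF hinv hEs hcop χ hker r hr hF₁,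
    normal_in hS hE le_rfl hsat hsub hEF₁ fun hi α hα => ?_, ?_, fun N hN hNF hNE P => ?_,
    fun V C hC _ => (ComponentExists.subnormal_facts hC hF).1⟩
  · obtain ⟨β, hβ, hβα, hβX⟩ := MeetNormal.good_of_normal hE hα
    refine ⟨β, (mem_autGroup_iff hWS).2 (hval le_sup_left (isMap_of_mem_autGroup hWS hβ)
      fun g hg hge => ?_), hβα, hβX⟩
    have : g = α := autFun_ext fun x hx => (hge x hx).trans (hβα x hx)
    subst this
    exact hker (Subgroup.mem_subgroupOf.2 hα)
  · refine Nat.add_lt_add_left (card_lt_card (lt_of_le_of_ne (Focal.autGroup_mono hsub T) ?_)) _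
    intro heq
    refine hne ((Subgroup.eq_top_iff' K).2 fun a => ?_)
    have hm : IsMap F₁ T (autFun (a : MulAut T)) :=
      isMap_of_mem_autGroup hTS (heq.symm ▸ a.2)
    exact (QuotientGroup.eq_one_iff a).1
      (PPrimeIndex.value_top hS hF hinv hEs hcop χ hker r hr a.2 ((hF₁ _ _).1 hm))
  · refine subset_of_isMap fun f hf => ?_
    have hfinW : Finite (T ⊔ centralizerIn S T : Subgroup Ω) := finite_of_le hWS
    obtain ⟨a, e, he, hfe⟩ := PPrimeGen.frattini (hS.to_le hWS) hN hf
    have hgen : ∀ {P : Subgroup Ω} {e : Ω → Ω}, PPrimeGen.Gen N p P e → IsMap F₁ P e := by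
      intro P e he
      induction he with
      | @base P V β k hV hβ hP =>
        have hVS : V ≤ S := hV.1.trans hWS
        have hβF : (β : MulAut V) ∈ F.autGroup V :=
          (mem_autGroup_iff hVS).2 (isMap_of_subset hNF (isMap_of_mem_autGroup hV.1 β.2))
        exact ((hF₁ _ _).2 (PPrimeIndex.wval_gen χ r (PPrimeGen.gen_of_pPower hS hF hVS
          ⟨β, hβF⟩ (k := k) (Subtype.ext (congrArg Subtype.val hβ :))))).restrict hP
      | ident hP => exact isMap_id (hP.trans hWS)
      | comp _ _ hPQ ihf ihg => exact ihg.comp ihf hPQ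
      | congr _ he ih => exact ih.congr he
    have haN := isMap_of_mem_autGroup (F := N) le_rfl a.2
    have haF₁ : IsMap F₁ (T ⊔ centralizerIn S T) (autFun (a : MulAut (T ⊔ centralizerIn S T : Subgroup Ω))) := by
      refine hval le_sup_left (isMap_of_subset hNF haN) fun g hg hge => ?_
      have hgN : g ∈ N.autGroup T := (mem_autGroup_iff le_sup_left).2
        ((haN.restrict le_sup_left).congr fun x hx => (hge x hx).symm)
      exact hker (Subgroup.mem_subgroupOf.2 (hNE hgN))
    exact (haF₁.comp (hgen he) fun x hx => he.isMap.mem hx).congr fun x hx => (hfe x hx).symm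

/-- The step, for a nontrivial quotient. -/
theorem exists_step (hS : IsPGroup p S) (hF : F.IsSaturated p) (hE : E.IsNormalIn F p)
    [hn : ((E.autGroup T).subgroupOf (F.autGroup T)).Normal]
    (hsolv : IsPSolvable p (↥(F.autGroup T) ⧸ (E.autGroup T).subgroupOf (F.autGroup T)))
    (hne : (E.autGroup T).subgroupOf (F.autGroup T) ≠ ⊤) : Step F E p := by
  have : Nontrivial (↥(F.autGroup T) ⧸ (E.autGroup T).subgroupOf (F.autGroup T)) :=
    QuotientGroup.nontrivial_iff.2 hne
  obtain ⟨N, hN, hNt, hidx⟩ := exists_top_normal hsolv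
  set q := QuotientGroup.mk' ((E.autGroup T).subgroupOf (F.autGroup T)) with hq
  have hsurj : Function.Surjective q := QuotientGroup.mk'_surjective _
  have hKn : (N.comap q).Normal := hN.comap q
  have hBK : (E.autGroup T).subgroupOf (F.autGroup T) ≤ N.comap q := fun a ha => by
    rw [Subgroup.mem_comap, hq, QuotientGroup.mk'_apply, (QuotientGroup.eq_one_iff a).2 ha]
    exact N.one_mem
  have hKt : N.comap q ≠ ⊤ := fun h => hNt (Subgroup.comap_injective hsurj (h.trans (Subgroup.comap_top q).symm))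
  rw [← Subgroup.index_comap_of_surjective N hsurj] at hidx
  rcases hidx with ⟨m, hm⟩ | hcop
  · exact step_pPower hS hF hE _ hBK hKt hm
  · exact step_pPrime hS hF hE _ hBK hKt hcop

/-- The quotient for a subsystem is again `p`-solvable. -/
theorem solvable_of_le {A A₁ : Subgroup (MulAut T)} (B : Subgroup (MulAut T)) (hle : A₁ ≤ A)
    [hn : (B.subgroupOf A).Normal] [hn₁ : (B.subgroupOf A₁).Normal]
    (h : IsPSolvable p (↥A ⧸ B.subgroupOf A)) : IsPSolvable p (↥A₁ ⧸ B.subgroupOf A₁) := by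
  let f : A₁ →* ↥A ⧸ B.subgroupOf A :=
    (QuotientGroup.mk' (B.subgroupOf A)).comp (Subgroup.inclusion hle)
  have hk : f.ker = B.subgroupOf A₁ := by
    ext a
    show QuotientGroup.mk' _ _ = 1 ↔ _
    rw [QuotientGroup.mk'_apply, QuotientGroup.eq_one_iff]
    rfl
  exact Cfsg.Agent.PLocal.PSolvable.congr
    ((QuotientGroup.quotientKerEquivRange f).symm.trans (QuotientGroup.quotientMulEquivOfEq hk))
    (Cfsg.Agent.PLocal.PSolvable.subgroup h f.range)

/-- A weakly normal subsystem over a group containing its centralizer is normal. -/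
theorem normal_of_cent_le {N : FusionSystem W} (hN : N.IsWeaklyNormalIn F p)
    (hC : centralizerIn S W ≤ W) : N.IsNormalIn F p := by
  refine ⟨hN, fun α hα => ?_⟩
  have hWS : W ≤ S := subsystem_le hN.2.2.1
  have e : W = W ⊔ centralizerIn S W := (sup_eq_left.2 hC).symm
  have key : ∀ A : Subgroup Ω, W = A → ∃ β ∈ F.autGroup A,
      ∀ x ∈ A, autFun β x = autFun α x := by
    rintro _ rfl
    exact ⟨α, (mem_autGroup_iff hWS).2
      (isMap_of_subset hN.2.2.1 (isMap_of_mem_autGroup le_rfl hα)), fun _ _ => rfl⟩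
  obtain ⟨β, hβ, hβe⟩ := key _ e
  refine ⟨β, hβ, fun x => ?_, fun c hc => ⟨?_, ?_⟩⟩
  · rw [← autFun_apply β, ← autFun_apply α]
    exact hβe x (Subgroup.mem_sup_left x.2)
  · exact W.mul_mem (W.inv_mem (hC hc)) (e.ge (β c).2)
  · refine Subgroup.mul_mem _ (Subgroup.inv_mem _ hc.2) ?_
    rw [← autFun_apply β, hβe c c.2]
    intro s hs
    have h1 := hc.2 _ (autFun_mem α⁻¹ hs)
    have h2 := congrArg (autFun α) h1
    rwa [autFun_isHom α _ (autFun_mem _ hs) _ (hC hc), autFun_isHom α _ (hC hc) _ (autFun_mem _ hs),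
      autFun_apply_inv] at h2

/-- Composition of the induction step. -/
theorem core_of_step (hS : IsPGroup p S) (hF : F.IsSaturated p) (hE : E.IsNormalIn F p)
    (hW : W = T ⊔ centralizerIn S T) {F₁ : FusionSystem R} (hWR : W ≤ R)
    (hF₁ : F₁.IsNormalIn F p) {F₀ : FusionSystem W} (h : Core F₁ E p F₀)
    (hN : ∀ N : FusionSystem W, N.IsSaturated p → N.IsSubsystemOf F →
      N.autGroup T ≤ E.autGroup T → N.IsSubsystemOf F₁)
    (hperf : ∀ (V : Subgroup Ω) (C : FusionSystem V), C.IsSubnormalIn F p → Perfect C p → V ≤ R) :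
    Core F E p F₀ := by
  have hlargest : ∀ N : FusionSystem W, N.IsSaturated p → N.IsSubsystemOf F →
      N.autGroup T ≤ E.autGroup T → N.IsSubsystemOf F₀ :=
    fun N hNs hNF hNE => h.largest N hNs (hN N hNs hNF hNE) hNE
  have hinv := hE.1.2.2
  have hT := hinv.2.1
  have hTS : T ≤ S := hT.1
  have hF₁i := hF₁.1.2.2
  have h₀i := h.normal.1.2.2
  have hTW : T ≤ W := hW ▸ le_sup_left
  have hWS : W ≤ S := hWR.trans (subsystem_le hF₁i.1)
  have hfinW : Finite W := finite_of_le hWS
  have hWsc : F.StronglyClosed W := hW ▸ Factor.stronglyClosed_sup_centralizerIn hS hF hT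
  have hsub : F₀.IsSubsystemOf F := fun P => (h₀i.1 P).trans (hF₁i.1 P)
  refine ⟨normal_of_cent_le ⟨h.normal.1.1, hF, Meet.invariant_mk
    (fun P f hf => isMap_of_subset hsub hf) hWsc (fun P f hf a ha => ?_) fun P f hP hf => ?_⟩ ?_,
    h.sub, h.aut, hlargest, fun V C hC hCp => ?_⟩
  · let e := LayerNormal.autIso a
    have hpush : (Transport.push e F₀).IsSubsystemOf F₀ := by
      refine hlargest _ (Transport.push_saturated e (hS.to_le hWS) h.normal.1.1) (fun Q =>
        subset_of_isMap fun g hg => ?_) fun γ hγ => ?_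
      · obtain ⟨hQ, hv, hm⟩ := (Transport.isMap_push_iff e).1 hg
        have ha' := isMap_of_mem_autGroup hWS ha
        have hai := isMap_of_mem_autGroup hWS (Subgroup.inv_mem _ ha)
        have h1 : IsMap F Q (autFun a⁻¹) := hai.restrict hQ
        have h2 := (ha'.comp ((isMap_of_subset hsub hm).comp h1
          fun x hx => Transport.mem_im_self _ hx) fun x hx => hm.mem (Transport.mem_im_self _ hx))
        refine h2.congr fun x hx => ?_
        show autFun a (autFun a⁻¹ (g (autFun a (autFun a⁻¹ x)))) = g x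
        rw [autFun_apply_inv, autFun_apply_inv]
      · obtain ⟨aT, haT, haTe⟩ := ((isMap_of_mem_autGroup hWS ha).restrict hTW).exists_aut
          (stronglyClosed_img hT (isMap_of_mem_autGroup hWS ha) hTW)
        obtain ⟨hQ, hv, hm⟩ := (Transport.isMap_push_iff e).1 (isMap_of_mem_autGroup hTW hγ)
        have himT : Transport.im e.bwd T = T := by
          show img (autFun a⁻¹) T = T
          exact stronglyClosed_img hT (isMap_of_mem_autGroup hWS (Subgroup.inv_mem _ ha)) hTW
        rw [himT] at hm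
        have hmem : aT⁻¹ * γ * aT ∈ F₀.autGroup T := by
          refine (mem_autGroup_iff hTW).2 (hm.congr fun x hx => ?_)
          show autFun a⁻¹ (autFun γ (autFun a x)) = _
          rw [autFun_mul, autFun_mul, haTe x hx]
          have hy : autFun γ (autFun a x) ∈ T := autFun_mem _ (haTe x hx ▸ autFun_mem aT hx)
          conv_lhs => rw [← autFun_apply_inv aT (autFun γ (autFun a x)),
            haTe _ (autFun_mem _ hy), autFun_inv_apply]
        have hEn := WeaklyNormalTop.autGroup_normal hinv (le_refl T)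
        have h1 := hEn.conj_mem ⟨_, (Focal.autGroup_mono hsub T hmem)⟩
          (Subgroup.mem_subgroupOf.2 (h.aut hmem)) ⟨aT, haT⟩
        have h2 := Subgroup.mem_subgroupOf.1 h1
        simpa [mul_assoc] using h2
    refine ⟨_, isMap_of_subset hpush (Transport.isMap_push e hf), fun x hx => ?_⟩
    show autFun a (f (autFun a⁻¹ (autFun a x))) = _
    rw [autFun_inv_apply]
  · obtain ⟨α, hα, f₁, hf₁, hfe⟩ := invariant_frattini hF₁i (hP.trans hWR) hf
    obtain ⟨b, hb, f₀, hf₀, hf₁e⟩ := invariant_frattini h₀i hP hf₁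
    have hαm := isMap_of_mem_autGroup (subsystem_le hF₁i.1) hα
    obtain ⟨a, ha, hae⟩ := (hαm.restrict hWR).exists_aut (stronglyClosed_img hWsc hαm hWR)
    refine ⟨a * b, mul_mem ha (Focal.autGroup_mono hF₁i.1 W hb), f₀, hf₀, fun x hx => ?_⟩
    rw [autFun_mul, hae _ (autFun_mem b (hf₀.mem hx)), hfe x hx, hf₁e x hx]
  · intro s hs
    rw [hW]
    refine Subgroup.mem_sup_right ⟨hs.1, fun t ht => hs.2 t (hTW ht)⟩
  · have hV := hperf V C hC hCp
    exact h.perfect V C
      (subnormal_in_normal hC inferInstance inferInstance hS hF hCp.2 hF₁ hV) hCp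

/-- The normal subsystem over `T C_S(T)`. -/
theorem exists_core : ∀ (n : ℕ) {S : Subgroup Ω} [Finite S], IsPGroup p S →
    ∀ {F : FusionSystem S}, F.IsSaturated p → ∀ {E : FusionSystem T}, E.IsNormalIn F p →
    ∀ [hn : ((E.autGroup T).subgroupOf (F.autGroup T)).Normal],
      IsPSolvable p (↥(F.autGroup T) ⧸ (E.autGroup T).subgroupOf (F.autGroup T)) →
    ∀ W : Subgroup Ω, W = T ⊔ centralizerIn S T →
      Nat.card S + Nat.card (F.autGroup T) = n → ∃ F₀ : FusionSystem W, Core F E p F₀ := by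
  intro n
  induction n using Nat.strong_induction_on with
  | _ n ih =>
  intro S _ hS F hF E hE hn hsolv W hW hcard
  have hinv := hE.1.2.2
  have hT := hinv.2.1
  have hTS : T ≤ S := hT.1
  have hfinT : Finite T := finite_of_le hTS
  have hTp : IsPGroup p T := hS.to_le hTS
  by_cases htop : (E.autGroup T).subgroupOf (F.autGroup T) = ⊤
  · have hall : F.autGroup T ≤ E.autGroup T := fun a ha =>
      Subgroup.mem_subgroupOf.1 (htop.symm ▸ Subgroup.mem_top (⟨a, ha⟩ : F.autGroup T))
    have hWS : W = S := by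
      refine le_antisymm (hW ▸ sup_le hTS centralizerIn_le) fun s hs => ?_
      have hsn : s ∈ S ⊓ Subgroup.normalizer (T : Set Ω) :=
        ⟨hs, le_normalizer_of_stronglyClosed hT hs⟩
      have hcS : conjAut S T ⟨s, hsn⟩ ∈ autInducedBy S T := conjAut_range S T ▸ ⟨_, rfl⟩
      obtain ⟨k, hk⟩ := isPGroup_autInducedBy hS ⟨_, hcS⟩
      obtain ⟨t, ht, hte⟩ := mem_autInducedBy_iff'.1 (inner_of_pElement hTp hE.1.1
        (hall (autInducedBy_le hTS hcS)) (k := k) (congrArg Subtype.val hk))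
      rw [hW, show s = t * (t⁻¹ * s) by group]
      refine Subgroup.mul_mem _ (Subgroup.mem_sup_left ht.1) (Subgroup.mem_sup_right
        ⟨S.mul_mem (S.inv_mem (hTS ht.1)) hs, fun y hy => ?_⟩)
      have h1 : cj s y = cj t y := (conjAut_apply ⟨s, hsn⟩ hy).symm.trans (hte y hy)
      have h2 : cj (t⁻¹ * s) y = y := by rw [cj_mul, h1, cj_inv_cj]
      rw [cj_apply, mul_inv_eq_iff_eq_mul] at h2
      exact h2.symm
    subst hWS
    exact ⟨F, Component.normal_self hF, hinv.1, hall, fun N _ hN _ => hN,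
      fun V C hC _ => (ComponentExists.subnormal_facts hC hF).1⟩
  obtain ⟨R, F₁, hWR, hF₁, hEF₁, hlt, hN, hperf⟩ := exists_step hS hF hE hsolv htop
  subst hW
  have hRS : R ≤ S := subsystem_le hF₁.1.2.2.1
  have hfinR : Finite R := finite_of_le hRS
  have hcR : centralizerIn R T = centralizerIn S T :=
    le_antisymm (fun s hs => ⟨hRS hs.1, hs.2⟩)
      fun s hs => ⟨hWR (Subgroup.mem_sup_right hs), hs.2⟩
  have hn₁ : ((E.autGroup T).subgroupOf (F₁.autGroup T)).Normal :=
    WeaklyNormalTop.autGroup_normal hEF₁.1.2.2 le_rfl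
  have hsolv₁ := solvable_of_le (E.autGroup T) (Focal.autGroup_mono hF₁.1.2.2.1 T) hsolv
  obtain ⟨F₀, h₀⟩ := ih _ (hcard ▸ hlt) (hS.to_le hRS) hF₁.1.1 hEF₁ hsolv₁
    (T ⊔ centralizerIn S T) (by rw [hcR]) rfl
  exact ⟨F₀, core_of_step hS hF hE rfl hWR hF₁ h₀ hN hperf⟩

end Cfsg.Agent.Fusion.NormalCore
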