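/-
The hyperfocal subgroup of a subsystem on `T C_S(T)` inducing `Aut_E(T)` on `T`.
-/
import Mathlib
import Cfsg.Agent.Lib.Fusion.NormalCore
import Cfsg.Agent.Lib.Fusion.SubsystemCentralizerSystem

set_option autoImplicit false
set_option linter.all false

namespace Cfsg.Agent.Fusion.HypCore

open Cfsg Cfsg.FusionSystem Cfsg.Agent.Fusion.Basic Cfsg.Agent.Fusion.Saturation
  Cfsg.Agent.Fusion.Subsystems Cfsg.Agent.Fusion.Normal Cfsg.Agent.Fusion.PPrimeResidual
  Cfsg.Agent.Fusion.PPrimeNormal Cfsg.Agent.Fusion.SubsystemCentralizer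
  Cfsg.Agent.Fusion.SubsystemCentralizerSystem

variable {Ω : Type*} [Group Ω] {S T : Subgroup Ω} {F : FusionSystem S} {E : FusionSystem T}
  {p : ℕ} [Finite S] [Fact p.Prime]

/-- If `C_S(E) ≤ T` then the subgroup centralized by `E` is inside `T`. -/
theorem cent_le_T (hS : IsPGroup p S) (hF : F.IsSaturated p) (hE : E.IsNormalIn F p)
    (hCE : ∀ Y : Subgroup Ω, Y ≤ centralizerIn S T →
      (∀ C : FusionSystem (centralizerIn S Y), F.IsCentralizerSystem Y C → E.IsSubsystemOf C) →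
      Y ≤ T) : cent F E ≤ T := by
  refine hCE _ cent_le fun C hC P φ hφ => ?_
  have hle := E.le_of_mem hφ
  have hTS : T ≤ S := subsystem_le hE.1.2.2.1
  have hc : ∀ t ∈ T, t ∈ centralizerIn S (cent F E) :=
    fun t ht => ⟨hTS ht, fun q hq => ((cent_le hq).2 t ht).symm⟩
  obtain ⟨g, hg, hge, hgy⟩ := exists_ext_cent hS hF hE (IsMap.of_hom hφ)
  rw [hC P]
  exact ⟨hE.1.2.2.1 P hφ, fun x hx => hc x (hle.1 hx), fun x => hc _ (hle.2 x), hg.hom,
    hg.hom_mem_self, fun x => (hge x x.2).trans (ext_apply φ x), fun x => hgy x x.2⟩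

/-- The hyperfocal subgroup lies in `T`. -/
theorem hyp_le (hS : IsPGroup p S) (hF : F.IsSaturated p) (hE : E.IsNormalIn F p)
    (hCE : ∀ Y : Subgroup Ω, Y ≤ centralizerIn S T →
      (∀ C : FusionSystem (centralizerIn S Y), F.IsCentralizerSystem Y C → E.IsSubsystemOf C) →
      Y ≤ T) {F₀ : FusionSystem (T ⊔ centralizerIn S T)} (hsub : F₀.IsSubsystemOf F)
    (hF₀ : F₀.IsSaturated p) (haut : F₀.autGroup T ≤ E.autGroup T) :
    F₀.hyperfocalSubgroup p ≤ T := by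
  have hinv := hE.1.2.2
  have hT := hinv.2.1
  have hTS : T ≤ S := hT.1
  have hTn : S ≤ Subgroup.normalizer (T : Set Ω) := le_normalizer_of_stronglyClosed hT
  have hWS : (T ⊔ centralizerIn S T : Subgroup Ω) ≤ S := sup_le hTS centralizerIn_le
  have hfinW : Finite (T ⊔ centralizerIn S T : Subgroup Ω) := finite_of_le hWS
  have hT₀ : F₀.StronglyClosed T :=
    ⟨le_sup_left, fun P hP φ hφ x => hT.2 P hP φ (hsub P hφ) x⟩
  obtain ⟨CT, hCT⟩ := KNormalizer.exists_centralizerSystem (F := F) hTS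
  have hCTle : CT.hyperfocalSubgroup p ≤ T :=
    (hyp_le_cent hS hF hE hCT).trans (cent_le_T hS hF hE hCE)
  refine Hyperfocal.hyp_le_of fun P hP α hα x hx => ?_
  set R := P ⊔ T with hR
  have hRW : R ≤ (T ⊔ centralizerIn S T : Subgroup Ω) := sup_le hP le_sup_left
  have hRS : R ≤ S := hRW.trans hWS
  have hfinR : Finite R := finite_of_le hRS
  obtain ⟨γ, hγ, hγe⟩ := Hyperfocal.exists_lift_aut (hS.to_le hWS) hF₀ hT₀ hP hα
  suffices h : ∀ y ∈ R, y⁻¹ * autFun (γ : MulAut R) y ∈ T by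
    have h1 := h x (Subgroup.mem_sup_left hx)
    have h2 := T.mul_mem h1 (T.inv_mem (hγe x hx))
    rw [show x⁻¹ * autFun (α : MulAut P) x = x⁻¹ * autFun (γ : MulAut R) x *
      ((autFun (α : MulAut P) x)⁻¹ * autFun (γ : MulAut R) x)⁻¹ by group]
    exact h2
  have hγm₀ := isMap_of_mem_autGroup hRW γ.2
  have hγm : IsMap F R (autFun (γ : MulAut R)) := isMap_of_subset hsub hγm₀
  have hTR : T ≤ R := le_sup_right
  obtain ⟨a, ha, hae⟩ := (hγm₀.restrict hTR).exists_aut (stronglyClosed_img hT₀ hγm₀ hTR)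
  obtain ⟨β, hβ, hβa, hβX⟩ :=
    (good (F := F) (T := T)).inv_mem (MeetNormal.good_of_normal hE (haut ha))
  have hdisp : ∀ y ∈ (T ⊔ centralizerIn S T : Subgroup Ω), y⁻¹ * autFun β y ∈ T := by
    intro y hy
    have hy' : y ∈ ((T ⊔ centralizerIn S T : Subgroup Ω) : Set Ω) := hy
    rw [Subgroup.coe_mul_of_right_le_normalizer_left _ _
      (centralizerIn_le.trans hTn)] at hy'
    obtain ⟨t, ht, c, hc, rfl⟩ := hy'
    simp only
    rw [autFun_isHom β _ (Subgroup.mem_sup_left ht) _ (Subgroup.mem_sup_right hc), hβa t ht]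
    have hu : t⁻¹ * autFun a⁻¹ t ∈ T := T.mul_mem (T.inv_mem ht) (autFun_mem _ ht)
    have h1 : (t * c)⁻¹ * (autFun a⁻¹ t * autFun β c) =
        c⁻¹ * (t⁻¹ * autFun a⁻¹ t) * c * (c⁻¹ * autFun β c) := by group
    rw [h1, mul_assoc c⁻¹, hc.2 _ hu, inv_mul_cancel_left]
    exact T.mul_mem hu (hβX c hc)
  have hd : ∀ y ∈ R, (autFun (γ : MulAut R) y)⁻¹ * autFun β (autFun (γ : MulAut R) y) ∈ T :=
    fun y hy => hdisp _ (hRW (autFun_mem _ hy))
  have hdm : IsMap F R (fun y => autFun β (autFun (γ : MulAut R) y)) :=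
    (isMap_of_mem_autGroup hWS hβ).comp hγm fun y hy => hRW (autFun_mem _ hy)
  obtain ⟨δ, hδ, hδe⟩ := hdm.exists_aut (eq_of_le_card (img_le fun y hy => by
    have h1 := R.mul_mem (autFun_mem (γ : MulAut R) hy) (hTR (hd y hy))
    rwa [mul_inv_cancel_left] at h1) hdm.card_img.ge)
  have hγF : (γ : MulAut R) ∈ F.autGroup R := Focal.autGroup_mono hsub R γ.2
  obtain ⟨δ', hδ', ⟨k, rfl⟩, hδ'e⟩ := Hyperfocal.exists_pPrime_lift (p := p) (F := F) hRS
    (le_refl R) hTR hT (α := ⟨γ, hγF⟩) (by rwa [Subgroup.orderOf_mk, Subgroup.orderOf_coe])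
    ⟨δ, hδ⟩ fun y hy => by
      rw [hδe y hy]
      exact hd y hy
  simp only [Subgroup.coe_pow] at hδ'e
  have hfix : ∀ t ∈ T, autFun (δ ^ k) t = t := fun t ht => by
    rw [GoodExtension.pow_agree hTR (d := (1 : MulAut T)) (fun z hz => ?_) k t ht, one_pow,
      autFun_one, id]
    rw [hδe z (hTR hz), ← hae z hz, hβa _ (autFun_mem _ hz), autFun_inv_apply, autFun_one, id]
  set C := R ⊓ centralizerIn S T with hC
  have hδm : IsMap F R (autFun (δ ^ k)) := isMap_of_mem_autGroup hRS (pow_mem hδ k)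
  have hCC : ∀ c ∈ C, autFun (δ ^ k) c ∈ C := fun c hc =>
    ⟨autFun_mem _ hc.1, hδm.mem hc.1, fun t ht => by
      have h1 := congrArg (autFun (δ ^ k)) (hc.2.2 t ht)
      rwa [autFun_isHom _ _ (hTR ht) _ hc.1, autFun_isHom _ _ hc.1 _ (hTR ht),
        hfix t ht] at h1⟩
  have hCle : C ≤ R := inf_le_left
  have hfinC : Finite C := finite_of_le hCle
  obtain ⟨η, hη, hηe⟩ := (hδm.restrict hCle).exists_aut
    (eq_of_le_card (img_le hCC) (hδm.restrict hCle).card_img.ge)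
  have hηc : (orderOf η).Coprime p := by
    refine Nat.Coprime.coprime_dvd_left ?_ hδ'
    refine orderOf_dvd_of_pow_eq_one (autFun_ext fun y hy => ?_)
    rw [← GoodExtension.pow_agree hCle (a := δ ^ k) (fun z hz => (hηe z hz).symm) _ y hy,
      ← Subgroup.orderOf_coe, Subgroup.coe_pow, pow_orderOf_eq_one, autFun_one, autFun_one]
  have hηCT : η ∈ CT.autGroup C := by
    have hCT' : C ≤ centralizerIn S T := inf_le_right
    have hm := hδm.restrict (sup_le hCle hTR : C ⊔ T ≤ R)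
    have hηF : IsMap F C (autFun η) := isMap_of_mem_autGroup (hCle.trans hRS) hη
    refine (mem_autGroup_iff hCT').2 ⟨hηF.hom, ?_, fun _ => rfl⟩
    rw [hCT C]
    refine ⟨hηF.hom_mem_self, hCT', fun z => hCT' (autFun_mem η z.2), hm.hom, hm.hom_mem_self,
      fun z => ?_, fun z => hfix z z.2⟩
    show autFun (δ ^ k) z = autFun η z
    exact (hηe z z.2).symm
  have hC' : ∀ c ∈ C, c⁻¹ * autFun (δ ^ k) c ∈ T := fun c hc => by
    rw [← hηe c hc]
    exact hCTle (Focal.mem_hyp (F := CT) (inf_le_right : C ≤ centralizerIn S T)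
      ⟨⟨η, hηCT⟩, Subgroup.subset_closure
        (show (orderOf (⟨η, hηCT⟩ : CT.autGroup C)).Coprime p by rwa [Subgroup.orderOf_mk]),
        rfl⟩ hc)
  intro y hy
  have hy' : y ∈ ((T ⊔ centralizerIn S T : Subgroup Ω) : Set Ω) := hRW hy
  rw [Subgroup.coe_mul_of_right_le_normalizer_left _ _ (centralizerIn_le.trans hTn)] at hy'
  obtain ⟨t, ht, c, hc, rfl⟩ := hy'
  simp only at hy ⊢
  have hcR : c ∈ R := by
    have h1 := R.mul_mem (R.inv_mem (hTR ht)) hy
    rwa [inv_mul_cancel_left] at h1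
  have h2 : (t * c)⁻¹ * autFun (δ ^ k) (t * c) = c⁻¹ * autFun (δ ^ k) c := by
    rw [autFun_isHom _ _ (hTR ht) _ hcR, hfix t ht]
    group
  have h3 := hC' c ⟨hcR, hc⟩
  rw [← h2] at h3
  have h4 := T.mul_mem h3 (T.inv_mem (hδ'e _ hy))
  rwa [show (t * c)⁻¹ * autFun (δ ^ k) (t * c) *
    ((autFun (γ : MulAut R) (t * c))⁻¹ * autFun (δ ^ k) (t * c))⁻¹ =
      (t * c)⁻¹ * autFun (γ : MulAut R) (t * c) by group] at h4

end Cfsg.Agent.Fusion.HypCore
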