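import Mathlib
import Cfsg.Prelude.Def_Transfer
import Cfsg.Agent.S5212
import Cfsg.Agent.S0949
import Cfsg.Agent.Lib.Fusion.Group
import Cfsg.Agent.Lib.Transfer.Frobenius
import Cfsg.Agent.InvChar.Core

/-!
# Sylow 2-subgroups with a cyclic normal subgroup and cyclic quotient of order at least four
-/

set_option autoImplicit false
set_option linter.style.haveILetI false

namespace Cfsg.Agent.Fusion.MetacyclicSolvable

universe u

theorem card_le_two_of_sq_eq_one {X : Type*} [Group X] [Finite X] (hX : IsCyclic X)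
    (h : ∀ x : X, x ^ 2 = 1) : Nat.card X ≤ 2 := by
  obtain ⟨g, hg⟩ := hX.exists_generator
  rw [← orderOf_eq_card_of_forall_mem_zpowers hg]
  exact Nat.le_of_dvd two_pos (orderOf_dvd_of_pow_eq_one (h g))

theorem conj_a_one {m : ℕ} : (QuaternionGroup.xa (0 : ZMod (2 * m))) * QuaternionGroup.a 1 *
    (QuaternionGroup.xa 0)⁻¹ * QuaternionGroup.a 1 = 1 := by
  have h : (QuaternionGroup.xa (0 : ZMod (2 * m))) * QuaternionGroup.a 1 =
      QuaternionGroup.a (-1) * QuaternionGroup.xa 0 := by simp
  rw [h, mul_inv_cancel_right]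
  simp [← QuaternionGroup.a_zero]

section Exclude

variable {S : Type*} [Group S] [Finite S] (N : Subgroup S) [N.Normal] (hQc : IsCyclic (S ⧸ N))
  (hQ : 2 < Nat.card (S ⧸ N))

include hQc hQ

theorem exists_sq_not_mem : ∃ s : S, s ^ 2 ∉ N := by
  by_contra h
  push Not at h
  refine absurd (card_le_two_of_sq_eq_one hQc fun x => ?_) (not_le.2 hQ)
  obtain ⟨s, rfl⟩ := QuotientGroup.mk_surjective x
  rw [← QuotientGroup.mk_pow]
  exact (QuotientGroup.eq_one_iff _).2 (h s)

/-- A cyclic quotient of order at least four is incompatible with a conjugation inverting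
`x` modulo `N` together with `y ^ 2 ∈ N`, when `x` and `y` generate. -/
theorem false_of_gen (x y : S) (hy : y ^ 2 ∈ N) (hinv : y * x * y⁻¹ * x ∈ N)
    (hgen : Subgroup.closure ({x, y} : Set S) = ⊤) : False := by
  obtain ⟨s, hs⟩ := exists_sq_not_mem N hQc hQ
  refine hs ?_
  letI : CommGroup (S ⧸ N) := hQc.commGroup
  let f : S →* S ⧸ N := QuotientGroup.mk' N
  have key : Subgroup.closure ({x, y} : Set S) ≤ MonoidHom.ker ((powMonoidHom 2).comp f) := by
    rw [Subgroup.closure_le]
    rintro a (rfl | rfl)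
    · have h1 : f (y * a * y⁻¹ * a) = 1 := (QuotientGroup.eq_one_iff _).2 hinv
      rw [map_mul, map_mul, map_mul, map_inv, mul_comm (f y) (f a), mul_inv_cancel_right] at h1
      simpa [pow_two] using h1
    · have h1 : f (a ^ 2) = 1 := (QuotientGroup.eq_one_iff _).2 hy
      simpa using h1
  have h2 := key (hgen ▸ Subgroup.mem_top s)
  rw [MonoidHom.mem_ker] at h2
  exact (QuotientGroup.eq_one_iff (N := N) (s ^ 2)).1 (by simpa [f] using h2)

theorem not_dihedral : ¬ ∃ m : ℕ, Nonempty (S ≃* DihedralGroup m) := by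
  rintro ⟨m, ⟨e⟩⟩
  refine false_of_gen N hQc hQ (e.symm (DihedralGroup.r 1)) (e.symm (DihedralGroup.sr 0)) ?_ ?_ ?_
  · rw [← map_pow, pow_two, DihedralGroup.sr_mul_sr]
    simp
  · rw [← map_inv, ← map_mul, ← map_mul, ← map_mul]
    simp
  · rw [eq_top_iff]
    intro s _
    obtain ⟨d, rfl⟩ := e.symm.surjective s
    have hr : ∀ i : ZMod m, e.symm (DihedralGroup.r i) ∈
        Subgroup.closure ({e.symm (DihedralGroup.r 1), e.symm (DihedralGroup.sr 0)} : Set S) := by
      intro i
      obtain ⟨k, rfl⟩ := ZMod.intCast_surjective i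
      rw [← DihedralGroup.r_one_zpow, map_zpow]
      exact zpow_mem (Subgroup.subset_closure (Set.mem_insert _ _)) k
    rcases d with i | i
    · exact hr i
    · rw [show DihedralGroup.sr i = DihedralGroup.sr 0 * DihedralGroup.r i by simp, map_mul]
      exact mul_mem (Subgroup.subset_closure (Set.mem_insert_of_mem _ rfl)) (hr i)

theorem not_quaternion (hnc : ¬ IsCyclic S) (hS : IsPGroup 2 S) :
    ¬ ∃ m : ℕ, Nonempty (S ≃* QuaternionGroup m) := by
  rintro ⟨m, ⟨e⟩⟩
  haveI : Fact (Nat.Prime 2) := ⟨Nat.prime_two⟩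
  have hm0 : m ≠ 0 := by
    rintro rfl
    haveI : Finite (QuaternionGroup 0) := Finite.of_equiv S e.toEquiv
    haveI : Infinite (QuaternionGroup 0) := by
      refine Infinite.of_injective (fun i : ℤ => (QuaternionGroup.a i : QuaternionGroup 0)) ?_
      intro a b h
      exact QuaternionGroup.a.inj h
    exact not_finite (QuaternionGroup 0)
  haveI : NeZero m := ⟨hm0⟩
  obtain ⟨k, hk⟩ := hS.exists_card_eq
  rw [Nat.card_congr e.toEquiv, Nat.card_eq_fintype_card, QuaternionGroup.card] at hk
  have heven : Even m := by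
    by_contra hodd
    rw [Nat.not_even_iff_odd] at hodd
    have h1 : m ∣ 2 ^ k := ⟨4, by rw [← hk]; ring⟩
    obtain ⟨j, -, hj⟩ := (Nat.dvd_prime_pow Nat.prime_two).1 h1
    have hm1 : m = 1 := by
      rcases j with _ | j
      · simpa using hj
      · rw [hj, pow_succ] at hodd
        exact absurd hodd (Nat.not_odd_iff_even.2 (by simp))
    subst hm1
    exact hnc (e.isCyclic.2 (isCyclic_of_orderOf_eq_card (QuaternionGroup.xa (0 : ZMod (2 * 1)))
      (by rw [QuaternionGroup.orderOf_xa, Nat.card_eq_fintype_card, QuaternionGroup.card])))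
  refine false_of_gen N hQc hQ (e.symm (QuaternionGroup.a 1)) (e.symm (QuaternionGroup.xa 0)) ?_ ?_ ?_
  · -- the square of `xa` is an even power of `a`
    obtain ⟨j, hj⟩ := heven
    letI : CommGroup (S ⧸ N) := hQc.commGroup
    let f : S →* S ⧸ N := QuotientGroup.mk' N
    have hinv : f (e.symm (QuaternionGroup.a 1)) ^ 2 = 1 := by
      have h1 : e.symm (QuaternionGroup.xa 0) * e.symm (QuaternionGroup.a 1) *
          (e.symm (QuaternionGroup.xa 0))⁻¹ * e.symm (QuaternionGroup.a 1) = 1 := by
        rw [← map_inv, ← map_mul, ← map_mul, ← map_mul]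
        rw [conj_a_one, map_one]
      have h2 := congrArg f h1
      rw [map_mul, map_mul, map_mul, map_inv, mul_comm (f _) (f _), mul_inv_cancel_right,
        map_one] at h2
      rw [pow_two]
      exact h2
    refine (QuotientGroup.eq_one_iff _).1 ?_
    show f (e.symm (QuaternionGroup.xa 0) ^ 2) = 1
    rw [← map_pow, QuaternionGroup.xa_sq, ← QuaternionGroup.a_one_pow, map_pow, map_pow]
    refine (congrArg (fun k => f (e.symm (QuaternionGroup.a 1)) ^ k)
      (show m = 2 * j by omega)).trans ?_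
    show f (e.symm (QuaternionGroup.a 1)) ^ (2 * j) = 1
    rw [pow_mul, hinv, one_pow]
  · rw [← map_inv, ← map_mul, ← map_mul, ← map_mul]
    rw [conj_a_one, map_one]
    exact one_mem N
  · rw [eq_top_iff]
    intro s _
    obtain ⟨d, rfl⟩ := e.symm.surjective s
    have hr : ∀ i : ZMod (2 * m), e.symm (QuaternionGroup.a i) ∈
        Subgroup.closure ({e.symm (QuaternionGroup.a 1), e.symm (QuaternionGroup.xa 0)} : Set S) := by
      intro i
      rw [← ZMod.natCast_zmod_val i, ← QuaternionGroup.a_one_pow, map_pow]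
      exact pow_mem (Subgroup.subset_closure (Set.mem_insert _ _)) _
    rcases d with i | i
    · exact hr i
    · rw [show QuaternionGroup.xa i = QuaternionGroup.xa 0 * QuaternionGroup.a i by simp, map_mul]
      exact mul_mem (Subgroup.subset_closure (Set.mem_insert_of_mem _ rfl)) (hr i)

theorem not_quasiDihedral : ¬ Cfsg.IsQuasiDihedral S := by
  rintro ⟨n, hn, hcard, x, y, hx, hy, hxy⟩
  have hgen : Subgroup.closure ({x, y} : Set S) = ⊤ := by
    have h2 : (Subgroup.zpowers x).index = 2 := by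
      have h := (Subgroup.zpowers x).card_mul_index
      rw [hcard, Nat.card_zpowers, hx, pow_succ] at h
      exact Nat.eq_of_mul_eq_mul_left (by positivity) h
    have hle : Subgroup.zpowers x ≤ Subgroup.closure ({x, y} : Set S) :=
      Subgroup.zpowers_le.2 (Subgroup.subset_closure (Set.mem_insert _ _))
    have hyn : y ∉ Subgroup.zpowers x := by
      intro h
      obtain ⟨k, hk⟩ := Subgroup.mem_zpowers_iff.1 h
      have hc : y * x * y⁻¹ = x := by rw [← hk]; group
      rw [hc] at hxy
      have h1 : (2 : ℕ) ^ (n - 1) - 1 ≡ 1 [MOD 2 ^ n] := by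
        rw [← hx, ← pow_eq_pow_iff_modEq, pow_one]
        exact hxy.symm
      have h3 : 4 ≤ 2 ^ (n - 1) := by
        calc 4 = 2 ^ 2 := rfl
          _ ≤ 2 ^ (n - 1) := Nat.pow_le_pow_right two_pos (by omega)
      have h4 : 2 ^ n = 2 * 2 ^ (n - 1) := by rw [← pow_succ']; congr 1; omega
      have h5 := h1.eq_of_lt_of_lt (by omega) (by omega)
      omega
    rw [eq_top_iff]
    intro s _
    by_cases hs : s ∈ Subgroup.zpowers x
    · exact hle hs
    · have h6 : y * s ∈ Subgroup.zpowers x :=
        (Subgroup.mul_mem_iff_of_index_two h2).2 (iff_of_false hyn hs)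
      have := mul_mem (inv_mem (Subgroup.subset_closure (k := ({x, y} : Set S))
        (Set.mem_insert_of_mem _ rfl))) (hle h6)
      rwa [inv_mul_cancel_left] at this
  -- every element squares into `N`
  obtain ⟨s, hs⟩ := exists_sq_not_mem N hQc hQ
  letI : CommGroup (S ⧸ N) := hQc.commGroup
  let f : S →* S ⧸ N := QuotientGroup.mk' N
  have h4 : f x ^ 2 = 1 := by
    have h7 := congrArg f hxy
    rw [map_mul, map_mul, map_inv, map_pow, mul_comm (f y) (f x), mul_inv_cancel_right] at h7
    -- `f x ^ (2 ^ (n-1) - 2) = 1` and `f x ^ (2 ^ n) = 1`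
    have h3 : 4 ≤ 2 ^ (n - 1) := by
      calc 4 = 2 ^ 2 := rfl
        _ ≤ 2 ^ (n - 1) := Nat.pow_le_pow_right two_pos (by omega)
    have h8 : f x ^ (2 ^ (n - 1) - 2) = 1 := by
      have h9 : f x ^ (2 ^ (n - 1) - 1) = f x ^ (2 ^ (n - 1) - 2) * f x := by
        rw [← pow_succ]; congr 1; omega
      rw [h9] at h7
      exact mul_eq_right.1 h7.symm
    have h10 : orderOf (f x) ∣ 2 ^ n := by
      rw [← hx]; exact orderOf_map_dvd f x
    have h11 : orderOf (f x) ∣ 2 ^ (n - 1) - 2 := orderOf_dvd_of_pow_eq_one h8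
    obtain ⟨j, -, hj⟩ := (Nat.dvd_prime_pow Nat.prime_two).1 h10
    refine orderOf_dvd_iff_pow_eq_one.1 ?_
    rw [hj] at h11 ⊢
    rcases Nat.lt_or_ge j 2 with hj2 | hj2
    · exact pow_dvd_pow 2 (show j ≤ 1 by omega)
    · exfalso
      have h12 : 4 ∣ 2 ^ (n - 1) - 2 :=
        (show 2 ^ 2 ∣ 2 ^ j from pow_dvd_pow 2 hj2).trans h11
      have h13 : 4 ∣ 2 ^ (n - 1) := pow_dvd_pow 2 (show 2 ≤ n - 1 by omega)
      omega
  refine hs ((QuotientGroup.eq_one_iff (N := N) (s ^ 2)).1 ?_)
  have key : Subgroup.closure ({x, y} : Set S) ≤ MonoidHom.ker ((powMonoidHom 2).comp f) := by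
    rw [Subgroup.closure_le]
    rintro a (rfl | rfl)
    · simpa using h4
    · have h7 : a ^ 2 = 1 := by rw [← hy]; exact pow_orderOf_eq_one a
      simpa using congrArg f h7
  have h2 := key (hgen ▸ Subgroup.mem_top s)
  simpa [f] using h2

end Exclude

variable {G : Type u} [Group G] [Finite G]

theorem isSolvable_of_complement [Fact (Nat.Prime 2)]
    (hFT : ∀ (K : Type u) [Group K] [Finite K], Odd (Nat.card K) → Group.IsSolvable K)
    (h : Cfsg.HasNormalPComplement 2 G) : Group.IsSolvable G := by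
  obtain ⟨P, K, hK, hc⟩ := h
  have hodd : Odd (Nat.card K) := by
    rw [← hc.index_eq_card]
    exact Nat.odd_iff.2 (Nat.two_dvd_ne_zero.1 P.not_dvd_index)
  haveI := hFT K hodd
  haveI : Group.IsSolvable (G ⧸ K) := by
    have hp : IsPGroup 2 (G ⧸ K) := by
      obtain ⟨k, hk⟩ := P.2.exists_card_eq
      exact IsPGroup.of_card (n := k) (by rw [← Subgroup.index_eq_card, hc.symm.index_eq_card, hk])
    haveI := hp.isNilpotent
    infer_instance
  exact solvable_of_ker_le_range K.subtype (QuotientGroup.mk' K) (by simp)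

/-- The main theorem, given that groups of odd order are solvable. -/
theorem isSolvable
    (hFT : ∀ (K : Type u) [Group K] [Finite K], Odd (Nat.card K) → Group.IsSolvable K)
    (S : Sylow 2 G) (N : Subgroup ↥(S : Subgroup G)) [N.Normal] (hNc : IsCyclic N)
    (hQc : IsCyclic (↥(S : Subgroup G) ⧸ N)) (hQ : 2 < Nat.card (↥(S : Subgroup G) ⧸ N)) :
    Group.IsSolvable G := by
  haveI : Fact (Nat.Prime 2) := ⟨Nat.prime_two⟩
  by_cases hcyc : IsCyclic ↥(S : Subgroup G)
  · -- Burnside's transfer
    have hlt : 1 < Nat.card (S : Subgroup G) := by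
      have := Subgroup.card_quotient_dvd_card N
      have := Nat.le_of_dvd Nat.card_pos this
      omega
    have heven : 2 ∣ Nat.card G := by
      obtain ⟨k, hk⟩ := S.2.exists_card_eq
      rcases k with _ | k
      · omega
      · exact (Dvd.intro_left (2 ^ k) (by rw [hk, pow_succ])).trans S.1.card_subgroup_dvd_card
    have hmin : (Nat.card G).minFac = 2 := (Nat.minFac_eq_two_iff _).2 heven
    exact isSolvable_of_complement hFT ⟨S, _, inferInstance, IsCyclic.isComplement' hmin hcyc⟩
  have hm : Cfsg.IsMetacyclic ↥(S : Subgroup G) := ⟨N, inferInstance, hNc, hQc⟩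
  by_cases hhom : ∃ n k : ℕ, Nonempty (↥(S : Subgroup G) ≃* Multiplicative (Fin k → ZMod (2 ^ n)))
  · obtain ⟨n, k, ⟨e⟩⟩ := hhom
    -- two generators force rank two
    have hexp : ∀ x : ↥(S : Subgroup G), x ^ (2 ^ n) = 1 := fun x => e.injective (by
      rw [map_pow, map_one]
      refine Multiplicative.toAdd.injective (funext fun i => ?_)
      show (2 ^ n) • (Multiplicative.toAdd (e x) i) = 0
      rw [nsmul_eq_mul, ZMod.natCast_self, zero_mul])
    have hcard : Nat.card ↥(S : Subgroup G) = 2 ^ (n * k) := by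
      rw [Nat.card_congr e.toEquiv, Nat.card_congr Multiplicative.toAdd, Nat.card_fun,
        Nat.card_zmod, Nat.card_fin, pow_mul]
    have hN : Nat.card N ∣ 2 ^ n := by
      obtain ⟨g, hg⟩ := hNc.exists_generator
      rw [← orderOf_eq_card_of_forall_mem_zpowers hg]
      exact orderOf_dvd_of_pow_eq_one (Subtype.ext (by simpa using hexp g))
    have hQd : Nat.card (↥(S : Subgroup G) ⧸ N) ∣ 2 ^ n := by
      obtain ⟨g, hg⟩ := hQc.exists_generator
      rw [← orderOf_eq_card_of_forall_mem_zpowers hg]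
      obtain ⟨g, rfl⟩ := QuotientGroup.mk_surjective g
      exact orderOf_dvd_of_pow_eq_one (by rw [← QuotientGroup.mk_pow, hexp]; rfl)
    have hn2 : 2 ≤ n := by
      rcases n with _ | _ | n
      · have := Nat.le_of_dvd one_pos hQd; omega
      · have := Nat.le_of_dvd two_pos hQd; omega
      · omega
    have hk2 : k ≤ 2 := by
      have h1 : Nat.card ↥(S : Subgroup G) ∣ 2 ^ n * 2 ^ n := by
        rw [N.card_eq_card_quotient_mul_card_subgroup]
        exact mul_dvd_mul hQd hN
      rw [hcard, ← pow_add, Nat.pow_dvd_pow_iff_le_right (by norm_num)] at h1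
      by_contra hk
      have : n * 3 ≤ n * k := Nat.mul_le_mul_left n (by omega)
      omega
    have hk : k = 2 := by
      rcases k with _ | _ | k
      · exfalso
        refine hcyc ?_
        haveI : Subsingleton ↥(S : Subgroup G) := e.toEquiv.subsingleton
        infer_instance
      · exfalso
        refine hcyc (e.isCyclic.2 ?_)
        exact (AddEquiv.toMultiplicative (LinearEquiv.funUnique (Fin 1) ℕ
          (ZMod (2 ^ n))).toAddEquiv).isCyclic.2 inferInstance
      · omega
    subst hk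
    -- Brauer's theorem modulo the odd core
    let f := QuotientGroup.mk' (Cfsg.oddCore G)
    have hf : Function.Surjective f := QuotientGroup.mk'_surjective _
    let P := S.mapSurjective hf
    have hinj : Function.Injective (f.subgroupMap (S : Subgroup G)) := by
      rw [← MonoidHom.ker_eq_bot_iff, eq_bot_iff]
      intro x hx
      rw [MonoidHom.mem_ker] at hx
      have hx' : (x : G) ∈ Cfsg.oddCore G :=
        (QuotientGroup.eq_one_iff _).1 (congrArg Subtype.val hx)
      rw [Subgroup.mem_bot]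
      apply orderOf_eq_one_iff.1
      obtain ⟨j, hj⟩ := IsPGroup.iff_orderOf.1 S.2 x
      have h1 : orderOf (x : G) ∣ Nat.card (Cfsg.oddCore G) := Subgroup.orderOf_dvd_natCard _ hx'
      rw [Subgroup.orderOf_coe, hj] at h1
      rw [hj]
      exact Nat.eq_one_of_dvd_coprimes
        (Nat.Coprime.pow_left j (Nat.coprime_two_left.2 InvChar.Core.odd_card_oddCore)) dvd_rfl h1
    let e2 : (P : Subgroup (G ⧸ Cfsg.oddCore G)) ≃* Multiplicative (ZMod (2 ^ n) × ZMod (2 ^ n)) :=
      (MulEquiv.subgroupCongr (Sylow.coe_mapSurjective hf S)).trans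
        ((MulEquiv.ofBijective _ ⟨hinj, f.subgroupMap_surjective _⟩).symm.trans
          (e.trans (AddEquiv.toMultiplicative
            (LinearEquiv.finTwoArrow ℕ (ZMod (2 ^ n))).toAddEquiv)))
    obtain ⟨hPn, -, hidx⟩ := Cfsg.Agent.S0949.result P n hn2 e2 fun M hM hodd => by
      have := InvChar.Core.le_oddCore hM hodd
      rwa [InvChar.Core.oddCore_quotient_oddCore_eq_bot, le_bot_iff] at this
    haveI := hPn
    haveI := hFT (Cfsg.oddCore G) InvChar.Core.odd_card_oddCore
    haveI : Group.IsSolvable (G ⧸ Cfsg.oddCore G) := by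
      haveI : Group.IsSolvable (P : Subgroup (G ⧸ Cfsg.oddCore G)) := by
        haveI := P.2.isNilpotent
        infer_instance
      haveI : Group.IsSolvable ((G ⧸ Cfsg.oddCore G) ⧸ (P : Subgroup (G ⧸ Cfsg.oddCore G))) := by
        rcases hidx with h | h
        · rw [Subgroup.index_eq_card] at h
          haveI := (Nat.card_eq_one_iff_unique.1 h).1
          infer_instance
        · rw [Subgroup.index_eq_card] at h
          haveI : Fact (Nat.Prime 3) := ⟨Nat.prime_three⟩
          haveI := (IsPGroup.of_card (p := 3) (n := 1) (by rw [h, pow_one]) :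
            IsPGroup 3 ((G ⧸ Cfsg.oddCore G) ⧸ (P : Subgroup (G ⧸ Cfsg.oddCore G)))).isNilpotent
          infer_instance
      exact solvable_of_ker_le_range (P : Subgroup (G ⧸ Cfsg.oddCore G)).subtype
        (QuotientGroup.mk' (P : Subgroup (G ⧸ Cfsg.oddCore G))) (by simp)
    exact solvable_of_ker_le_range (Cfsg.oddCore G).subtype f (by simp [f])
  -- no fusion
  have hin := Cfsg.Agent.S5212.result S.2 (Cfsg.groupFusionSystem (S : Subgroup G))
    (Cfsg.Agent.Fusion.Group.group_saturated S) hm hhom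
    (not_dihedral N hQc hQ) (not_quaternion N hQc hQ hcyc S.2) (not_quasiDihedral N hQc hQ)
  refine isSolvable_of_complement hFT (Cfsg.Agent.Transfer.Frobenius.hasNormalPComplement_of_condition
    (Cfsg.Agent.Transfer.Frobenius.Condition.of_sylow S fun Q hQS g hg ho => ?_))
  let φ : Q →* G := (MulAut.conj g).toMonoidHom.comp Q.subtype
  have hφ : φ ∈ (Cfsg.groupFusionSystem (S : Subgroup G)).Hom Q :=
    ⟨hQS, fun x => hQS ((Subgroup.mem_normalizer_iff.1 hg x).1 x.2), g, fun x => rfl⟩
  rw [hin Q] at hφ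
  obtain ⟨-, s, hs, hsφ⟩ := hφ
  have hsn : s ∈ Subgroup.normalizer (Q : Set G) := by
    rw [Subgroup.mem_normalizer_iff]
    intro x
    constructor
    · intro hx
      have := hsφ ⟨x, hx⟩
      simp only [φ, MonoidHom.comp_apply, Subgroup.coe_subtype, MulEquiv.coe_toMonoidHom,
        MulAut.conj_apply] at this
      rw [← this]
      exact (Subgroup.mem_normalizer_iff.1 hg x).1 hx
    · intro hx
      obtain ⟨y, hy, hyx⟩ : ∃ y ∈ Q, g * y * g⁻¹ = s * x * s⁻¹ :=
        ⟨g⁻¹ * (s * x * s⁻¹) * g, (Subgroup.mem_normalizer_iff''.1 hg _).1 hx, by group⟩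
      have := hsφ ⟨y, hy⟩
      simp only [φ, MonoidHom.comp_apply, Subgroup.coe_subtype, MulEquiv.coe_toMonoidHom,
        MulAut.conj_apply] at this
      rw [hyx] at this
      have hxy : x = y := mul_left_cancel (mul_right_cancel this)
      exact hxy ▸ hy
  let a : MulAut Q := Q.normalizerMonoidHom ⟨g, hg⟩
  have hab : a = Q.normalizerMonoidHom ⟨s, hsn⟩ := MulEquiv.ext fun x => Subtype.ext (by
    exact hsφ x)
  have h1 : orderOf a ∣ orderOf g := by
    refine (orderOf_map_dvd _ _).trans ?_
    rw [← Subgroup.orderOf_coe]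
  have h2 : orderOf a ∣ orderOf s := by
    rw [hab]
    refine (orderOf_map_dvd _ _).trans ?_
    rw [← Subgroup.orderOf_coe]
  obtain ⟨j, hj⟩ := IsPGroup.iff_orderOf.1 S.2 ⟨s, hs⟩
  rw [Subgroup.orderOf_mk] at hj
  have ha : a = 1 := orderOf_eq_one_iff.1 (Nat.eq_one_of_dvd_coprimes (ho.pow_right j) h1 (hj ▸ h2))
  have : (⟨g, hg⟩ : Subgroup.normalizer (Q : Set G)) ∈ Q.normalizerMonoidHom.ker := ha
  rwa [Subgroup.normalizerMonoidHom_ker, Subgroup.mem_subgroupOf] at this

end Cfsg.Agent.Fusion.MetacyclicSolvable
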