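/-
Simplicity of the 2-fusion system of a simple group with one class of involutions.
-/
import Mathlib
import Cfsg.Agent.Lib.Fusion.TwoGroupAut
import Cfsg.Agent.Lib.Fusion.Group
import Cfsg.Agent.Lib.Fusion.Subsystems
import Cfsg.Agent.Lib.Fusion.Focal

set_option autoImplicit false

namespace Cfsg.Agent.Fusion.OneClass

open Cfsg Cfsg.FusionSystem Cfsg.Agent.Fusion.Basic Cfsg.Agent.Fusion.Saturation
  Cfsg.Agent.Fusion.Group Cfsg.Agent.Fusion.Focal

variable {G : Type*} [Group G] [Finite G]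

/-- The focal subgroup of a Sylow subgroup of a simple group of non-prime order is everything. -/
theorem focal_eq_top [IsSimpleGroup G] {p : ℕ} [Fact p.Prime] (S : Sylow p G)
    (hG : ¬ IsPGroup p G) :
    (groupFusionSystem (S : Subgroup G)).focalSubgroup = (S : Subgroup G) := by
  have hK : pResidual p G = ⊤ := by
    have hn : (pResidual p G).Normal := inferInstance
    refine hn.eq_bot_or_eq_top.resolve_left fun h => hG ?_
    intro g
    have hg0 : orderOf g ≠ 0 := (orderOf_pos g).ne'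
    obtain ⟨e, m, hm, hem⟩ := Nat.exists_eq_pow_mul_and_not_dvd hg0 p (Fact.out : p.Prime).ne_one
    refine ⟨e, ?_⟩
    have ho : orderOf (g ^ p ^ e) = m := by
      rw [orderOf_pow, hem, Nat.gcd_mul_right_left,
        Nat.mul_div_cancel_left _ (pow_pos (Fact.out : p.Prime).pos e)]
    have h1 : g ^ p ^ e ∈ pResidual p G := Subgroup.subset_closure
      (show (orderOf (g ^ p ^ e)).Coprime p by
        rw [ho]; exact ((Fact.out : p.Prime).coprime_iff_not_dvd.2 hm).symm)
    rwa [h, Subgroup.mem_bot] at h1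
  have h1 : (groupFusionSystem (S : Subgroup G)).hyperfocalSubgroup p = (S : Subgroup G) := by
    rw [hyp_group, hK, inf_top_eq]
  refine le_antisymm ?_ (h1.ge.trans hyp_le_focal)
  rw [focal_eq S.2 (group_saturated S), h1]
  exact sup_le le_rfl ((Subgroup.commutator_le_self _))

/-- A simple group with one class of involutions whose Sylow 2-subgroup is generated by an element
and an involution, the subgroup of involutions having index at most two. -/
theorem isSimple_of_one_class [IsSimpleGroup G] (hG : ¬ IsPGroup 2 G) (S : Sylow 2 G)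
    (hA : IsPGroup 2 (MulAut (S : Subgroup G))) {x y : G}
    (hgen : Subgroup.zpowers x ⊔ Subgroup.zpowers y = (S : Subgroup G)) (hy : orderOf y = 2)
    (hxy : orderOf (y * x ^ 2) = 2)
    (hclass : ∀ u v : G, orderOf u = 2 → orderOf v = 2 → IsConj u v) :
    (groupFusionSystem (S : Subgroup G)).IsSimple 2 := by
  have : Fact (Nat.Prime 2) := ⟨Nat.prime_two⟩
  have hsat := group_saturated S
  have hxS : x ∈ (S : Subgroup G) := hgen ▸ Subgroup.mem_sup_left (Subgroup.mem_zpowers x)
  have hyS : y ∈ (S : Subgroup G) := hgen ▸ Subgroup.mem_sup_right (Subgroup.mem_zpowers y)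
  refine Subsystems.simple_of_no_stronglyClosed hsat (fun h => ?_)
    (TwoGroupAut.autGroup_eq_inn S.2 hsat hA) fun T hT => ?_
  · rw [h, Subgroup.mem_bot] at hyS
    simp [hyS] at hy
  by_cases hT1 : T = ⊥
  · exact Or.inl hT1
  right
  obtain ⟨t, htT, ht⟩ : ∃ t ∈ T, orderOf t = 2 := by
    have : Nontrivial T := (Subgroup.nontrivial_iff_ne_bot T).2 hT1
    obtain ⟨j, hj, hcard⟩ := (S.2.to_le hT.1).nontrivial_iff_card.1 inferInstance
    obtain ⟨w, hw⟩ := exists_prime_orderOf_dvd_card' (G := T) 2 (hcard ▸ dvd_pow_self 2 (by omega))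
    exact ⟨w, w.2, by rw [Subgroup.orderOf_coe, hw]⟩
  have hinv : ∀ i ∈ (S : Subgroup G), orderOf i = 2 → i ∈ T := by
    intro i hi hi2
    obtain ⟨g, hg⟩ := isConj_iff.1 (hclass t i ht hi2)
    have hm : IsMap (groupFusionSystem (S : Subgroup G)) (Subgroup.zpowers t) (cj g) := by
      refine isMap_group_iff.2 ⟨Subgroup.zpowers_le.2 (hT.1 htT), ?_, g, fun _ _ => rfl⟩
      rintro _ ⟨j, rfl⟩
      show g * t ^ j * g⁻¹ ∈ _
      rw [← conj_zpow, hg]
      exact Subgroup.zpow_mem _ hi j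
    rw [← hg]
    exact Normal.stronglyClosed_mem hT hm (Subgroup.mem_zpowers t) htT
  have hyT : y ∈ T := hinv y hyS hy
  have hx2 : x ^ 2 ∈ T := by
    have := T.mul_mem (T.inv_mem hyT) (hinv _ ((S : Subgroup G).mul_mem hyS
      ((S : Subgroup G).pow_mem hxS 2)) hxy)
    rwa [inv_mul_cancel_left] at this
  have hnorm := Normal.le_normalizer_of_stronglyClosed hT
  by_cases hxT : x ∈ T
  · exact le_antisymm hT.1 (hgen ▸ sup_le (Subgroup.zpowers_le.2 hxT) (Subgroup.zpowers_le.2 hyT))
  exfalso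
  have hcos : ∀ z : G, z ∈ (S : Subgroup G) → z ∉ T → z * x⁻¹ ∈ T := by
    intro z hz hzT
    have hz' : z ∈ Subgroup.zpowers x ⊔ T :=
      hgen.ge.trans (sup_le le_sup_left ((Subgroup.zpowers_le.2 hyT).trans le_sup_right)) hz
    rw [← SetLike.mem_coe,
      Subgroup.coe_mul_of_left_le_normalizer_right _ _ ((Subgroup.zpowers_le.2 hxS).trans hnorm)] at hz'
    obtain ⟨_, ⟨k, rfl⟩, b, hb, rfl⟩ := hz'
    rcases Int.even_or_odd k with ⟨j, rfl⟩ | ⟨j, rfl⟩
    · refine absurd (T.mul_mem ?_ hb) hzT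
      simp only
      rw [← two_mul, zpow_mul, show x ^ (2 : ℤ) = x ^ (2 : ℕ) from zpow_natCast x 2]
      exact T.zpow_mem hx2 j
    · simp only
      rw [zpow_add, zpow_mul, show x ^ (2 : ℤ) = x ^ (2 : ℕ) from zpow_natCast x 2, zpow_one,
        mul_assoc, mul_assoc]
      refine T.mul_mem (T.zpow_mem hx2 j) ?_
      rw [← mul_assoc]
      exact (Subgroup.mem_normalizer_iff.1 (hnorm hxS) b).1 hb
  have hfoc : (groupFusionSystem (S : Subgroup G)).focalSubgroup ≤ T := by
    rw [focalSubgroup, Subgroup.closure_le]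
    rintro _ ⟨P, φ, z, hφ, rfl⟩
    have hm := IsMap.of_hom hφ
    rw [SetLike.mem_coe, ← ext_apply φ z]
    by_cases hzT : (z : G) ∈ T
    · exact T.mul_mem (T.inv_mem hzT) (Normal.stronglyClosed_mem hT hm z.2 hzT)
    · have hz' : ext φ z ∉ T := fun h => hzT (by
        obtain ⟨k, hk, -, hkf, -⟩ := hm.exists_inv
        have := Normal.stronglyClosed_mem hT hk (mem_img_self _ z.2) h
        rwa [hkf _ z.2] at this)
      have h1 := T.mul_mem (T.inv_mem (hcos _ (hm.le z.2) hzT)) (hcos _ (hm.mem z.2) hz')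
      rw [show ((z : G) * x⁻¹)⁻¹ * (ext φ z * x⁻¹) = x * ((z : G)⁻¹ * ext φ z) * x⁻¹ by group] at h1
      exact (Subgroup.mem_normalizer_iff.1 (hnorm hxS) _).2 h1
  rw [focal_eq_top S hG] at hfoc
  exact hxT (hfoc hxS)

end Cfsg.Agent.Fusion.OneClass
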