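/-
Fusion systems of `p`-solvable groups.
-/
import Mathlib
import Cfsg.Agent.Lib.Fusion.ModelUnique
import Cfsg.Agent.Lib.Fusion.SylIn
import Cfsg.Agent.Lib.PLocal.PSolvable

set_option autoImplicit false

namespace Cfsg.Agent.Fusion.PSolvableModel

open Cfsg Cfsg.FusionSystem Cfsg.Agent.Fusion.Basic Cfsg.Agent.Fusion.Saturation
  Cfsg.Agent.Fusion.ModelUnique Cfsg.Agent.Fusion.SylIn

universe u

variable {p : ℕ}

/-- An extension of a `p`-solvable group by a `p`-group is `p`-solvable. -/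
theorem isPSolvable_of_pGroup_ker [Fact p.Prime] {G H : Type*} [Group G] [Group H] [Finite G]
    (f : G →* H) (hf : Function.Surjective f) (hker : IsPGroup p f.ker)
    (h : IsPSolvable p H) : IsPSolvable p G := by
  obtain ⟨n, A, h0, h1, hmono, hn, hi⟩ := h
  obtain ⟨k, hk⟩ := IsPGroup.iff_card.1 hker
  have hmono' : Monotone (Fin.cons (⊥ : Subgroup G) fun i => (A i).comap f) := by
    refine Fin.monotone_iff_le_succ.2 fun i => ?_
    refine Fin.cases ?_ (fun i => ?_) i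
    · simp
    · rw [Fin.castSucc_succ, Fin.cons_succ, Fin.cons_succ]
      exact Subgroup.comap_mono (hmono (Fin.castSucc_le_succ i))
  refine ⟨n + 1, Fin.cons ⊥ fun i => (A i).comap f, Fin.cons_zero _ _, ?_, hmono',
    fun i => ?_, fun i => ?_⟩
  · rw [← Fin.succ_last, Fin.cons_succ, h1, Subgroup.comap_top]
  · refine Fin.cases ?_ (fun i => ?_) i
    · rw [Fin.cons_zero]
      infer_instance
    · rw [Fin.cons_succ]
      exact (hn i).comap f
  · refine Fin.cases ?_ (fun i => ?_) i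
    · rw [Fin.castSucc_zero, Fin.cons_zero, Fin.cons_succ, h0, MonoidHom.comap_bot,
        Subgroup.relIndex_bot_left]
      exact Or.inl ⟨k, hk⟩
    · rw [Fin.castSucc_succ, Fin.cons_succ, Fin.cons_succ, Subgroup.relIndex_comap,
        Subgroup.map_comap_eq_self_of_surjective hf]
      exact hi i

variable {Ω : Type u} [Group Ω] {S : Subgroup Ω} {F : FusionSystem S}

/-- Dividing by a normal `p'`-subgroup does not change the realized system. -/
theorem realized_quotient [Finite S] [Fact p.Prime] (hS : IsPGroup p S) {G : Type*} [Group G]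
    [Finite G] {ι : S →* G} (hr : F.IsRealizedBy ι) {T : Sylow p G}
    (hT : (T : Subgroup G) = ι.range) (K : Subgroup G) [K.Normal]
    (hK : (Nat.card K).Coprime p) :
    F.IsRealizedBy ((QuotientGroup.mk' K).comp ι) ∧
      ∃ T' : Sylow p (G ⧸ K), (T' : Subgroup (G ⧸ K)) = ((QuotientGroup.mk' K).comp ι).range := by
  have hAp : IsPGroup p ι.range :=
    hS.of_surjective ι.rangeRestrict ι.rangeRestrict_surjective
  have hSylA : SylIn p ι.range ⊤ := hT ▸ of_sylow T
  have hinjK : ∀ a b : S, (QuotientGroup.mk (ι a) : G ⧸ K) = QuotientGroup.mk (ι b) → a = b :=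
    fun a b h => hr.1 (inv_mul_eq_one.1 (Subgroup.mem_bot.1
      ((Cfsg.Agent.PLocal.Cores.inf_eq_bot_of_isPGroup_of_coprime hAp hK).le
        (Subgroup.mem_inf.2 ⟨ι.range.mul_mem (ι.range.inv_mem ⟨a, rfl⟩) ⟨b, rfl⟩,
          QuotientGroup.eq.1 h⟩))))
  refine ⟨⟨fun a b h => hinjK a b h, fun P hP φ hφ => ⟨fun h => ?_, ?_⟩⟩, ?_⟩
  · obtain ⟨g, hg⟩ := (hr.2 P hP φ hφ).1 h
    exact ⟨QuotientGroup.mk g, fun x => congrArg (QuotientGroup.mk' K) (hg x)⟩
  · rintro ⟨γ, hγ⟩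
    obtain ⟨g, rfl⟩ := QuotientGroup.mk_surjective γ
    set M := img (cj g) ((P.subgroupOf S).map ι) with hM
    have hMle : M ≤ ι.range ⊔ K := by
      refine img_le fun y hy => ?_
      obtain ⟨x, hx, rfl⟩ := hy
      have h1 : (ι ⟨φ ⟨(x : Ω), hx⟩, hφ _⟩)⁻¹ * (g * ι x * g⁻¹) ∈ K :=
        QuotientGroup.eq.1 (hγ ⟨(x : Ω), hx⟩)
      have hA' : ι ⟨φ ⟨(x : Ω), hx⟩, hφ _⟩ ∈ ι.range := ⟨_, rfl⟩
      have h2 := Subgroup.mul_mem _ (Subgroup.mem_sup_left (T := K) hA')
        (Subgroup.mem_sup_right h1)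
      rwa [mul_inv_cancel_left] at h2
    have hMp : IsPGroup p M := isPGroup_img_cj ((hS.to_subgroup _).map ι)
    obtain ⟨m, hm, hmle⟩ := (hSylA.mono le_sup_left le_top).exists_conj hMle hMp
    obtain ⟨a, ha, k, hk, rfl⟩ := Subgroup.mem_sup_of_normal_right.1 hm
    refine (hr.2 P hP φ hφ).2 ⟨k * g, fun x => ?_⟩
    obtain ⟨t, ht⟩ : k * g * ι ⟨x, hP x.2⟩ * (k * g)⁻¹ ∈ ι.range := by
      have h1 := hmle (mem_img_self (cj (a * k)) (mem_img_self (cj g)
        (⟨⟨x, hP x.2⟩, x.2, rfl⟩ : ι ⟨x, hP x.2⟩ ∈ (P.subgroupOf S).map ι)))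
      have h2 := mul_mem (mul_mem (inv_mem ha) h1) ha
      simpa [cj, mul_assoc] using h2
    rw [← ht]
    refine congrArg ι (hinjK _ _ ?_)
    refine (hγ x).trans ?_
    rw [ht]
    simp [(QuotientGroup.eq_one_iff k).2 hk]
  · refine ⟨T.mapSurjective (QuotientGroup.mk'_surjective K), ?_⟩
    rw [Sylow.coe_mapSurjective, hT, MonoidHom.map_range]

theorem psolvable_iff [Finite S] [Fact p.Prime] {Q : Subgroup Ω} {G : Type*} [Group G]
    {ι : S →* G} (m : MSetting F p Q ι) : IsPSolvable p G ↔ IsPSolvable p (F.autGroup Q) := by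
  have := m.finite
  refine ⟨fun h => Cfsg.Agent.PLocal.PSolvable.of_surjective h (actHom_surjective m),
    isPSolvable_of_pGroup_ker (actHom m) (actHom_surjective m) ?_⟩
  rintro ⟨g, hg⟩
  obtain ⟨z, rfl⟩ := mem_ker_actHom m hg
  obtain ⟨k, hk⟩ := m.setting.pgroup (z : S)
  exact ⟨k, Subtype.ext (by simp [← map_pow, hk])⟩

theorem realized_by_psolvable_iff [Finite S] [Fact p.Prime] (hS : IsPGroup p S) :
    (∃ (G : Type u) (_ : Group G) (_ : Finite G) (ι : S →* G), IsPSolvable p G ∧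
      F.IsRealizedBy ι ∧ ∃ T : Sylow p G, (T : Subgroup G) = ι.range) ↔
    (F.IsConstrained p ∧ IsPSolvable p ↥(F.autGroup F.core)) := by
  constructor
  · rintro ⟨G, _, _, ι, hsol, hr, T, hT⟩
    have hchar := Cfsg.Agent.PLocal.Cores.pPrimeCore_characteristic (p := p) (G := G)
    have hn : (pPrimeCore p G).Normal := inferInstance
    obtain ⟨hr', hT'⟩ := realized_quotient hS hr hT (pPrimeCore p G)
      Cfsg.Agent.PLocal.Cores.coprime_card_pPrimeCore
    have hsol' : IsPSolvable p (G ⧸ pPrimeCore p G) := Cfsg.Agent.PLocal.PSolvable.quotient hsol _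
    have hm : F.IsModel p (G ⧸ pPrimeCore p G) ((QuotientGroup.mk' (pPrimeCore p G)).comp ι) :=
      ⟨inferInstance, hr', hT', Cfsg.Agent.PLocal.PSolvable.centralizer_pCore_le
        Cfsg.Agent.PLocal.Cores.pPrimeCore_quotient_pPrimeCore
        (Cfsg.Agent.PLocal.PSolvable.subgroup hsol' _)⟩
    exact ⟨Cfsg.Agent.Fusion.Constrained.model_constrained hS hm,
      (psolvable_iff (model_mSetting hS hm)).1 hsol'⟩
  · rintro ⟨hc, hA⟩
    obtain ⟨G, _, ι, hm⟩ := Cfsg.Agent.Fusion.Model.exists_model hS hc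
    exact ⟨G, inferInstance, hm.1, ι, (psolvable_iff (model_mSetting hS hm)).2 hA, hm.2.1, hm.2.2.1⟩

end Cfsg.Agent.Fusion.PSolvableModel
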