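import Cfsg.Agent.Lib.Fusion.Alperin
import Cfsg.Agent.Lib.Fusion.ComponentTransport

/-!
Isomorphisms of fusion systems carry essential subgroups to essential subgroups, and a system
with trivial core to a system with no non-trivial normal subgroup.
-/

set_option autoImplicit false
set_option linter.unusedSectionVars false
set_option linter.style.haveILetI false

namespace Cfsg.Agent.Fusion.PushEssential

open Cfsg Cfsg.FusionSystem Cfsg.Agent.Fusion.Basic Cfsg.Agent.Fusion.Saturation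
  Cfsg.Agent.Fusion.Transport Cfsg.Agent.Fusion.Alperin

variable {Ω Ω' : Type*} [Group Ω] [Group Ω'] {S : Subgroup Ω} {S' : Subgroup Ω'} (e : Iso S S')
  {F : FusionSystem S}

theorem card_im {P : Subgroup Ω} (hP : P ≤ S) : Nat.card (im e.fwd P) = Nat.card P := by
  refine (Nat.card_eq_of_bijective (fun x : P => (⟨e.fwd x, mem_im_self _ x.2⟩ : im e.fwd P))
    ⟨fun a b h => ?_, fun y => ?_⟩).symm
  · refine Subtype.ext ?_
    rw [← e.inv_to a (hP a.2), ← e.inv_to b (hP b.2)]
    exact congrArg e.bwd (congrArg Subtype.val h)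
  · obtain ⟨x, hx, he⟩ := (e.mem_img hP).1 y.2
    exact ⟨⟨x, hx⟩, Subtype.ext he⟩

variable [Finite S]

theorem im_normalizerIn {P : Subgroup Ω} (hP : P ≤ S) :
    im e.fwd (normalizerIn S P) = normalizerIn S' (im e.fwd P) := by
  haveI := e.finite
  haveI : Finite P := finite_of_le hP
  haveI : Finite (im e.fwd P : Subgroup Ω') := finite_of_le (e.img_le hP)
  refine le_antisymm (im_le fun x hx => ⟨e.to_mem x hx.1, ?_⟩) fun y hy => ?_
  · refine mem_normalizer_of_forall fun v hv => ?_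
    obtain ⟨u, hu, rfl⟩ := (e.mem_img hP).1 hv
    rw [← e.to_map_inv hx.1, ← e.to_mul _ hx.1 _ (hP hu),
      ← e.to_mul _ (S.mul_mem hx.1 (hP hu)) _ (S.inv_mem hx.1)]
    exact mem_im_self _ ((Subgroup.mem_normalizer_iff.1 hx.2 u).1 hu)
  · rw [← e.to_inv y hy.1]
    refine mem_im_self _ ⟨e.inv_mem y hy.1, mem_normalizer_of_forall fun u hu => ?_⟩
    have hu' := hP hu
    have h1 := (Subgroup.mem_normalizer_iff.1 hy.2 (e.fwd u)).1 (mem_im_self _ hu)
    have hyS := e.inv_mem y hy.1
    rw [← e.inv_mem_iff hP (e.img_le hP h1)] at h1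
    rwa [← e.to_inv y hy.1, ← e.to_map_inv hyS, ← e.to_mul _ hyS _ hu',
      ← e.to_mul _ (S.mul_mem hyS hu') _ (S.inv_mem hyS),
      e.inv_to _ (S.mul_mem (S.mul_mem hyS hu') (S.inv_mem hyS))] at h1

theorem fullyNormalized {E : Subgroup Ω} (hE : F.IsFullyNormalized E) :
    (push e F).IsFullyNormalized (im e.fwd E) := by
  refine ⟨e.img_le hE.1, fun R hR => ?_⟩
  obtain ⟨f', hf', rfl⟩ := isConj_iff_map.1 hR
  obtain ⟨-, hS', hm⟩ := (isMap_push_iff e).1 hf'
  rw [e.img_img hE.1] at hm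
  set g := fun x => e.bwd (f' (e.fwd x)) with hg
  have himg : img f' (im e.fwd E) = im e.fwd (img g E) := by
    refine le_antisymm (img_le fun y hy => ?_) (im_le fun x hx => ?_)
    · obtain ⟨x, hx, rfl⟩ := (e.mem_img hE.1).1 hy
      rw [← e.to_inv (f' (e.fwd x)) (hS' _ (mem_im_self _ hx))]
      exact mem_im_self _ (mem_img_self _ hx)
    · obtain ⟨z, hz, rfl⟩ := hm.mem_img.1 hx
      rw [hg, e.to_inv _ (hS' _ (mem_im_self _ hz))]
      exact mem_img_self _ (mem_im_self _ hz)
  rw [himg, ← im_normalizerIn e hm.img_le_S, ← im_normalizerIn e hE.1, card_im e normalizerIn_le,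
    card_im e normalizerIn_le]
  exact hE.2 _ hm.isConj

variable {p : ℕ} [Fact p.Prime]

theorem essential (hS : IsPGroup p S) (hF : F.IsSaturated p) {E : Subgroup Ω}
    (hE : F.IsEssential p E) : (push e F).IsEssential p (im e.fwd E) := by
  have hlt := essential_lt hS hF hE
  have hES := hlt.le
  haveI := e.finite
  have hlt' : im e.fwd E < S' := lt_of_le_of_ne (e.img_le hES) fun h => hlt.ne <| by
    rw [← e.img_img hES, h]; exact e.symm.img_self
  rw [essential_iff (e.isPGroup hS) (push_saturated e hS hF) hlt' (fullyNormalized e hE.2.1)]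
  intro heq
  refine (essential_iff hS hF hlt hE.2.1).1 hE (le_antisymm (extGroup_le hES) fun α hα => ?_)
  let θ : (im e.fwd E : Subgroup Ω') ≃* E :=
    { toFun := fun y => ⟨e.bwd y, (e.inv_mem_iff hES (e.img_le hES y.2)).2 y.2⟩
      invFun := fun x => ⟨e.fwd x, mem_im_self _ x.2⟩
      left_inv := fun y => Subtype.ext (e.to_inv y (e.img_le hES y.2))
      right_inv := fun x => Subtype.ext (e.inv_to x (hES x.2))
      map_mul' := fun a b => Subtype.ext (e.inv_mul a (e.img_le hES a.2) b (e.img_le hES b.2)) }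
  have hle : (extGroup (push e F) (im e.fwd E)).map (MulAut.congr θ).toMonoidHom ≤ extGroup F E := by
    rw [extGroup, MonoidHom.map_closure, Subgroup.closure_le]
    rintro _ ⟨β, ⟨Q', f', hQ', hf', he⟩, rfl⟩
    obtain ⟨hQS, hS', hm⟩ := (isMap_push_iff _).1 hf'
    refine Subgroup.subset_closure ⟨im e.bwd Q', _, ?_, hm, fun x hx => ?_⟩
    · refine lt_of_le_of_ne ?_ fun h => hQ'.ne ?_
      · rw [← e.img_img hES]; exact im_mono _ hQ'.le
      · rw [h]; exact e.img_symm hQS
    · show e.bwd (f' (e.fwd x)) = _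
      rw [he _ (mem_im_self _ hx), autFun_of_mem _ hx, autFun_of_mem _ (mem_im_self _ hx)]
      rfl
  obtain ⟨β, hβ, hβe⟩ := exists_aut_push e hES hα
  have h := hle ⟨β, heq.ge hβ, rfl⟩
  have : MulAut.congr θ β = α := by
    refine MulEquiv.ext fun x => Subtype.ext ?_
    show e.bwd ((β ⟨e.fwd x, mem_im_self _ x.2⟩ : (im e.fwd E : Subgroup Ω')) : Ω') = _
    rw [← autFun_of_mem β (mem_im_self e.fwd x.2), hβe x x.2, e.inv_to _ (hES (autFun_mem α x.2)),
      autFun_apply]
  exact this ▸ h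

theorem eq_bot_of_core (hO : F.core = ⊥) {Q : Subgroup Ω'} (hQ : (push e F).IsNormal Q) : Q = ⊥ := by
  have h := ComponentTransport.push_normal e.symm hQ
  rw [push_push] at h
  have hb : im e.symm.fwd Q = ⊥ := le_bot_iff.1 (hO ▸ le_sSup h)
  rw [← e.img_symm hQ.1, ← e.symm_fwd, hb, im_bot]

end Cfsg.Agent.Fusion.PushEssential
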