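/-
`Qd(p)`-freeness of a group and of its fusion system.
-/
import Mathlib
import Cfsg.Agent.Lib.Fusion.QuotientModel
import Cfsg.Agent.Lib.Fusion.Group
import Cfsg.Agent.Techniques.SL2.Qd
import Cfsg.Agent.Lib.CharP.QdBasic

set_option autoImplicit false

namespace Cfsg.Agent.Fusion.SectionFreeGroup

open Cfsg Cfsg.FusionSystem Cfsg.Agent.Fusion.Basic Cfsg.Agent.Fusion.Saturation
  Cfsg.Agent.Fusion.Normal Cfsg.Agent.Fusion.Model Cfsg.Agent.Fusion.ModelUnique
  Cfsg.Agent.Fusion.Group Cfsg.Agent.Fusion.SylIn Cfsg.Agent.Fusion.LocalModels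
  Cfsg.Agent.Fusion.NormalizerModel

open Matrix Cfsg.Agent.CharP.QdBasic
open scoped MatrixGroups

universe u

variable {G : Type u} [Group G] [Finite G] {p : ℕ} [Fact p.Prime]

omit [Finite G] in
theorem img_cj_sup (g : G) (A B : Subgroup G) :
    img (cj g) (A ⊔ B) = img (cj g) A ⊔ img (cj g) B := by
  rw [img_cj, img_cj, img_cj, Subgroup.map_sup]

theorem mem_normalizer_of_img {g : G} {A : Subgroup G} (h : img (cj g) A ≤ A) :
    g ∈ Subgroup.normalizer (A : Set G) :=
  mem_normalizer_of_forall fun _ hx => h (mem_img_self (cj g) hx)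

/-- If `G` involves `Qd(p)` then so does, at some centric `p`-subgroup `Q`, every quotient of
`N_G(Q)` by a normal `p'`-subgroup centralizing `Q`. -/
theorem exists_centric_involves (hp : p ≠ 2) (h : Involves ↥(qd p) G) :
    ∃ Q : Subgroup G, IsPGroup p Q ∧
      (∀ x ∈ Subgroup.centralizer (Q : Set G), (∃ k : ℕ, x ^ p ^ k = 1) → x ∈ Q) ∧
      ∀ (K : Subgroup ↥(Subgroup.normalizer (Q : Set G))) [K.Normal], (Nat.card K).Coprime p →
        (∀ k ∈ K, ∀ x ∈ Q, (k : G) * x * (k : G)⁻¹ = x) →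
        Involves ↥(qd p) (↥(Subgroup.normalizer (Q : Set G)) ⧸ K) := by
  classical
  obtain ⟨K₀, f₀, hf₀⟩ := exists_surj h
  let f : K₀ →* ↥(qdOver (ZMod p)) := f₀
  have hf : Function.Surjective f := hf₀
  -- the preimage of the translations
  set V := (trans (F := ZMod p)).range with hV
  have hVn : V.Normal := by
    rw [hV, ← show (linPart (F := ZMod p)).ker = (trans (F := ZMod p)).range from
      SetLike.ext fun _ => mem_ker_linPart_iff]
    exact MonoidHom.normal_ker _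
  have hVp : IsPGroup p V := isPGroup_trans p
  set V₀ := V.comap f with hV₀
  have hV₀n : V₀.Normal := hVn.comap f
  obtain ⟨U₀⟩ : Nonempty (Sylow p V₀) := inferInstance
  set UK : Subgroup K₀ := (U₀ : Subgroup V₀).map V₀.subtype with hUK
  set A := Subgroup.normalizer (UK : Set K₀) with hA
  have hcover : A ⊔ V₀ = ⊤ := Sylow.normalizer_sup_eq_top U₀
  have hlinV : ∀ x : K₀, x ∈ V₀ → linPart (f x) = 1 := fun x hx =>
    MonoidHom.mem_ker.1 (mem_ker_linPart_iff.2 hx)
  have hθA : ∀ M : SL(2, ZMod p), ∃ a ∈ A, linPart (f a) = M := by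
    intro M
    obtain ⟨k, hk⟩ := (linPart_surjective.comp hf) M
    have hk' : k ∈ A ⊔ V₀ := hcover ▸ Subgroup.mem_top k
    obtain ⟨a, ha, v, hv, rfl⟩ := Subgroup.mem_sup_of_normal_right.1 hk'
    refine ⟨a, ha, ?_⟩
    rw [← hk, Function.comp_apply, map_mul, map_mul, hlinV v hv, mul_one]
  -- `U` maps onto the translations
  have hUV : ∀ v : ↥(qdOver (ZMod p)), v ∈ V → ∃ u ∈ UK, f u = v := by
    intro v hv
    have hsurj : Function.Surjective (f.subgroupComap V) :=
      MonoidHom.subgroupComap_surjective_of_surjective f V hf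
    have e : (U₀.mapSurjective hsurj : Subgroup V) = ⊤ :=
      ((U₀.mapSurjective hsurj).is_maximal' (hVp.to_subgroup ⊤) le_top).symm
    obtain ⟨u, hu, hue⟩ := e.ge (Subgroup.mem_top ⟨v, hv⟩)
    exact ⟨u, ⟨u, hu, rfl⟩, congrArg Subtype.val hue⟩
  have hUKV : UK ≤ V₀ := Subgroup.map_subtype_le _
  set U : Subgroup G := UK.map K₀.subtype with hU
  have hUp : IsPGroup p U := (U₀.2.map _).map _
  set D := Subgroup.centralizer (U : Set G) with hD
  obtain ⟨PC₀⟩ : Nonempty (Sylow p D) := inferInstance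
  set PC : Subgroup G := (PC₀ : Subgroup D).map D.subtype with hPC
  have hPCD : PC ≤ D := Subgroup.map_subtype_le _
  have hPCp : IsPGroup p PC := PC₀.2.map _
  have hPCN : PC ≤ Subgroup.normalizer (U : Set G) :=
    hPCD.trans (Subgroup.centralizer_le_normalizer _)
  set Q := U ⊔ PC with hQ
  refine ⟨Q, hUp.to_sup_of_normal_left' hPCp hPCN, fun x hx hxp => ?_, fun K _ hKcop hKcent => ?_⟩
  · -- `Q` is centric
    obtain ⟨k, hk⟩ := hxp
    have hxD : x ∈ D := fun u hu => hx u (Subgroup.mem_sup_left hu)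
    have hzp : IsPGroup p (Subgroup.zpowers x) := by
      rintro ⟨y, hy⟩
      obtain ⟨n, rfl⟩ := Subgroup.mem_zpowers_iff.1 hy
      refine ⟨k, Subtype.ext ?_⟩
      show (x ^ n) ^ p ^ k = 1
      rw [← zpow_natCast, ← _root_.zpow_mul, mul_comm, _root_.zpow_mul, zpow_natCast, hk, _root_.one_zpow]
    have hxN : Subgroup.zpowers x ≤ Subgroup.normalizer (PC : Set G) := by
      rw [Subgroup.zpowers_le]
      exact Subgroup.centralizer_le_normalizer _ fun y hy => hx y (Subgroup.mem_sup_right hy)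
    have hle : PC ⊔ Subgroup.zpowers x ≤ D := sup_le hPCD (by rwa [Subgroup.zpowers_le])
    have heq : ((PC ⊔ Subgroup.zpowers x).subgroupOf D) = (PC₀ : Subgroup D) :=
      PC₀.is_maximal' ((hPCp.to_sup_of_normal_left' hzp hxN).comap_of_injective _
        Subtype.val_injective) fun y hy => Subgroup.mem_sup_left ⟨y, hy, rfl⟩
    refine Subgroup.mem_sup_right ⟨⟨x, hxD⟩, heq.le ?_, rfl⟩
    exact Subgroup.mem_subgroupOf.2 (Subgroup.mem_sup_right (Subgroup.mem_zpowers x))
  -- the acting group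
  have hDA : ∀ a ∈ A, ∀ d ∈ D, (a : G) * d * (a : G)⁻¹ ∈ D := by
    intro a ha d hd
    rintro _ ⟨u, hu, rfl⟩
    have h1 : a⁻¹ * u * a ∈ UK := by
      have := (Subgroup.mem_normalizer_iff.1 (A.inv_mem ha) u).1 hu
      rwa [inv_inv] at this
    have h2 : ((a⁻¹ * u * a : K₀) : G) * d = d * ((a⁻¹ * u * a : K₀) : G) := hd _ ⟨_, h1, rfl⟩
    simp only [Subgroup.coe_mul, Subgroup.coe_inv] at h2
    show (u : G) * ((a : G) * d * (a : G)⁻¹) = (a : G) * d * (a : G)⁻¹ * u
    calc (u : G) * ((a : G) * d * (a : G)⁻¹)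
        = (a : G) * ((a : G)⁻¹ * u * a * d) * (a : G)⁻¹ := by group
      _ = (a : G) * (d * ((a : G)⁻¹ * u * a)) * (a : G)⁻¹ := by rw [h2]
      _ = (a : G) * d * (a : G)⁻¹ * u := by group
  let B : Subgroup G :=
    { carrier := {b | b ∈ Subgroup.normalizer (PC : Set G) ∧
        ∃ a ∈ A, ∃ d ∈ D, b = d * (a : G)}
      one_mem' := ⟨Subgroup.one_mem _, 1, A.one_mem, 1, D.one_mem, by simp⟩
      mul_mem' := by
        rintro b b' ⟨hb, a, ha, d, hd, rfl⟩ ⟨hb', a', ha', d', hd', rfl⟩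
        refine ⟨Subgroup.mul_mem _ hb hb', a * a', A.mul_mem ha ha',
          d * ((a : G) * d' * (a : G)⁻¹), D.mul_mem hd (hDA a ha d' hd'), ?_⟩
        rw [Subgroup.coe_mul]
        group
      inv_mem' := by
        rintro b ⟨hb, a, ha, d, hd, rfl⟩
        refine ⟨Subgroup.inv_mem _ hb, a⁻¹, A.inv_mem ha,
          ((a⁻¹ : K₀) : G) * d⁻¹ * ((a⁻¹ : K₀) : G)⁻¹,
          hDA a⁻¹ (A.inv_mem ha) d⁻¹ (D.inv_mem hd), ?_⟩
        rw [Subgroup.coe_inv]
        group }
  have hconjU : ∀ (a : K₀) (d : G), a ∈ A → d ∈ D → ∀ u ∈ UK,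
      d * (a : G) * (u : G) * (d * (a : G))⁻¹ = ((a * u * a⁻¹ : K₀) : G) := by
    intro a d ha hd u hu
    have h1 : a * u * a⁻¹ ∈ UK := (Subgroup.mem_normalizer_iff.1 ha u).1 hu
    have h2 := hd _ ⟨_, h1, rfl⟩
    simp only [Subgroup.coe_subtype] at h2
    rw [Subgroup.coe_mul, Subgroup.coe_mul, Subgroup.coe_inv] at h2 ⊢
    calc d * (a : G) * (u : G) * (d * (a : G))⁻¹
        = d * ((a : G) * u * (a : G)⁻¹) * d⁻¹ := by group
      _ = (a : G) * u * (a : G)⁻¹ * d * d⁻¹ := by rw [← h2]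
      _ = (a : G) * u * (a : G)⁻¹ := by group
  have hBQ : B ≤ Subgroup.normalizer (Q : Set G) := by
    rintro b ⟨hb, a, ha, d, hd, rfl⟩
    refine mem_normalizer_of_img (le_of_eq ?_)
    have h1 : img (cj (d * (a : G))) PC = PC := img_cj_eq_of_mem_normalizer hb
    have h2 : img (cj (d * (a : G))) U = U := img_cj_eq_of_mem_normalizer (mem_normalizer_of_forall
      (fun y hy => by
        obtain ⟨u, hu, rfl⟩ := hy
        exact ⟨_, (Subgroup.mem_normalizer_iff.1 ha u).1 hu, (hconjU a d ha hd u hu).symm⟩))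
    rw [hQ, img_cj_sup, h1, h2]
  -- every element of `A` is covered
  have hAB : ∀ a ∈ A, ∃ d ∈ D, d * (a : G) ∈ B := by
    intro a ha
    have hp' : IsPGroup p ((img (cj (a : G)) PC).subgroupOf D) :=
      (isPGroup_img_cj hPCp).comap_of_injective _ Subtype.val_injective
    obtain ⟨c, hc⟩ := exists_conj_le_sylow PC₀ hp'
    refine ⟨(c : G), c.2, ?_, a, ha, c, c.2, rfl⟩
    refine mem_normalizer_of_img (img_le fun x hx => ?_)
    have h1 : (a : G) * x * (a : G)⁻¹ ∈ D := hDA a ha x (hPCD hx)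
    have h2 := hc ⟨_, h1⟩ (mem_img_self (cj (a : G)) hx)
    refine ⟨_, h2, ?_⟩
    simp [cj, mul_assoc]
  -- the action on the translations
  have hfix : ∀ a ∈ A, (a : G) ∈ D → linPart (f a) = 1 := by
    intro a ha haD
    obtain ⟨M, x, hMx⟩ := exists_el (f a)
    rw [← hMx, linPart_el]
    refine Subtype.ext (Matrix.ext_iff_mulVec.2 fun y => ?_)
    obtain ⟨u, hu, hue⟩ := hUV (el 1 y) ⟨Multiplicative.ofAdd y, rfl⟩
    have h1 : a * u * a⁻¹ = u := by
      refine Subtype.ext ?_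
      have h := haD _ ⟨u, hu, rfl⟩
      simp only [Subgroup.coe_subtype] at h
      rw [Subgroup.coe_mul, Subgroup.coe_mul, Subgroup.coe_inv, ← h]
      simp
    have h2 := congrArg f h1
    rw [map_mul, map_mul, map_inv, hue, ← hMx, conj_trans] at h2
    rw [(el_inj.1 h2).2, Matrix.SpecialLinearGroup.coe_one, one_mulVec]
  have hwd : ∀ a a' : K₀, a ∈ A → a' ∈ A → ∀ d d' : G, d ∈ D → d' ∈ D →
      d * (a : G) = d' * (a' : G) → linPart (f a) = linPart (f a') := by
    intro a a' ha ha' d d' hd hd' he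
    have h1 : ((a * a'⁻¹ : K₀) : G) ∈ D := by
      rw [Subgroup.coe_mul, Subgroup.coe_inv,
        show (a : G) * (a' : G)⁻¹ = d⁻¹ * d' from by
          rw [mul_inv_eq_iff_eq_mul, mul_assoc, ← he, inv_mul_cancel_left]]
      exact D.mul_mem (D.inv_mem hd) hd'
    have h2 := hfix _ (A.mul_mem ha (A.inv_mem ha')) h1
    rwa [map_mul, map_mul, map_inv, map_inv, mul_inv_eq_one] at h2
  choose aB haB dB hdB hbe using fun b : B => b.2.2
  have hθmul : ∀ b b' : B, linPart (f (aB (b * b'))) =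
      linPart (f (aB b)) * linPart (f (aB b')) := by
    intro b b'
    rw [← map_mul, ← map_mul]
    refine hwd _ _ (haB _) (A.mul_mem (haB b) (haB b')) (dB (b * b'))
      (dB b * ((aB b : G) * dB b' * (aB b : G)⁻¹)) (hdB _)
      (D.mul_mem (hdB b) (hDA _ (haB b) _ (hdB b'))) ?_
    rw [← hbe, Subgroup.coe_mul, hbe b, hbe b', Subgroup.coe_mul]
    group
  let θB : B →* SL(2, ZMod p) := MonoidHom.mk' (fun b => linPart (f (aB b))) hθmul
  have hθBsurj : Function.Surjective θB := fun M => by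
    obtain ⟨a, ha, rfl⟩ := hθA M
    obtain ⟨d, hd, hb⟩ := hAB a ha
    exact ⟨⟨d * a, hb⟩, hwd _ _ (haB _) ha _ _ (hdB _) hd (hbe ⟨d * a, hb⟩).symm⟩
  have hUB : U ≤ B := by
    rintro _ ⟨u, hu, rfl⟩
    refine ⟨?_, u, Subgroup.le_normalizer hu, 1, D.one_mem, (one_mul _).symm⟩
    refine Subgroup.centralizer_le_normalizer _ fun y hy => ?_
    exact ((hPCD hy) _ ⟨u, hu, rfl⟩).symm
  -- the kernels
  let R : Subgroup G := (UK ⊓ f.ker).map K₀.subtype
  let Kb : Subgroup B := K.comap (Subgroup.inclusion hBQ)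
  let Rb : Subgroup B := R.subgroupOf B
  have hKbn : Kb.Normal := Subgroup.Normal.comap inferInstance _
  have hRbn : Rb.Normal := ⟨by
    rintro ⟨x, hxB⟩ hx ⟨b, hb, a, ha, d, hd, rfl⟩
    obtain ⟨r, ⟨hrU, hrf⟩, hre⟩ := hx
    refine ⟨a * r * a⁻¹, ⟨(Subgroup.mem_normalizer_iff.1 ha r).1 hrU,
      (MonoidHom.normal_ker f).conj_mem r hrf a⟩, ?_⟩
    show _ = d * (a : G) * x * (d * (a : G))⁻¹
    rw [← show (r : G) = x from hre, hconjU a d ha hd r hrU]
    rfl⟩
  let M : Subgroup B := Kb ⊔ Rb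
  have hθK : Kb ≤ θB.ker := fun b hb => by
    have hbD : (b : G) ∈ D := fun u hu =>
      (mul_inv_eq_iff_eq_mul.1 (hKcent _ hb u (Subgroup.mem_sup_left hu))).symm
    have := hwd (aB b) 1 (haB b) A.one_mem (dB b) b (hdB b) hbD (by
      rw [← hbe b]; simp)
    rwa [map_one, map_one] at this
  have hθR : Rb ≤ θB.ker := fun b hb => by
    obtain ⟨r, ⟨hrU, hrf⟩, hre⟩ := hb
    have := hwd (aB b) r (haB b) (Subgroup.le_normalizer hrU) (dB b) 1 (hdB b) D.one_mem (by
      rw [← hbe b, one_mul]; exact hre.symm)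
    rwa [show f r = 1 from hrf, map_one] at this
  have hMn : M.Normal := Subgroup.sup_normal Kb Rb
  let θX : B ⧸ M →* SL(2, ZMod p) := QuotientGroup.lift M θB (sup_le hθK hθR)
  have hθX : Function.Surjective θX := fun y => by
    obtain ⟨b, rfl⟩ := hθBsurj y
    exact ⟨QuotientGroup.mk b, rfl⟩
  -- the module
  let uB : UK →* B := MonoidHom.mk' (fun u => ⟨((u : K₀) : G), hUB ⟨u, u.2, rfl⟩⟩) fun _ _ => rfl
  let eV := MonoidHom.ofInjective (trans_injective (F := ZMod p))
  let fU : UK →* V := (f.comp UK.subtype).codRestrict V fun u => hUKV u.2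
  have hfU : Function.Surjective fU := fun v => by
    obtain ⟨u, hu, hue⟩ := hUV v v.2
    exact ⟨⟨u, hu⟩, Subtype.ext hue⟩
  let mX : UK →* B ⧸ M := (QuotientGroup.mk' M).comp uB
  have hmX : fU.ker = mX.ker := by
    ext u
    rw [MonoidHom.mem_ker, MonoidHom.mem_ker]
    constructor
    · intro hu
      refine (QuotientGroup.eq_one_iff _).2 (Subgroup.mem_sup_right ⟨u, ⟨u.2, ?_⟩, rfl⟩)
      exact congrArg Subtype.val hu
    · intro hu
      obtain ⟨k, hk, r, ⟨r', ⟨hrU, hrf⟩, hre⟩, hkr⟩ :=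
        Subgroup.mem_sup_of_normal_right.1 ((QuotientGroup.eq_one_iff _).1 hu)
      have hk' : (k : G) = ((u * ⟨r', hrU⟩⁻¹ : UK) : K₀) := by
        have := congrArg (fun b : B => (b : G)) hkr
        simp only [Subgroup.coe_mul] at this
        rw [Subgroup.coe_mul, Subgroup.coe_inv, Subgroup.coe_mul, Subgroup.coe_inv]
        show (k : G) = (u : K₀) * ((r' : K₀) : G)⁻¹
        rw [show ((r' : K₀) : G) = r from hre, eq_mul_inv_iff_mul_eq]
        exact this
      have hone : (⟨(k : G), hBQ k.2⟩ : ↥(Subgroup.normalizer (Q : Set G))) = 1 := by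
        refine QuotientModel.eq_one_of_mem (p := p) (A := U.subgroupOf _) (B := K)
          (hUp.comap_of_injective _ Subtype.val_injective) hKcop ?_ hk
        rw [Subgroup.mem_subgroupOf]
        exact ⟨_, (u * (⟨r', hrU⟩ : UK)⁻¹ : UK).2, hk'.symm⟩
      have h3 : (u * ⟨r', hrU⟩⁻¹ : UK) = 1 := Subtype.ext (Subtype.ext
        (hk'.symm.trans (congrArg Subtype.val hone)))
      rw [mul_inv_eq_one] at h3
      subst h3
      exact Subtype.ext hrf
  let jX : Multiplicative (Fin 2 → ZMod p) →* B ⧸ M :=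
    (MonoidHom.liftOfSurjective fU hfU ⟨mX, hmX.le⟩).comp eV.toMonoidHom
  have hjX : ∀ (u : UK) (x : Fin 2 → ZMod p), f u = el 1 x →
      jX (Multiplicative.ofAdd x) = mX u := by
    intro u x hx
    have h1 : eV (Multiplicative.ofAdd x) = fU u := Subtype.ext hx.symm
    show MonoidHom.liftOfSurjective fU hfU ⟨mX, hmX.le⟩ (eV (Multiplicative.ofAdd x)) = _
    rw [h1]
    exact MonoidHom.liftOfRightInverse_comp_apply fU _ (Function.rightInverse_surjInv hfU)
      ⟨mX, hmX.le⟩ u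
  have hjinj : Function.Injective jX := by
    rw [injective_iff_map_eq_one]
    intro x hx
    obtain ⟨u, hu⟩ := hfU (eV x)
    have h1 : f u = el 1 x.toAdd := congrArg Subtype.val hu
    have h2 : fU u = 1 := by
      rw [← MonoidHom.mem_ker, hmX, MonoidHom.mem_ker, ← hjX u _ h1]
      exact hx
    rw [hu] at h2
    exact eV.injective (h2.trans (map_one eV).symm)
  have hX : Involves ↥(qd p) (B ⧸ M) := by
    refine Cfsg.Agent.Techniques.SL2.Qd.involves_of_natural hp ⊤
      (θX.comp (⊤ : Subgroup (B ⧸ M)).subtype) (fun y => ?_) jX hjinj fun k x => ?_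
    · obtain ⟨k, rfl⟩ := hθX y
      exact ⟨⟨k, Subgroup.mem_top _⟩, rfl⟩
    · obtain ⟨k, -⟩ := k
      induction k using QuotientGroup.induction_on with
      | H b =>
        obtain ⟨u, hu⟩ := hfU (eV (Multiplicative.ofAdd x))
        have h1 : f u = el 1 x := congrArg Subtype.val hu
        obtain ⟨N', y, hNy⟩ := exists_el (f (aB b))
        have hu' : aB b * u * (aB b)⁻¹ ∈ UK :=
          (Subgroup.mem_normalizer_iff.1 (haB b) u).1 u.2
        have h2 : f (aB b * u * (aB b)⁻¹) = el 1 (N'.1 *ᵥ x) := by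
          rw [map_mul, map_mul, map_inv, h1, ← hNy, conj_trans]
        have h3 : (θX.comp (⊤ : Subgroup (B ⧸ M)).subtype)
            ⟨QuotientGroup.mk b, Subgroup.mem_top _⟩ = N' := by
          show linPart (f (aB b)) = N'
          rw [← hNy, linPart_el]
        rw [h3, hjX u x h1, hjX ⟨_, hu'⟩ _ h2]
        show (QuotientGroup.mk b : B ⧸ M) * QuotientGroup.mk (uB u) * (QuotientGroup.mk b)⁻¹ =
          QuotientGroup.mk (uB ⟨_, hu'⟩)
        rw [← QuotientGroup.mk_mul, ← QuotientGroup.mk_inv, ← QuotientGroup.mk_mul]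
        refine congrArg _ (Subtype.ext ?_)
        show (b : G) * ((u : K₀) : G) * (b : G)⁻¹ = ((aB b * u * (aB b)⁻¹ : K₀) : G)
        rw [hbe b, hconjU _ _ (haB b) (hdB b) u u.2]
  -- back to the quotient of the normalizer
  have h1 : Involves ↥(qd p) (B ⧸ Kb) := by
    refine involves_of_surjective (QuotientGroup.map Kb M (MonoidHom.id B) le_sup_left) ?_ hX
    intro y
    induction y using QuotientGroup.induction_on with
    | H b => exact ⟨QuotientGroup.mk b, rfl⟩
  refine involves_of_injective (QuotientGroup.map Kb K (Subgroup.inclusion hBQ) le_rfl) ?_ h1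
  rw [injective_iff_map_eq_one]
  intro y hy
  induction y using QuotientGroup.induction_on with
  | H b =>
    rw [QuotientGroup.map_mk, QuotientGroup.eq_one_iff] at hy
    exact (QuotientGroup.eq_one_iff b).2 hy

/-- The quotient of a normalizer by a normal `p'`-subgroup is a model. -/
theorem exists_model_quotient (P : Sylow p G) {Q : Subgroup G}
    (hQn : (groupFusionSystem (P : Subgroup G)).IsFullyNormalized Q)
    (hQc : (groupFusionSystem (P : Subgroup G)).IsCentric Q)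
    {N : FusionSystem (normalizerIn (P : Subgroup G) Q)}
    (hN : (groupFusionSystem (P : Subgroup G)).IsNormalizerSystem Q N) :
    ∃ (K : Subgroup ↥(Subgroup.normalizer (Q : Set G))) (_ : K.Normal),
      (Nat.card K).Coprime p ∧ (∀ k ∈ K, ∀ x ∈ Q, (k : G) * x * (k : G)⁻¹ = x) ∧
      ∀ {L : Type u} [Group L] (ι : ↥(normalizerIn (P : Subgroup G) Q) →* L), N.IsModel p L ι →
        Nonempty (L ≃* ↥(Subgroup.normalizer (Q : Set G)) ⧸ K) := by
  have hQS := hQn.1
  have hTp : IsPGroup p (normalizerIn (P : Subgroup G) Q) := P.2.to_le normalizerIn_le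
  have hQN := NormalizerModel.isNormal hN hQS
  have hQNc := NormalizerModel.isCentric hN hQc
  have st : Setting N p Q := ⟨inferInstance, inferInstance, hTp,
    KNormalizer.normalizerSystem_saturated P.2 (group_saturated P) hQn hN, hQN, hQNc⟩
  let κ : normalizerIn (P : Subgroup G) Q →* ↥(Subgroup.normalizer (Q : Set G)) :=
    Subgroup.inclusion inf_le_right
  have hr : N.IsRealizedBy κ := by
    refine ⟨Subgroup.inclusion_injective _, fun R hR φ hφ => ⟨fun h => ?_, ?_⟩⟩
    · obtain ⟨-, -, g, hg, he, hgQ⟩ := (NormalizerModel.isMap_iff hN).1 (IsMap.of_hom h)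
      obtain ⟨-, -, γ, hγ⟩ := isMap_group_iff.1 hg
      have hγQ : img (cj γ) Q = Q := by
        rw [← img_congr fun x hx => hγ x (Subgroup.mem_sup_right hx)]
        exact hgQ
      refine ⟨⟨γ, mem_normalizer_of_img hγQ.le⟩, fun x => Subtype.ext ?_⟩
      show φ x = γ * (x : G) * γ⁻¹
      rw [← ext_apply φ x, ← he x x.2, hγ x (Subgroup.mem_sup_left x.2)]
      rfl
    · rintro ⟨⟨γ, hγN⟩, hγ⟩
      have hval : ∀ x : R, φ x = γ * (x : G) * γ⁻¹ := fun x => congrArg Subtype.val (hγ x)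
      have hle : R ⊔ Q ≤ (P : Subgroup G).comap (MulAut.conj γ).toMonoidHom :=
        sup_le (fun x hx => show γ * x * γ⁻¹ ∈ (P : Subgroup G) from hval ⟨x, hx⟩ ▸ (hφ ⟨x, hx⟩).1) fun x hx =>
          show γ * x * γ⁻¹ ∈ (P : Subgroup G) from hQS ((Subgroup.mem_normalizer_iff.1 hγN x).1 hx)
      have hmap : IsMap (groupFusionSystem (P : Subgroup G)) (R ⊔ Q) (cj γ) := isMap_group_iff.2
        ⟨sup_le (hR.trans normalizerIn_le) hQS, fun x hx => hle hx, γ, fun _ _ => rfl⟩
      refine IsMap.hom_mem (f := cj γ) ((NormalizerModel.isMap_iff hN).2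
        ⟨hR, fun x hx => ?_, cj γ, hmap, fun _ _ => rfl, img_cj_eq_of_mem_normalizer hγN⟩) hval
      rw [cj_apply, ← hval ⟨x, hx⟩]
      exact hφ _
  have hidx : ¬ p ∣ κ.range.index := by
    have h1 := hQn
    rw [group_eq_sub_top] at h1
    have h2 := ((fullyNormalized_iff (of_sylow P) hQS).1 h1).2.2
    have h3 : normalizerIn (⊤ : Subgroup G) Q = Subgroup.normalizer (Q : Set G) := top_inf_eq _
    rw [h3] at h2
    have h4 : κ.range =
      (normalizerIn (P : Subgroup G) Q).subgroupOf (Subgroup.normalizer (Q : Set G)) := by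
      ext x
      exact ⟨fun ⟨y, hy⟩ => hy ▸ Subgroup.mem_subgroupOf.2 y.2,
        fun hx => ⟨⟨_, Subgroup.mem_subgroupOf.1 hx⟩, Subtype.ext rfl⟩⟩
    rwa [Subgroup.relIndex, ← h4] at h2
  have hn : ∀ (g : ↥(Subgroup.normalizer (Q : Set G))) (x : normalizerIn (P : Subgroup G) Q), (x : G) ∈ Q →
      ∃ y : normalizerIn (P : Subgroup G) Q, (y : G) ∈ Q ∧ κ y = g * κ x * g⁻¹ := fun g x hx =>
    ⟨⟨_, le_normalizerIn hQS ((Subgroup.mem_normalizer_iff.1 g.2 _).1 hx)⟩,
      (Subgroup.mem_normalizer_iff.1 g.2 _).1 hx, Subtype.ext rfl⟩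
  obtain ⟨K, hKn, hKcop, hKcent, m⟩ := QuotientModel.exists_quotient st κ hr hidx hn
  refine ⟨K, hKn, hKcop, fun k hk x hx => congrArg Subtype.val
    (hKcent k hk ⟨x, le_normalizerIn hQS hx⟩ hx), fun {L} _ ι hL => ?_⟩
  obtain ⟨e, -⟩ := exists_iso (mSetting_of_normal hTp hL hQN hQNc) m
  exact ⟨e⟩

theorem sectionFree_iff (hp : p ≠ 2) (P : Sylow p G) :
    (groupFusionSystem (P : Subgroup G)).IsSectionFree p ↥(qd p) ↔ ¬ Involves ↥(qd p) G := by
  set S := (P : Subgroup G) with hSdef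
  constructor
  · intro hfree hG
    obtain ⟨Q, hQp, hQc, hQK⟩ := exists_centric_involves hp hG
    obtain ⟨g₁, -, hg₁⟩ := (of_sylow P).exists_conj (le_top : Q ≤ ⊤) hQp
    obtain ⟨Q', hQ', hQ'n⟩ :=
      exists_fullyNormalized (F := groupFusionSystem S) hg₁
    obtain ⟨-, -, g₂, hg₂⟩ := isConj_group_iff.1 hQ'
    set γ := g₂ * g₁ with hγ
    have hQγ : img (cj γ) Q = Q' := by rw [hγ, ← hg₂, img_cj_img_cj]
    have hQ'c : (groupFusionSystem S).IsCentric Q' := by
      refine ⟨hQ'n.1, fun R hR => ?_⟩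
      obtain ⟨-, -, g₃, hg₃⟩ := isConj_group_iff.1 hR
      have hRγ : img (cj (g₃ * γ)) Q = R := by rw [← hg₃, ← hQγ, img_cj_img_cj]
      intro x hx
      set δ := g₃ * γ
      have h1 : δ⁻¹ * x * δ ∈ Q := by
        refine hQc _ (fun q hq => ?_) ?_
        · have h2 : cj δ q * x = x * cj δ q := hx.2 _ (hRγ.le (mem_img_self (cj δ) hq))
          calc q * (δ⁻¹ * x * δ) = δ⁻¹ * (cj δ q * x) * δ := by simp [cj, mul_assoc]
            _ = δ⁻¹ * (x * cj δ q) * δ := by rw [h2]
            _ = δ⁻¹ * x * δ * q := by simp [cj, mul_assoc]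
        · obtain ⟨k, hk⟩ := P.2 ⟨x, hx.1⟩
          refine ⟨k, ?_⟩
          have h3 : δ⁻¹ * x * δ = δ⁻¹ * x * δ⁻¹⁻¹ := by rw [inv_inv]
          rw [h3, conj_pow, show x ^ p ^ k = 1 from congrArg Subtype.val hk, mul_one,
            mul_inv_cancel]
      have h4 := mem_img_self (cj δ) h1
      rw [hRγ] at h4
      simpa [cj, mul_assoc] using h4
    obtain ⟨N, hN, L, _, ι, hL⟩ :=
      NormalizerModel.exists_normalizer_model P.2 (group_saturated P) hQ'n hQ'c
    obtain ⟨K', hK'n, hK'cop, hK'cent, hiso⟩ := exists_model_quotient P hQ'n hQ'c hN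
    obtain ⟨e⟩ := hiso ι hL
    refine hfree Q' hQ'n hQ'c N hN L ι hL (involves_of_injective e.symm.toMonoidHom
      e.symm.injective ?_)
    have hcmem : ∀ w ∈ Subgroup.normalizer (Q : Set G),
        γ * w * γ⁻¹ ∈ Subgroup.normalizer (Q' : Set G) := fun w hw => by
      refine mem_normalizer_of_img (le_of_eq ?_)
      rw [← hQγ, img_cj_img_cj,
        show γ * w * γ⁻¹ * γ = γ * w by group, ← img_cj_img_cj, img_cj_eq_of_mem_normalizer hw]
    let c : ↥(Subgroup.normalizer (Q : Set G)) →* ↥(Subgroup.normalizer (Q' : Set G)) :=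
      MonoidHom.mk' (fun w => ⟨γ * w * γ⁻¹, hcmem w w.2⟩) fun a b => Subtype.ext (by
        show γ * ((a : G) * b) * γ⁻¹ = γ * a * γ⁻¹ * (γ * b * γ⁻¹)
        group)
    have hcinj : Function.Injective c := fun a b h =>
      Subtype.ext (mul_left_cancel (mul_right_cancel (congrArg Subtype.val h)))
    have hKn : (K'.comap c).Normal := hK'n.comap c
    have hKcop : (Nat.card (K'.comap c)).Coprime p := by
      refine hK'cop.coprime_dvd_left ?_
      rw [← Subgroup.card_map_of_injective hcinj]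
      exact Subgroup.card_dvd_of_le (Subgroup.map_comap_le c K')
    have h1 := hQK (K'.comap c) hKcop (fun k hk x hx => by
      have hx' := hK'cent (c k) hk (cj γ x) (hQγ.le (mem_img_self (cj γ) hx))
      have hx'' : γ * ((k : G) * x * (k : G)⁻¹) * γ⁻¹ = γ * x * γ⁻¹ := by
        rw [cj_apply] at hx'
        refine Eq.trans ?_ hx'
        show _ = γ * (k : G) * γ⁻¹ * (γ * x * γ⁻¹) * (γ * (k : G) * γ⁻¹)⁻¹
        group
      simpa using hx'')
    refine involves_of_injective (QuotientGroup.map (K'.comap c) K' c le_rfl) ?_ h1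
    rw [injective_iff_map_eq_one]
    intro y hy
    induction y using QuotientGroup.induction_on with
    | H b =>
      rw [QuotientGroup.map_mk, QuotientGroup.eq_one_iff] at hy
      exact (QuotientGroup.eq_one_iff b).2 hy
  · intro hG Q hQn hQc N hN L _ ι hL hinv
    obtain ⟨K, hKn, -, -, hiso⟩ := exists_model_quotient P hQn hQc hN
    obtain ⟨e⟩ := hiso ι hL
    exact hG (involves_of_injective (Subgroup.normalizer (Q : Set G)).subtype
      Subtype.val_injective (involves_of_surjective (QuotientGroup.mk' K)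
        (QuotientGroup.mk'_surjective K) (involves_of_injective e.toMonoidHom e.injective hinv)))

end Cfsg.Agent.Fusion.SectionFreeGroup
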