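/-
Saturated fusion systems over semi-extraspecial groups with nontrivial core are constrained.
-/
import Mathlib
import Cfsg.Agent.Lib.Fusion.Normal
import Cfsg.Agent.Lib.Fusion.EssentialShape
import Cfsg.Agent.Lib.Fusion.Alperin

set_option autoImplicit false
set_option linter.unusedSectionVars false

namespace Cfsg.Agent.Fusion.SemiExtraspecialCore

open Cfsg Cfsg.FusionSystem Cfsg.Agent.Fusion.Basic Cfsg.Agent.Fusion.Saturation
  Cfsg.Agent.Fusion.Normal Cfsg.Agent.Fusion.Alperin Cfsg.Agent.Fusion.EssentialShape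

/-- The centre is full of commutators with each noncentral element, and contains all commutators. -/
def SemiES (H : Type*) [Group H] : Prop :=
  (∀ x y : H, x * y * x⁻¹ * y⁻¹ ∈ Subgroup.center H) ∧
    ∀ x : H, x ∉ Subgroup.center H → ∀ z ∈ Subgroup.center H, ∃ y, y * x * y⁻¹ * x⁻¹ = z

theorem SemiES.congr {H H' : Type*} [Group H] [Group H'] (h : SemiES H) (e : H ≃* H') :
    SemiES H' := by
  have hc : ∀ x : H, e x ∈ Subgroup.center H' ↔ x ∈ Subgroup.center H := fun x => by
    rw [Subgroup.mem_center_iff, Subgroup.mem_center_iff]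
    refine ⟨fun h1 g => e.injective (by simpa using h1 (e g)), fun h1 g => ?_⟩
    obtain ⟨g, rfl⟩ := e.surjective g
    rw [← map_mul, ← map_mul, h1 g]
  constructor
  · intro x y
    obtain ⟨x, rfl⟩ := e.surjective x
    obtain ⟨y, rfl⟩ := e.surjective y
    simpa using (hc _).2 (h.1 x y)
  · intro x hx z hz
    obtain ⟨x, rfl⟩ := e.surjective x
    obtain ⟨z, rfl⟩ := e.surjective z
    obtain ⟨y, hy⟩ := h.2 x (fun h1 => hx ((hc x).2 h1)) z ((hc z).1 hz)
    exact ⟨e y, by rw [← hy]; simp⟩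

variable {Ω : Type*} [Group Ω] {S : Subgroup Ω} [Finite S] {p : ℕ} [Fact p.Prime]
  {F : Cfsg.FusionSystem S}

theorem coe_mem_center_iff {x : S} :
    x ∈ Subgroup.center S ↔ (x : Ω) ∈ centralizerIn S S := by
  rw [Subgroup.mem_center_iff]
  constructor
  · intro h
    exact ⟨x.2, Subgroup.mem_centralizer_iff.2 fun s hs => congrArg Subtype.val (h ⟨s, hs⟩)⟩
  · rintro ⟨-, h⟩ g
    exact Subtype.ext (Subgroup.mem_centralizer_iff.1 h g g.2)

/-- In a semi-extraspecial group an automizer of a subgroup containing the centre and fixing a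
nontrivial subgroup of the centre cannot have the shape of an essential one. -/
theorem essential_false (hS : IsPGroup p S) (hF : F.IsSaturated p) (hses : SemiES S)
    {Q : Subgroup Ω} (hQZ : Q ≤ centralizerIn S S) (hQ1 : Q ≠ ⊥) {E : Subgroup Ω}
    (hE : F.IsEssential p E) (hQinv : ∀ α ∈ F.autGroup E, img (autFun α) Q = Q) : False := by
  classical
  have : Finite E := finite_of_le hE.1.1
  have : Finite (MulAut E) := Finite.of_injective (fun a x => a x : MulAut E → E → E)
    fun a b h => MulEquiv.ext fun x => congrFun h x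
  have hES : E ≤ S := hE.1.1
  have hZE : centralizerIn S S ≤ E := fun z hz => centric_centralizerIn_le hE.1
    ⟨hz.1, Subgroup.mem_centralizer_iff.2 fun x hx =>
      Subgroup.mem_centralizer_iff.1 hz.2 x (hES hx)⟩
  set Zs := (centralizerIn S S).subgroupOf E with hZs
  -- conjugation by elements of `S`
  have hfix : ∀ g ∈ S, ∀ z ∈ centralizerIn S S, g * z * g⁻¹ = z := fun g hg z hz => by
    rw [Subgroup.mem_centralizer_iff.1 hz.2 g hg, mul_inv_cancel_right]
  have hcls : ∀ g ∈ S, ∀ x ∈ S, g * x * g⁻¹ * x⁻¹ ∈ centralizerIn S S := fun g hg x hx =>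
    coe_mem_center_iff.1 (hses.1 ⟨g, hg⟩ ⟨x, hx⟩)
  have hN : ∀ g ∈ S, g ∈ normalizerIn S E := fun g hg =>
    ⟨hg, mem_normalizer_of_forall fun x hx => by
      have := E.mul_mem (hZE (hcls g hg x (hES hx))) hx
      simpa using this⟩
  let c : ∀ g ∈ S, F.autGroup E := fun g hg =>
    ⟨conjAut S E ⟨g, hN g hg⟩, autInducedBy_le hES (conjAut_range S E ▸ ⟨_, rfl⟩)⟩
  have hcfun : ∀ g (hg : g ∈ S) (x : E), (((c g hg : MulAut E) x : E) : Ω) = g * x * g⁻¹ :=
    fun g hg x => rfl
  have hcZ : ∀ g (hg : g ∈ S), ∀ x ∈ Zs, (c g hg : MulAut E) x = x := fun g hg x hx =>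
    Subtype.ext ((hcfun g hg x).trans (hfix g hg _ hx))
  let C : ℕ → Subgroup E := fun i => if i = 0 then ⊥ else if i = 1 then Zs else ⊤
  have hCmono : ∀ i < 2, C i ≤ C (i + 1) := fun i hi => by
    rcases i with _ | _ | i
    · simp [C]
    · simp [C]
    · omega
  have hcstab : ∀ g (hg : g ∈ S), ∀ i < 2, ∀ x ∈ C (i + 1),
      x⁻¹ * (c g hg : MulAut E) x ∈ C i := fun g hg i hi x hx => by
    rcases i with _ | _ | i
    · rw [hcZ g hg x (by simpa [C] using hx)]
      simp
    · simp only [C, Nat.reduceEqDiff, if_false, if_true]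
      rw [hZs, Subgroup.mem_subgroupOf, Subgroup.coe_mul, Subgroup.coe_inv, hcfun g hg]
      have h1 := hcls g hg _ (S.inv_mem (hES x.2))
      have h2 : (x : Ω)⁻¹ * (g * x * g⁻¹) = (g * (x : Ω)⁻¹ * g⁻¹ * ((x : Ω)⁻¹)⁻¹)⁻¹ := by group
      rw [h2]
      exact Subgroup.inv_mem _ h1
    · omega
  -- the stabilizer of the centre
  let H : Subgroup (MulAut E) :=
    { carrier := {a | a ∈ F.autGroup E ∧ Zs.map a.toMonoidHom = Zs}
      one_mem' := ⟨one_mem _, Subgroup.map_id Zs⟩
      mul_mem' := by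
        rintro a b ⟨ha, ha'⟩ ⟨hb, hb'⟩
        refine ⟨mul_mem ha hb, ?_⟩
        rw [show (a * b).toMonoidHom = a.toMonoidHom.comp b.toMonoidHom from rfl, ← Subgroup.map_map,
          hb', ha']
      inv_mem' := by
        rintro a ⟨ha, ha'⟩
        refine ⟨Subgroup.inv_mem _ ha, ?_⟩
        conv_lhs => rw [← ha', Subgroup.map_map]
        rw [show (a⁻¹ : MulAut E).toMonoidHom.comp a.toMonoidHom = MonoidHom.id E from
          MonoidHom.ext fun x => MulAut.inv_apply_self _ a x]
        exact Subgroup.map_id Zs }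
  have hHinv : ∀ i ≤ 2, ∀ a ∈ H, ∀ x ∈ C i, (a : MulAut E) x ∈ C i := fun i hi a ha x hx => by
    rcases i with _ | _ | i
    · simp only [C, if_true, Subgroup.mem_bot] at hx ⊢
      rw [hx, map_one]
    · simp only [C, Nat.reduceEqDiff, if_false, if_true] at hx ⊢
      exact ha.2 ▸ Subgroup.mem_map_of_mem _ hx
    · simp [C]
  have hcH : ∀ g (hg : g ∈ S), (c g hg : MulAut E) ∈ H := fun g hg =>
    ⟨(c g hg).2, by
      refine le_antisymm ?_ fun x hx => ⟨x, hx, hcZ g hg x hx⟩
      rintro _ ⟨x, hx, rfl⟩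
      show (c g hg : MulAut E) x ∈ Zs
      rw [hcZ g hg x hx]; exact hx⟩
  have hcore : ∀ g (hg : g ∈ S), (⟨_, hcH g hg⟩ : H) ∈ pCore p H := fun g hg =>
    mem_pCore_of_stabilizes (hS.to_le hES) H C 2 (by simp [C]) (by simp [C]) hCmono hHinv
      (hcstab g hg)
  by_cases hall : ∀ a ∈ F.autGroup E, Zs.map a.toMonoidHom = Zs
  · have hlt := essential_lt hS hF hE
    obtain ⟨g, hg, hgE⟩ := SetLike.exists_of_lt hlt
    refine hgE (le_of_le_pCore hE.1 (essential_radical hE hS) (hN g hg) ?_)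
    exact mem_pCore_of_stabilizes (hS.to_le hES) (F.autGroup E) C 2 (by simp [C]) (by simp [C])
      hCmono (fun i hi a ha x hx => hHinv i hi a ⟨ha, hall a ha⟩ x hx) (α := c g hg) (hcstab g hg)
  push Not at hall
  obtain ⟨a₀, ha₀, ha₀'⟩ := hall
  have : Nonempty {a : MulAut E // a ∈ F.autGroup E ∧ Zs.map a.toMonoidHom ≠ Zs} :=
    ⟨⟨a₀, ha₀, ha₀'⟩⟩
  obtain ⟨⟨α, hα, hne⟩, hmax⟩ := Finite.exists_max
    fun a : {a : MulAut E // a ∈ F.autGroup E ∧ Zs.map a.toMonoidHom ≠ Zs} =>
      Nat.card (Zs ⊓ Zs.map a.1.toMonoidHom : Subgroup E)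
  obtain ⟨v, ⟨v₀, hv₀, rfl⟩, hvZ⟩ : ∃ v ∈ Zs.map α.toMonoidHom, v ∉ Zs := by
    by_contra h
    push Not at h
    exact hne (Subgroup.eq_of_le_of_card_ge h
      (Subgroup.card_map_of_injective α.injective).ge)
  obtain ⟨z, hzQ, hz1⟩ := Subgroup.ne_bot_iff_exists_ne_one.1 hQ1 |>.elim
    fun z hz => (⟨z.1, z.2, fun h => hz (Subtype.ext h)⟩ : ∃ z ∈ Q, z ≠ 1)
  have hvS : (α.toMonoidHom v₀ : Ω) ∈ S := hES (α v₀).2
  obtain ⟨⟨u, hu⟩, hu'⟩ := hses.2 ⟨_, hvS⟩ (fun h => hvZ (coe_mem_center_iff.1 h))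
    ⟨z, (hQZ hzQ).1⟩ (coe_mem_center_iff.2 (hQZ hzQ))
  have hu'' : u * ((α v₀ : E) : Ω) * u⁻¹ * ((α v₀ : E) : Ω)⁻¹ = z := congrArg Subtype.val hu'
  set cu : MulAut E := (c u hu : MulAut E)
  have hzs : (⟨z, hZE (hQZ hzQ)⟩ : E) ∈ Zs := hQZ hzQ
  -- `z` lies in the image of the centre
  have hzα : (⟨z, hZE (hQZ hzQ)⟩ : E) ∈ Zs.map α.toMonoidHom := by
    have h1 : z ∈ img (autFun α) Q := (hQinv α hα).symm ▸ hzQ
    have h2 : img (autFun α) Q ≤ (Zs.map α.toMonoidHom).map E.subtype := img_le fun q hq => by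
      refine ⟨α ⟨q, hZE (hQZ hq)⟩, ⟨_, hQZ hq, rfl⟩, ?_⟩
      rw [autFun_of_mem α (hZE (hQZ hq))]
      rfl
    obtain ⟨w, hw, hw'⟩ := h2 h1
    rwa [← (Subtype.ext hw' : w = ⟨z, hZE (hQZ hzQ)⟩)]
  have hcuv : cu (α v₀) ∈ Zs.map α.toMonoidHom := by
    have h1 : cu (α v₀) = ⟨z, hZE (hQZ hzQ)⟩ * α v₀ := Subtype.ext (by
      show ((cu (α v₀) : E) : Ω) = z * ((α v₀ : E) : Ω)
      rw [hcfun u hu, ← hu'', inv_mul_cancel_right])
    rw [h1]
    exact mul_mem hzα ⟨v₀, hv₀, rfl⟩
  -- by maximality `cu` stabilizes the image of the centre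
  set β : MulAut E := α⁻¹ * cu * α
  have hβG : β ∈ F.autGroup E := mul_mem (mul_mem (Subgroup.inv_mem _ hα) (c u hu).2) hα
  have hinv : ∀ x, α⁻¹ (α x) = x := fun x => MulAut.inv_apply_self _ α x
  have hβH : Zs.map β.toMonoidHom = Zs := by
    by_contra hβ
    have h1 := hmax ⟨β, hβG, hβ⟩
    let W := Zs ⊓ Zs.map α.toMonoidHom
    let f : E →* E := (α⁻¹ : MulAut E).toMonoidHom
    have h2 : W.map f ≤ Zs ⊓ Zs.map β.toMonoidHom := by
      rintro _ ⟨w, ⟨hw, ⟨w₀, hw₀, hw'⟩⟩, rfl⟩
      refine ⟨?_, w₀, hw₀, ?_⟩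
      · show α⁻¹ w ∈ Zs
        rw [← hw']
        show α⁻¹ (α w₀) ∈ Zs
        rw [hinv]; exact hw₀
      · show α⁻¹ (cu (α w₀)) = α⁻¹ w
        rw [show α w₀ = w from hw', hcZ u hu w hw]
    obtain ⟨w₀, hw₀, hw'⟩ := hcuv
    have h3 : α⁻¹ (cu (α v₀)) ∈ Zs ⊓ Zs.map β.toMonoidHom := by
      refine ⟨?_, v₀, hv₀, rfl⟩
      rw [show cu (α v₀) = α w₀ from hw'.symm, hinv]; exact hw₀
    have h4 : α⁻¹ (cu (α v₀)) ∉ W.map f := by
      rintro ⟨w, ⟨hw, -⟩, hw''⟩
      have h5 : w = cu (α v₀) := (α⁻¹ : MulAut E).injective hw''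
      refine hvZ ?_
      have h6 : cu w = cu (α v₀) := (hcZ u hu w hw).trans h5
      show α v₀ ∈ Zs
      rw [← cu.injective h6]; exact hw
    have h7 : Nat.card (W.map f) < Nat.card (Zs ⊓ Zs.map β.toMonoidHom : Subgroup E) := by
      refine lt_of_le_of_ne (Subgroup.card_le_of_le h2) fun h => h4 ?_
      rw [Subgroup.eq_of_le_of_card_ge h2 h.ge]; exact h3
    rw [Subgroup.card_map_of_injective (α⁻¹ : MulAut E).injective] at h7
    exact absurd h1 (not_le.2 h7)
  -- `β` is a `p`-element of the stabilizer, so it fixes the centre pointwise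
  obtain ⟨-, R, hR⟩ := fullyNormalized_fullyAutomized hS hF hE.2.1
  have hcR : ∀ g (hg : g ∈ S), c g hg ∈ (R : Subgroup (F.autGroup E)) := fun g hg => by
    rw [hR]
    exact Subgroup.mem_subgroupOf.2 (conjAut_range S E ▸ ⟨_, rfl⟩)
  let K : Subgroup (F.autGroup E) :=
    ((pCore p H).map H.subtype).subgroupOf (F.autGroup E)
  have hK : IsPGroup p K :=
    (((pCore_isPGroup p H).map _)).comap_of_injective _ Subtype.val_injective
  have hRK : (R : Subgroup (F.autGroup E)) ≤ K := by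
    intro x hx
    rw [hR, Subgroup.mem_subgroupOf, mem_autInducedBy_iff'] at hx
    obtain ⟨g, hg, hgx⟩ := hx
    have h1 : x = c g hg.1 := Subtype.ext (autFun_ext fun y hy => by
      rw [hgx y hy, autFun_of_mem _ hy]; rfl)
    rw [h1]
    exact ⟨⟨_, hcH g hg.1⟩, hcore g hg.1, rfl⟩
  have hKR := R.3 hK hRK
  let b : F.autGroup E := ⟨β, hβG⟩
  obtain ⟨k, hk⟩ : ∃ k, b ^ p ^ k = 1 := by
    obtain ⟨k, hk⟩ := R.2 ⟨c u hu, hcR u hu⟩
    refine ⟨k, Subtype.ext ?_⟩
    have h1 : cu ^ p ^ k = 1 := congrArg Subtype.val (congrArg Subtype.val hk)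
    show (α⁻¹ * cu * α) ^ p ^ k = 1
    have := conj_pow (i := p ^ k) (a := α⁻¹) (b := cu)
    rw [inv_inv] at this
    rw [this, h1, mul_one, inv_mul_cancel]
  have hbR : b ∈ (R : Subgroup (F.autGroup E)) := by
    let bH : H := ⟨β, hβG, hβH⟩
    have hnorm : (pCore p H).Normal := Subgroup.sSup_normal _ fun _ hN => hN.1
    have hbp : IsPGroup p (Subgroup.zpowers bH) := by
      obtain ⟨i, -, hi⟩ := (Nat.dvd_prime_pow (Fact.out : p.Prime)).1 (orderOf_dvd_of_pow_eq_one
        (show bH ^ p ^ k = 1 from Subtype.ext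
          ((SubgroupClass.coe_pow bH _).trans
            ((SubgroupClass.coe_pow b _).symm.trans (congrArg Subtype.val hk)))))
      exact IsPGroup.of_card (n := i) (by rw [Nat.card_zpowers, hi])
    have hM : IsPGroup p (Subgroup.zpowers bH ⊔ pCore p H : Subgroup H) :=
      hbp.to_sup_of_normal_right (pCore_isPGroup p H)
    let M : Subgroup (F.autGroup E) :=
      ((Subgroup.zpowers bH ⊔ pCore p H).map H.subtype).subgroupOf (F.autGroup E)
    have hMR := R.3 ((hM.map _).comap_of_injective _ Subtype.val_injective : IsPGroup p M)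
      (fun x hx => by
        obtain ⟨y, hy, hy'⟩ := hRK hx
        exact ⟨y, Subgroup.mem_sup_right hy, hy'⟩)
    rw [← hMR]
    exact ⟨bH, Subgroup.mem_sup_left (Subgroup.mem_zpowers bH), rfl⟩
  rw [hR, Subgroup.mem_subgroupOf, mem_autInducedBy_iff'] at hbR
  obtain ⟨g, hg, hgb⟩ := hbR
  have h5 : β v₀ = v₀ := Subtype.ext (by
    have := hgb _ v₀.2
    rw [autFun_apply, cj_apply, hfix g hg.1 (v₀ : Ω) hv₀] at this
    exact this)
  have h6 : cu (α v₀) = α v₀ := by
    have h7 : α (β v₀) = α v₀ := by rw [h5]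
    rwa [show α (β v₀) = cu (α v₀) from MulAut.apply_inv_self _ α _] at h7
  apply hz1
  rw [← hu'', ← hcfun u hu (α v₀), show (c u hu : MulAut E) (α v₀) = α v₀ from h6, mul_inv_cancel]

/-- A saturated fusion system over a semi-extraspecial group with nontrivial core is constrained. -/
theorem constrained_of_core_ne_bot (hS : IsPGroup p S) (hF : F.IsSaturated p) (hses : SemiES S)
    (hcore : F.core ≠ ⊥) : F.IsConstrained p := by
  classical
  set Q := F.core with hQdef
  have hQn : F.IsNormal Q := core_isNormal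
  by_cases hQZ : Q ≤ centralizerIn S S
  · -- there are no essential subgroups
    have hnone : ∀ P, ¬ F.IsEssential p P := fun P hP =>
      essential_false hS hF hses hQZ hcore hP (normal_invariant hS hQn (Or.inr hP)).2
    refine ⟨hF, S, normal_of_invariant hS hF fun P hP => ?_, le_rfl, fun R hR => ?_⟩
    · obtain rfl : P = S := hP.resolve_right (hnone P)
      exact ⟨le_rfl, fun α _ => autFun_img α⟩
    · rw [eq_top_of_card le_rfl hR rfl]
      exact inf_le_left
  · obtain ⟨x, hxQ, hxZ⟩ := SetLike.not_le_iff_exists.1 hQZ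
    have hQsc := normal_stronglyClosed hQn
    have hZQ : centralizerIn S S ≤ Q := fun z hz => by
      obtain ⟨⟨y, hy⟩, hy'⟩ := hses.2 ⟨x, hQn.1 hxQ⟩ (fun h => hxZ (coe_mem_center_iff.1 h))
        ⟨z, hz.1⟩ (coe_mem_center_iff.2 hz)
      rw [show z = y * x * y⁻¹ * x⁻¹ from (congrArg Subtype.val hy').symm]
      exact Q.mul_mem ((Subgroup.mem_normalizer_iff.1
        (le_normalizer_of_stronglyClosed hQsc hy) x).1 hxQ) (Q.inv_mem hxQ)
    set C := centralizerIn S Q
    have hCS : C ≤ S := inf_le_left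
    have hCN : F.IsNormal (C ⊔ Q) := by
      refine normal_of_invariant hS hF fun P hP => ?_
      obtain ⟨hQP, hQinv⟩ := normal_invariant hS hQn hP
      have hPS : P ≤ S := by
        rcases hP with rfl | hP
        exacts [le_rfl, hP.1.1]
      have hCP : C ≤ P := by
        rcases hP with rfl | hP
        · exact hCS
        intro g hg
        have : Finite P := finite_of_le hPS
        have hgN : g ∈ normalizerIn S P := ⟨hg.1, mem_normalizer_of_forall fun y hy => by
          have h1 := hQP (hZQ (coe_mem_center_iff.1 (hses.1 ⟨g, hg.1⟩ ⟨y, hPS hy⟩)))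
          have := P.mul_mem h1 hy
          simpa using this⟩
        refine le_of_le_pCore hP.1 (essential_radical hP hS) hgN ?_
        let C' : ℕ → Subgroup P := fun i => if i = 0 then ⊥ else if i = 1 then Q.subgroupOf P else ⊤
        refine mem_pCore_of_stabilizes (hS.to_le hPS) (F.autGroup P) C' 2 (by simp [C'])
          (by simp [C']) (fun i hi => ?_) (fun i hi a ha y hy => ?_) fun i hi y hy => ?_
        · rcases i with _ | _ | i
          · simp [C']
          · simp [C']
          · omega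
        · rcases i with _ | _ | i
          · simp only [C', if_true, Subgroup.mem_bot] at hy ⊢
            rw [hy, map_one]
          · simp only [C', Nat.reduceEqDiff, if_false, if_true, Subgroup.mem_subgroupOf] at hy ⊢
            have h1 := mem_img_self (autFun a) hy
            rwa [hQinv a ha, autFun_apply] at h1
          · simp [C']
        · have hval : ((conjAut S P ⟨g, hgN⟩ y : P) : Ω) = g * y * g⁻¹ := rfl
          rcases i with _ | _ | i
          · simp only [C', zero_add, Nat.reduceEqDiff, if_false, if_true,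
              Subgroup.mem_subgroupOf] at hy
            simp only [C', if_true, Subgroup.mem_bot]
            refine Subtype.ext ?_
            show (y : Ω)⁻¹ * ((conjAut S P ⟨g, hgN⟩ y : P) : Ω) = 1
            rw [hval, ← Subgroup.mem_centralizer_iff.1 hg.2 _ hy]
            group
          · simp only [C', Nat.reduceEqDiff, if_false, if_true, Subgroup.mem_subgroupOf]
            show (y : Ω)⁻¹ * ((conjAut S P ⟨g, hgN⟩ y : P) : Ω) ∈ Q
            rw [hval]
            have h1 := hZQ (coe_mem_center_iff.1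
              (hses.1 ⟨g, hg.1⟩ ⟨(y : Ω)⁻¹, S.inv_mem (hPS y.2)⟩))
            have h2 : (y : Ω)⁻¹ * (g * y * g⁻¹) = (g * (y : Ω)⁻¹ * g⁻¹ * ((y : Ω)⁻¹)⁻¹)⁻¹ := by
              group
            rw [h2]
            exact Q.inv_mem h1
          · omega
      refine ⟨sup_le hCP hQP, fun α hα => ?_⟩
      have hm := isMap_of_mem_autGroup hPS hα
      have hle : img (autFun α) (C ⊔ Q) ≤ C ⊔ Q := by
        rw [Subgroup.sup_eq_closure]
        refine img_le fun y hy => ?_
        induction hy using Subgroup.closure_induction with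
        | mem y hy =>
          rcases hy with hy | hy
          · refine Subgroup.subset_closure (Or.inl ⟨hm.mem (hCP hy), Subgroup.mem_centralizer_iff.2
              fun q hq => ?_⟩)
            obtain ⟨q, hq', rfl⟩ : ∃ q' ∈ Q, autFun α q' = q := by
              rw [SetLike.mem_coe, ← hQinv α hα] at hq
              rw [← SetLike.mem_coe, coe_img_of_hom (hm.isHom.mono hQP)] at hq
              exact hq
            rw [← hm.map_mul (hQP hq') (hCP hy), ← hm.map_mul (hCP hy) (hQP hq'),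
              Subgroup.mem_centralizer_iff.1 hy.2 q hq']
          · exact Subgroup.subset_closure (Or.inr ((hQinv α hα) ▸ mem_img_self _ hy))
        | one => rw [hm.map_one]; exact one_mem _
        | mul a b ha hb iha ihb =>
          rw [← Subgroup.sup_eq_closure] at ha hb
          rw [hm.map_mul (sup_le hCP hQP ha) (sup_le hCP hQP hb)]
          exact mul_mem iha ihb
        | inv a ha iha =>
          rw [← Subgroup.sup_eq_closure] at ha
          rw [hm.map_inv (sup_le hCP hQP ha)]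
          exact Subgroup.inv_mem _ iha
      have : Finite (C ⊔ Q : Subgroup Ω) := finite_of_le (sup_le hCS hQn.1)
      refine eq_of_le_card hle ?_
      rw [← SetLike.coe_sort_coe, ← SetLike.coe_sort_coe,
        coe_img_of_hom (hm.isHom.mono (sup_le hCP hQP))]
      exact (Nat.card_image_of_injOn (hm.injOn.mono (SetLike.coe_subset_coe.2 (sup_le hCP hQP)))).ge
    refine ⟨hF, C ⊔ Q, hCN, sup_le hCS hQn.1, fun R hR => ?_⟩
    obtain ⟨f, hf, rfl⟩ := isConj_iff_map.1 hR
    rw [normal_img_eq hCN hf le_rfl]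
    exact fun y hy => Subgroup.mem_sup_left ⟨hy.1, Subgroup.mem_centralizer_iff.2 fun q hq =>
      Subgroup.mem_centralizer_iff.1 hy.2 q (Subgroup.mem_sup_right hq)⟩

end Cfsg.Agent.Fusion.SemiExtraspecialCore
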