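/-
Abelian subgroups of small exponent control fusion in saturated fusion systems: if `E ≤ F` are
saturated on the same `S` and agree on the maps of the abelian subgroups of exponent `p` (exponent
dividing 4 for `p = 2`) inside a strongly closed subgroup containing all displacements of
automorphisms of order prime to `p`, then `E = F`.
-/
import Mathlib
import Cfsg.Agent.Lib.Fusion.SmallElements
import Cfsg.Agent.Lib.Fusion.KNormalizer
import Cfsg.Agent.Lib.Fusion.Elementwise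

set_option autoImplicit false
set_option linter.unusedSectionVars false

namespace Cfsg.Agent.Fusion.SmallControl

open Cfsg Cfsg.FusionSystem Cfsg.Agent.Fusion.Basic Cfsg.Agent.Fusion.Saturation
  Cfsg.Agent.Fusion.Normal Cfsg.Agent.Fusion.KNormalizer Cfsg.Agent.Fusion.SmallElements

variable {Ω : Type*} [Group Ω] {S T : Subgroup Ω} {p : ℕ}

/-- An abelian subgroup of small elements. -/
def IsGood (p : ℕ) (Z : Subgroup Ω) : Prop :=
  (∀ x ∈ Z, ∀ y ∈ Z, x * y = y * x) ∧ ∀ x ∈ Z, IsSmall p x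

theorem isGood_bot : IsGood p (⊥ : Subgroup Ω) :=
  ⟨fun x hx y hy => by rw [Subgroup.mem_bot.1 hx, Subgroup.mem_bot.1 hy],
    fun x hx => by rw [Subgroup.mem_bot.1 hx]; exact Or.inl (one_pow p)⟩

theorem IsGood.img {Z R : Subgroup Ω} {F : FusionSystem S} {f : Ω → Ω} (hZ : IsGood p Z)
    (hf : IsMap F R f) (hle : Z ≤ R) : IsGood p (img f Z) := by
  refine ⟨fun a ha b hb => ?_, fun a ha => ?_⟩
  · obtain ⟨x, hx, rfl⟩ := (hf.restrict hle).mem_img.1 ha
    obtain ⟨y, hy, rfl⟩ := (hf.restrict hle).mem_img.1 hb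
    rw [← hf.map_mul (hle hx) (hle hy), ← hf.map_mul (hle hy) (hle hx), hZ.1 x hx y hy]
  · obtain ⟨x, hx, rfl⟩ := (hf.restrict hle).mem_img.1 ha
    have hs := hZ.2 x hx
    rw [isSmall_iff] at hs ⊢
    have : ∀ m : ℕ, f (x ^ m) = f x ^ m := by
      intro m
      induction m with
      | zero => rw [pow_zero, pow_zero, hf.map_one]
      | succ m ih => rw [pow_succ, pow_succ, hf.map_mul (R.pow_mem (hle hx) m) (hle hx), ih]
    rw [← this, hs, hf.map_one]

theorem IsGood.extend {Z : Subgroup Ω} {x : Ω} (hZ : IsGood p Z) (hx : IsSmall p x)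
    (hc : ∀ z ∈ Z, z * x = x * z) : IsGood p (Z ⊔ Subgroup.zpowers x) := by
  have hle : Z ⊔ Subgroup.zpowers x = Subgroup.closure ((Z : Set Ω) ∪ {x}) := by
    rw [Subgroup.closure_union, Subgroup.closure_eq, Subgroup.zpowers_eq_closure]
  have hcomm : ∀ a ∈ Z ⊔ Subgroup.zpowers x, ∀ b ∈ Z ⊔ Subgroup.zpowers x, a * b = b * a := by
    intro a ha b hb
    rw [hle] at ha hb
    have hset : ∀ u ∈ (Z : Set Ω) ∪ {x}, ∀ v ∈ (Z : Set Ω) ∪ {x}, u * v = v * u := by
      rintro u (hu | rfl) v (hv | rfl)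
      · exact hZ.1 u hu v hv
      · exact hc u hu
      · exact (hc v hv).symm
      · rfl
    have := Subgroup.isMulCommutative_closure hset
    exact congrArg Subtype.val (this.is_comm.comm (⟨a, ha⟩ : Subgroup.closure _) ⟨b, hb⟩)
  refine ⟨hcomm, fun a ha => ?_⟩
  have ha' : a ∈ Subgroup.closure ((Z : Set Ω) ∪ {x}) := hle ▸ ha
  clear ha
  induction ha' using Subgroup.closure_induction with
  | mem u hu =>
    rcases hu with hu | rfl
    · exact hZ.2 u hu
    · exact hx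
  | one => exact Or.inl (one_pow p)
  | mul u v hu hv ihu ihv =>
    rw [isSmall_iff] at ihu ihv ⊢
    rw [(show Commute u v from hcomm u (hle ▸ hu) v (hle ▸ hv)).mul_pow, ihu, ihv, one_mul]
  | inv u hu ihu =>
    rw [isSmall_iff] at ihu ⊢
    rw [inv_pow, ihu, inv_one]

theorem IsKMap.congr {Q P : Subgroup Ω} {F : FusionSystem S} {K : Subgroup (MulAut Q)}
    {f g : Ω → Ω} (h : IsKMap F K P f) (he : ∀ x ∈ P, f x = g x) : IsKMap F K P g := by
  obtain ⟨h1, h2, k, hk, hke, hkK⟩ := h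
  exact ⟨h1, fun x hx => he x hx ▸ h2 x hx, k, hk, fun x hx => (hke x hx).trans (he x hx), hkK⟩

theorem isMap_kSystem_iff {Q : Subgroup Ω} {F : FusionSystem S} {K : Subgroup (MulAut Q)}
    {V : Subgroup Ω} {N : FusionSystem V}
    (hN : ∀ (P : Subgroup Ω) (φ : P →* Ω), φ ∈ N.Hom P ↔ IsKMap F K P (ext φ))
    (P : Subgroup Ω) (f : Ω → Ω) : IsMap N P f ↔ IsKMap F K P f := by
  constructor
  · rintro ⟨φ, hφ, he⟩
    exact IsKMap.congr ((hN P φ).1 hφ) fun x hx => by rw [ext_of_mem φ hx, he ⟨x, hx⟩]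
  · intro h
    refine ⟨h.isMap.hom, (hN P _).2 (IsKMap.congr h fun x hx => ?_), fun _ => rfl⟩
    rw [ext_of_mem _ hx]; rfl

theorem img_le_of_closed {F : FusionSystem S} {Z R : Subgroup Ω} {f : Ω → Ω}
    (hTc : F.StronglyClosed T) (hf : IsMap F R f) (hZR : Z ≤ R) (hZT : Z ≤ T) : img f Z ≤ T :=
  img_le fun _ hx => stronglyClosed_mem hTc hf (hZR hx) (hZT hx)

theorem fullyCentralized_of_sub {R : Subgroup Ω} {D C : FusionSystem S}
    (h : D.IsSubsystemOf C) (hR : C.IsFullyCentralized R) : D.IsFullyCentralized R :=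
  ⟨hR.1, fun _ hQ => hR.2 _ (by obtain ⟨φ, hφ, he⟩ := hQ; exact ⟨φ, h _ hφ, he⟩)⟩

theorem autInducedBy_mono {A B R : Subgroup Ω} (h : A ≤ B) :
    autInducedBy A R ≤ autInducedBy B R := fun α hα => by
  obtain ⟨g, hg, he⟩ := mem_autInducedBy_iff.1 hα
  exact mem_autInducedBy_iff.2 ⟨g, h hg, he⟩

variable [Finite S] [hp : Fact p.Prime] {F E : FusionSystem S}

/-- At a fully normalized subgroup a `p`-group of automorphisms is induced by `S`. -/
theorem induced_of_isPGroup (hS : IsPGroup p S) (hF : F.IsSaturated p) {P : Subgroup Ω}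
    (hP : F.IsFullyNormalized P) (hA : IsPGroup p (F.autGroup P)) {α : MulAut P}
    (hα : α ∈ F.autGroup P) : ∃ g ∈ S, ∀ x ∈ P, autFun α x = cj g x := by
  obtain ⟨R, hR⟩ := (fullyNormalized_fullyAutomized hS hF hP).2
  have htop : (⊤ : Subgroup (F.autGroup P)) = R := R.3 (hA.to_subgroup ⊤) le_top
  have h1 : (⟨α, hα⟩ : F.autGroup P) ∈ (R : Subgroup (F.autGroup P)) := htop ▸ Subgroup.mem_top _
  rw [hR] at h1
  obtain ⟨g, hg, he⟩ := mem_autInducedBy_iff'.1 (Subgroup.mem_subgroupOf.1 h1)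
  exact ⟨g, hg.1, he⟩

/-- A map fixing pointwise a fully centralized self-centralizing normal subgroup `Q` of its source
belongs to `E` once the larger maps do. -/
theorem fix_mem {S' : Subgroup Ω} [Finite S'] (hS' : IsPGroup p S') (hS'S : S' ≤ S)
    {C : FusionSystem S'} (hC : C.IsSaturated p) {Q P₁ : Subgroup Ω} (hQ : C.IsFullyCentralized Q)
    (hQP : Q ≤ P₁) (hP₁ : P₁ ≤ Subgroup.normalizer (Q : Set Ω))
    (hCQ : ∀ x ∈ P₁, x ∈ Subgroup.centralizer (Q : Set Ω) → x ∈ Q)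
    (hbig : ∀ R f, Q ≤ R → Nat.card P₁ < Nat.card R → IsMap C R f → IsMap E R f)
    {h : Ω → Ω} (hh : IsMap C P₁ h) (hfix : ∀ x ∈ Q, h x = x) : IsMap E P₁ h := by
  have hP₁S : P₁ ≤ S' := hh.le
  have : Finite P₁ := finite_of_le hP₁S
  have : Finite Q := finite_of_le (hQP.trans hP₁S)
  set K : Subgroup (MulAut Q) := autInducedBy P₁ Q with hKdef
  have hKp : IsPGroup p K := isPGroup_autInducedBy (hS'.to_le hP₁S)
  have hfull : KFull C p K := by
    refine ⟨hQ, ?_⟩
    have h1 : autInducedBy S' Q ⊓ K = K := inf_eq_right.2 (autInducedBy_mono hP₁S)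
    have h2 : C.autGroup Q ⊓ K = K :=
      inf_eq_right.2 ((autInducedBy_mono hP₁S).trans (autInducedBy_le (hQP.trans hP₁S)))
    rw [h1, h2, Subgroup.relIndex_self]
    exact hp.out.not_dvd_one
  have hPV : P₁ ≤ kNorm S' K := fun g hg => ⟨hP₁S hg, conjAut P₁ Q ⟨g, hg, hP₁ hg⟩,
    (conjAut_range P₁ Q).le ⟨_, rfl⟩, fun x hx => (conjAut_apply ⟨g, hg, hP₁ hg⟩ hx).symm⟩
  set V := kNorm S' K with hVdef
  have hVS : V ≤ S' := kNorm_le_S
  have : Finite V := finite_of_le hVS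
  obtain ⟨N, hN⟩ := exists_kSystem' (F := C) (K := K) hVdef (hQP.trans hP₁S)
  have hNsat : N.IsSaturated p := KNormalizer.saturated hS' hC hfull hVdef N hN
  have hmapN := isMap_kSystem_iff hN
  have hVp : IsPGroup p V := hS'.to_le hVS
  have hhN : IsMap N P₁ h := by
    refine (hmapN _ _).2 ⟨hPV, fun g hg => ⟨hh.mem hg, conjAut P₁ Q ⟨g, hg, hP₁ hg⟩,
      (conjAut_range P₁ Q).le ⟨_, rfl⟩, fun x hx => ?_⟩, h, hh.restrict (sup_le le_rfl hQP),
      fun _ _ => rfl, 1, K.one_mem, fun x hx => by rw [autFun_one]; exact hfix x hx⟩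
    rw [conjAut_apply ⟨g, hg, hP₁ hg⟩ hx, cj_apply, cj_apply]
    have hgx : g * x * g⁻¹ ∈ Q := (Subgroup.mem_normalizer_iff.1 (hP₁ hg) x).1 hx
    conv_rhs => rw [← hfix _ hgx, hh.map_conj hg (hQP hx), hfix x hx]
  have hNC : ∀ R f, IsMap N R f → IsMap C R f := fun R f hf => ((hmapN R f).1 hf).isMap
  obtain ⟨Ps, hPPs, hPs⟩ := exists_fullyNormalized (F := N) hPV
  obtain ⟨u, hu, hPs'⟩ := isConj_iff_map.1 hPPs
  obtain ⟨-, -, gu, hgu, hgue, hguK⟩ := (hmapN _ _).1 hu
  have huQ : img u Q = Q := by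
    rw [img_congr (g := gu) fun x hx => (hgue x (hQP hx)).symm, hguK.img_eq]
  have hQPs : Q ≤ Ps := by
    rw [← hPs', ← huQ]; exact img_mono u hQP
  have hCPs : ∀ y ∈ Ps, y ∈ Subgroup.centralizer (Q : Set Ω) → y ∈ Q := by
    intro y hy hyc
    obtain ⟨x, hx, rfl⟩ := hu.mem_img.1 (hPs'.symm ▸ hy)
    have hxQ : x ∈ Q := by
      refine hCQ x hx fun q hq => ?_
      have hq' : u q ∈ Q := huQ.le (mem_img_self u hq)
      refine hu.inj (P₁.mul_mem (hQP hq) hx) (P₁.mul_mem hx (hQP hq)) ?_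
      rw [hu.map_mul (hQP hq) hx, hu.map_mul hx (hQP hq)]
      exact hyc _ hq'
    exact huQ.le (mem_img_self u hxQ)
  have hPsV : Ps ≤ V := (isConj_le hPPs).2
  have : Finite Ps := finite_of_le hPsV
  have hAp : IsPGroup p (N.autGroup Ps) := by
    refine Cfsg.Agent.CharP.isPGroup_of_forall_coprime fun a ha hcop => ?_
    have ham : IsMap N Ps (autFun a) := isMap_of_mem_autGroup hPsV ha
    obtain ⟨-, -, g, hg, hge, k, hk, hke⟩ := (hmapN _ _).1 ham
    have hres : ∀ x ∈ Q, autFun a x = autFun k x := fun x hx => by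
      rw [← hge x (hQPs hx)]; exact hke x hx
    have hpow : ∀ m : ℕ, ∀ x ∈ Q, autFun (a ^ m) x = autFun (k ^ m) x := by
      intro m
      induction m with
      | zero => intro x _; rw [pow_zero, pow_zero, autFun_one, autFun_one]
      | succ m ih =>
        intro x hx
        rw [pow_succ', pow_succ', autFun_mul, autFun_mul, ih x hx, hres _ (autFun_mem _ hx)]
    have hk1 : k = 1 := by
      obtain ⟨e, he⟩ := hKp ⟨k, hk⟩
      have he' : k ^ p ^ e = 1 := congrArg Subtype.val he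
      have ha1 : k ^ orderOf a = 1 := autFun_ext fun x hx => by
        rw [← hpow _ x hx, pow_orderOf_eq_one, autFun_one, autFun_one]
      exact orderOf_eq_one_iff.1 (Nat.eq_one_of_dvd_coprimes (hcop.pow_right e)
        (orderOf_dvd_of_pow_eq_one ha1) (orderOf_dvd_of_pow_eq_one he'))
    have hfixQ : ∀ x ∈ Q, autFun a x = x := fun x hx => by
      rw [hres x hx, hk1, autFun_one]; rfl
    refine aut_eq_one_of_diff_fixed (hVp.to_le hPsV) a hcop fun x => Subtype.ext ?_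
    rw [← autFun_apply]
    refine hfixQ _ (hCPs _ (SetLike.coe_mem _) fun q hq => ?_)
    have hxN : (x : Ω) ∈ Subgroup.normalizer (Q : Set Ω) := (kNorm_le (hPsV x.2)).2
    have hqx : (x : Ω) * q * (x : Ω)⁻¹ ∈ Q := (Subgroup.mem_normalizer_iff.1 hxN q).1 hq
    have h1 := ham.map_conj x.2 (hQPs hq)
    rw [hfixQ _ hqx, hfixQ q hq, autFun_apply] at h1
    simp only [Subgroup.coe_mul, Subgroup.coe_inv]
    calc q * ((x : Ω)⁻¹ * ((a x : Ps) : Ω))
        = (x : Ω)⁻¹ * ((x : Ω) * q * (x : Ω)⁻¹) * ((a x : Ps) : Ω) := by group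
      _ = (x : Ω)⁻¹ * (((a x : Ps) : Ω) * q * (((a x : Ps) : Ω))⁻¹) * ((a x : Ps) : Ω) := by rw [h1]
      _ = (x : Ω)⁻¹ * ((a x : Ps) : Ω) * q := by group
  have haut : ∀ f, IsMap N Ps f → img f Ps = Ps → IsMap E Ps f := by
    intro f hf himg
    obtain ⟨α, hα, he⟩ := hf.exists_aut himg
    obtain ⟨g, hg, hge⟩ := induced_of_isPGroup hVp hNsat hPs hAp hα
    exact (isMap_cj (hPsV.trans (hVS.trans hS'S)) (hS'S (hVS hg))).congr
      fun x hx => (hge x hx).symm.trans (he x hx)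
  rcases eq_or_lt_of_le hPV with hPeq | hlt
  · have h1 : Ps = P₁ := (Alperin.eq_top_of_card hPV hPPs hPeq).trans hPeq.symm
    subst h1
    exact haut h hhN (eq_of_le_card (by
      intro x hx
      exact hPeq.ge (hhN.img_le_S hx)) hhN.card_img.ge)
  have hstep : ∀ R : Subgroup Ω, N.IsConj R P₁ → Q ≤ R →
      ∃ g, IsMap N R g ∧ IsMap E R g ∧ img g R = Ps := by
    intro R hR hQR
    obtain ⟨g, hg, hgi⟩ := exists_map_to_fullyNormalized hVp hNsat hPs (isConj_trans hR hPPs)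
    have hRV := (isConj_le hR).1
    have : Finite (normalizerIn V R) := finite_of_le normalizerIn_le
    have hlt' : R < V := by
      refine lt_of_le_of_ne hRV fun hRV' => hlt.ne ?_
      exact Alperin.eq_top_of_card hRV hR hRV'
    have hc : Nat.card P₁ < Nat.card (normalizerIn V R) := by
      rw [isConj_card hR]; exact card_lt_card (lt_normalizerIn hVp hlt')
    exact ⟨g, hg.restrict (le_normalizerIn hRV),
      (hbig _ _ (hQR.trans (le_normalizerIn hRV)) hc (hNC _ _ hg)).restrict (le_normalizerIn hRV),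
      hgi⟩
  obtain ⟨g₁, hg₁, hg₁E, hg₁Q⟩ := hstep P₁ (isConj_refl hPV) hQP
  have hQimg : Q ≤ img h P₁ := fun x hx => hfix x hx ▸ mem_img_self h (hQP hx)
  obtain ⟨g₂, hg₂, hg₂E, hg₂Q⟩ := hstep (img h P₁) (isConj_symm hhN.isConj) hQimg
  obtain ⟨i₁, hi₁, hi₁img, hi₁g, -⟩ := hg₁.exists_inv
  obtain ⟨i₂, hi₂, hi₂img, hi₂g, -⟩ := hg₂E.exists_inv
  have hmapsto : ∀ x ∈ img g₁ P₁, i₁ x ∈ P₁ := fun x hx => le_of_eq hi₁img (mem_img_self i₁ hx)
  have hin : IsMap N (img g₁ P₁) (fun x => h (i₁ x)) := hhN.comp hi₁ hmapsto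
  have hcomp : IsMap N (img g₁ P₁) (fun x => g₂ (h (i₁ x))) :=
    hg₂.comp hin fun x hx => mem_img_self h (hmapsto x hx)
  have himg : img (fun x => g₂ (h (i₁ x))) (img g₁ P₁) = img g₁ P₁ := by
    rw [← hin.img_img g₂, ← hi₁.img_img h, hi₁img, hg₂Q, hg₁Q]
  rw [hg₁Q] at hcomp himg
  have hαE := haut _ hcomp himg
  have h1 : IsMap E P₁ (fun x => g₂ (h (i₁ (g₁ x)))) :=
    hαE.comp hg₁E fun x hx => hg₁Q.le (mem_img_self g₁ hx)
  refine (hi₂.comp h1 fun x hx => ?_).congr fun x hx => ?_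
  · rw [hi₁g x hx]; exact mem_img_self g₂ (mem_img_self h hx)
  · show i₂ (g₂ (h (i₁ (g₁ x)))) = h x
    rw [hi₁g x hx, hi₂g _ (mem_img_self h hx)]

/-- Two maps of `C` that agree on such a subgroup lie in `E` together. -/
theorem mem_of_agree {S' : Subgroup Ω} [Finite S'] (hS' : IsPGroup p S') (hS'S : S' ≤ S)
    {C : FusionSystem S'} (hC : C.IsSaturated p) {Q X : Subgroup Ω} (hQX : Q ≤ X)
    (hX : X ≤ Subgroup.normalizer (Q : Set Ω))
    (hCQ : ∀ x ∈ X, x ∈ Subgroup.centralizer (Q : Set Ω) → x ∈ Q)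
    {u v : Ω → Ω} (hu : IsMap C X u) (hv : IsMap C X v) (hvE : IsMap E X v)
    (heq : ∀ x ∈ Q, u x = v x) (hfc : C.IsFullyCentralized (img u Q))
    (hbig : ∀ R f, img u Q ≤ R → Nat.card X < Nat.card R → IsMap C R f → IsMap E R f) :
    IsMap E X u := by
  obtain ⟨i, hi, hii, hiu, hui⟩ := hu.exists_inv
  have hmaps : ∀ y ∈ img u X, i y ∈ X := fun y hy => le_of_eq hii (mem_img_self i hy)
  have hh : IsMap C (img u X) (fun y => v (i y)) := hv.comp hi hmaps
  have hfix : ∀ y ∈ img u Q, v (i y) = y := by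
    intro y hy
    obtain ⟨x, hx, rfl⟩ := (hu.restrict hQX).mem_img.1 hy
    rw [hiu x (hQX hx), heq x hx]
  have hE := fix_mem (E := E) hS' hS'S hC hfc (img_mono u hQX) ?_ ?_
    (fun R f hR hc => hbig R f hR (by rwa [hu.card_img] at hc)) hh hfix
  · obtain ⟨j, hj, hji, hjh, -⟩ := hE.exists_inv
    have himg : ∀ x ∈ X, v x ∈ img (fun y => v (i y)) (img u X) := fun x hx => by
      have := mem_img_self (fun y => v (i y)) (mem_img_self u hx)
      simpa only [hiu x hx] using this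
    refine (hj.comp hvE himg).congr fun x hx => ?_
    have := hjh (u x) (mem_img_self u hx)
    rwa [hiu x hx] at this
  · intro y hy
    obtain ⟨x, hx, rfl⟩ := hu.mem_img.1 hy
    exact hu.mem_normalizer_img hQX hx (hX hx)
  · intro y hy hyc
    obtain ⟨x, hx, rfl⟩ := hu.mem_img.1 hy
    refine mem_img_self u (hCQ x hx fun q hq => ?_)
    refine hu.inj (X.mul_mem (hQX hq) hx) (X.mul_mem hx (hQX hq)) ?_
    rw [hu.map_mul (hQX hq) hx, hu.map_mul hx (hQX hq)]
    exact hyc _ (mem_img_self u hq)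

/-- The centralizer system of `Z` as a system on `S'`, described on functions. -/
theorem isKMap_bot_of {Z P : Subgroup Ω} {F : FusionSystem S} {f : Ω → Ω} (hZP : Z ≤ P)
    (hPC : P ≤ Subgroup.centralizer (Z : Set Ω)) (hf : IsMap F P f) (hfix : ∀ z ∈ Z, f z = z) :
    IsKMap F (⊥ : Subgroup (MulAut Z)) P f := by
  have hmem : ∀ x ∈ P, x ∈ kNorm S (⊥ : Subgroup (MulAut Z)) := fun x hx => by
    rw [kNorm_bot]; exact ⟨hf.le hx, hPC hx⟩
  refine ⟨hmem, fun x hx => ?_, f, by rwa [sup_of_le_left hZP], fun _ _ => rfl, 1,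
    Subgroup.one_mem _, fun z hz => by rw [autFun_one]; exact hfix z hz⟩
  rw [kNorm_bot]
  refine ⟨hf.mem hx, fun z hz => ?_⟩
  have h1 : z * x = x * z := hPC hx z hz
  calc z * f x = f z * f x := by rw [hfix z hz]
    _ = f (z * x) := (hf.map_mul (hZP hz) hx).symm
    _ = f (x * z) := by rw [h1]
    _ = f x * f z := hf.map_mul hx (hZP hz)
    _ = f x * z := by rw [hfix z hz]

theorem kmap_fix {Z P : Subgroup Ω} {F : FusionSystem S} {f : Ω → Ω}
    (h : IsKMap F (⊥ : Subgroup (MulAut Z)) P f) (hZP : Z ≤ P) : ∀ z ∈ Z, f z = z := by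
  obtain ⟨-, -, g, -, he, k, hk, hke⟩ := h
  intro z hz
  rw [← he z (hZP hz), hke z hz, Subgroup.mem_bot.1 hk, autFun_one]
  rfl

/-- A map of `C` whose restriction to `Q` lies in `D` lies in `E`, by extending that restriction
in `D`. -/
theorem mem_of_restrict {S' : Subgroup Ω} [Finite S'] (hS' : IsPGroup p S') (hS'S : S' ≤ S)
    {C D : FusionSystem S'} (hC : C.IsSaturated p) (hD : D.IsSaturated p) (hDC : D.IsSubsystemOf C)
    (hDE : D.IsSubsystemOf E) {Q R : Subgroup Ω} (hQR : Q ≤ R)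
    (hR : R ≤ Subgroup.normalizer (Q : Set Ω))
    (hCQ : ∀ x ∈ R, x ∈ Subgroup.centralizer (Q : Set Ω) → x ∈ Q)
    {u : Ω → Ω} (hu : IsMap C R u) (huQ : IsMap D Q u) (hfc : C.IsFullyCentralized (img u Q))
    (hbig : ∀ R₁ f, img u Q ≤ R₁ → Nat.card R < Nat.card R₁ → IsMap C R₁ f → IsMap E R₁ f) :
    IsMap E R u := by
  obtain ⟨γ, hγ, hγe⟩ := exists_extension hS' hD huQ (fullyCentralized_of_sub hDC hfc)
  have hRle : R ≤ nSub S' Q u := fun g hg => ⟨hu.le hg, hR hg, u g, hu.mem hg,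
    fun x hx => hu.map_conj hg (hQR hx)⟩
  exact mem_of_agree hS' hS'S hC hQR hR hCQ hu (isMap_of_subset hDC (hγ.restrict hRle))
    (isMap_of_subset hDE (hγ.restrict hRle)) (fun x hx => (hγe x hx).symm) hfc hbig

/-- The maps fixing a fully centralized small abelian subgroup `Z`. -/
theorem core (hS : IsPGroup p S) (hF : F.IsSaturated p) (hE : E.IsSaturated p)
    (hEF : E.IsSubsystemOf F) (hTc : F.StronglyClosed T)
    (hT : ∀ P ≤ S, ∀ α ∈ F.autGroup P, (orderOf α).Coprime p → ∀ x ∈ P,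
      x⁻¹ * autFun α x ∈ T)
    {Z : Subgroup Ω} (hZ : IsGood p Z) (hZT : Z ≤ T) (hZfc : F.IsFullyCentralized Z)
    (hrec : ∀ Z' : Subgroup Ω, IsGood p Z' → Z' ≤ T → Nat.card Z < Nat.card Z' →
      ∀ Q f, Z' ≤ Q → Q ≤ Subgroup.centralizer (Z' : Set Ω) → IsMap F Q f → IsMap E Q f)
    {P : Subgroup Ω} {f : Ω → Ω} (hZP : Z ≤ P) (hPC : P ≤ Subgroup.centralizer (Z : Set Ω))
    (hf : IsMap F P f) (hfix : ∀ z ∈ Z, f z = z) : IsMap E P f := by
  have hZS : Z ≤ S := hZfc.1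
  set S' := kNorm S (⊥ : Subgroup (MulAut Z)) with hS'def
  have hS'S : S' ≤ S := kNorm_le_S
  have : Finite S' := finite_of_le hS'S
  have hS' : IsPGroup p S' := hS.to_le hS'S
  obtain ⟨C, hCN⟩ := exists_kSystem' (F := F) (K := (⊥ : Subgroup (MulAut Z))) hS'def hZS
  obtain ⟨D, hDN⟩ := exists_kSystem' (F := E) (K := (⊥ : Subgroup (MulAut Z))) hS'def hZS
  have hC : C.IsSaturated p := KNormalizer.saturated hS hF (kFull_bot hZfc) hS'def C hCN
  have hD : D.IsSaturated p := KNormalizer.saturated hS hE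
    (kFull_bot (fullyCentralized_of_sub hEF hZfc)) hS'def D hDN
  have hmC := isMap_kSystem_iff hCN
  have hmD := isMap_kSystem_iff hDN
  have hDC : D.IsSubsystemOf C := fun R => subset_of_isMap fun g hg => by
    obtain ⟨h1, h2, k, hk, hke, hkK⟩ := (hmD R g).1 hg
    exact (hmC R g).2 ⟨h1, h2, k, isMap_of_subset hEF hk, hke, hkK⟩
  have hDE : D.IsSubsystemOf E := fun R => subset_of_isMap fun g hg => ((hmD R g).1 hg).isMap
  have hCF : ∀ R g, IsMap C R g → IsMap F R g := fun R g hg => ((hmC R g).1 hg).isMap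
  have hS'Z : ∀ x ∈ S', x ∈ Subgroup.centralizer (Z : Set Ω) := fun x hx => by
    rw [hS'def, kNorm_bot] at hx; exact hx.2
  have hCfix : ∀ R g, Z ≤ R → IsMap C R g → ∀ z ∈ Z, g z = z := fun R g hR hg =>
    kmap_fix ((hmC R g).1 hg) hR
  suffices hall : ∀ P f, Z ≤ P → IsMap C P f → IsMap E P f from
    hall P f hZP ((hmC P f).2 (isKMap_bot_of hZP hPC hf hfix))
  clear hf hfix hPC hZP f P
  intro P f hZP hf
  induction hn : Nat.card S' - Nat.card P using Nat.strong_induction_on generalizing P f with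
  | _ n ih =>
  have hP := hf.le
  have : Finite P := finite_of_le hP
  have hbig : ∀ R g, Z ≤ R → Nat.card P < Nat.card R → IsMap C R g → IsMap E R g := by
    intro R g hR hc hg
    have := card_le_card hg.le
    exact ih (Nat.card S' - Nat.card R) (by omega) R g hR hg rfl
  have haut : ∀ R : Subgroup Ω, Nat.card R = Nat.card P → Z ≤ R → C.IsFullyNormalized R →
      ∀ α ∈ C.autGroup R, IsMap E R (autFun α) := by
    intro R hRc hZR hRn α hα
    have hRS' := hRn.1
    have hRS : R ≤ S := hRS'.trans hS'S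
    have : Finite R := finite_of_le hRS'
    set K := T ⊓ R with hKdef
    have : Finite K := finite_of_le (inf_le_right : K ≤ R)
    obtain ⟨E', hE'K, hE'c, hE's, hdet⟩ :=
      exists_detect_sub (hS.to_le ((inf_le_right : K ≤ R).trans hRS))
    by_cases hE'Z : E' ≤ Z
    · have hAp : IsPGroup p (C.autGroup R) := by
        refine Cfsg.Agent.CharP.isPGroup_of_forall_coprime fun a ha hcop => ?_
        have ham : IsMap C R (autFun a) := isMap_of_mem_autGroup hRS' ha
        have haF : a ∈ F.autGroup R := (mem_autGroup_iff hRS).2 (hCF _ _ ham)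
        exact hdet R inf_le_right (hS.to_le hRS) a hcop
          (fun x hx => ⟨stronglyClosed_mem hTc (hCF _ _ ham) hx.2 hx.1, autFun_mem a hx.2⟩)
          (fun x hx => ⟨hT R hRS a haF hcop x hx, R.mul_mem (R.inv_mem hx) (autFun_mem a hx)⟩)
          fun x hx => hCfix R _ hZR ham x (hE'Z hx)
      obtain ⟨g, hg, hge⟩ := induced_of_isPGroup hS' hC hRn hAp hα
      exact (isMap_cj hRS (hS'S hg)).congr fun x hx => (hge x hx).symm
    have hE'conj : ∀ g ∈ R, ∀ x ∈ E', g * x * g⁻¹ ∈ E' := by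
      intro g hg x hx
      have hgK : g ∈ Subgroup.normalizer (K : Set Ω) := by
        have : Finite K := finite_of_le (inf_le_right : K ≤ R)
        refine mem_normalizer_of_forall fun y hy => ⟨?_, ?_⟩
        · exact (Subgroup.mem_normalizer_iff.1
            (le_normalizer_of_stronglyClosed hTc (hRS hg)) y).1 hy.1
        · exact R.mul_mem (R.mul_mem hg hy.2) (R.inv_mem hg)
      have h1 := char_img_eq (F := F) hE'K hE'c (isMap_cj ((inf_le_right : K ≤ R).trans hRS) (hRS hg))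
        (img_cj_eq_of_mem_normalizer hgK)
      exact h1.le (mem_img_self (cj g) hx)
    have hRp : IsPGroup p R := hS.to_le hRS
    have hnil : Group.IsNilpotent R := hRp.isNilpotent
    obtain ⟨x, hxE, hxZ, hxconj⟩ : ∃ x ∈ E', x ∉ Z ∧
        ∀ g ∈ R, x⁻¹ * (g * x * g⁻¹) ∈ Z := by
      classical
      obtain ⟨m, hm⟩ := hnil.nilpotent'
      have hex : ∃ j, ¬ E' ⊓ zSeries R j ≤ Z := by
        refine ⟨m, fun h => hE'Z fun y hy => h ⟨hy, ?_⟩⟩
        rw [zSeries, hm, ← MonoidHom.range_eq_map, Subgroup.range_subtype]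
        exact (hE'K hy).2
      obtain ⟨i, hi⟩ : ∃ i, Nat.find hex = i + 1 := by
        refine Nat.exists_eq_succ_of_ne_zero fun h0 => ?_
        have := Nat.find_spec hex
        rw [h0] at this
        refine this fun y hy => ?_
        have hy2 := hy.2
        rw [zSeries, Subgroup.upperCentralSeries_zero, Subgroup.map_bot] at hy2
        rw [Subgroup.mem_bot.1 hy2]
        exact Z.one_mem
      have h1 := Nat.find_spec hex
      have h2 : E' ⊓ zSeries R i ≤ Z := not_not.1 (Nat.find_min hex (by omega))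
      rw [hi] at h1
      obtain ⟨x, hx, hxZ⟩ := SetLike.not_le_iff_exists.1 h1
      exact ⟨x, hx.1, hxZ, fun g hg => h2 ⟨E'.mul_mem (E'.inv_mem hx.1) (hE'conj g hg x hx.1),
        zSeries_comm hg hx.2⟩⟩
    have hxR : x ∈ R := (hE'K hxE).2
    have hRZ : ∀ g ∈ R, ∀ z ∈ Z, z * g = g * z := fun g hg z hz => hS'Z g (hRS' hg) z hz
    set Z' := Z ⊔ Subgroup.zpowers x with hZ'def
    have hZ' : IsGood p Z' := hZ.extend (hE's x hxE) (hRZ x hxR)
    have hZ'R : Z' ≤ R := sup_le hZR (Subgroup.zpowers_le.2 hxR)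
    have hZ'T : Z' ≤ T := sup_le hZT (Subgroup.zpowers_le.2 (hE'K hxE).1)
    have : Finite Z' := finite_of_le hZ'R
    have hcard : Nat.card Z < Nat.card Z' := card_lt_card <| lt_of_le_of_ne le_sup_left
      fun h => hxZ (h.symm.le (Subgroup.mem_sup_right (Subgroup.mem_zpowers x)))
    have hRZ' : R ≤ Subgroup.normalizer (Z' : Set Ω) := by
      intro g hg
      refine mem_normalizer_of_forall fun y hy => ?_
      have h1 : Z' ≤ Z'.comap (MulAut.conj g).toMonoidHom := by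
        refine sup_le (fun z hz => ?_) (Subgroup.zpowers_le.2 ?_)
        · show g * z * g⁻¹ ∈ Z'
          rw [← hRZ g hg z hz, mul_inv_cancel_right]
          exact Subgroup.mem_sup_left hz
        · show g * x * g⁻¹ ∈ Z'
          have := Z'.mul_mem (Subgroup.mem_sup_right (Subgroup.mem_zpowers x))
            (Subgroup.mem_sup_left (hxconj g hg))
          rwa [mul_inv_cancel_left] at this
      exact h1 hy
    set Q := R ⊓ Subgroup.centralizer (Z' : Set Ω) with hQdef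
    have hQR : Q ≤ R := inf_le_left
    have hZ'Q : Z' ≤ Q := le_inf hZ'R fun y hy z hz => hZ'.1 z hz y hy
    have hZQ : Z ≤ Q := le_sup_left.trans hZ'Q
    have hQn : R ≤ Subgroup.normalizer (Q : Set Ω) := by
      intro g hg
      have : Finite Q := finite_of_le hQR
      refine mem_normalizer_of_forall fun y hy => ⟨R.mul_mem (R.mul_mem hg hy.1) (R.inv_mem hg),
        fun z hz => ?_⟩
      have hz' := (Subgroup.mem_normalizer_iff.1 (Subgroup.inv_mem _ (hRZ' hg)) z).1 hz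
      rw [inv_inv] at hz'
      have h3 := hy.2 _ hz'
      calc z * (g * y * g⁻¹) = g * (g⁻¹ * z * g * y) * g⁻¹ := by group
        _ = g * (y * (g⁻¹ * z * g)) * g⁻¹ := by rw [h3]
        _ = g * y * g⁻¹ * z := by group
    have hCQ : ∀ y ∈ R, y ∈ Subgroup.centralizer (Q : Set Ω) → y ∈ Q := fun y hy hyc =>
      ⟨hy, fun z hz => hyc z (hZ'Q hz)⟩
    set a := autFun α with hadef
    have ha : IsMap C R a := isMap_of_mem_autGroup hRS' hα
    have haR : img a R = R := autFun_img α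
    have haE : IsMap E Q a := hrec Z' hZ' hZ'T hcard Q a hZ'Q inf_le_right
      ((hCF _ _ ha).restrict hQR)
    set Qi := img a Q with hQidef
    have hQiR : Qi ≤ R := (img_mono a hQR).trans haR.le
    have hRQi : R ≤ Subgroup.normalizer (Qi : Set Ω) := by
      intro g hg
      obtain ⟨y, hy, rfl⟩ := ha.mem_img.1 (haR.ge hg)
      exact ha.mem_normalizer_img hQR hy (hQn hy)
    have hCQi : ∀ y ∈ R, y ∈ Subgroup.centralizer (Qi : Set Ω) → y ∈ Qi := by
      intro y hy hyc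
      obtain ⟨y₀, hy₀, rfl⟩ := ha.mem_img.1 (haR.ge hy)
      refine mem_img_self a (hCQ y₀ hy₀ fun q hq => ?_)
      refine ha.inj (R.mul_mem (hQR hq) hy₀) (R.mul_mem hy₀ (hQR hq)) ?_
      rw [ha.map_mul (hQR hq) hy₀, ha.map_mul hy₀ (hQR hq)]
      exact hyc _ (mem_img_self a hq)
    obtain ⟨Rq, hQq, hRq⟩ := exists_fullyNormalized (F := C) (hQiR.trans hRS')
    obtain ⟨φ, hφ, hφi⟩ := exists_map_to_fullyNormalized hS' hC hRq hQq
    have hRle : R ≤ normalizerIn S' Qi := le_inf hRS' hRQi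
    have hφR : IsMap C R φ := hφ.restrict hRle
    have hZQi : Z ≤ Qi := fun z hz => by
      have := mem_img_self a (hZQ hz)
      rwa [hCfix R a hZR ha z hz] at this
    have hφE : IsMap E Qi φ := by
      have haF : IsMap F R a := hCF _ _ ha
      refine hrec (img a Z') (hZ'.img haF hZ'R) (img_le_of_closed hTc haF hZ'R hZ'T)
        (hcard.trans_le (haF.restrict hZ'R).card_img.ge) Qi φ (img_mono a hZ'Q) ?_
        ((hCF _ _ hφR).restrict hQiR)
      exact img_le fun y hy => haF.mem_centralizer_img hZ'R (hQR hy) hy.2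
    have hfc : C.IsFullyCentralized Rq := fullyNormalized_fullyCentralized hS' hC hRq
    have hZRq : Z ≤ Rq := fun z hz => by
      rw [← hφi]
      have := mem_img_self φ (hZQi hz)
      rwa [hCfix R φ hZR hφR z hz] at this
    have hbig' : ∀ R₁ g, Rq ≤ R₁ → Nat.card R < Nat.card R₁ → IsMap C R₁ g → IsMap E R₁ g :=
      fun R₁ g h1 h2 h3 => hbig R₁ g (hZRq.trans h1) (hRc ▸ h2) h3
    have hφD : IsMap D Qi φ :=
      (hmD _ _).2 (isKMap_bot_of hZQi (fun y hy => hS'Z y (hRS' (hQiR hy))) hφE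
        fun z hz => hCfix R φ hZR hφR z hz)
    have h1 : IsMap E R φ := mem_of_restrict hS' hS'S hC hD hDC hDE hQiR hRQi hCQi hφR hφD
      (hφi.symm ▸ hfc) (hφi.symm ▸ hbig')
    have hmaps : ∀ y ∈ R, a y ∈ R := fun y hy => autFun_mem α hy
    have hw : IsMap C R (fun y => φ (a y)) := hφR.comp ha hmaps
    have hwi : img (fun y => φ (a y)) Q = Rq := by rw [← (ha.restrict hQR).img_img φ]; exact hφi
    have hwD : IsMap D Q (fun y => φ (a y)) :=
      (hmD _ _).2 (isKMap_bot_of hZQ (fun y hy => hS'Z y (hRS' (hQR hy)))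
        (hφE.comp haE fun y hy => mem_img_self a hy)
        fun z hz => hCfix R _ hZR hw z hz)
    have h2 : IsMap E R (fun y => φ (a y)) := mem_of_restrict hS' hS'S hC hD hDC hDE hQR hQn hCQ
      hw hwD (hwi.symm ▸ hfc) (hwi.symm ▸ hbig')
    obtain ⟨j, hj, -, hjφ, -⟩ := h1.exists_inv
    exact (hj.comp h2 fun y hy => mem_img_self φ (hmaps y hy)).congr
      fun y hy => hjφ _ (hmaps y hy)
  have hfE : ∀ R g, Z ≤ R → Nat.card R = Nat.card P → C.IsFullyNormalized R →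
      IsMap C R g → img g R = R → IsMap E R g := by
    intro R g hR hc hn hg hi
    obtain ⟨α, hα, he⟩ := hg.exists_aut hi
    exact (haut R hc hR hn α hα).congr he
  rcases eq_or_lt_of_le hP with hPS | hlt
  · have himg : img f P = P := (Alperin.eq_top_of_card hP hf.isConj hPS).trans hPS.symm
    have hn : C.IsFullyNormalized P := by
      refine ⟨hP, fun R hR => ?_⟩
      rw [Alperin.eq_top_of_card hP hR hPS, hPS]
    exact hfE P f hZP rfl hn hf himg
  obtain ⟨Q, hPQ, hQ⟩ := exists_fullyNormalized (F := C) hP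
  have hstep : ∀ R : Subgroup Ω, C.IsConj R P → Z ≤ R →
      ∃ g, IsMap C R g ∧ IsMap E R g ∧ img g R = Q := by
    intro R hR hZR
    obtain ⟨g, hg, hgQ⟩ := exists_map_to_fullyNormalized hS' hC hQ (isConj_trans hR hPQ)
    have hRS := (isConj_le hR).1
    have hRlt : R < S' := by
      refine lt_of_le_of_ne hRS fun h => hlt.ne ?_
      exact Alperin.eq_top_of_card hRS hR h
    have : Finite (normalizerIn S' R) := finite_of_le normalizerIn_le
    have h2 := card_lt_card (lt_normalizerIn hS' hRlt)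
    rw [← isConj_card hR] at h2
    exact ⟨g, hg.restrict (le_normalizerIn hRS),
      (hbig _ g (hZR.trans (le_normalizerIn hRS)) h2 hg).restrict (le_normalizerIn hRS), hgQ⟩
  have hZi : Z ≤ img f P := fun z hz => hCfix P f hZP hf z hz ▸ mem_img_self f (hZP hz)
  obtain ⟨g₁, hg₁, hg₁E, hg₁Q⟩ := hstep P (isConj_refl hP) hZP
  obtain ⟨g₂, hg₂, hg₂E, hg₂Q⟩ := hstep (img f P) (isConj_symm hf.isConj) hZi
  subst hg₁Q
  obtain ⟨i₁, hi₁, hi₁img, hi₁g, -⟩ := hg₁.exists_inv
  obtain ⟨i₂, hi₂, hi₂img, hi₂g, -⟩ := hg₂E.exists_inv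
  have hmapsto : ∀ x ∈ img g₁ P, i₁ x ∈ P := fun x hx => le_of_eq hi₁img (mem_img_self i₁ hx)
  have hin : IsMap C (img g₁ P) (fun x => f (i₁ x)) := hf.comp hi₁ hmapsto
  have hcomp : IsMap C (img g₁ P) (fun x => g₂ (f (i₁ x))) :=
    hg₂.comp hin fun x hx => mem_img_self f (hmapsto x hx)
  have himg : img (fun x => g₂ (f (i₁ x))) (img g₁ P) = img g₁ P := by
    rw [← hin.img_img g₂, ← hi₁.img_img f, hi₁img, hg₂Q]
  have hZ1 : Z ≤ img g₁ P := fun z hz => hCfix P g₁ hZP hg₁ z hz ▸ mem_img_self g₁ (hZP hz)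
  have hαE := hfE _ _ hZ1 (isConj_card hPQ) hQ hcomp himg
  have h1 : IsMap E P (fun x => g₂ (f (i₁ (g₁ x)))) :=
    hαE.comp hg₁E fun x hx => mem_img_self g₁ hx
  refine (hi₂.comp h1 fun x hx => ?_).congr fun x hx => ?_
  · rw [hi₁g x hx]; exact mem_img_self g₂ (mem_img_self f hx)
  · show i₂ (g₂ (f (i₁ (g₁ x)))) = f x
    rw [hi₁g x hx, hi₂g _ (mem_img_self f hx)]

/-- Small abelian subgroups of `T` control fusion. -/
theorem main (hS : IsPGroup p S) (hF : F.IsSaturated p) (hE : E.IsSaturated p)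
    (hEF : E.IsSubsystemOf F) (hTc : F.StronglyClosed T)
    (hT : ∀ P ≤ S, ∀ α ∈ F.autGroup P, (orderOf α).Coprime p → ∀ x ∈ P,
      x⁻¹ * autFun α x ∈ T)
    (H : ∀ Z : Subgroup Ω, IsGood p Z → Z ≤ T → ∀ f, IsMap F Z f → IsMap E Z f) :
    ∀ P : Subgroup Ω, E.Hom P = F.Hom P := by
  have key : ∀ Z : Subgroup Ω, IsGood p Z → Z ≤ T → ∀ Q f, Z ≤ Q →
      Q ≤ Subgroup.centralizer (Z : Set Ω) → IsMap F Q f → IsMap E Q f := by
    intro Z
    induction hn : Nat.card S - Nat.card Z using Nat.strong_induction_on generalizing Z with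
    | _ n ih =>
    intro hZ hZT Q f hZQ hQC hf
    have hZS : Z ≤ S := hZT.trans hTc.1
    obtain ⟨Zs, hconj, hZs⟩ := exists_fullyCentralized (F := F) hZS
    obtain ⟨ψ₀, hψ₀, hψ₀i⟩ := isConj_iff_map.1 hconj
    have hψE := H Z hZ hZT ψ₀ hψ₀
    have hZsg : IsGood p Zs := hψ₀i ▸ hZ.img hψ₀ le_rfl
    have hZsT : Zs ≤ T := hψ₀i ▸ img_le_of_closed hTc hψ₀ le_rfl hZT
    have hfZ : IsMap F Z f := hf.restrict hZQ
    obtain ⟨fi, hfi, hfii, hfif, hffi⟩ := hfZ.exists_inv
    have hmi : ∀ y ∈ img f Z, fi y ∈ Z := fun y hy => le_of_eq hfii (mem_img_self fi hy)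
    have hψ₁ : IsMap F (img f Z) (fun y => ψ₀ (fi y)) := hψ₀.comp hfi hmi
    have hψ₁E := H _ (hZ.img hfZ le_rfl) (img_le_of_closed hTc hfZ le_rfl hZT) _ hψ₁
    have hψ₁i : img (fun y => ψ₀ (fi y)) (img f Z) = Zs := by
      rw [← hfi.img_img ψ₀, hfii, hψ₀i]
    have hfcE := fullyCentralized_of_sub hEF hZs
    obtain ⟨ψ, hψ, hψe⟩ := exists_extension hS hE hψE (hψ₀i.symm ▸ hfcE)
    obtain ⟨ψ', hψ', hψ'e⟩ := exists_extension hS hE hψ₁E (hψ₁i.symm ▸ hfcE)
    have hQ1 : Q ≤ nSub S Z ψ₀ := fun y hy => centralizerIn_le_nSub ⟨hf.le hy, hQC hy⟩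
    have hQ2 : img f Q ≤ nSub S (img f Z) (fun y => ψ₀ (fi y)) :=
      img_le fun y hy => centralizerIn_le_nSub
        ⟨hf.mem hy, hf.mem_centralizer_img hZQ hy (hQC hy)⟩
    have hψQ := hψ.restrict hQ1
    obtain ⟨ψi, hψi, hψii, hψiψ, hψψi⟩ := hψQ.exists_inv
    have hmψ : ∀ y ∈ img ψ Q, ψi y ∈ Q := fun y hy => le_of_eq hψii (mem_img_self ψi hy)
    have hψ'f : IsMap F Q (fun y => ψ' (f y)) :=
      (isMap_of_subset hEF (hψ'.restrict hQ2)).comp hf fun y hy => mem_img_self f hy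
    have hh : IsMap F (img ψ Q) (fun y => ψ' (f (ψi y))) :=
      hψ'f.comp (isMap_of_subset hEF hψi) hmψ
    have hZsQ : Zs ≤ img ψ Q := by
      rw [← hψ₀i, ← img_congr hψe]
      exact img_mono ψ hZQ
    have hcore : IsMap E (img ψ Q) (fun y => ψ' (f (ψi y))) := by
      refine core hS hF hE hEF hTc hT hZsg hZsT hZs ?_ hZsQ ?_ hh fun z hz => ?_
      · intro Z' hZ' hZ'T hc
        have : Finite T := finite_of_le hTc.1
        have := card_le_card (hZ'T.trans hTc.1)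
        have := isConj_card hconj
        exact ih (Nat.card S - Nat.card Z') (by omega) Z' rfl hZ' hZ'T
      · rw [← hψ₀i, ← img_congr hψe]
        exact img_le fun y hy => hψQ.mem_centralizer_img hZQ hy (hQC hy)
      · obtain ⟨x, hx, rfl⟩ := hψ₀.mem_img.1 (hψ₀i.symm ▸ hz)
        show ψ' (f (ψi (ψ₀ x))) = ψ₀ x
        rw [← hψe x hx, hψiψ x (hZQ hx), hψ'e _ (mem_img_self f hx), hfif x hx, hψe x hx]
    have h2 : IsMap E Q (fun y => ψ' (f y)) :=
      (hcore.comp hψQ fun y hy => mem_img_self ψ hy).congr fun y hy => by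
        show ψ' (f (ψi (ψ y))) = _
        rw [hψiψ y hy]
    obtain ⟨j, hj, -, hjψ, -⟩ := (hψ'.restrict hQ2).exists_inv
    exact (hj.comp h2 fun y hy => mem_img_self ψ' (mem_img_self f hy)).congr
      fun y hy => hjψ _ (mem_img_self f hy)
  intro P
  refine Set.Subset.antisymm (hEF P) (subset_of_isMap fun f hf => ?_)
  exact key ⊥ isGood_bot bot_le P f bot_le
    (fun y _ z hz => by rw [Subgroup.mem_bot.1 hz, one_mul, mul_one]) hf

/-- The shape of the hypothesis of the statements. -/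
theorem agree_of_homSet (hTc : F.StronglyClosed T)
    (hodd : p ≠ 2 → ∀ A B : Subgroup Ω, A ≤ T → B ≤ T → Cfsg.IsElementaryAbelian p A →
      Cfsg.IsElementaryAbelian p B → E.homSet A B = F.homSet A B)
    (htwo : p = 2 → ∀ A B : Subgroup Ω, A ≤ T → B ≤ T → IsMulCommutative A →
      IsMulCommutative B → (∀ a ∈ A, a ^ 4 = 1) → (∀ b ∈ B, b ^ 4 = 1) →
      E.homSet A B = F.homSet A B)
    (Z : Subgroup Ω) (hZ : IsGood p Z) (hZT : Z ≤ T) (f : Ω → Ω) (hf : IsMap F Z f) :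
    IsMap E Z f := by
  have hB := hZ.img hf le_rfl
  have hBT := img_le_of_closed hTc hf le_rfl hZT
  have hcomm : ∀ A : Subgroup Ω, IsGood p A → IsMulCommutative A := fun A hA =>
    ⟨⟨fun x y => Subtype.ext (hA.1 x x.2 y y.2)⟩⟩
  have hsm : ∀ A : Subgroup Ω, IsGood p A → ∀ a ∈ A, a ^ smallExp p = 1 := fun A hA a ha =>
    isSmall_iff.1 (hA.2 a ha)
  have heq : E.homSet Z (img f Z) = F.homSet Z (img f Z) := by
    by_cases h : p = 2
    · have he : smallExp p = 4 := if_pos h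
      exact htwo h Z _ hZT hBT (hcomm _ hZ) (hcomm _ hB) (fun a ha => he ▸ hsm _ hZ a ha)
        (fun a ha => he ▸ hsm _ hB a ha)
    · have he : smallExp p = p := if_neg h
      exact hodd h Z _ hZT hBT ⟨hcomm _ hZ, fun a ha => he ▸ hsm _ hZ a ha⟩
        ⟨hcomm _ hB, fun a ha => he ▸ hsm _ hB a ha⟩
  have h1 : hf.hom ∈ F.homSet Z (img f Z) :=
    ⟨hf.hom_mem_self, fun x => by rw [IsMap.hom_apply]; exact mem_img_self f x.2⟩
  rw [← heq] at h1
  exact ⟨hf.hom, h1.1, fun x => IsMap.hom_apply hf x⟩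

end Cfsg.Agent.Fusion.SmallControl
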