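/-
3-groups with an element of order 3 with centralizer of order at most 9: outside the wreath product
every subgroup needs at most two generators.
-/
import Mathlib
import Cfsg.Agent.Lib.CharP.SmallCentralizer
import Cfsg.Agent.Lib.Cores.Nilpotent

set_option autoImplicit false
set_option linter.unusedSectionVars false

namespace Cfsg.Agent.Fusion.SmallThree

open Subgroup
open Cfsg.Agent.PGroups.MaximalClass
open Cfsg.Agent.CharP.SmallCentralizer
open scoped commutatorElement

variable {G : Type*} [Group G] [Finite G] {x : G}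

/-- The elements acting trivially on the two layers from the `i`-th on. -/
def twoStep (G : Type*) [Group G] (i : ℕ) : Subgroup G :=
  (centralizer (((lcs G i).map (QuotientGroup.mk' (lcs G (i + 2)))) : Set (G ⧸ lcs G (i + 2)))).comap
    (QuotientGroup.mk' (lcs G (i + 2)))

theorem mem_twoStep_iff {i : ℕ} {g : G} :
    g ∈ twoStep G i ↔ ∀ c ∈ lcs G i, ⁅g, c⁆ ∈ lcs G (i + 2) := by
  constructor
  · intro hg c hc
    rw [← QuotientGroup.eq_one_iff]
    show QuotientGroup.mk' (lcs G (i + 2)) ⁅g, c⁆ = 1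
    rw [map_commutatorElement, commutatorElement_eq_one_iff_mul_comm]
    exact (hg _ (mem_map_of_mem _ hc)).symm
  · rintro hg _ ⟨c, hc, rfl⟩
    have h := (QuotientGroup.eq_one_iff _).mpr (hg c hc)
    change QuotientGroup.mk' (lcs G (i + 2)) ⁅g, c⁆ = 1 at h
    rw [map_commutatorElement, commutatorElement_eq_one_iff_mul_comm] at h
    exact h.symm

/-- It suffices to commute with one generator of the layer. -/
theorem mem_twoStep_of_gen [Fact (Nat.Prime 3)] (h : Small 3 x) {i : ℕ} (hi : 1 ≤ i) {c g : G}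
    (hc : c ∈ lcs G i) (hc' : c ∉ lcs G (i + 1))
    (hg : QuotientGroup.mk' (lcs G (i + 2)) g * QuotientGroup.mk' (lcs G (i + 2)) c =
      QuotientGroup.mk' (lcs G (i + 2)) c * QuotientGroup.mk' (lcs G (i + 2)) g) :
    g ∈ twoStep G i := by
  rintro _ ⟨d, hd, rfl⟩
  set f := QuotientGroup.mk' (lcs G (i + 2))
  have hle : lcs G i ≤ (centralizer ({f g} : Set (G ⧸ lcs G (i + 2)))).comap f := by
    rw [h.generate hi hc hc']
    refine sup_le (fun d hd => ?_) (zpowers_le.mpr ?_)
    · rw [mem_comap, mem_centralizer_singleton_iff]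
      exact central_mod (j := i + 1) hd g
    · rw [mem_comap, mem_centralizer_singleton_iff]
      exact hg.symm
  exact mem_centralizer_singleton_iff.mp (hle hd)

theorem exists_layer_gen (hG : IsPGroup 3 G) [Fact (Nat.Prime 3)] {i : ℕ} (hne : lcs G i ≠ ⊥) :
    ∃ c ∈ lcs G i, c ∉ lcs G (i + 1) := by
  haveI := hG.isNilpotent
  by_contra hcon
  push Not at hcon
  exact hne (eq_bot_of_stable hcon)

section Main

variable [Fact (Nat.Prime 3)] (h : Small 3 x)
include h

theorem not_mem_twoStep {i : ℕ} (hi : 1 ≤ i) (hne : lcs G (i + 1) ≠ ⊥) : x ∉ twoStep G i := by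
  intro hx
  have hnb : lcs G i ≠ ⊥ := fun e => hne (le_bot_iff.mp (e ▸ lcs_le i))
  obtain ⟨c, hc, hc'⟩ := exists_layer_gen h.pgrp hnb
  refine hc' (h.layer hi hne hc ?_)
  rw [← inv_mem_iff, commutatorElement_inv]
  exact mem_twoStep_iff.mp (inv_mem hx) c hc

theorem derived_le_twoStep_one : commutator G ≤ twoStep G 1 := by
  intro g hg
  rw [mem_twoStep_iff]
  intro c hc
  refine lcs_commutator_le 1 1 (commutator_mem_commutator ?_ hc)
  rwa [lcs_one]

theorem index_twoStep_one (h2 : lcs G 2 ≠ ⊥) : (twoStep G 1).index = 3 := by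
  set f := QuotientGroup.mk' (lcs G 3) with hf
  haveI := h.pgrp.isNilpotent
  obtain ⟨t, ht, ht'⟩ := exists_layer_gen h.pgrp (fun e => h2 (le_bot_iff.mp (e ▸ lcs_le 1)))
  set C := centralizer ({f t} : Set (G ⧸ lcs G 3))
  have hCle : C.comap f ≤ twoStep G 1 := fun g hg => mem_twoStep_of_gen h le_rfl ht ht'
    (mem_centralizer_singleton_iff.mp hg)
  have hA : Nat.card ((lcs G 2).map f) ≤ 3 :=
    (card_le_of_le (image_le_fixed (by omega : 1 ≤ 2) rfl)).trans (h.card_fixed _ (lcs_le_commutator (by omega)))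
  have hindex : C.index ≤ 3 := by
    have hcl := card_classes (fun a : G ⧸ lcs G 3 => ⁅a, f t⁆)
      (((lcs G 2).map f : Subgroup _) : Set (G ⧸ lcs G 3)) (fun a => by
        obtain ⟨g, rfl⟩ := QuotientGroup.mk'_surjective (lcs G 3) a
        refine ⟨⁅g, t⁆, ?_, map_commutatorElement f g t⟩
        show ⁅g, t⁆ ∈ lcs G 2
        rw [← inv_mem_iff, commutatorElement_inv, lcs_succ 1]
        exact commutator_mem_commutator ht (mem_top g)) (C := C) (fun a b e => conj_move e)
    rw [← C.card_mul_index] at hcl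
    exact (Nat.le_of_mul_le_mul_left (hcl.trans_eq (mul_comm _ _)) Nat.card_pos).trans hA
  have hle : (twoStep G 1).index ≤ 3 :=
    (Nat.le_of_dvd (Nat.pos_of_ne_zero index_ne_zero_of_finite) (index_dvd_of_le hCle)).trans
      ((index_comap_of_surjective C (QuotientGroup.mk'_surjective (lcs G 3))).trans_le hindex)
  obtain ⟨a, ha⟩ := index_eq_pow h.pgrp (twoStep G 1)
  have hne1 : (twoStep G 1).index ≠ 1 := fun e =>
    not_mem_twoStep h le_rfl h2 (by rw [index_eq_one.mp e]; exact mem_top x)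
  rw [ha] at hle hne1 ⊢
  have : a ≤ 1 := (Nat.pow_le_pow_iff_right (by norm_num : 1 < 3)).mp (hle.trans_eq (pow_one 3).symm)
  interval_cases a
  · exact absurd (pow_zero 3) hne1
  · exact pow_one 3

/-- The two-step centralizer is maximal. -/
theorem eq_or_eq_top (h2 : lcs G 2 ≠ ⊥) {U : Subgroup G} (hU : twoStep G 1 ≤ U) :
    U = twoStep G 1 ∨ U = ⊤ := by
  have hd := index_dvd_of_le hU
  rw [index_twoStep_one h h2] at hd
  rcases (Nat.dvd_prime (by norm_num : Nat.Prime 3)).mp hd with e | e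
  · exact Or.inr (index_eq_one.mp e)
  · refine Or.inl (eq_of_le_of_card_ge hU ?_).symm
    have h1 := U.card_mul_index
    have h3 := (twoStep G 1).card_mul_index
    rw [e] at h1
    rw [index_twoStep_one h h2] at h3
    omega

theorem twoStep_eq_sup (h2 : lcs G 2 ≠ ⊥) {s : G} (hs : s ∈ twoStep G 1) (hs' : s ∉ commutator G) :
    twoStep G 1 = commutator G ⊔ zpowers s := by
  have hle : commutator G ⊔ zpowers s ≤ twoStep G 1 :=
    sup_le (derived_le_twoStep_one h) (zpowers_le.mpr hs)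
  refine (eq_of_le_of_card_ge hle ?_).symm
  set U := commutator G ⊔ zpowers s
  have h9 := h.index_le
  have hlt : U.index < (commutator G).index := by
    refine lt_of_le_of_ne (Nat.le_of_dvd (Nat.pos_of_ne_zero index_ne_zero_of_finite)
      (index_dvd_of_le le_sup_left)) fun e => hs' ?_
    have hUeq : commutator G = U := eq_of_le_of_card_ge le_sup_left (by
      have h1 := U.card_mul_index
      have h3 := (commutator G).card_mul_index
      rw [← e, ← h1] at h3
      exact (Nat.eq_of_mul_eq_mul_right (Nat.pos_of_ne_zero index_ne_zero_of_finite) h3).ge)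
    exact hUeq ▸ mem_sup_right (mem_zpowers s)
  obtain ⟨a, ha⟩ := index_eq_pow h.pgrp U
  have ha1 : a ≤ 1 := by
    have : 3 ^ a < 3 ^ 2 := ha ▸ lt_of_lt_of_le hlt h9
    have := (Nat.pow_lt_pow_iff_right (by norm_num : 1 < 3)).mp this
    omega
  have h1 := U.card_mul_index
  have h3 := (twoStep G 1).card_mul_index
  rw [index_twoStep_one h h2] at h3
  have hU3 : U.index ≤ 3 := ha ▸ (Nat.pow_le_pow_right (by norm_num : 0 < 3) ha1).trans_eq (pow_one 3)
  by_contra hlt'
  push Not at hlt'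
  have : Nat.card U * U.index < Nat.card (twoStep G 1) * 3 :=
    Nat.mul_lt_mul_of_lt_of_le hlt' hU3 (by norm_num)
  omega

theorem sup_x_eq_top (h2 : lcs G 2 ≠ ⊥) : twoStep G 1 ⊔ zpowers x = ⊤ :=
  (eq_or_eq_top h h2 le_sup_left).resolve_left fun e =>
    not_mem_twoStep h le_rfl h2 (e ▸ mem_sup_right (mem_zpowers x))

omit h in
theorem mul_pow_three {Q : Type*} [Group Q] (u s : Q) (hz : ∀ g, ⁅s, u⁆ * g = g * ⁅s, u⁆) :
    (u * s) ^ 3 = ⁅s, u⁆ ^ 3 * (u ^ 3 * s ^ 3) := by
  have hsu : s * u = ⁅s, u⁆ * (u * s) := by rw [commutatorElement_def]; group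
  generalize ⁅s, u⁆ = z at hz hsu
  calc (u * s) ^ 3 = u * (s * u) * (s * u) * s := by simp only [pow_succ, pow_zero, one_mul, mul_assoc]
    _ = u * z * u * s * z * u * s * s := by rw [hsu]; simp only [mul_assoc]
    _ = z * z * (u * u) * (s * u) * s * s := by
      rw [← hz u]; simp only [mul_assoc]; rw [← mul_assoc s z, ← hz s]
      simp only [mul_assoc]; rw [← mul_assoc u z, ← hz u]; simp only [mul_assoc]
      rw [← mul_assoc u z, ← hz u]; simp only [mul_assoc]
    _ = z * z * (u * u) * (z * (u * s)) * s * s := by rw [hsu]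
    _ = z ^ 3 * (u ^ 3 * s ^ 3) := by
      simp only [pow_succ, pow_zero, one_mul, mul_assoc]
      rw [← mul_assoc u z, ← hz u]; simp only [mul_assoc]
      rw [← mul_assoc u z, ← hz u]; simp only [mul_assoc]

/-- Cubes of the elements of the two-step centralizer outside the derived subgroup. -/
theorem cube_spec (h2 : lcs G 2 ≠ ⊥) {s : G} (hs : s ∈ twoStep G 1) (hs' : s ∉ commutator G) :
    s ^ 3 ∈ lcs G 2 ∧ (lcs G 3 ≠ ⊥ → s ^ 3 ∉ lcs G 3) := by
  haveI := h.pgrp.isNilpotent
  have hM := twoStep_eq_sup h h2 hs hs'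
  have htop : commutator G ⊔ zpowers s ⊔ zpowers x = ⊤ := hM ▸ sup_x_eq_top h h2
  set u := ⁅x, s⁆ with hu
  have hu1 : u ∈ lcs G 1 := by
    rw [lcs_one]; exact commutator_mem_commutator (mem_top x) (mem_top s)
  have hconj : x * s * x⁻¹ = u * s := by rw [hu, commutatorElement_def]; group
  -- `u` lies in the first layer only
  have hu2 : u ∉ lcs G 2 := by
    intro hu2
    set f := QuotientGroup.mk' (lcs G 2)
    have hxs : f x * f s = f s * f x := by
      rw [← commutatorElement_eq_one_iff_mul_comm, ← map_commutatorElement]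
      exact (QuotientGroup.eq_one_iff _).mpr hu2
    have key : ∀ b : G, b = x ∨ b = s → ∀ a, f a * f b = f b * f a := by
      intro b hb a
      have : (⊤ : Subgroup G) ≤ (centralizer ({f b} : Set (G ⧸ lcs G 2))).comap f := by
        rw [← htop]
        refine sup_le (sup_le (fun d hd => ?_) (zpowers_le.mpr ?_)) (zpowers_le.mpr ?_)
        · exact mem_centralizer_singleton_iff.mpr (central_mod (j := 1) (by rwa [lcs_one]) b)
        · refine mem_centralizer_singleton_iff.mpr ?_
          rcases hb with rfl | rfl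
          · exact hxs.symm
          · rfl
        · refine mem_centralizer_singleton_iff.mpr ?_
          rcases hb with rfl | rfl
          · rfl
          · exact hxs
      exact mem_centralizer_singleton_iff.mp (this (mem_top a))
    have hall : ∀ a b, f a * f b = f b * f a := by
      intro a b
      have : (⊤ : Subgroup G) ≤ (centralizer ({f a} : Set (G ⧸ lcs G 2))).comap f := by
        rw [← htop]
        refine sup_le (sup_le (fun d hd => ?_) (zpowers_le.mpr ?_)) (zpowers_le.mpr ?_)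
        · exact mem_centralizer_singleton_iff.mpr (central_mod (j := 1) (by rwa [lcs_one]) a)
        · exact mem_centralizer_singleton_iff.mpr (key s (Or.inr rfl) a).symm
        · exact mem_centralizer_singleton_iff.mpr (key x (Or.inl rfl) a).symm
      exact (mem_centralizer_singleton_iff.mp (this (mem_top b))).symm
    refine h2 (le_bot_iff.mp ((lcs_le 1).trans (le_of_eq (eq_bot_of_stable (k := 1) ?_))))
    rw [lcs_one, commutator_def, commutator_le]
    intro a _ b _
    rw [← QuotientGroup.eq_one_iff]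
    show f ⁅a, b⁆ = 1
    rw [map_commutatorElement, commutatorElement_eq_one_iff_mul_comm]
    exact hall a b
  have hsu : ⁅s, u⁆ ∈ lcs G 3 := mem_twoStep_iff.mp hs u hu1
  -- the conjugate of the cube
  have hcube : ∀ (N : Subgroup G) [N.Normal], (∀ g, ⁅⁅s, u⁆, g⁆ ∈ N) → ⁅s, u⁆ ^ 3 ∈ N →
      QuotientGroup.mk' N (x * s ^ 3 * x⁻¹) = QuotientGroup.mk' N (u ^ 3 * s ^ 3) := by
    intro N _ hN hN3
    rw [show x * s ^ 3 * x⁻¹ = (u * s) ^ 3 by rw [← hconj, conj_pow], map_pow, map_mul,
      mul_pow_three, ← map_commutatorElement, ← map_pow, ← map_pow, ← map_pow, ← map_mul]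
    · rw [show QuotientGroup.mk' N (⁅s, u⁆ ^ 3) = 1 from
        (QuotientGroup.eq_one_iff _).mpr hN3]
      simp only [map_mul, one_mul]
    · intro g
      obtain ⟨g, rfl⟩ := QuotientGroup.mk'_surjective N g
      rw [← map_commutatorElement, ← commutatorElement_eq_one_iff_mul_comm, ← map_commutatorElement]
      exact (QuotientGroup.eq_one_iff _).mpr (hN g)
  -- the cube lies in the derived subgroup
  have hs1 : s ^ 3 ∈ lcs G 1 := by
    rw [lcs_one]
    by_contra hmem
    set f := QuotientGroup.mk' (commutator G)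
    have h9 : Nat.card (G ⧸ commutator G) ≤ 3 ^ 2 := by rw [← index_eq_card]; exact h.index_le
    obtain ⟨a, ha⟩ := IsPGroup.iff_orderOf.mp (h.pgrp.to_quotient (commutator G)) (f s)
    have ha2 : 2 ≤ a := by
      by_contra ha1
      refine hmem ((QuotientGroup.eq_one_iff _).mp (show f (s ^ 3) = 1 from ?_))
      rw [map_pow]
      refine orderOf_dvd_iff_pow_eq_one.mp ?_
      rw [ha]
      exact (pow_dvd_pow 3 (by omega : a ≤ 1)).trans (pow_one 3).dvd
    have hz : zpowers (f s) = ⊤ := eq_top_of_card_eq _ (le_antisymm (card_le_card_group _) (by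
      rw [Nat.card_zpowers, ha]
      exact h9.trans (Nat.pow_le_pow_right (by norm_num) ha2)))
    refine not_mem_twoStep h le_rfl h2 ?_
    rw [hM]
    obtain ⟨k, hk⟩ := mem_zpowers_iff.mp (hz ▸ mem_top (f x) : f x ∈ zpowers (f s))
    rw [← map_zpow] at hk
    have hd : (s ^ k)⁻¹ * x ∈ commutator G := QuotientGroup.eq.mp hk
    simpa using mul_mem (mem_sup_right (zpow_mem_zpowers s k)) (mem_sup_left (T := zpowers s) hd)
  have hs2 : s ^ 3 ∈ lcs G 2 := by
    refine h.layer le_rfl h2 hs1 ?_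
    have e := hcube (lcs G 3) (fun g => lcs_le 3 (by
      rw [lcs_succ]; exact commutator_mem_commutator hsu (mem_top g))) (pow_mem hsu 3)
    rw [map_mul _ (u ^ 3), show QuotientGroup.mk' (lcs G 3) (u ^ 3) = 1 from
      (QuotientGroup.eq_one_iff _).mpr (h.pow_mem 1 le_rfl u hu1), one_mul, map_mul, map_mul, map_inv,
      mul_inv_eq_iff_eq_mul] at e
    rw [← QuotientGroup.eq_one_iff]
    show QuotientGroup.mk' (lcs G 3) ⁅s ^ 3, x⁻¹⁆ = 1
    rw [map_commutatorElement, commutatorElement_eq_one_iff_mul_comm, map_inv]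
    exact (Commute.inv_right (show Commute _ _ from e.symm)).eq
  refine ⟨hs2, fun h3 hmem => ?_⟩
  have hsu4 : ⁅s, u⁆ ^ 3 ∈ lcs G 4 := lcs_le 4 (h.pow_mem 3 (by omega) _ hsu)
  have e := hcube (lcs G 4) (fun g => by
    rw [lcs_succ]; exact commutator_mem_commutator hsu (mem_top g)) hsu4
  have hc := central_mod (j := 3) hmem x
  rw [map_mul, map_mul, map_inv, ← hc, mul_inv_cancel_right, map_mul] at e
  exact h.pow_not_mem le_rfl hu1 hu2 h3 ((QuotientGroup.eq_one_iff _).mp (mul_eq_right.mp e.symm))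

/-- The two-step centralizer centralizes every pair of successive layers. -/
theorem twoStep_le : ∀ i, 1 ≤ i → lcs G (i + 1) ≠ ⊥ → twoStep G 1 ≤ twoStep G i := by
  intro i
  induction i using Nat.strong_induction_on with
  | _ i ih =>
    intro hi hne
    have h2 : lcs G 2 ≠ ⊥ := fun e => hne (le_bot_iff.mp (e ▸ lcs_antitone (by omega)))
    rcases Nat.lt_or_ge i 3 with hlt | hge
    · interval_cases i
      · exact le_rfl
      · have hlt' : commutator G < twoStep G 1 := by
          refine lt_of_le_of_ne (derived_le_twoStep_one h) fun e => h2 ?_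
          have hc := eq_top_of_commutator_index_le (p := 3) h.pgrp (by rw [e, index_twoStep_one h h2])
          exact le_bot_iff.mp ((lcs_le 1).trans (le_of_eq (lcs_one.trans hc)))
        obtain ⟨-, s, hs, hs'⟩ := SetLike.lt_iff_le_and_exists.mp hlt'
        obtain ⟨hc2, hc3⟩ := cube_spec h h2 hs hs'
        rw [twoStep_eq_sup h h2 hs hs']
        refine sup_le (fun d hd => ?_) (zpowers_le.mpr ?_)
        · rw [mem_twoStep_iff]
          intro c hc
          exact lcs_commutator_le 1 2 (commutator_mem_commutator (by rwa [lcs_one]) hc)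
        · refine mem_twoStep_of_gen h (by omega) hc2 (hc3 hne) ?_
          rw [map_pow]
          exact ((Commute.refl _).pow_right 3).eq
    · have hne' : lcs G i ≠ ⊥ := fun e => hne (le_bot_iff.mp (e ▸ lcs_le i))
      obtain ⟨c, hc, hc'⟩ := exists_layer_gen h.pgrp (i := i - 2)
        (fun e => hne' (le_bot_iff.mp (e ▸ lcs_antitone (by omega))))
      have hc3 : c ^ 3 ∈ lcs G i ∧ c ^ 3 ∉ lcs G (i + 1) := by
        have a := h.pow_mem (i - 2) (by omega) c hc
        have b := h.pow_not_mem (i := i - 2) (by omega) hc hc' (by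
          rwa [show i - 2 + 3 - 1 = i by omega])
        rw [show i - 2 + 3 - 1 = i by omega] at a
        rw [show i - 2 + 3 = i + 1 by omega] at b
        exact ⟨a, b⟩
      intro m hm
      refine mem_twoStep_of_gen h hi hc3.1 hc3.2 ?_
      have he : ⁅m, c⁆ ∈ lcs G i := by
        have := mem_twoStep_iff.mp (ih (i - 2) (by omega) (by omega)
          (fun e => hne' (le_bot_iff.mp (e ▸ lcs_antitone (by omega)))) hm) c hc
        rwa [show i - 2 + 2 = i by omega] at this
      set f := QuotientGroup.mk' (lcs G (i + 2))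
      have hcomm : Commute (f ⁅m, c⁆) (f c) := by
        rw [← commutatorElement_eq_one_iff_commute, ← map_commutatorElement]
        exact (QuotientGroup.eq_one_iff _).mpr (lcs_antitone (by omega)
          (lcs_commutator_le i (i - 2) (commutator_mem_commutator he hc)))
      have he3 : f (⁅m, c⁆ ^ 3) = 1 := (QuotientGroup.eq_one_iff _).mpr (by
        have := h.pow_mem i hi _ he
        rwa [show i + 3 - 1 = i + 2 by omega] at this)
      rw [map_pow] at he3 ⊢
      calc f m * f c ^ 3 = (f m * f c * (f m)⁻¹) ^ 3 * f m := by rw [conj_pow, inv_mul_cancel_right]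
        _ = (f ⁅m, c⁆ * f c) ^ 3 * f m := by
          rw [map_commutatorElement, commutatorElement_def, inv_mul_cancel_right]
        _ = f c ^ 3 * f m := by rw [hcomm.mul_pow, he3, one_mul]

/-- Commutation with an element outside the two-step centralizer moves each layer to the next. -/
theorem comm_step {y : G} (hy : y ∉ twoStep G 1) {i : ℕ} (hi : 1 ≤ i) (hne : lcs G (i + 1) ≠ ⊥) {t : G}
    (ht : t ∈ lcs G i) (ht' : t ∉ lcs G (i + 1)) :
    ⁅t, y⁆ ∈ lcs G (i + 1) ∧ ⁅t, y⁆ ∉ lcs G (i + 2) := by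
  have h2 : lcs G 2 ≠ ⊥ := fun e => hne (le_bot_iff.mp (e ▸ lcs_antitone (by omega)))
  refine ⟨by rw [lcs_succ]; exact commutator_mem_commutator ht (mem_top y), fun hmem => hy ?_⟩
  have hyi : y ∈ twoStep G i := by
    refine mem_twoStep_of_gen h hi ht ht' ?_
    have := (QuotientGroup.eq_one_iff _).mpr hmem
    change QuotientGroup.mk' (lcs G (i + 2)) ⁅t, y⁆ = 1 at this
    rw [map_commutatorElement, commutatorElement_eq_one_iff_mul_comm] at this
    exact this.symm
  rcases eq_or_eq_top h h2 (twoStep_le h i hi hne) with e | e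
  · rwa [e] at hyi
  · exact absurd (e ▸ mem_top x) (not_mem_twoStep h hi hne)

/-- A subgroup containing elements in all the layers met by `H` contains the derived part of `H`. -/
theorem cover {H U : Subgroup G} (hUH : U ≤ H)
    (hlay : ∀ i, 1 ≤ i → (∃ c ∈ H, c ∈ lcs G i ∧ c ∉ lcs G (i + 1)) →
      ∃ t ∈ U, t ∈ lcs G i ∧ t ∉ lcs G (i + 1)) : H ⊓ commutator G ≤ U := by
  obtain ⟨N, hN⟩ := exists_lcs_bot h.pgrp
  suffices ∀ r i, 1 ≤ i → N ≤ i + r → H ⊓ lcs G i ≤ U by
    rw [← lcs_one]; exact this N 1 le_rfl (by omega)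
  intro r
  induction r with
  | zero => intro i _ hN'; exact (inf_le_right.trans ((lcs_antitone (by omega)).trans hN.le)).trans bot_le
  | succ r ih =>
    intro i hi hN' c hc
    by_cases hc' : c ∈ lcs G (i + 1)
    · exact ih (i + 1) (by omega) (by omega) ⟨hc.1, hc'⟩
    obtain ⟨t, htU, ht, ht'⟩ := hlay i hi ⟨c, hc.1, hc.2, hc'⟩
    obtain ⟨g, hg, _, ⟨k, rfl⟩, e⟩ := mem_sup_of_normal_left.mp ((h.generate hi ht ht') ▸ hc.2)
    have hgH : g ∈ H := by
      have : g = c * (t ^ k)⁻¹ := eq_mul_inv_of_mul_eq e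
      rw [this]; exact mul_mem hc.1 (inv_mem (zpow_mem (hUH htU) k))
    rw [← e]
    exact mul_mem (ih (i + 1) (by omega) (by omega) ⟨hgH, hg⟩) (zpow_mem htU k)

/-- Iterated cubes. -/
theorem cube_iter {U : Subgroup G} {j : ℕ} (hj : 1 ≤ j) {t : G} (htU : t ∈ U) (ht : t ∈ lcs G j)
    (ht' : t ∉ lcs G (j + 1)) :
    ∀ k, lcs G (j + 2 * k) ≠ ⊥ → ∃ t' ∈ U, t' ∈ lcs G (j + 2 * k) ∧ t' ∉ lcs G (j + 2 * k + 1)
  | 0, _ => ⟨t, htU, ht, ht'⟩
  | k + 1, hne => by
    obtain ⟨t', h1, h2, h3⟩ := cube_iter hj htU ht ht' k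
      fun e => hne (le_bot_iff.mp (e ▸ lcs_antitone (by omega)))
    refine ⟨t' ^ 3, pow_mem h1 3, ?_, ?_⟩
    · have := h.pow_mem (j + 2 * k) (by omega) t' h2
      rwa [show j + 2 * k + 3 - 1 = j + 2 * (k + 1) by omega] at this
    · have := h.pow_not_mem (i := j + 2 * k) (by omega) h2 h3 (by
        rwa [show j + 2 * k + 3 - 1 = j + 2 * (k + 1) by omega])
      rwa [show j + 2 * k + 3 = j + 2 * (k + 1) + 1 by omega] at this

/-- Every subgroup is generated by two elements. -/
theorem two_gen (hcube : ∀ s ∈ twoStep G 1, s ∉ commutator G → s ^ 3 ∈ lcs G 2 ∧ s ^ 3 ∉ lcs G 3)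
    (H : Subgroup G) : ∃ T : Finset G, T.card ≤ 2 ∧ closure (T : Set G) = H := by
  classical
  haveI := h.pgrp.isNilpotent
  set f := QuotientGroup.mk' (commutator G)
  have hfc : Nat.card (G ⧸ commutator G) ≤ 3 ^ 2 := by rw [← index_eq_card]; exact h.index_le
  have hgen : ∀ U : Subgroup G, U.map f = ⊤ → U = ⊤ := by
    intro U hU
    by_contra hne
    obtain ⟨M, hM, hUM⟩ := (eq_top_or_exists_le_coatom U).resolve_left hne
    have h1 : commutator G ≤ M := Components.RegularPGroup.commutator_le_coatom h.pgrp hM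
    refine hM.1 (top_unique fun g _ => ?_)
    obtain ⟨u, hu, e⟩ := (hU ▸ mem_top (f g) : f g ∈ U.map f)
    simpa using mul_mem (hUM hu) (h1 (QuotientGroup.eq.mp e))
  by_cases htop : H.map f = ⊤
  · obtain ⟨a, b, hab⟩ := exists_two (p := 3) (h.pgrp.to_quotient (commutator G)) hfc
    obtain ⟨a, rfl⟩ := QuotientGroup.mk'_surjective (commutator G) a
    obtain ⟨b, rfl⟩ := QuotientGroup.mk'_surjective (commutator G) b
    refine ⟨{a, b}, Finset.card_le_two, ?_⟩
    rw [hgen H htop, Finset.coe_pair]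
    exact hgen _ (by rw [MonoidHom.map_closure, Set.image_pair]; exact hab)
  have hlt : Nat.card (H.map f) < Nat.card (G ⧸ commutator G) :=
    lt_of_not_ge fun hge => htop (eq_top_of_card_eq _ (le_antisymm (card_le_card_group _) hge))
  haveI : IsCyclic (H.map f) := by
    obtain ⟨a, ha⟩ := IsPGroup.iff_card.mp ((h.pgrp.to_quotient (commutator G)).to_subgroup (H.map f))
    have hlt' := hlt.trans_le hfc
    rw [ha, Nat.pow_lt_pow_iff_right (by norm_num : 1 < 3)] at hlt'
    refine isCyclic_of_card_dvd_prime (p := 3) ?_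
    rw [ha]
    exact (pow_dvd_pow 3 (by omega : a ≤ 1)).trans (pow_one 3).dvd
  obtain ⟨q, hq⟩ := IsCyclic.exists_generator (α := H.map f)
  obtain ⟨y, hy, hyq⟩ := q.2
  by_cases hyG : y ∈ commutator G
  · refine h.rank_derived H fun c hc => ?_
    obtain ⟨k, hk⟩ := mem_zpowers_iff.mp (hq ⟨f c, mem_map_of_mem f hc⟩)
    refine (QuotientGroup.eq_one_iff _).mp (show f c = 1 from ?_)
    have e := congrArg Subtype.val hk
    rw [SubgroupClass.coe_zpow, ← hyq, show f y = 1 from (QuotientGroup.eq_one_iff _).mpr hyG, one_zpow]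
      at e
    exact e.symm
  let P : ℕ → Prop := fun i =>
    1 ≤ i ∧ (y ∈ twoStep G 1 → i % 2 = 1) ∧ ∃ c ∈ H, c ∈ lcs G i ∧ c ∉ lcs G (i + 1)
  obtain ⟨c₀, hc₀H, hc₀⟩ : ∃ c₀ ∈ H, ∀ i, P i → ∃ j, j ≤ i ∧ 1 ≤ j ∧
      (y ∈ twoStep G 1 → j % 2 = 1) ∧ c₀ ∈ lcs G j ∧ c₀ ∉ lcs G (j + 1) := by
    by_cases hP : ∃ i, P i
    · obtain ⟨hj1, hj2, c, hc, hc1, hc2⟩ := Nat.find_spec hP
      exact ⟨c, hc, fun i hi => ⟨_, Nat.find_min' hP hi, hj1, hj2, hc1, hc2⟩⟩
    · exact ⟨1, one_mem H, fun i hi => absurd ⟨i, hi⟩ hP⟩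
  refine ⟨{y, c₀}, Finset.card_le_two, ?_⟩
  rw [Finset.coe_pair]
  set U := closure ({y, c₀} : Set G)
  have hUH : U ≤ H := by
    rw [closure_le, Set.insert_subset_iff, Set.singleton_subset_iff]
    exact ⟨hy, hc₀H⟩
  have hyU : y ∈ U := subset_closure (Set.mem_insert _ _)
  have hcov : H ⊓ commutator G ≤ U := by
    refine cover h hUH fun i hi hex => ?_
    have hne : lcs G i ≠ ⊥ := fun e => by
      obtain ⟨c, -, hc, hc'⟩ := hex
      exact hc' (by rw [e, mem_bot] at hc; rw [hc]; exact one_mem _)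
    by_cases hyM : y ∈ twoStep G 1
    · rcases Nat.mod_two_eq_zero_or_one i with hev | hodd
      · obtain ⟨k, rfl⟩ : ∃ k, i = 2 + 2 * k := ⟨(i - 2) / 2, by omega⟩
        obtain ⟨a, b⟩ := hcube y hyM hyG
        exact cube_iter h (by omega) (pow_mem hyU 3) a b k hne
      · obtain ⟨j, hle, hj1, hjo, hcj, hcj'⟩ := hc₀ i ⟨hi, fun _ => hodd, hex⟩
        have hjo' := hjo hyM
        obtain ⟨k, rfl⟩ : ∃ k, i = j + 2 * k := ⟨(i - j) / 2, by omega⟩
        have hcU : c₀ ∈ U := subset_closure (Set.mem_insert_of_mem y (Set.mem_singleton c₀))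
        exact cube_iter h hj1 hcU hcj hcj' k hne
    · obtain ⟨j, hle, hj1, -, hcj, hcj'⟩ := hc₀ i ⟨hi, fun e => absurd e hyM, hex⟩
      obtain ⟨k, rfl⟩ : ∃ k, i = j + k := ⟨i - j, by omega⟩
      clear hle hi hex
      induction k with
      | zero => exact ⟨c₀, subset_closure (Set.mem_insert_of_mem y (Set.mem_singleton c₀)), hcj, hcj'⟩
      | succ k ih =>
        obtain ⟨t, h1, h2, h3⟩ := ih fun e => hne (le_bot_iff.mp (e ▸ lcs_antitone (by omega)))
        obtain ⟨h4, h5⟩ := comm_step h hyM (i := j + k) (by omega) hne h2 h3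
        exact ⟨⁅t, y⁆, mul_mem (mul_mem (mul_mem h1 hyU) (inv_mem h1)) (inv_mem hyU), h4, h5⟩
  refine le_antisymm hUH fun c hc => ?_
  obtain ⟨k, hk⟩ := mem_zpowers_iff.mp (hq ⟨f c, mem_map_of_mem f hc⟩)
  have hk' : f (y ^ k) = f c := by rw [map_zpow, hyq, ← SubgroupClass.coe_zpow, hk]
  have h1 : (y ^ k)⁻¹ * c ∈ H ⊓ commutator G :=
    ⟨H.mul_mem (H.inv_mem (H.zpow_mem hy k)) hc, QuotientGroup.eq.mp hk'⟩
  simpa using mul_mem (zpow_mem hyU k) (hcov h1)

/-- The exceptional group of order `81` is a Sylow subgroup of `S₉`. -/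
theorem wreath (hcard : Nat.card G = 81) (hcl : Group.nilpotencyClass G = 3) {s : G}
    (hs : s ∈ twoStep G 1) (hs' : s ∉ commutator G) (hs3 : s ^ 3 = 1) :
    ∃ W : Sylow 3 (Equiv.Perm (Fin 9)), Nonempty (G ≃* (W : Subgroup (Equiv.Perm (Fin 9)))) := by
  haveI := h.pgrp.isNilpotent
  have h81 : Nat.card G = 3 ^ 4 := by rw [hcard]; norm_num
  have h2 : lcs G 2 ≠ ⊥ := (class_eq_iff (by norm_num : 3 ≤ 4) h81).mp hcl
  have h3 : lcs G 3 = ⊥ := lcs_eq_bot (p := 3) (by norm_num : 2 ≤ 4) h81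
  obtain ⟨t, ht, ht'⟩ := exists_layer_gen h.pgrp (fun e => h2 (le_bot_iff.mp (e ▸ lcs_le 1)))
  have ht3 : t ^ 3 = 1 := mem_bot.mp (h3 ▸ h.pow_mem 1 le_rfl t ht)
  have hst : Commute s t := commutatorElement_eq_one_iff_commute.mp
    (mem_bot.mp (h3 ▸ mem_twoStep_iff.mp hs t ht))
  have ht1 : t ∈ commutator G := by rw [← lcs_one]; exact ht
  set K := closure ({s, t} : Set G)
  have hK : ∀ k ∈ K, ∃ i j : ℤ, k = s ^ i * t ^ j := by
    intro k hk
    induction hk using closure_induction with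
    | mem k hk =>
      rcases hk with rfl | rfl
      · exact ⟨1, 0, by simp⟩
      · exact ⟨0, 1, by simp⟩
    | one => exact ⟨0, 0, by simp⟩
    | mul a b _ _ ha hb =>
      obtain ⟨i, j, rfl⟩ := ha
      obtain ⟨i', j', rfl⟩ := hb
      refine ⟨i + i', j + j', ?_⟩
      rw [zpow_add, zpow_add, mul_assoc, ← mul_assoc (t ^ j), ← (hst.zpow_zpow i' j).eq]
      simp only [mul_assoc]
    | inv a _ ha =>
      obtain ⟨i, j, rfl⟩ := ha
      refine ⟨-i, -j, ?_⟩
      rw [_root_.mul_inv_rev, ← zpow_neg, ← zpow_neg, (hst.zpow_zpow (-i) (-j)).eq]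
  have hmod : ∀ {g : G}, g ^ 3 = 1 → ∀ {N : Subgroup G}, g ∉ N → ∀ i : ℤ, g ^ i ∈ N → g ^ i = 1 := by
    intro g hg N hgN i hi
    have hord : orderOf g ∣ 3 := orderOf_dvd_of_pow_eq_one hg
    by_contra hne
    refine hgN ?_
    have hco : IsCoprime i (3 : ℤ) := by
      refine IsCoprime.symm ((Int.prime_three.coprime_iff_not_dvd).mpr fun hd => hne ?_)
      obtain ⟨c, rfl⟩ := hd
      rw [zpow_mul, show g ^ (3 : ℤ) = 1 from by exact_mod_cast hg, one_zpow]
    obtain ⟨a, b, hab⟩ := hco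
    have : g = (g ^ i) ^ a := by
      rw [← zpow_mul, show i * a = 1 - 3 * b by linarith, zpow_sub, zpow_one, zpow_mul,
        show g ^ (3 : ℤ) = 1 from by exact_mod_cast hg, one_zpow, inv_one, mul_one]
    rw [this]
    exact zpow_mem hi a
  have hKL : ∀ k ∈ K, k ∈ lcs G 2 → k = 1 := by
    intro k hk hk2
    obtain ⟨i, j, rfl⟩ := hK k hk
    have hsi : s ^ i ∈ commutator G := by
      rw [← lcs_one]
      have := mul_mem (lcs_le 1 hk2) (inv_mem (zpow_mem ht j))
      rwa [mul_inv_cancel_right] at this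
    rw [hmod hs3 hs' i hsi, one_mul] at hk2 ⊢
    exact hmod ht3 ht' j hk2
  have hcen := center_eq (by norm_num : 3 ≤ 4) h81 (by rw [hcl])
  have hcore : K.normalCore = ⊥ := by
    by_contra hne
    obtain ⟨z, hz, hz1⟩ := (bot_or_exists_ne_one _).resolve_left
      (Cfsg.Agent.Cores.inf_center_ne_bot hne)
    exact hz1 (hKL z (normalCore_le K hz.1) (hcen.1.le hz.2))
  -- `K` has order nine
  have hKM : K ≤ twoStep G 1 := by
    rw [closure_le, Set.insert_subset_iff, Set.singleton_subset_iff]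
    exact ⟨hs, derived_le_twoStep_one h ht1⟩
  have hM27 : Nat.card (twoStep G 1) = 27 := by
    have := (twoStep G 1).card_mul_index
    rw [index_twoStep_one h h2, hcard] at this
    omega
  have hKidx : K.index = 9 := by
    obtain ⟨a, ha⟩ := IsPGroup.iff_card.mp (h.pgrp.to_subgroup K)
    have hlo : 3 < Nat.card K := by
      have htK : zpowers t ≤ K := zpowers_le.mpr (subset_closure (Set.mem_insert_of_mem _ rfl))
      have hlt : zpowers t < K := lt_of_le_of_ne htK fun e => hs' ((zpowers_le.mpr ht1)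
        (e ▸ subset_closure (Set.mem_insert _ _) : s ∈ zpowers t))
      have h1 : Nat.card (zpowers t) = 3 := by
        rw [Nat.card_zpowers]
        exact ((Nat.dvd_prime (by norm_num : Nat.Prime 3)).mp (orderOf_dvd_of_pow_eq_one ht3)).resolve_left
          fun e => ht' (by rw [orderOf_eq_one_iff.mp e]; exact one_mem _)
      rw [← h1]
      exact lt_of_not_ge fun hge => hlt.ne (eq_of_le_of_card_ge htK hge)
    have hhi : Nat.card K < 27 := by
      refine lt_of_not_ge fun hge => ?_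
      have e : K = twoStep G 1 := eq_of_le_of_card_ge hKM (hM27 ▸ hge)
      obtain ⟨c, hc, hc'⟩ := exists_layer_gen h.pgrp h2
      exact hc' ((hKL c (e ▸ derived_le_twoStep_one h (lcs_le_commutator (by norm_num) hc)) hc).symm ▸ one_mem _)
    rw [ha] at hlo hhi
    have ha2 : a = 2 := by
      have h1 : 1 < a := (Nat.pow_lt_pow_iff_right (by norm_num : 1 < 3)).mp ((pow_one 3).trans_lt hlo)
      have h2 : a < 3 := (Nat.pow_lt_pow_iff_right (by norm_num : 1 < 3)).mp (hhi.trans_eq (by norm_num))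
      omega
    have := K.card_mul_index
    rw [ha, ha2, hcard] at this
    omega
  obtain ⟨e⟩ : Nonempty (G ⧸ K ≃ Fin 9) := ⟨Finite.equivFinOfCardEq (by rw [← index_eq_card, hKidx])⟩
  let π : G →* Equiv.Perm (Fin 9) :=
    (Equiv.permCongrHom e).toMonoidHom.comp (MulAction.toPermHom G (G ⧸ K))
  have hπ : Function.Injective π := by
    refine (Equiv.permCongrHom e).injective.comp ?_
    rw [← MonoidHom.ker_eq_bot_iff, ← normalCore_eq_ker, hcore]
  have hrange : IsPGroup 3 π.range := h.pgrp.of_surjective π.rangeRestrict π.rangeRestrict_surjective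
  have hidx : π.range.index = 4480 := by
    have h1 := π.range.card_mul_index
    rw [← Nat.card_congr (MonoidHom.ofInjective hπ).toEquiv, hcard, Nat.card_perm, Nat.card_fin] at h1
    simp [Nat.factorial] at h1
    omega
  refine ⟨hrange.toSylow (by rw [hidx]; norm_num), ⟨(MonoidHom.ofInjective hπ).trans (MulEquiv.subgroupCongr ?_)⟩⟩
  rfl

/-- The dichotomy. -/
theorem two_gen_or_wreath {n : ℕ} (hn : 4 ≤ n) (hcard : Nat.card G = 3 ^ n)
    (hcl : Group.nilpotencyClass G = n - 1) :
    (∀ H : Subgroup G, ∃ T : Finset G, T.card ≤ 2 ∧ closure (T : Set G) = H) ∨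
      ∃ W : Sylow 3 (Equiv.Perm (Fin 9)), Nonempty (G ≃* (W : Subgroup (Equiv.Perm (Fin 9)))) := by
  have hne := (class_eq_iff (by omega) hcard).mp hcl
  have h2 : lcs G 2 ≠ ⊥ := fun e => hne (le_bot_iff.mp (e ▸ lcs_antitone (by omega)))
  by_cases hcube : ∀ s ∈ twoStep G 1, s ∉ commutator G → s ^ 3 ∈ lcs G 2 ∧ s ^ 3 ∉ lcs G 3
  · exact Or.inl (two_gen h hcube)
  · right
    push Not at hcube
    obtain ⟨s, hs, hs', hbad⟩ := hcube
    obtain ⟨a, b⟩ := cube_spec h h2 hs hs'
    have hmem := hbad a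
    have h3 : lcs G 3 = ⊥ := by
      by_contra h3
      exact b h3 hmem
    rw [h3, mem_bot] at hmem
    have hn4 : n = 4 := by
      by_contra hn4
      exact hne (le_bot_iff.mp (h3 ▸ lcs_antitone (G := G) (by omega : 3 ≤ n - 2)))
    subst hn4
    exact wreath h (by rw [hcard]; norm_num) hcl hs hs' hmem

end Main

end Cfsg.Agent.Fusion.SmallThree
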