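/-
Solvability and normal subsystems.
-/
import Mathlib
import Cfsg.Agent.Lib.Fusion.Subsystems
import Cfsg.Agent.Lib.Fusion.Solvable

set_option autoImplicit false

namespace Cfsg.Agent.Fusion.SolvableExt

open Cfsg Cfsg.FusionSystem Cfsg.Agent.Fusion.Basic Cfsg.Agent.Fusion.Saturation
  Cfsg.Agent.Fusion.Normal Cfsg.Agent.Fusion.Factor Cfsg.Agent.Fusion.FactorExists
  Cfsg.Agent.Fusion.Subsystems Cfsg.Agent.Fusion.Solvable

variable {Ω : Type*} [Group Ω] {S : Subgroup Ω} {T R U V : Subgroup Ω} {p : ℕ}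
  {F : FusionSystem S} {E : FusionSystem T}

theorem imageAlong_sup {Ω' : Type*} [Group Ω'] (θ : S →* Ω') {A B : Subgroup Ω} (hA : A ≤ S)
    (hB : B ≤ S) : imageAlong θ (A ⊔ B) = imageAlong θ A ⊔ imageAlong θ B := by
  rw [imageAlong, imageAlong, imageAlong, Subgroup.subgroupOf_sup hA hB, Subgroup.map_sup]

theorem imageAlong_bot {Ω' : Type*} [Group Ω'] (θ : S →* Ω') : imageAlong θ ⊥ = ⊥ := by
  rw [imageAlong, Subgroup.bot_subgroupOf, Subgroup.map_bot]

theorem stronglyClosed_inf_sub (hE : E.IsSubsystemOf F) (hU : F.StronglyClosed U) :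
    E.StronglyClosed (U ⊓ T) :=
  ⟨inf_le_right, fun A hA φ hφ x => ⟨hU.2 A (hA.trans inf_le_left) φ (hE A hφ) x,
    (E.le_of_mem hφ).2 x⟩⟩

theorem transport_stronglyClosed [Finite T] (hinv : E.IsInvariantIn F) (hU : E.StronglyClosed U)
    {α : MulAut T} (hα : α ∈ F.autGroup T) : E.StronglyClosed (img (autFun α) U) := by
  refine ⟨img_le fun x hx => autFun_mem α (hU.1 hx), fun A hA φ hφ x => ?_⟩
  have hf := IsMap.of_hom hφ
  obtain ⟨g, hg, hge⟩ := invariant_transport hinv hf.le hf (inv_mem hα)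
  have hm : IsMap F U (autFun α) :=
    (isMap_of_mem_autGroup (subsystem_le hinv.1) hα).restrict hU.1
  have hle : img (autFun α⁻¹) A ≤ U := by
    refine img_le fun y hy => ?_
    obtain ⟨u, hu, rfl⟩ := hm.mem_img.1 (hA hy)
    rw [autFun_inv_apply]
    exact hu
  have h1 := stronglyClosed_mem hU hg (mem_img_self _ x.2) (hle (mem_img_self _ x.2))
  rw [hge x x.2, ext_apply] at h1
  have h2 := mem_img_self (autFun α) h1
  rwa [autFun_apply_inv] at h2

variable [Finite S] [Fact p.Prime]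

/-- The preimage of the centre of a nontrivial normal subgroup of the quotient. -/
theorem exists_center_step {Ω' : Type*} [Group Ω'] {S' : Subgroup Ω'} {θ : S →* Ω'}
    {D : FusionSystem S'} (hS : IsPGroup p S) (hF : F.IsSaturated p) (hq : IsQuot F R θ D)
    {K : Subgroup Ω'} (hK : D.IsNormal K) (hK1 : K ≠ ⊥) :
    ∃ U, F.StronglyClosed U ∧ R < U ∧ ∀ x, x ∈ U ↔ x ∈ preimageAlong θ K ∧
      ∀ y ∈ preimageAlong θ K, x * y * x⁻¹ * y⁻¹ ∈ R := by
  have hfin : Finite S' := hq.finite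
  have hfinK : Finite K := finite_of_le hK.1
  have : Nontrivial K := K.nontrivial_iff_ne_bot.2 hK1
  have hZ : Nontrivial (Subgroup.center K) := ((hq.isPGroup hS).to_le hK.1).center_nontrivial
  set Z := (Subgroup.center K).map K.subtype with hZdef
  have hZchar : (Z.subgroupOf K).Characteristic := by
    rw [Subgroup.subgroupOf, Subgroup.comap_map_eq_self_of_injective K.subtype_injective]
    infer_instance
  have hZn : D.IsNormal Z := isNormal_of_char hK (Subgroup.map_subtype_le _) hZchar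
  refine ⟨preimageAlong θ Z, preimage_stronglyClosed hS hF hq (normal_stronglyClosed hZn),
    lt_of_le_not_ge (hq.le_preimage Z) fun hle => ?_, fun x => ⟨fun hx => ?_, fun hx => ?_⟩⟩
  · obtain ⟨z, hz⟩ := exists_ne (1 : Subgroup.center K)
    obtain ⟨x, hx, hxz⟩ := exists_along_eq hq.range_eq (hK.1 (z : K).2)
    have hxR : x ∈ R := hle (mem_preimageAlong.2 ⟨hx, hxz ▸ ⟨(z : K), z.2, rfl⟩⟩)
    rw [along_of_mem θ hx, (hq.ker_iff ⟨x, hx⟩).2 hxR] at hxz
    exact hz (Subtype.ext (Subtype.ext hxz.symm))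
  · obtain ⟨hxS, a, ha, hae⟩ := mem_preimageAlong.1 hx
    refine ⟨mem_preimageAlong.2 ⟨hxS, hae ▸ a.2⟩, fun y hy => ?_⟩
    obtain ⟨hyS, hyK⟩ := mem_preimageAlong.1 hy
    have hmem : x * y * x⁻¹ * y⁻¹ ∈ S :=
      S.mul_mem (S.mul_mem (S.mul_mem hxS hyS) (S.inv_mem hxS)) (S.inv_mem hyS)
    refine (hq.ker_iff ⟨_, hmem⟩).1 ?_
    rw [← along_of_mem θ hmem, along_comm θ hxS hyS, ← hae]
    have h1 : a * ⟨_, hyK⟩ * a⁻¹ * (⟨_, hyK⟩ : K)⁻¹ = 1 := by
      rw [mul_inv_eq_one, mul_inv_eq_iff_eq_mul]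
      exact (Subgroup.mem_center_iff.1 ha _).symm
    simpa using congrArg Subtype.val h1
  · obtain ⟨hxS, hxK⟩ := mem_preimageAlong.1 hx.1
    refine mem_preimageAlong.2 ⟨hxS, ⟨_, hxK⟩, ?_, rfl⟩
    refine Subgroup.mem_center_iff.2 fun b => Subtype.ext ?_
    obtain ⟨y, hy, hyb⟩ := exists_along_eq hq.range_eq (hK.1 b.2)
    have h1 := hx.2 y (mem_preimageAlong.2 ⟨hy, hyb ▸ b.2⟩)
    have hmem : x * y * x⁻¹ * y⁻¹ ∈ S :=
      S.mul_mem (S.mul_mem (S.mul_mem hxS hy) (S.inv_mem hxS)) (S.inv_mem hy)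
    rw [← hq.ker_iff ⟨_, hmem⟩, ← along_of_mem θ hmem, along_comm θ hxS hy, hyb, mul_inv_eq_one,
      mul_inv_eq_iff_eq_mul] at h1
    exact h1.symm

/-- A step towards `T` for a solvable invariant subsystem. -/
theorem exists_step_invariant (hS : IsPGroup p S) (hE : E.IsSaturated p)
    (hinv : E.IsInvariantIn F) (hsol : E.IsSolvableSystem) (hV : F.StronglyClosed V)
    (hVT : V ≤ T) (hne : V ≠ T) :
    ∃ U, F.StronglyClosed U ∧ U ≤ T ∧ V < U ∧ ∀ x ∈ U, ∀ y ∈ U, x * y * x⁻¹ * y⁻¹ ∈ V := by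
  have hTS : T ≤ S := subsystem_le hinv.1
  have hfinT : Finite T := finite_of_le hTS
  have hT : IsPGroup p T := hS.to_le hTS
  have hVE : E.StronglyClosed V := by
    have := stronglyClosed_inf_sub hinv.1 hV
    rwa [inf_eq_left.2 hVT] at this
  have hn : (V.subgroupOf T).Normal :=
    (Subgroup.normal_subgroupOf_iff_le_normalizer hVT).2 (le_normalizer_of_stronglyClosed hVE)
  have hk : ∀ s : T, QuotientGroup.mk' (V.subgroupOf T) s = 1 ↔ (s : Ω) ∈ V := fun s => by
    rw [QuotientGroup.mk'_apply, QuotientGroup.eq_one_iff, Subgroup.mem_subgroupOf]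
  obtain ⟨D, hD⟩ := exists_factorSystem (F := E) hVE hk
    (MonoidHom.range_eq_top.2 (QuotientGroup.mk'_surjective _))
  set θ := QuotientGroup.mk' (V.subgroupOf T) with hθ
  have hq := isQuot_of_factorSystem hVE hD
  have hfinD := hq.finite
  obtain ⟨U₀, hU₀, hlt, hab⟩ :=
    exists_step_of_quot hT hE hq core_isNormal (hsol V hVE hne D hD)
  have haut : ∀ α ∈ F.autGroup T, IsMap F T (autFun α) :=
    fun α hα => isMap_of_mem_autGroup hTS hα
  have hVa : ∀ α ∈ F.autGroup T, ∀ x ∈ V, autFun α x ∈ V :=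
    fun α hα x hx => stronglyClosed_mem hV (haut α hα) (hVT hx) hx
  set s := {A : Subgroup Ω | ∃ α ∈ F.autGroup T, A = img (autFun α) U₀} with hs
  set W := sSup s with hWdef
  obtain ⟨hWT, hWsc, hWn⟩ : W ≤ T ∧ E.StronglyClosed W ∧ D.IsNormal (imageAlong θ W) := by
    refine sSup_induction (p := fun W : Subgroup Ω =>
      W ≤ T ∧ E.StronglyClosed W ∧ D.IsNormal (imageAlong θ W)) ?_ ?_ ?_ ?_
    · exact ⟨bot_le, normal_stronglyClosed isNormal_bot, by rw [imageAlong_bot]; exact isNormal_bot⟩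
    · rintro A B ⟨hA, hA', hA''⟩ ⟨hB, hB', hB''⟩
      exact ⟨sup_le hA hB, stronglyClosed_sup hT hE hA' hB', by
        rw [imageAlong_sup θ hA hB]; exact isNormal_sup hA'' hB''⟩
    · refine (finite_subgroups_le T).subset ?_
      rintro _ ⟨α, -, rfl⟩
      exact img_le fun x hx => autFun_mem α (hU₀.1 hx)
    · rintro _ ⟨α, hα, rfl⟩
      have hsc := transport_stronglyClosed hinv hU₀ hα
      refine ⟨hsc.1, hsc, normal_of_abelian (hq.isPGroup hT) (hq.saturated hT hE)
        (image_stronglyClosed hq ?_ hsc) fun a ha b hb => ?_⟩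
      · intro v hv
        rw [← autFun_apply_inv α v]
        exact mem_img_self _ (hlt.le (hVa _ (inv_mem hα) v hv))
      · obtain ⟨x, hx, hxT, rfl⟩ := mem_imageAlong.1 ha
        obtain ⟨y, hy, hyT, rfl⟩ := mem_imageAlong.1 hb
        have hm := (haut α hα).restrict hU₀.1
        obtain ⟨u, hu, rfl⟩ := hm.mem_img.1 hx
        obtain ⟨w, hw, rfl⟩ := hm.mem_img.1 hy
        rw [← along_comm _ hxT hyT, along_of_mem _
          (T.mul_mem (T.mul_mem (T.mul_mem hxT hyT) (T.inv_mem hxT)) (T.inv_mem hyT)), hq.ker_iff]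
        show autFun α u * autFun α w * (autFun α u)⁻¹ * (autFun α w)⁻¹ ∈ V
        rw [← hm.map_conj hu hw, ← hm.map_inv hw,
          ← hm.map_mul (U₀.mul_mem (U₀.mul_mem hu hw) (U₀.inv_mem hu)) (U₀.inv_mem hw)]
        exact hVa α hα _ (hab u hu w hw)
  have hU₀W : U₀ ≤ W := by
    refine le_sSup ⟨1, one_mem _, ?_⟩
    rw [autFun_one, img_id]
  have hWinv : ∀ α ∈ F.autGroup T, ∀ x ∈ W, autFun α x ∈ W := by
    intro α hα
    let W' : Subgroup Ω := (W.comap (T.subtype.comp α.toMonoidHom)).map T.subtype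
    have hle : W ≤ W' := by
      refine sSup_le ?_
      rintro _ ⟨β, hβ, rfl⟩ z hz
      obtain ⟨u, hu, rfl⟩ := ((haut β hβ).restrict hU₀.1).mem_img.1 hz
      have hzT : autFun β u ∈ T := autFun_mem β (hU₀.1 hu)
      refine ⟨⟨_, hzT⟩, ?_, rfl⟩
      show ((α ⟨_, hzT⟩ : T) : Ω) ∈ W
      rw [← autFun_of_mem α hzT, ← autFun_mul]
      have hmem : img (autFun (α * β)) U₀ ∈ s := ⟨α * β, mul_mem hα hβ, rfl⟩
      exact le_sSup hmem (mem_img_self _ hu)
    intro x hx
    obtain ⟨y, hy, rfl⟩ := hle hx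
    rw [Subgroup.subtype_apply, autFun_apply]
    exact hy
  have hne' : imageAlong θ W ≠ ⊥ := by
    intro h
    refine hlt.not_ge fun x hx => ?_
    have hxT := hU₀.1 hx
    have : along θ x ∈ imageAlong θ W := mem_imageAlong.2 ⟨x, hU₀W hx, hxT, rfl⟩
    rw [h, Subgroup.mem_bot, along_of_mem θ hxT] at this
    exact (hq.ker_iff _).1 this
  obtain ⟨U, hU, hVU, hmem⟩ := exists_center_step hT hE hq hWn hne'
  have hpre : preimageAlong θ (imageAlong θ W) = W := by
    refine le_antisymm (fun x hx => ?_) fun x hx =>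
      mem_preimageAlong.2 ⟨hWT hx, mem_imageAlong.2 ⟨x, hx, hWT hx, rfl⟩⟩
    obtain ⟨hxT, hx'⟩ := mem_preimageAlong.1 hx
    exact preimage_image hq (hlt.le.trans hU₀W) hxT hx'
  rw [hpre] at hmem
  refine ⟨U, stronglyClosed_of_invariant hinv hU fun α hα x hx => ?_, hU.1, hVU,
    fun x hx y hy => ((hmem x).1 hx).2 y ((hmem y).1 hy).1⟩
  obtain ⟨hxW, hc⟩ := (hmem x).1 hx
  refine (hmem _).2 ⟨hWinv α hα x hxW, fun y hy => ?_⟩
  have hy' := hWinv α⁻¹ (inv_mem hα) y hy
  have hm := (haut α hα).restrict hWT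
  have h1 := hVa α hα _ (hc _ hy')
  rw [hm.map_mul (W.mul_mem (W.mul_mem hxW hy') (W.inv_mem hxW)) (W.inv_mem hy'),
    hm.map_conj hxW hy', hm.map_inv hy', autFun_apply_inv] at h1
  exact h1

theorem solvable_extension (hS : IsPGroup p S) (hF : F.IsSaturated p) (hE : E.IsSaturated p)
    (hinv : E.IsInvariantIn F) {Ω' : Type*} [Group Ω'] {S' : Subgroup Ω'} {θ : S →* Ω'}
    {D : FusionSystem S'} (hD : F.IsFactorSystem T θ D) :
    F.IsSolvableSystem ↔ E.IsSolvableSystem ∧ D.IsSolvableSystem := by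
  have hTS : T ≤ S := subsystem_le hinv.1
  have hfinT : Finite T := finite_of_le hTS
  have hT : IsPGroup p T := hS.to_le hTS
  have hsc := hinv.2.1
  have hq := isQuot_of_factorSystem hsc hD
  have hfinD := hq.finite
  constructor
  · intro h
    obtain ⟨n, C, h0, hn, hm, hC, hc⟩ := (solvable_iff hS hF).1 h
    refine ⟨(solvable_iff hT hE).2 ⟨n, fun i => C i ⊓ T, ?_, ?_,
      fun i j hij => inf_le_inf_right _ (hm hij), fun i => stronglyClosed_inf_sub hinv.1 (hC i),
      fun i hi x hx y hy => ⟨hc i hi x hx.1 y hy.1,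
        T.mul_mem (T.mul_mem (T.mul_mem hx.2 hy.2) (T.inv_mem hx.2)) (T.inv_mem hy.2)⟩⟩, ?_⟩
    · show C 0 ⊓ T = ⊥
      rw [h0, bot_inf_eq]
    · show C n ⊓ T = T
      rw [hn, inf_eq_right.2 hTS]
    refine (solvable_iff (hq.isPGroup hS) (hq.saturated hS hF)).2
      ⟨n, fun i => imageAlong θ (C i ⊔ T), ?_, ?_, fun i j hij => ?_,
        fun i => image_stronglyClosed hq le_sup_right (stronglyClosed_sup hS hF (hC i) hsc),
        fun i hi => ?_⟩
    · refine le_bot_iff.1 fun y hy => ?_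
      obtain ⟨x, hx, hxS, rfl⟩ := mem_imageAlong.1 hy
      rw [h0, bot_sup_eq] at hx
      rw [Subgroup.mem_bot, along_of_mem θ hxS]
      exact (hq.ker_iff _).2 hx
    · refine le_antisymm (fun y hy => ?_) fun y hy => ?_
      · obtain ⟨x, -, hxS, rfl⟩ := mem_imageAlong.1 hy
        exact along_mem hq.range_eq hxS
      · obtain ⟨x, hx, rfl⟩ := exists_along_eq hq.range_eq hy
        exact mem_imageAlong.2 ⟨x, Subgroup.mem_sup_left (hn.symm ▸ hx), hx, rfl⟩
    · exact Subgroup.map_mono (Subgroup.comap_mono (sup_le_sup_right (hm hij) T))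
    · have himg : ∀ y ∈ imageAlong θ (C (i + 1) ⊔ T),
          ∃ a ∈ C (i + 1), a ∈ S ∧ along θ a = y := by
        intro y hy
        obtain ⟨x, hx, hxS, rfl⟩ := mem_imageAlong.1 hy
        obtain ⟨a, ha, t, ht, rfl⟩ :=
          coe_sup_of_normal (le_normalizer_of_stronglyClosed hsc) (hC (i + 1)).1 hx
        refine ⟨a, ha, (hC _).1 ha, (along_eq_iff hq.ker_iff ((hC _).1 ha) hxS).2 ?_⟩
        simpa using ht
      intro a ha b hb
      obtain ⟨x, hx, hxS, rfl⟩ := himg a ha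
      obtain ⟨y, hy, hyS, rfl⟩ := himg b hb
      rw [← along_comm θ hxS hyS]
      exact mem_imageAlong.2 ⟨_, Subgroup.mem_sup_left (hc i hi x hx y hy),
        S.mul_mem (S.mul_mem (S.mul_mem hxS hyS) (S.inv_mem hxS)) (S.inv_mem hyS), rfl⟩
  · rintro ⟨hEs, hDs⟩
    obtain ⟨n, C, h0, hn, hm, hC, hc⟩ :=
      (solvable_iff (hq.isPGroup hS) (hq.saturated hS hF)).1 hDs
    have hchainT : HasChain F T := by
      refine ⟨n, fun i => preimageAlong θ (C i), ?_, ?_,
        fun i j hij x hx => mem_preimageAlong.2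
          ⟨(mem_preimageAlong.1 hx).1, hm hij (mem_preimageAlong.1 hx).2⟩,
        fun i => preimage_stronglyClosed hS hF hq (hC i), fun i hi x hx y hy => ?_⟩
      · refine le_antisymm (fun x hx => ?_) (hq.le_preimage _)
        obtain ⟨hxS, hx'⟩ := mem_preimageAlong.1 hx
        rw [h0, Subgroup.mem_bot, along_of_mem θ hxS] at hx'
        exact (hq.ker_iff _).1 hx'
      · refine le_antisymm (preimageAlong_le _) fun x hx => mem_preimageAlong.2 ⟨hx, ?_⟩
        rw [hn]
        exact along_mem hq.range_eq hx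
      · obtain ⟨hxS, hx'⟩ := mem_preimageAlong.1 hx
        obtain ⟨hyS, hy'⟩ := mem_preimageAlong.1 hy
        refine mem_preimageAlong.2
          ⟨S.mul_mem (S.mul_mem (S.mul_mem hxS hyS) (S.inv_mem hxS)) (S.inv_mem hyS), ?_⟩
        rw [along_comm θ hxS hyS]
        exact hc i hi _ hx' _ hy'
    refine (solvable_iff hS hF).2 ?_
    suffices ∀ V, F.StronglyClosed V → V ≤ T → HasChain F V from
      this ⊥ (normal_stronglyClosed isNormal_bot) bot_le
    intro V hV hVT
    induction hk : Nat.card T - Nat.card V using Nat.strong_induction_on generalizing V with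
    | _ k ih =>
    by_cases hne : V = T
    · exact hne ▸ hchainT
    obtain ⟨U, hU, hUT, hlt, hab⟩ := exists_step_invariant hS hE hinv hEs hV hVT hne
    have hfinU : Finite U := finite_of_le hUT
    refine hasChain_cons hV hlt.le hab (ih _ ?_ U hU hUT rfl)
    have := card_lt_card hlt
    have := card_le_card hUT
    omega

end Cfsg.Agent.Fusion.SolvableExt
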