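/-
Abelian groups of supersoluble type: the invariants are pairwise distinct.
-/
import Mathlib
import Cfsg.Agent.Lib.Fusion.SupersolubleChain
import Cfsg.Agent.Lib.Fusion.Abelian

set_option autoImplicit false
set_option linter.unusedSectionVars false

namespace Cfsg.Agent.Fusion.SupersolubleAbelian

open Cfsg Cfsg.FusionSystem

variable {G : Type*} [CommGroup G] [Finite G] {p : ℕ} [Fact p.Prime]

/-- A subgroup invariant under every automorphism. -/
def Inv (A : Subgroup G) : Prop := ∀ α : MulAut G, A.map α.toMonoidHom ≤ A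

/-- A cyclic step between invariant subgroups. -/
def Step (A B : Subgroup G) : Prop :=
  Inv A ∧ Inv B ∧ A ≤ B ∧ ∃ x ∈ B, B ≤ A ⊔ Subgroup.zpowers x

theorem inv_sup {A B : Subgroup G} (hA : Inv A) (hB : Inv B) : Inv (A ⊔ B) := fun α => by
  rw [Subgroup.map_sup]; exact sup_le_sup (hA α) (hB α)

theorem inv_ker (n : ℕ) : Inv (powMonoidHom n : G →* G).ker := by
  rintro α _ ⟨x, hx, rfl⟩
  rw [SetLike.mem_coe, MonoidHom.mem_ker, powMonoidHom_apply] at hx
  rw [MonoidHom.mem_ker, powMonoidHom_apply, ← map_pow, hx, map_one]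

theorem inv_map {A : Subgroup G} (hA : Inv A) (n : ℕ) : Inv (A.map (powMonoidHom n)) := by
  rintro α _ ⟨_, ⟨x, hx, rfl⟩, rfl⟩
  exact ⟨α x, hA α ⟨x, hx, rfl⟩, (map_pow α x n).symm⟩

theorem inv_range (n : ℕ) : Inv (powMonoidHom n : G →* G).range := by
  rw [MonoidHom.range_eq_map]
  exact inv_map (fun _ => le_top) n

/-- A climb by cyclic steps gives the condition on `p'`-automorphisms. -/
theorem auts_of_climb (hG : IsPGroup p G) (h : Relation.ReflTransGen Step (⊥ : Subgroup G) ⊤)
    (H : Subgroup (MulAut G)) (hcop : (Nat.card H).Coprime p) :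
    IsMulCommutative H ∧ ∀ a ∈ H, a ^ (p - 1) = 1 := by
  have aux : ∀ B : Subgroup G, Relation.ReflTransGen Step ⊥ B →
      ∃ (n : ℕ) (C : ℕ → Subgroup G), C 0 = ⊥ ∧ C n = B ∧ ∀ i < n, Step (C i) (C (i + 1)) := by
    intro B hB
    induction hB with
    | refl => exact ⟨0, fun _ => ⊥, rfl, rfl, by omega⟩
    | @tail B B' _ hstep ih =>
      obtain ⟨n, C, h0, hn, hC⟩ := ih
      refine ⟨n + 1, fun i => if i ≤ n then C i else B', by simp [h0], by simp, fun i hi => ?_⟩
      rcases Nat.lt_or_ge i n with h1 | h1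
      · have h2 : i + 1 ≤ n := h1
        simp only [h1.le, h2, if_true]
        exact hC i h1
      · have h2 : i = n := by omega
        subst h2
        simp only [le_refl, if_true, Nat.not_succ_le_self, if_false, hn]
        exact hstep
  obtain ⟨n, C, h0, hn, hC⟩ := aux ⊤ h
  refine SupersolubleChain.series_auts (C := C) (n := n) hG h0 hn (fun i hi => (hC i hi).2.2.1)
    (fun i _ => inferInstance) (fun i hi => (hC i hi).2.2.2) H hcop fun α _ i hi x hx => ?_
  rcases Nat.lt_or_ge i n with h1 | h1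
  · exact (hC i h1).1 α ⟨x, hx, rfl⟩
  · have h2 : i = n := by omega
    rw [h2, hn]
    exact Subgroup.mem_top _

/-- The subgroup generated by the `p^a`-torsion and the `p`-th powers. -/
def D (p a : ℕ) : Subgroup G := (powMonoidHom (p ^ a)).ker ⊔ (powMonoidHom p).range

theorem climb_of_steps (hG : IsPGroup p G)
    (hD : ∀ a : ℕ, ∃ x : G, x ^ p ^ (a + 1) = 1 ∧
      ∀ y : G, y ^ p ^ (a + 1) = 1 → y ∈ D p a ⊔ Subgroup.zpowers x) :
    Relation.ReflTransGen Step (⊥ : Subgroup G) ⊤ := by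
  obtain ⟨e, he⟩ := IsPGroup.iff_card.1 hG
  have hpe : ∀ x : G, x ^ p ^ e = 1 := fun x => by rw [← he]; exact pow_card_eq_one'
  let T : ℕ → ℕ → Subgroup G := fun b a => (D p a).map (powMonoidHom (p ^ b))
  have hinv : ∀ b a, Inv (T b a) := fun b a => inv_map (inv_sup (inv_ker _) (inv_range _)) _
  have hT0 : ∀ b, T b 0 = (powMonoidHom (p ^ (b + 1)) : G →* G).range := by
    intro b
    have h1 : (powMonoidHom (p ^ 0) : G →* G).ker = ⊥ := by
      ext x; simp
    simp only [T, D, h1, bot_sup_eq]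
    rw [MonoidHom.range_eq_map, MonoidHom.range_eq_map, Subgroup.map_map]
    congr 1
    ext x
    show (x ^ p) ^ p ^ b = x ^ p ^ (b + 1)
    rw [← pow_mul, pow_succ']
  have hTe : ∀ b, T b e = (powMonoidHom (p ^ b) : G →* G).range := by
    intro b
    have h1 : (powMonoidHom (p ^ e) : G →* G).ker = ⊤ := by
      ext x; simp [hpe x]
    simp only [T, D, h1, top_sup_eq]
    rw [MonoidHom.range_eq_map]
  have hmono : ∀ a, (D p a : Subgroup G) ≤ D p (a + 1) := fun a => by
    refine sup_le_sup (fun x hx => ?_) le_rfl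
    rw [MonoidHom.mem_ker, powMonoidHom_apply] at hx ⊢
    rw [pow_succ, pow_mul, hx, one_pow]
  have hstep : ∀ b a, Step (T b a) (T b (a + 1)) := by
    intro b a
    obtain ⟨x, hx, hxy⟩ := hD a
    have hxm : x ∈ D p (a + 1) := Subgroup.mem_sup_left hx
    refine ⟨hinv _ _, hinv _ _, Subgroup.map_mono (hmono a), powMonoidHom (p ^ b) x,
      Subgroup.mem_map_of_mem _ hxm, ?_⟩
    rw [← MonoidHom.map_zpowers, ← Subgroup.map_sup]
    refine Subgroup.map_mono (sup_le (fun y hy => hxy y hy) ?_)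
    exact le_sup_of_le_left le_sup_right
  have hrange : ∀ b, Relation.ReflTransGen Step
      (powMonoidHom (p ^ (b + 1)) : G →* G).range (powMonoidHom (p ^ b) : G →* G).range := by
    intro b
    rw [← hT0, ← hTe]
    have : ∀ a, Relation.ReflTransGen Step (T b 0) (T b a) := by
      intro a
      induction a with
      | zero => exact .refl
      | succ a ih => exact ih.tail (hstep b a)
    exact this e
  have htop : ∀ b, Relation.ReflTransGen Step (powMonoidHom (p ^ b) : G →* G).range ⊤ := by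
    intro b
    induction b with
    | zero =>
      have : (powMonoidHom (p ^ 0) : G →* G).range = ⊤ := by
        ext x; simp
      rw [this]
    | succ b ih => exact (hrange b).trans ih
  have hbot : (powMonoidHom (p ^ e) : G →* G).range = ⊥ := by
    rw [eq_bot_iff]
    rintro _ ⟨x, rfl⟩
    exact hpe x
  rw [← hbot]
  exact htop e

theorem exists_root {n m a : ℕ} (hn : n = p ^ m) (hm : a + 1 < m) (c : Multiplicative (ZMod n))
    (h : c ^ p ^ (a + 1) = 1) : ∃ d : Multiplicative (ZMod n), d ^ p = c := by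
  subst hn
  have : NeZero (p ^ m) := ⟨pow_ne_zero _ (Fact.out : p.Prime).ne_zero⟩
  have h1 : (p ^ (a + 1)) • (Multiplicative.toAdd c) = 0 := by rw [← toAdd_pow, h, toAdd_one]
  set v := Multiplicative.toAdd c with hv
  rw [nsmul_eq_mul, ← ZMod.natCast_zmod_val v, ← Nat.cast_mul, ZMod.natCast_eq_zero_iff] at h1
  have h2 : p ∣ v.val := by
    obtain ⟨t, rfl⟩ : ∃ t, m = (a + 1) + (t + 1) := ⟨m - a - 2, by omega⟩
    have h1' : p ^ (a + 1) * p ^ (t + 1) ∣ p ^ (a + 1) * v.val := by rw [← pow_add]; exact h1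
    exact (dvd_pow_self p t.succ_ne_zero).trans
      (Nat.dvd_of_mul_dvd_mul_left (pow_pos (Fact.out : p.Prime).pos _) h1')
  refine ⟨Multiplicative.ofAdd ((v.val / p : ℕ) : ZMod (p ^ m)), ?_⟩
  rw [← ofAdd_nsmul, nsmul_eq_mul, ← Nat.cast_mul, Nat.mul_div_cancel' h2, ZMod.natCast_zmod_val]
  exact ofAdd_toAdd c

/-- A decomposition with distinct exponents gives cyclic steps. -/
theorem steps_of_injective {ι : Type} [Fintype ι] (n m : ι → ℕ) (hn : ∀ i, n i = p ^ m i)
    (hinj : Function.Injective m) (e : G ≃* ((i : ι) → Multiplicative (ZMod (n i)))) (a : ℕ) :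
    ∃ x : G, x ^ p ^ (a + 1) = 1 ∧
      ∀ y : G, y ^ p ^ (a + 1) = 1 → y ∈ D p a ⊔ Subgroup.zpowers x := by
  classical
  obtain ⟨x, hx, hclean⟩ : ∃ x : G, x ^ p ^ (a + 1) = 1 ∧
      ∀ y : G, ∃ k : ℕ, ∀ i, m i = a + 1 → e (y * (x ^ k)⁻¹) i = 1 := by
    by_cases h : ∃ i, m i = a + 1
    · obtain ⟨i, hi⟩ := h
      have : NeZero (n i) := ⟨by rw [hn]; exact pow_ne_zero _ (Fact.out : p.Prime).ne_zero⟩
      refine ⟨e.symm (Pi.mulSingle i (Multiplicative.ofAdd 1)), ?_, fun y => ?_⟩
      · rw [← map_pow, ← Pi.mulSingle_pow]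
        have : (Multiplicative.ofAdd (1 : ZMod (n i))) ^ p ^ (a + 1) = 1 := by
          rw [← ofAdd_nsmul, nsmul_one, ← hi, ← hn, ZMod.natCast_self, ofAdd_zero]
        rw [this, Pi.mulSingle_one, map_one]
      · refine ⟨(Multiplicative.toAdd (e y i)).val, fun j hj => ?_⟩
        rw [hinj (hj.trans hi.symm)]
        rw [map_mul, map_inv, map_pow, e.apply_symm_apply, Pi.mul_apply, Pi.inv_apply, Pi.pow_apply,
          Pi.mulSingle_eq_same, ← ofAdd_nsmul, nsmul_one, ZMod.natCast_zmod_val, ofAdd_toAdd,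
          mul_inv_cancel]
    · exact ⟨1, one_pow _, fun y => ⟨0, fun i hi => absurd ⟨i, hi⟩ h⟩⟩
  refine ⟨x, hx, fun y hy => ?_⟩
  obtain ⟨k, hk⟩ := hclean y
  rw [show y = (y * (x ^ k)⁻¹) * x ^ k from (inv_mul_cancel_right y (x ^ k)).symm]
  refine mul_mem (Subgroup.mem_sup_left ?_) (Subgroup.mem_sup_right ⟨k, zpow_natCast x k⟩)
  set z := y * (x ^ k)⁻¹
  have hz : z ^ p ^ (a + 1) = 1 := by
    rw [mul_pow, hy, one_mul, inv_pow, ← pow_mul, mul_comm k, pow_mul, hx, one_pow, inv_one]
  have hroot : ∀ i, ∃ d : Multiplicative (ZMod (n i)), ¬ m i ≤ a → d ^ p = e z i := by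
    intro i
    by_cases h : m i ≤ a
    · exact ⟨1, fun h' => absurd h h'⟩
    by_cases h' : m i = a + 1
    · exact ⟨1, fun _ => by rw [one_pow, hk i h']⟩
    obtain ⟨d, hd⟩ := exists_root (a := a) (hn i) (by omega) (e z i)
      (by rw [← Pi.pow_apply, ← map_pow, hz, map_one, Pi.one_apply])
    exact ⟨d, fun _ => hd⟩
  choose d hd using hroot
  let u : (i : ι) → Multiplicative (ZMod (n i)) := fun i => if m i ≤ a then e z i else 1
  let w : (i : ι) → Multiplicative (ZMod (n i)) := fun i => if m i ≤ a then 1 else d i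
  have hzuw : z = e.symm u * (e.symm w) ^ p := by
    rw [← map_pow, ← map_mul, eq_comm, MulEquiv.symm_apply_eq]
    funext i
    simp only [Pi.mul_apply, Pi.pow_apply, u, w]
    split_ifs with h
    · rw [one_pow, mul_one]
    · rw [one_mul, hd i h]
  rw [hzuw]
  refine mul_mem (Subgroup.mem_sup_left ?_) (Subgroup.mem_sup_right ⟨e.symm w, rfl⟩)
  rw [MonoidHom.mem_ker, powMonoidHom_apply, ← map_pow]
  have : u ^ p ^ a = 1 := by
    funext i
    simp only [Pi.pow_apply, u, Pi.one_apply]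
    split_ifs with h
    · obtain ⟨t, ht⟩ := Nat.exists_eq_add_of_le h
      generalize e z i = c
      rw [← toAdd_eq_zero, toAdd_pow, nsmul_eq_mul, ht, pow_add, Nat.cast_mul, ← hn,
        ZMod.natCast_self, zero_mul, zero_mul]
    · exact one_pow _
  rw [this, map_one]

/-- No factor `C × C` gives the condition on `p'`-automorphisms. -/
theorem auts_of_distinct (hG : IsPGroup p G)
    (h : ¬ ∃ (n : ℕ) (H : Type) (_ : CommGroup H), 0 < n ∧
      Nonempty (G ≃* (Multiplicative (ZMod (p ^ n)) × Multiplicative (ZMod (p ^ n))) × H))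
    (H : Subgroup (MulAut G)) (hcop : (Nat.card H).Coprime p) :
    IsMulCommutative H ∧ ∀ a ∈ H, a ^ (p - 1) = 1 := by
  classical
  obtain ⟨ι, hι, n, hn1, ⟨e⟩⟩ := CommGroup.equiv_prod_multiplicative_zmod_of_finite G
  obtain ⟨k, hk⟩ := IsPGroup.iff_card.1 hG
  have hnd : ∀ i, n i ∣ p ^ k := fun i => by
    rw [← hk, Nat.card_congr e.toEquiv, Nat.card_pi]
    have : Nat.card (Multiplicative (ZMod (n i))) = n i := Nat.card_zmod (n i)
    conv_lhs => rw [← this]
    exact Finset.dvd_prod_of_mem _ (Finset.mem_univ i)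
  choose m hm hnm using fun i => (Nat.dvd_prime_pow (Fact.out : p.Prime)).1 (hnd i)
  refine auts_of_climb hG (climb_of_steps hG (steps_of_injective n m hnm ?_ e)) H hcop
  intro a b hab
  by_contra hne
  refine h ⟨m a, (i : {i // i ≠ a ∧ i ≠ b}) → Multiplicative (ZMod (n i)), inferInstance, ?_, ?_⟩
  · rcases Nat.eq_zero_or_pos (m a) with h0 | h0
    · have := hn1 a
      rw [hnm, h0, pow_zero] at this
      omega
    · exact h0
  have ea : n a = p ^ m a := hnm a
  have eb : n b = p ^ m a := by rw [hnm, hab]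
  let qa : Multiplicative (ZMod (n a)) ≃* Multiplicative (ZMod (p ^ m a)) :=
    (ZMod.ringEquivCongr ea).toAddEquiv.toMultiplicative
  let qb : Multiplicative (ZMod (n b)) ≃* Multiplicative (ZMod (p ^ m a)) :=
    (ZMod.ringEquivCongr eb).toAddEquiv.toMultiplicative
  let f : ((i : ι) → Multiplicative (ZMod (n i))) →*
      (Multiplicative (ZMod (p ^ m a)) × Multiplicative (ZMod (p ^ m a))) ×
        ((i : {i // i ≠ a ∧ i ≠ b}) → Multiplicative (ZMod (n i))) :=
    MonoidHom.mk' (fun g => ((qa (g a), qb (g b)), fun i => g i)) fun g g' => by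
      simp only [Pi.mul_apply, map_mul]
      rfl
  refine ⟨e.trans (MulEquiv.ofBijective f ⟨fun g g' hgg => ?_, fun t => ?_⟩)⟩
  · simp only [f, MonoidHom.mk'_apply, Prod.mk.injEq] at hgg
    funext i
    rcases eq_or_ne i a with rfl | hia
    · exact qa.injective hgg.1.1
    rcases eq_or_ne i b with rfl | hib
    · exact qb.injective hgg.1.2
    exact congrFun hgg.2 ⟨i, hia, hib⟩
  · refine ⟨Function.update (Function.update
      (fun i => if hi : i ≠ a ∧ i ≠ b then t.2 ⟨i, hi⟩ else 1) a (qa.symm t.1.1)) b (qb.symm t.1.2),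
      ?_⟩
    refine Prod.ext (Prod.ext ?_ ?_) (funext fun i => ?_)
    · simp [f, Function.update_of_ne (show a ≠ b from hne)]
    · simp [f]
    · simp only [f, MonoidHom.mk'_apply]
      rw [Function.update_of_ne i.2.2, Function.update_of_ne i.2.1, dif_pos i.2]

theorem bad_auts {A K : Type*} [CommGroup A] [CommGroup K] [Finite A] [Finite K] {g : A} (hg1 : g ≠ 1)
    (hg2 : p ≠ 2 → g ^ 2 ≠ 1) :
    ∃ H : Subgroup (MulAut ((A × A) × K)), (Nat.card H).Coprime p ∧
      ¬ (IsMulCommutative H ∧ ∀ h ∈ H, h ^ (p - 1) = 1) := by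
  rcases (Fact.out : p.Prime).eq_two_or_odd with hp | hp
  · let t : MulAut ((A × A) × K) :=
      { toFun := fun v => ((v.1.2, (v.1.1 * v.1.2)⁻¹), v.2)
        invFun := fun v => (((v.1.1 * v.1.2)⁻¹, v.1.1), v.2)
        left_inv := fun v => Prod.ext (Prod.ext
          (by show (v.1.2 * (v.1.1 * v.1.2)⁻¹)⁻¹ = v.1.1
              rw [mul_inv, inv_inv, inv_mul_cancel_comm_assoc]) rfl) rfl
        right_inv := fun v => Prod.ext (Prod.ext rfl
          (by show ((v.1.1 * v.1.2)⁻¹ * v.1.1)⁻¹ = v.1.2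
              rw [mul_inv, inv_inv, mul_inv_cancel_comm])) rfl
        map_mul' := fun v w => by simp [mul_comm, mul_left_comm, mul_assoc] }
    have ht3 : t ^ 3 = 1 := MulEquiv.ext fun v => by
      simp [pow_succ, t, mul_comm, mul_assoc]
    refine ⟨Subgroup.zpowers t, ?_, fun hh => ?_⟩
    · rw [Nat.card_zpowers, hp]
      exact Nat.Coprime.coprime_dvd_left (orderOf_dvd_of_pow_eq_one ht3) (by decide)
    · have h1 : t = 1 := by
        simpa [hp] using hh.2 t (Subgroup.mem_zpowers t)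
      have h2 := congrArg (fun v => v.1.1) (DFunLike.congr_fun h1 ((g, 1), 1))
      simp [t] at h2
      exact hg1 h2.symm
  · let r : MulAut ((A × A) × K) :=
      { toFun := fun v => ((v.1.2, v.1.1⁻¹), v.2)
        invFun := fun v => ((v.1.2⁻¹, v.1.1), v.2)
        left_inv := fun v => by simp
        right_inv := fun v => by simp
        map_mul' := fun v w => by simp [mul_comm] }
    let s : MulAut ((A × A) × K) :=
      { toFun := fun v => ((v.1.2, v.1.1), v.2)
        invFun := fun v => ((v.1.2, v.1.1), v.2)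
        left_inv := fun v => rfl
        right_inv := fun v => rfl
        map_mul' := fun v w => rfl }
    have hr4 : r ^ 4 = 1 := MulEquiv.ext fun v => by simp [pow_succ, r]
    have hs2 : s ^ 2 = 1 := MulEquiv.ext fun v => by simp [pow_succ, s]
    have hsr : s * r * s⁻¹ = r⁻¹ := MulEquiv.ext fun v => by
      simp [s, r, MulAut.mul_apply, MulAut.inv_def]
    have h2 : IsPGroup 2 (Subgroup.zpowers s) := IsPGroup.of_card (n := 1) (by
      rw [Nat.card_zpowers, pow_one]
      have : Fact (Nat.Prime 2) := ⟨Nat.prime_two⟩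
      refine orderOf_eq_prime hs2 fun h => hg1 ?_
      simpa [s] using (congrArg (fun v => v.1.1) (DFunLike.congr_fun h ((g, 1), 1))).symm)
    have h4 : IsPGroup 2 (Subgroup.zpowers r) := by
      rintro ⟨_, k, rfl⟩
      refine ⟨2, Subtype.ext ?_⟩
      show (r ^ k) ^ (2 ^ 2) = 1
      rw [← zpow_natCast, ← zpow_mul, mul_comm, zpow_mul, zpow_natCast]
      simp [hr4]
    have hnorm : Subgroup.zpowers s ≤ Subgroup.normalizer (Subgroup.zpowers r : Set _) := by
      rw [Subgroup.zpowers_le, Subgroup.mem_normalizer_iff_map_conj_eq, MonoidHom.map_zpowers]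
      show Subgroup.zpowers (s * r * s⁻¹) = _
      rw [hsr, Subgroup.zpowers_inv]
    have hH := IsPGroup.to_sup_of_normal_right' h2 h4 hnorm
    refine ⟨Subgroup.zpowers s ⊔ Subgroup.zpowers r, ?_, fun hh => ?_⟩
    · obtain ⟨k, hk⟩ := (IsPGroup.iff_card).1 hH
      rw [hk]
      exact ((Nat.coprime_primes Nat.prime_two Fact.out).2 (by omega)).pow_left k
    · have hc : s * r = r * s := congrArg Subtype.val (hh.1.is_comm.comm
        (⟨s, Subgroup.mem_sup_left (Subgroup.mem_zpowers s)⟩ :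
          (Subgroup.zpowers s ⊔ Subgroup.zpowers r : Subgroup _))
        ⟨r, Subgroup.mem_sup_right (Subgroup.mem_zpowers r)⟩)
      have h3 := congrArg (fun v => v.1.1) (DFunLike.congr_fun hc ((g, 1), 1))
      simp [s, r, MulAut.mul_apply] at h3
      exact hg2 (by omega) (by rw [pow_two]; exact mul_eq_one_iff_eq_inv.2 h3.symm)

/-- A repeated invariant gives a bad group of `p'`-automorphisms. -/
theorem exists_bad {n : ℕ} (hn : 0 < n) {K : Type*} [CommGroup K] (G : Type*) [Group G] [Finite G]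
    (e : G ≃* (Multiplicative (ZMod (p ^ n)) × Multiplicative (ZMod (p ^ n))) × K) :
    ∃ H : Subgroup (MulAut G), (Nat.card H).Coprime p ∧
      ¬ (IsMulCommutative H ∧ ∀ h ∈ H, h ^ (p - 1) = 1) := by
  have : Fact (1 < p ^ n) := ⟨Nat.one_lt_pow hn.ne' (Fact.out : p.Prime).one_lt⟩
  have : Finite K := Finite.of_surjective (fun x => (e x).2)
    fun k => ⟨e.symm (1, k), by simp⟩
  have : NeZero (p ^ n) := ⟨pow_ne_zero _ (Fact.out : p.Prime).ne_zero⟩
  obtain ⟨H, hH, hbad⟩ := bad_auts (p := p) (K := K)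
    (g := Multiplicative.ofAdd (1 : ZMod (p ^ n)))
    (fun h => one_ne_zero (α := ZMod (p ^ n)) (ofAdd_eq_one.1 h)) fun hp h5 => by
      rw [← ofAdd_nsmul, nsmul_one, ofAdd_eq_one, ZMod.natCast_eq_zero_iff] at h5
      have h6 : p ^ n ≤ 2 := Nat.le_of_dvd (by norm_num) h5
      have h7 : p ^ 1 ≤ p ^ n := Nat.pow_le_pow_right (Fact.out : p.Prime).pos hn
      have := (Fact.out : p.Prime).two_le
      rw [pow_one] at h7
      omega
  let c := MulAut.congr e.symm
  refine ⟨H.map c.toMonoidHom, by rwa [Subgroup.card_map_of_injective c.injective], fun hh => hbad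
    ⟨⟨⟨fun a b => Subtype.ext (c.injective ?_)⟩⟩, fun h hh' => c.injective ?_⟩⟩
  · have := congrArg Subtype.val (hh.1.is_comm.comm
      (⟨_, Subgroup.mem_map_of_mem _ a.2⟩ : H.map c.toMonoidHom) ⟨_, Subgroup.mem_map_of_mem _ b.2⟩)
    simp only [Subgroup.coe_mul, map_mul]
    exact this
  · rw [map_pow, map_one]
    exact hh.2 _ (Subgroup.mem_map_of_mem _ hh')

variable {Ω : Type*} [Group Ω] {S : Subgroup Ω} [Finite S]

/-- An abelian group with no factor `C × C` is of supersoluble type. -/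
theorem chain_of_distinct (hS : IsPGroup p S) (hab : ∀ a b : S, a * b = b * a)
    (h : ¬ ∃ (n : ℕ) (H : Type) (_ : CommGroup H), 0 < n ∧
      Nonempty (S ≃* (Multiplicative (ZMod (p ^ n)) × Multiplicative (ZMod (p ^ n))) × H))
    (F : FusionSystem S) (hF : F.IsSaturated p) : SupersolubleChain.HasChain F := by
  let inst : CommGroup S := { (inferInstance : Group S) with mul_comm := hab }
  refine SupersolubleChain.chain_of_normal hS hF
    (Abelian.normal_of_stronglyClosed hS hF
      (fun x hx y hy => congrArg Subtype.val (hab ⟨x, hx⟩ ⟨y, hy⟩))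
      (Cfsg.Agent.Fusion.Solvable.stronglyClosed_self F)) fun H hH => ?_
  exact auts_of_distinct (G := S) hS h H hH

/-- A group with a factor `C × C` is not of supersoluble type. -/
theorem not_chain_of_factor (hS : IsPGroup p S) {n : ℕ} (hn : 0 < n) {K : Type*} [CommGroup K]
    (e : S ≃* (Multiplicative (ZMod (p ^ n)) × Multiplicative (ZMod (p ^ n))) × K) :
    ∃ F : FusionSystem S, F.IsSaturated p ∧ ¬ SupersolubleChain.HasChain F := by
  obtain ⟨H, hH, hbad⟩ := exists_bad hn S e
  obtain ⟨F, hF, hle⟩ := SupersolubleChain.exists_system hS H hH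
  exact ⟨F, hF, fun h => hbad (SupersolubleChain.auts_of_chain hS h H hle hH)⟩

end Cfsg.Agent.Fusion.SupersolubleAbelian
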