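/-
The Sylow subgroups of `SL_3` in the defining characteristic are semi-extraspecial.
-/
import Mathlib
import Cfsg.Agent.Lib.AutPSL.Roots
import Cfsg.Agent.Lib.Fusion.SemiExtraspecialCore

set_option autoImplicit false
set_option linter.unusedSectionVars false

namespace Cfsg.Agent.Fusion.SylowSL3

open Matrix Cfsg.Agent.AutPSL.Roots Cfsg.Agent.AutPSL.Basic

universe u

variable {F : Type u} [Field F] [Fintype F]

local notation "SL" => Matrix.SpecialLinearGroup (Fin 3) F
local notation "M" => Matrix (Fin 3) (Fin 3) F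
local notation "U" => (unitriSL (n := 3) (F := F))

/-- An entry of an element. -/
def en (x : (unitriSL (n := 3) (F := F))) (i j : Fin 3) : F := ((x : SL) : M) i j

theorem en_mul (x y : U) : en (x * y) 0 1 = en x 0 1 + en y 0 1 ∧
    en (x * y) 1 2 = en x 1 2 + en y 1 2 ∧
    en (x * y) 0 2 = en x 0 2 + en y 0 2 + en x 0 1 * en y 1 2 := by
  have hx := x.2.2
  have hy := y.2.2
  have e : ∀ i j, en (x * y) i j = (((x : SL) : M) * ((y : SL) : M)) i j := fun i j => rfl
  refine ⟨?_, ?_, ?_⟩ <;> rw [e, Matrix.mul_apply, Fin.sum_univ_three]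
  · rw [hx 0, hy 1, y.2.1 2 1 (by decide)]; simp [en]; ring
  · rw [x.2.1 1 0 (by decide), hx 1, hy 2]; simp [en]; ring
  · rw [hx 0, hy 2]; simp [en]; ring

theorem en_ext {x y : U} (h01 : en x 0 1 = en y 0 1) (h12 : en x 1 2 = en y 1 2)
    (h02 : en x 0 2 = en y 0 2) : x = y := by
  refine Subtype.ext (Subtype.ext ?_)
  ext i j
  have hlow : ∀ a b : Fin 3, b < a → en x a b = en y a b := fun a b h => by
    simp [en, x.2.1 a b h, y.2.1 a b h]
  have hdiag : ∀ a : Fin 3, en x a a = en y a a := fun a => by simp [en, x.2.2 a, y.2.2 a]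
  fin_cases i <;> fin_cases j <;>
    first
      | exact h01
      | exact h12
      | exact h02
      | exact hdiag _
      | exact hlow _ _ (by decide)

theorem exists_en (a b c : F) : ∃ x : U, en x 0 1 = a ∧ en x 1 2 = b ∧ en x 0 2 = c := by
  let A : M := !![1, a, c; 0, 1, b; 0, 0, 1]
  refine ⟨⟨⟨A, by simp [A, Matrix.det_fin_three]⟩, ⟨fun i j h => ?_, fun i => ?_⟩⟩, rfl, rfl, rfl⟩
  · fin_cases i <;> fin_cases j <;> simp_all [A]
  · fin_cases i <;> simp [A]

theorem mem_center_iff (x : U) : x ∈ Subgroup.center U ↔ en x 0 1 = 0 ∧ en x 1 2 = 0 := by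
  rw [Subgroup.mem_center_iff]
  constructor
  · intro h
    obtain ⟨y, hy1, hy2, hy3⟩ := exists_en (F := F) 1 0 0
    obtain ⟨w, hw1, hw2, hw3⟩ := exists_en (F := F) 0 1 0
    have h1 := (en_mul y x).2.2
    rw [h y, (en_mul x y).2.2, hy1, hy2, hy3] at h1
    have h2 := (en_mul w x).2.2
    rw [h w, (en_mul x w).2.2, hw1, hw2, hw3] at h2
    exact ⟨by linear_combination h2, by linear_combination -h1⟩
  · rintro ⟨h1, h2⟩ y
    obtain ⟨a1, a2, a3⟩ := en_mul x y
    obtain ⟨b1, b2, b3⟩ := en_mul y x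
    refine en_ext (by rw [a1, b1, add_comm]) (by rw [a2, b2, add_comm]) ?_
    rw [a3, b3, h1, h2]
    ring

theorem semiES_unitri : SemiExtraspecialCore.SemiES U := by
  constructor
  · intro x y
    set z := x * y * x⁻¹ * y⁻¹ with hz
    have hrel : z * (y * x) = x * y := by rw [hz]; group
    refine (mem_center_iff z).2 ⟨?_, ?_⟩
    · have := congrArg (fun t => en t 0 1) hrel
      simp only [(en_mul _ _).1] at this
      linear_combination this
    · have := congrArg (fun t => en t 1 2) hrel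
      simp only [(en_mul _ _).2.1] at this
      linear_combination this
  · intro x hx z hz
    rw [mem_center_iff] at hx hz
    obtain ⟨y, hy⟩ : ∃ y : U, en z 0 2 = en y 0 1 * en x 1 2 - en x 0 1 * en y 1 2 := by
      by_cases h : en x 1 2 = 0
      · have h' : en x 0 1 ≠ 0 := fun h0 => hx ⟨h0, h⟩
        obtain ⟨y, -, hy, -⟩ := exists_en (F := F) 0 (-(en z 0 2) / en x 0 1) 0
        exact ⟨y, by rw [hy, h]; field_simp; ring⟩
      · obtain ⟨y, hy1, hy2, -⟩ := exists_en (F := F) (en z 0 2 / en x 1 2) 0 0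
        exact ⟨y, by rw [hy1, hy2]; field_simp; ring⟩
    refine ⟨y, ?_⟩
    rw [mul_inv_eq_iff_eq_mul, mul_inv_eq_iff_eq_mul]
    obtain ⟨a1, a2, a3⟩ := en_mul y x
    obtain ⟨b1, b2, b3⟩ := en_mul (z * x) y
    obtain ⟨c1, c2, c3⟩ := en_mul z x
    refine en_ext ?_ ?_ ?_
    · rw [a1, b1, c1, hz.1]; ring
    · rw [a2, b2, c2, hz.2]; ring
    · rw [a3, b3, c3, c1, hz.1]
      linear_combination -hy

theorem semiES_sylow {p : ℕ} [Fact p.Prime] [CharP F p] (T : Sylow p SL) :
    SemiExtraspecialCore.SemiES (T : Subgroup SL) := by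
  obtain ⟨P', hP'⟩ := exists_sylow_eq (F := F) (n := 3) p (by omega)
  have hU : IsPGroup p U := by
    intro s
    have hs' : QuotientGroup.mk' (Subgroup.center SL) (s : SL) ∈ (P' : Subgroup _) := by
      rw [hP']; exact ⟨(s : SL), s.2, rfl⟩
    obtain ⟨k, hk⟩ := P'.2 ⟨_, hs'⟩
    refine ⟨k, Subtype.ext (mk_injOn _ _ (s ^ p ^ k).2 (one_mem _) 0 ?_)⟩
    exact congrArg Subtype.val hk
  obtain ⟨P, hP⟩ := hU.exists_le_sylow
  have himg : (P : Subgroup SL).map (QuotientGroup.mk' (Subgroup.center SL)) = P' :=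
    P'.3 (P.2.map _) (hP' ▸ Subgroup.map_mono hP)
  have hPU : (P : Subgroup SL) = U := le_antisymm (fun x hx => by
    obtain ⟨s, hs, hsx⟩ := (hP' ▸ himg ▸ Subgroup.mem_map_of_mem _ hx :
      QuotientGroup.mk' (Subgroup.center SL) x ∈ unitri (n := 3) (F := F))
    obtain ⟨c, hc⟩ := (mk_eq_mk_iff s x).1 hsx
    obtain ⟨k, hk⟩ := P.2 ⟨x, hx⟩
    obtain ⟨j, hj⟩ := P.2 ⟨s, hP hs⟩
    have hxk : x ^ p ^ (k + j) = 1 := by
      rw [pow_add, pow_mul, show x ^ p ^ k = 1 from congrArg Subtype.val hk, one_pow]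
    have hsk : s ^ p ^ (k + j) = 1 := by
      rw [pow_add, mul_comm, pow_mul, show s ^ p ^ j = 1 from congrArg Subtype.val hj, one_pow]
    have h1 : (x : M) ^ p ^ (k + j) = (c • (s : M)) ^ p ^ (k + j) := by rw [hc]
    rw [smul_pow, ← Matrix.SpecialLinearGroup.coe_pow, ← Matrix.SpecialLinearGroup.coe_pow, hxk, hsk,
      Matrix.SpecialLinearGroup.coe_one] at h1
    have h2 : c ^ p ^ (k + j) = 1 := by
      have := congrFun (congrFun h1 0) 0
      rw [Matrix.smul_apply, Matrix.one_apply_eq, smul_eq_mul, mul_one] at this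
      exact this.symm
    have hc1 : c = 1 := iterateFrobenius_inj F p (k + j) (by simp [iterateFrobenius_def, h2])
    have : x = s := Subtype.ext (by rw [hc, hc1, one_smul])
    exact this ▸ hs) hP
  obtain ⟨g, hg⟩ := MulAction.exists_smul_eq SL P T
  have h := semiES_unitri (F := F)
  rw [← hPU] at h
  have h2 := h.congr ((MulAut.conj g).subgroupMap (P : Subgroup SL))
  have h3 : (P : Subgroup SL).map (MulAut.conj g).toMonoidHom = T := by
    rw [← hg, Sylow.coe_subgroup_smul]; rfl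
  exact h2.congr (MulEquiv.subgroupCongr h3)

end Cfsg.Agent.Fusion.SylowSL3
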