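/-
Tate's theorem for fusion systems: the hyperfocal half and a criterion for inner systems.
-/
import Mathlib
import Cfsg.Agent.Lib.Fusion.TateFocal
import Cfsg.Agent.Lib.Fusion.Hyperfocal
import Cfsg.Agent.Lib.Fusion.KNormalizer
import Cfsg.Agent.Lib.Fusion.Subsystems
import Cfsg.Agent.Lib.Coprime.PGroup

set_option autoImplicit false

namespace Cfsg.Agent.Fusion.Tate

open scoped commutatorElement
open Cfsg Cfsg.FusionSystem Cfsg.Agent.Fusion.Basic Cfsg.Agent.Fusion.Saturation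
  Cfsg.Agent.Fusion.Normal Cfsg.Agent.Fusion.Focal Cfsg.Agent.Fusion.Hyperfocal
  Cfsg.Agent.Fusion.OrbitData Cfsg.Agent.Fusion.TateFocal MulAction

universe u

variable {Ω : Type u} [Group Ω] {S : Subgroup Ω} {F : FusionSystem S} {p : ℕ}

/-- The maps that agree with conjugations modulo `T`. -/
def modSystem (F : FusionSystem S) (T : Subgroup Ω) (hn : ∀ a ∈ S, ∀ x ∈ T, a * x * a⁻¹ ∈ T) :
    FusionSystem S where
  Hom P := {φ | φ ∈ F.Hom P ∧ ∃ c ∈ S, ∀ x : P, (c * (x : Ω) * c⁻¹)⁻¹ * φ x ∈ T}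
  le_of_mem h := F.le_of_mem h.1
  injective_of_mem h := F.injective_of_mem h.1
  conj_mem := by
    intro P a hP ha
    refine ⟨F.conj_mem hP ha, a, ha, fun x => ?_⟩
    show (a * (x : Ω) * a⁻¹)⁻¹ * (a * (x : Ω) * a⁻¹) ∈ T
    rw [inv_mul_cancel]
    exact T.one_mem
  comp_mem := by
    rintro P R φ ψ ⟨hφ, c, hc, hφ'⟩ ⟨hψ, d, hd, hψ'⟩ h
    refine ⟨F.comp_mem hφ hψ h, d * c, S.mul_mem hd hc, fun x => ?_⟩
    have h1 := T.mul_mem (hn d hd _ (hφ' x)) (hψ' ⟨φ x, h x⟩)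
    show (d * c * (x : Ω) * (d * c)⁻¹)⁻¹ * ψ ⟨φ x, h x⟩ ∈ T
    simpa [mul_assoc] using h1
  inv_mem := by
    rintro P φ ⟨hφ, c, hc, hφ'⟩
    obtain ⟨ψ, hψ, hψe⟩ := F.inv_mem hφ
    refine ⟨ψ, ⟨hψ, c⁻¹, S.inv_mem hc, fun y => ?_⟩, hψe⟩
    obtain ⟨x, hx⟩ := y.2
    obtain rfl : y = ⟨φ x, ⟨x, rfl⟩⟩ := Subtype.ext hx.symm
    rw [hψe]
    -- `(c⁻¹ φx c)⁻¹ x` is a conjugate of the inverse of a member of `T`
    set d := (c * (x : Ω) * c⁻¹)⁻¹ * φ x with hd
    have h1 := hn c⁻¹ (S.inv_mem hc) _ (T.inv_mem (hφ' x))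
    rw [← hd] at h1
    have h2 : (c⁻¹ * φ x * c⁻¹⁻¹)⁻¹ * (x : Ω) = c⁻¹ * d⁻¹ * c⁻¹⁻¹ := by rw [hd]; group
    rw [h2]
    exact h1

variable [Finite S] [Fact p.Prime]

/-- Modulo the hyperfocal subgroup every map is a conjugation. -/
theorem exists_conj_mod_hyp (hS : IsPGroup p S) (hF : F.IsSaturated p) {P : Subgroup Ω}
    {f : Ω → Ω} (hf : IsMap F P f) :
    ∃ c ∈ S, ∀ x ∈ P, (c * x * c⁻¹)⁻¹ * f x ∈ F.hyperfocalSubgroup p := by
  set T := F.hyperfocalSubgroup p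
  have hle : F ≤ modSystem F T fun a ha x hx => conj_mem_hyp ha hx := by
    refine Alperin.le_of_autGroup hS hF fun R hR _ α hα => ?_
    obtain ⟨r, hr, a, ha, rfl⟩ := aut_decomp hS hF hR hα
    obtain ⟨g, hg, hge⟩ := mem_autInducedBy_iff'.1 ha
    have hm := isMap_of_mem_autGroup hR.1 hα
    refine (mem_autGroup_iff hR.1).2 ⟨hm.hom, ⟨hm.hom_mem_self, g, hg.1, fun x => ?_⟩, fun _ => rfl⟩
    rw [IsMap.hom_apply, autFun_mul, hge _ (autFun_mem r x.2), cj_apply]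
    have h1 := conj_mem_hyp (F := F) (p := p) hg.1 (mem_hyp (F := F) (p := p) hR.1 hr x.2)
    simpa [T, mul_assoc] using h1
  obtain ⟨φ, ⟨-, c, hc, he⟩, hφ⟩ := isMap_mono hle hf
  exact ⟨c, hc, fun x hx => by rw [← hφ ⟨x, hx⟩]; exact he ⟨x, hx⟩⟩

/-- A homomorphism on the hyperfocal subgroup invariant under the maps below it is trivial. -/
theorem eq_one_of_invariant (hS : IsPGroup p S) (hF : F.IsSaturated p) {A : Type*} [CommGroup A]
    (θ : ↥((F.hyperfocalSubgroup p).subgroupOf S) →* A)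
    (hθ : ∀ (P : Subgroup Ω) (f : Ω → Ω) (hf : IsMap F P f) (x : Ω) (hx : x ∈ P)
      (hxT : x ∈ F.hyperfocalSubgroup p) (hfT : f x ∈ F.hyperfocalSubgroup p),
      θ ⟨⟨f x, hf.mem hx⟩, hfT⟩ = θ ⟨⟨x, hf.le hx⟩, hxT⟩) : θ = 1 := by
  let T := F.hyperfocalSubgroup p
  have hTS : T ≤ S := hyp_le
  have hsc := hyp_stronglyClosed hS hF
  let K : Subgroup Ω := (θ.ker.map (T.subgroupOf S).subtype).map S.subtype
  have hK : ∀ (t : Ω) (ht : t ∈ T), t ∈ K ↔ θ ⟨⟨t, hTS ht⟩, ht⟩ = 1 := by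
    intro t ht
    constructor
    · rintro ⟨_, ⟨z, hz, rfl⟩, rfl⟩
      exact hz
    · intro h
      exact ⟨_, ⟨_, h, rfl⟩, rfl⟩
  suffices hle : T ≤ K by
    refine MonoidHom.ext fun z => ?_
    have := (hK z.1.1 z.2).1 (hle z.2)
    exact this
  refine hyp_le_of fun P hP α hα x hx => ?_
  have hm := isMap_of_mem_autGroup hP α.2
  have hd : x⁻¹ * autFun (α : MulAut P) x ∈ T :=
    mem_hyp hP ⟨α, Subgroup.subset_closure hα, rfl⟩ hx
  set d := x⁻¹ * autFun (α : MulAut P) x with hddef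
  have hdP : d ∈ P := P.mul_mem (P.inv_mem hx) (autFun_mem _ hx)
  -- `θ` is constant on the orbit of `d`
  have hiter : ∀ k : ℕ, ∃ e : Ω, ∃ he : e ∈ T, autFun ((α : MulAut P) ^ k) x = x * e ∧
      θ ⟨⟨e, hTS he⟩, he⟩ = θ ⟨⟨d, hTS hd⟩, hd⟩ ^ k := by
    intro k
    induction k with
    | zero =>
      refine ⟨1, T.one_mem, by rw [pow_zero, autFun_one, mul_one]; rfl, ?_⟩
      rw [pow_zero]
      exact map_one θ
    | succ k ih =>
      obtain ⟨e, he, hex, het⟩ := ih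
      have heP : e ∈ P := by
        have h1 : x * e ∈ P := hex ▸ autFun_mem _ hx
        simpa using P.mul_mem (P.inv_mem hx) h1
      have he' : autFun (α : MulAut P) e ∈ T := stronglyClosed_mem hsc hm heP he
      refine ⟨d * autFun (α : MulAut P) e, T.mul_mem hd he', ?_, ?_⟩
      · rw [pow_succ', autFun_mul, hex, hm.map_mul hx heP, hddef]
        group
      · rw [pow_succ', ← het, ← hθ P _ hm e heP he he', ← map_mul]
        rfl
  obtain ⟨e, he, hex, het⟩ := hiter (orderOf α)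
  rw [show (α : MulAut P) ^ orderOf α = 1 from congrArg Subtype.val (pow_orderOf_eq_one α),
    autFun_one, id, eq_comm, mul_eq_left] at hex
  subst hex
  rw [show (⟨⟨1, hTS he⟩, he⟩ : ↥(T.subgroupOf S)) = 1 from rfl, map_one, eq_comm] at het
  refine (hK d hd).2 (orderOf_eq_one_iff.1 (Nat.eq_one_of_dvd_coprimes ?_
    (orderOf_dvd_of_pow_eq_one het) (orderOf_map_dvd θ _)))
  obtain ⟨j, hj⟩ := IsPGroup.iff_orderOf.1 (hS.to_subgroup (T.subgroupOf S)) ⟨⟨d, hTS hd⟩, hd⟩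
  rw [hj]
  exact Nat.Coprime.pow_right j hα

/-- An invariant homomorphism on the hyperfocal subgroup extends to `S`. -/
theorem exists_extend (hS : IsPGroup p S) (hF : F.IsSaturated p) {A : Type*} [CommGroup A]
    (lam : ↥((F.hyperfocalSubgroup p).subgroupOf S) →* A)
    (hlam : ∀ (a : ↥S) (t : ↥((F.hyperfocalSubgroup p).subgroupOf S))
      (h : a * t * a⁻¹ ∈ (F.hyperfocalSubgroup p).subgroupOf S), lam ⟨_, h⟩ = lam t) :
    ∃ μ : ↥S →* A, ∀ t : ↥((F.hyperfocalSubgroup p).subgroupOf S), μ t = lam t := by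
  classical
  obtain ⟨D⟩ := exists_data hS hF
  let T := (F.hyperfocalSubgroup p).subgroupOf S
  have hconj : ∀ (a : ↥S) (t : ↥S), t ∈ T → a * t * a⁻¹ ∈ T := fun a t ht =>
    conj_mem_hyp a.2 ht
  have hsc := hyp_stronglyClosed hS hF
  let L : ↥S → A := fun a => if h : a ∈ T then lam ⟨a, h⟩ else 1
  have hL : ∀ (a : ↥S) (h : a ∈ T), L a = lam ⟨a, h⟩ := fun a h => dif_pos h
  have hLmul : ∀ a b, a ∈ T → b ∈ T → L (a * b) = L a * L b := fun a b ha hb => by
    rw [hL _ (T.mul_mem ha hb), hL a ha, hL b hb, ← map_mul]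
    rfl
  have hLconj : ∀ a t, t ∈ T → L (a * t * a⁻¹) = L t := fun a t ht => by
    rw [hL _ (hconj a t ht), hL t ht]
    exact hlam a ⟨t, ht⟩ _
  have hLinv : ∀ a, a ∈ T → L a⁻¹ = (L a)⁻¹ := fun a ha => by
    rw [hL _ (T.inv_mem ha), hL a ha, ← map_inv]
    rfl
  -- labels of the orbits
  let r := orbitRel ↥S D.O
  have hex : ∀ o : D.O, ∃ w : ↥S, w • (Quotient.mk r o).out = o := fun o => by
    have h1 : (Quotient.mk r o).out ∈ orbit ↥S o :=
      orbitRel_apply.1 (Quotient.exact (Quotient.out_eq (Quotient.mk r o)))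
    exact mem_orbit_symm.1 h1
  choose w hw using hex
  have hex2 : ∀ b : D.O, ∃ c : ↥S, ∀ g : ↥S, g • b = b → c * g * c⁻¹ * (D.s g b)⁻¹ ∈ T := by
    intro b
    obtain ⟨Q, f, hf, hQ⟩ := D.stab b
    obtain ⟨c, hc, hce⟩ := exists_conj_mod_hyp hS hF hf
    refine ⟨⟨c, hc⟩, fun g hg => ?_⟩
    have hgQ := (hQ g).1.1 hg
    rw [(hQ g).2 hgQ]
    set u : ↥S := ⟨f g, hf.mem hgQ⟩
    set v : ↥S := ⟨c, hc⟩ * g * ⟨c, hc⟩⁻¹ with hv
    have h1 : v⁻¹ * u ∈ T := hce g hgQ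
    have h2 := T.inv_mem (hconj v _ h1)
    simpa [mul_assoc] using h2
  choose c hc using hex2
  let q : D.O → ↥S := fun o =>
    w o * (c (Quotient.mk r o).out)⁻¹ * (D.s (w o) (Quotient.mk r o).out)⁻¹
  have hq : ∀ u o, (q (u • o))⁻¹ * u * q o * (D.s u o)⁻¹ ∈ T := by
    intro u o
    have he : Quotient.mk r (u • o) = Quotient.mk r o :=
      Quotient.sound (orbitRel_apply.2 (mem_orbit o u))
    set b := (Quotient.mk r o).out with hb
    have hwo : w o • b = o := hw o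
    set g := (w (u • o))⁻¹ * (u * w o) with hg
    have h3 : w (u • o) • b = u • o := by
      have := hw (u • o); rwa [he] at this
    have hfix : g • b = b := by rw [hg, mul_smul, mul_smul, hwo, inv_smul_eq_iff, h3]
    have h4 : D.s u o * D.s (w o) b = D.s (w (u • o)) b * D.s g b := by
      have h5 := congrArg (fun v => D.s v b) (show u * w o = w (u • o) * g by rw [hg]; group)
      simp only [D.cocycle, hwo, hfix] at h5
      exact h5
    have h6 := hconj (D.s (w (u • o)) b) _ (hc b g hfix)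
    have h7 : (q (u • o))⁻¹ * u * q o * (D.s u o)⁻¹ =
        D.s (w (u • o)) b * (c b * g * (c b)⁻¹ * (D.s g b)⁻¹) * (D.s (w (u • o)) b)⁻¹ := by
      have h8 : (D.s (w o) b)⁻¹ * (D.s u o)⁻¹ = (D.s g b)⁻¹ * (D.s (w (u • o)) b)⁻¹ := by
        rw [← mul_inv_rev, h4, mul_inv_rev]
      show (w (u • o) * (c (Quotient.mk r (u • o)).out)⁻¹ *
          (D.s (w (u • o)) (Quotient.mk r (u • o)).out)⁻¹)⁻¹ * u *
          (w o * (c b)⁻¹ * (D.s (w o) b)⁻¹) * (D.s u o)⁻¹ = _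
      rw [he, ← hb]
      calc (w (u • o) * (c b)⁻¹ * (D.s (w (u • o)) b)⁻¹)⁻¹ * u *
            (w o * (c b)⁻¹ * (D.s (w o) b)⁻¹) * (D.s u o)⁻¹
          = D.s (w (u • o)) b * c b * ((w (u • o))⁻¹ * (u * w o)) * (c b)⁻¹ *
              ((D.s (w o) b)⁻¹ * (D.s u o)⁻¹) := by group
        _ = _ := by rw [h8, ← hg]; group
    rw [h7]
    exact h6
  -- the transfer
  let ζ : ↥S →* A := MonoidHom.mk'
    (fun u => ∏ o, L ((q (u • o))⁻¹ * u * q o * (D.s u o)⁻¹)) fun u v => by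
    have key : ∀ o, L ((q ((u * v) • o))⁻¹ * (u * v) * q o * (D.s (u * v) o)⁻¹) =
        L ((q (u • v • o))⁻¹ * u * q (v • o) * (D.s u (v • o))⁻¹) *
          L ((q (v • o))⁻¹ * v * q o * (D.s v o)⁻¹) := fun o => by
      rw [mul_smul, D.cocycle, ← hLconj (D.s u (v • o)) _ (hq v o), ← hLmul _ _ (hq u (v • o))
        (hconj _ _ (hq v o))]
      congr 1
      group
    simp only [key, Finset.prod_mul_distrib]
    congr 1
    exact Equiv.prod_comp (MulAction.toPerm v)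
      fun o => L ((q (u • o))⁻¹ * u * q o * (D.s u o)⁻¹)
  -- invariance of `ζ / λ^m` below `T`
  set m := Fintype.card D.O with hm
  let θ : ↥T →* A := (ζ.comp T.subtype) * ((powMonoidHom m).comp lam)⁻¹
  have hθ1 : θ = 1 := by
    refine eq_one_of_invariant hS hF θ fun P f hf x hx hxT hfT => ?_
    set v : ↥S := ⟨x, hf.le hx⟩
    set fv : ↥S := ⟨f x, hf.mem hx⟩
    have hδ : v⁻¹ * fv ∈ T := T.mul_mem (T.inv_mem hxT) hfT
    obtain ⟨π, a, hst⟩ := D.stable P f hf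
    let q' : D.O → ↥S := fun o => q (π o) * a o
    have hzeq : ∀ o, L ((q (fv • π o))⁻¹ * fv * q (π o) * (D.s fv (π o))⁻¹) =
        L ((q' (v • o))⁻¹ * fv * q' o * (D.s v o)⁻¹) := by
      intro o
      have h1 := hq fv (π o)
      obtain ⟨e1, e2⟩ : π (v • o) = fv • π o ∧ D.s fv (π o) = a (v • o) * D.s v o * (a o)⁻¹ :=
        hst x hx o
      rw [← e1, e2] at h1 ⊢
      rw [← hLconj (a (v • o))⁻¹ _ h1]
      congr 1
      show _ = (q (π (v • o)) * a (v • o))⁻¹ * fv * (q (π o) * a o) * (D.s v o)⁻¹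
      group
    have hq' : ∀ o, (q' (v • o))⁻¹ * v * q' o * (D.s v o)⁻¹ ∈ T := by
      intro o
      have h1 := hq fv (π o)
      obtain ⟨e1, e2⟩ : π (v • o) = fv • π o ∧ D.s fv (π o) = a (v • o) * D.s v o * (a o)⁻¹ :=
        hst x hx o
      rw [← e1, e2] at h1
      have h2 := hconj (a (v • o))⁻¹ _ h1
      have h3 : (q' (v • o))⁻¹ * fv * q' o * (D.s v o)⁻¹ ∈ T := by
        show (q (π (v • o)) * a (v • o))⁻¹ * fv * (q (π o) * a o) * (D.s v o)⁻¹ ∈ T
        simpa [v, fv, mul_assoc] using h2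
      have h4 := T.inv_mem (hconj (D.s v o * (q' o)⁻¹) _ hδ)
      have h5 := T.mul_mem h3 h4
      simpa [mul_assoc] using h5
    -- compare the two labellings
    let κ : ↥S → ↥S := fun z => (QuotientGroup.mk z : ↥S ⧸ T).out
    have hκ : ∀ z, (κ z)⁻¹ * z ∈ T := fun z =>
      QuotientGroup.eq.1 (Quotient.out_eq (QuotientGroup.mk z : ↥S ⧸ T))
    let τ : D.O → A := fun o => L ((κ (q' o * (q o)⁻¹))⁻¹ * (q' o * (q o)⁻¹))
    have hcmp : ∀ o, L ((q' (v • o))⁻¹ * v * q' o * (D.s v o)⁻¹) =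
        τ o * (τ (v • o))⁻¹ * L ((q (v • o))⁻¹ * v * q o * (D.s v o)⁻¹) := by
      intro o
      set r₁ := q' (v • o) * (q (v • o))⁻¹ with hr₁
      set r₀ := q' o * (q o)⁻¹ with hr₀
      set z' := (q' (v • o))⁻¹ * v * q' o * (D.s v o)⁻¹ with hz'
      set z := (q (v • o))⁻¹ * v * q o * (D.s v o)⁻¹ with hz
      have hb : r₁⁻¹ * v * r₀ * v⁻¹ ∈ T := by
        have h1 := hconj (q (v • o)) _ (T.mul_mem (hq' o) (T.inv_mem (hq v o)))
        have h2 : q (v • o) * (z' * z⁻¹) * (q (v • o))⁻¹ = r₁⁻¹ * v * r₀ * v⁻¹ := by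
          simp only [hr₁, hr₀, hz', hz]; group
        rwa [← hz', ← hz, h2] at h1
      have hvT : v ∈ T := hxT
      have hrr : r₁⁻¹ * r₀ ∈ T := by
        have h1 := T.mul_mem hb (hconj v _ (T.inv_mem (T.mul_mem (hconj r₀⁻¹ v hvT)
          (T.inv_mem hvT))))
        have h2 := hconj (r₁⁻¹ * r₀) _ (T.mul_mem hvT (T.inv_mem (hconj r₀⁻¹ v hvT)))
        have h3 : r₁⁻¹ * r₀ = r₁⁻¹ * v * r₀ * v⁻¹ * (v * (r₀⁻¹ * v⁻¹ * r₀)) := by group
        rw [h3]
        refine T.mul_mem hb (T.mul_mem hvT ?_)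
        simpa [mul_assoc] using hconj r₀⁻¹ _ (T.inv_mem hvT)
      have hκeq : κ r₁ = κ r₀ := congrArg Quotient.out (QuotientGroup.eq.2 hrr)
      have e1 : L (r₁⁻¹ * r₀) = (τ (v • o))⁻¹ * τ o := by
        show _ = (L ((κ r₁)⁻¹ * r₁))⁻¹ * L ((κ r₀)⁻¹ * r₀)
        rw [← hLinv _ (hκ r₁), ← hLmul _ _ (T.inv_mem (hκ r₁)) (hκ r₀), hκeq]
        congr 1
        group
      have e2 : z' = (q (v • o))⁻¹ * ((r₁⁻¹ * r₀) * (r₀⁻¹ * v * r₀ * v⁻¹)) * q (v • o) * z := by
        simp only [hr₁, hr₀, hz', hz]; group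
      have hc1 : r₀⁻¹ * v * r₀ ∈ T := by simpa using hconj r₀⁻¹ v hvT
      have hin : (r₁⁻¹ * r₀) * (r₀⁻¹ * v * r₀ * v⁻¹) ∈ T :=
        T.mul_mem hrr (T.mul_mem hc1 (T.inv_mem hvT))
      rw [e2, hLmul _ _ (by simpa using hconj (q (v • o))⁻¹ _ hin) (hq v o)]
      congr 1
      have e3 := hLconj (q (v • o))⁻¹ _ hin
      rw [inv_inv] at e3
      rw [e3, hLmul _ _ hrr (T.mul_mem hc1 (T.inv_mem hvT)), e1,
        hLmul _ _ hc1 (T.inv_mem hvT), hLinv _ hvT,
        show L (r₀⁻¹ * v * r₀) = L v by simpa using hLconj r₀⁻¹ v hvT, mul_inv_cancel, mul_one,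
        mul_comm]
    have hζ : ζ fv = L (v⁻¹ * fv) ^ m * ζ v := by
      show ∏ o, L ((q (fv • o))⁻¹ * fv * q o * (D.s fv o)⁻¹) = _
      rw [← Equiv.prod_comp π]
      simp only [hzeq]
      have h1 : ∀ o, L ((q' (v • o))⁻¹ * fv * q' o * (D.s v o)⁻¹) =
          L ((q' (v • o))⁻¹ * v * q' o * (D.s v o)⁻¹) * L (v⁻¹ * fv) := fun o => by
        have h3 := hconj (D.s v o * (q' o)⁻¹) _ hδ
        rw [← hLconj (D.s v o * (q' o)⁻¹) _ hδ, ← hLmul _ _ (hq' o) h3]
        congr 1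
        group
      simp only [h1, hcmp, Finset.prod_mul_distrib, Finset.prod_inv_distrib, Finset.prod_const,
        Finset.card_univ]
      rw [show (∏ o, τ (v • o)) = ∏ o, τ o from Equiv.prod_comp (MulAction.toPerm v) τ,
        mul_inv_cancel, one_mul, ← hm, mul_comm]
      rfl
    show ζ fv * (lam ⟨fv, hfT⟩ ^ m)⁻¹ = ζ v * (lam ⟨v, hxT⟩ ^ m)⁻¹
    rw [hζ, ← hL fv hfT, ← hL v hxT, show fv = v * (v⁻¹ * fv) by group,
      hLmul v _ hxT hδ, mul_pow, show v * (v⁻¹ * fv) = fv by group]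
    rw [mul_inv_rev, mul_comm (L (v⁻¹ * fv) ^ m) (ζ v), mul_assoc, mul_inv_cancel_left]
  -- divide by `m`
  obtain ⟨k, hk0, hk1⟩ := Nat.chineseRemainder (n := m) (m := Nat.card S) (by
    obtain ⟨a, ha⟩ := IsPGroup.iff_card.1 hS
    rw [ha]
    exact Nat.Coprime.pow_right a D.coprime) 0 1
  obtain ⟨j, rfl⟩ := Nat.modEq_zero_iff_dvd.1 hk0
  refine ⟨(powMonoidHom j).comp ζ, fun t => ?_⟩
  have h1 : ζ t = lam t ^ m := mul_inv_eq_one.1 (DFunLike.congr_fun hθ1 t)
  show ζ t ^ j = lam t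
  have h2 : orderOf (lam t) ∣ Nat.card S :=
    (orderOf_map_dvd lam t).trans ((orderOf_dvd_natCard t).trans (Subgroup.card_subgroup_dvd_card _))
  have h3 : m * j ≡ 1 [MOD orderOf (lam t)] := Nat.ModEq.of_dvd h2 hk1
  rw [h1, ← pow_mul, pow_eq_pow_iff_modEq.2 h3, pow_one]

/-- The hyperfocal half of Tate's theorem. -/
theorem hyp_eq (hS : IsPGroup p S) (hF : F.IsSaturated p) {T₁ : Subgroup Ω}
    (hn : ∀ a ∈ S, ∀ x ∈ T₁, a * x * a⁻¹ ∈ T₁) (h₁ : T₁ ≤ F.hyperfocalSubgroup p)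
    (h₂ : F.hyperfocalSubgroup p ≤ T₁ ⊔ ⁅S, S⁆) : F.hyperfocalSubgroup p = T₁ := by
  refine le_antisymm ?_ h₁
  set T := (F.hyperfocalSubgroup p).subgroupOf S with hT
  set U := T₁.subgroupOf S with hU
  have hTn : T.Normal := ⟨fun t ht a => conj_mem_hyp a.2 ht⟩
  have hUn : U.Normal := ⟨fun t ht a => hn a a.2 t ht⟩
  have hUT : U ≤ T := fun x hx => h₁ hx
  set N₀ := U ⊔ ⁅T, (⊤ : Subgroup ↥S)⁆ with hN₀
  have hN₀T : N₀ ≤ T := sup_le hUT (Subgroup.commutator_le_left _ _)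
  set M := N₀.subgroupOf T with hM
  have hcomm : ∀ (a : ↥S) (t : ↥S), t ∈ T → a * t * a⁻¹ * t⁻¹ ∈ N₀ := fun a t ht => by
    refine Subgroup.mem_sup_right ?_
    rw [Subgroup.commutator_comm]
    have := Subgroup.commutator_mem_commutator (Subgroup.mem_top a) ht
    rwa [commutatorElement_def] at this
  have hMn : M.Normal := ⟨fun t ht a => by
    show ((a : ↥S) * t * (a : ↥S)⁻¹) ∈ N₀
    simpa using N₀.mul_mem (hcomm a t t.2) ht⟩
  let iC : CommGroup (↥T ⧸ M) :=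
    { (inferInstance : Group (↥T ⧸ M)) with
      mul_comm := fun a b => by
        induction a using QuotientGroup.induction_on with
        | _ a =>
          induction b using QuotientGroup.induction_on with
          | _ b =>
            rw [← QuotientGroup.mk_mul, ← QuotientGroup.mk_mul, QuotientGroup.eq]
            show ((a : ↥S) * b)⁻¹ * (b * a) ∈ N₀
            simpa [mul_assoc] using hcomm (b : ↥S)⁻¹ (a : ↥S)⁻¹ (T.inv_mem a.2) }
  obtain ⟨μ, hμ⟩ := exists_extend hS hF (QuotientGroup.mk' M) fun a t h => by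
    refine QuotientGroup.eq.2 ?_
    show (a * t * a⁻¹)⁻¹ * (t : ↥S) ∈ N₀
    have h3 := N₀.inv_mem (hcomm a t t.2)
    have h4 : (t : ↥S) * a * (t : ↥S)⁻¹ * a⁻¹ ∈ N₀ := by simpa [mul_assoc] using h3
    have h5 := N₀.inv_mem (hcomm a⁻¹ (a * t * a⁻¹) (hTn.conj_mem _ t.2 a))
    simpa [mul_assoc] using N₀.inv_mem (show (t : ↥S)⁻¹ * (a * t * a⁻¹) ∈ N₀ from by
      refine Subgroup.mem_sup_right ?_
      have := Subgroup.commutator_mem_commutator (T.inv_mem t.2) (Subgroup.mem_top a)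
      rw [commutatorElement_def, inv_inv] at this
      simpa [mul_assoc] using this)
  -- `μ` kills `T`
  have hker : U ⊔ commutator ↥S ≤ μ.ker := by
    refine sup_le (fun x hx => ?_) (Abelianization.commutator_subset_ker μ)
    show μ x = 1
    have h3 := hμ ⟨x, hUT hx⟩
    rw [show μ x = μ ((⟨x, hUT hx⟩ : ↥T) : ↥S) from rfl, h3, QuotientGroup.mk'_apply,
      QuotientGroup.eq_one_iff]
    exact Subgroup.mem_sup_left hx
  have hTN : T ≤ N₀ := by
    intro t ht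
    have h3 : t ∈ μ.ker := by
      refine hker ?_
      have h4 : t ∈ (T₁ ⊔ ⁅S, S⁆).subgroupOf S := h₂ ht
      rwa [Subgroup.subgroupOf_sup (h₁.trans hyp_le) (Subgroup.commutator_le_self S),
        ← Subgroup.map_subtype_commutator, Subgroup.subgroupOf, Subgroup.subgroupOf,
        Subgroup.comap_map_eq_self_of_injective S.subtype_injective] at h4
    have h5 := hμ ⟨t, ht⟩
    rw [show μ ((⟨t, ht⟩ : ↥T) : ↥S) = 1 from h3] at h5
    exact Subgroup.mem_subgroupOf.1 ((QuotientGroup.eq_one_iff (N := M) (⟨t, ht⟩ : ↥T)).1 h5.symm)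
  have hbot : T.map (QuotientGroup.mk' U) = ⊥ := by
    by_contra hne
    have hnil : Group.IsNilpotent (↥S ⧸ U) := (hS.to_quotient U).isNilpotent
    have : Group.IsNilpotent ↥(⊤ : Subgroup (↥S ⧸ U)) := inferInstance
    have hlt := Cfsg.Agent.Coprime.commutator_lt_of_isNilpotent (le_top : T.map (QuotientGroup.mk' U) ≤ ⊤)
      hne (by rw [Subgroup.normalizer_eq_top_iff.2 (hTn.map _ (QuotientGroup.mk'_surjective U))])
    refine hlt.not_ge ?_
    rw [← Subgroup.map_top_of_surjective _ (QuotientGroup.mk'_surjective U),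
      ← Subgroup.map_commutator]
    refine le_trans (Subgroup.map_mono hTN) ?_
    rw [Subgroup.map_sup, (Subgroup.map_eq_bot_iff _).2 (by rw [QuotientGroup.ker_mk'])]
    exact sup_le bot_le le_rfl
  intro x hx
  have h6 : (⟨x, hyp_le hx⟩ : ↥S) ∈ (QuotientGroup.mk' U).ker := by
    rw [MonoidHom.mem_ker, ← Subgroup.mem_bot, ← hbot]
    exact ⟨_, hx, rfl⟩
  rw [QuotientGroup.ker_mk'] at h6
  exact h6

/-- A system whose focal subgroup is `[S, S]` is inner. -/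
theorem eq_inner_of_focal (hS : IsPGroup p S) (hF : F.IsSaturated p)
    (h : F.focalSubgroup ≤ ⁅S, S⁆) : F = innerFusionSystem S := by
  have h1 : F.hyperfocalSubgroup p = ⊥ := by
    refine hyp_eq hS hF (fun a _ x hx => ?_) bot_le ((hyp_le_focal.trans h).trans le_sup_right)
    rw [Subgroup.mem_bot] at hx
    simp [hx]
  refine fs_ext_le (le_of_isMap fun P f hf => ?_) (Subsystems.inner_le F)
  obtain ⟨c, hc, he⟩ := exists_conj_mod_hyp hS hF hf
  refine Subsystems.isMap_inner_iff.2 ⟨hf.le, c, hc, fun x hx => ?_⟩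
  have h2 := he x hx
  rw [h1, Subgroup.mem_bot, inv_mul_eq_one] at h2
  exact h2.symm

/-- A system is inner if `Aut_F(S) = Inn(S)` and some subgroup between `[S, S]` and `Φ(S)` is
strongly closed. -/
theorem eq_inner_of_stronglyClosed (hS : IsPGroup p S) (hF : F.IsSaturated p)
    (hinn : F.autGroup S ≤ Inn ↥S) {U : Subgroup Ω} (hU : F.StronglyClosed U)
    (h₁ : ⁅S, S⁆ ≤ U) (h₂ : U ≤ (frattini ↥S).map S.subtype) : F = innerFusionSystem S := by
  classical
  have hcomm : ∀ a ∈ S, ∀ x ∈ S, x⁻¹ * (a * x * a⁻¹) ∈ U := by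
    intro a ha x hx
    have := h₁ (Subgroup.commutator_mem_commutator (S.inv_mem hx) ha)
    rw [commutatorElement_def, inv_inv] at this
    simpa [mul_assoc] using this
  have hhyp : F.hyperfocalSubgroup p ≤ U := by
    refine hyp_le_of fun P hP α hα x hx => ?_
    set R := P ⊔ U with hRdef
    have hR : R ≤ S := sup_le hP hU.1
    have hfinR : Finite R := finite_of_le hR
    have hRn : ∀ a ∈ S, ∀ y ∈ R, a * y * a⁻¹ ∈ R := fun a ha y hy => by
      simpa using R.mul_mem hy (Subgroup.mem_sup_right (hcomm a ha y (hR hy)) : y⁻¹ * (a * y * a⁻¹) ∈ R)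
    have hNR : normalizerIn S R = S :=
      le_antisymm normalizerIn_le (le_inf le_rfl fun a ha =>
        mem_normalizer_of_forall fun y hy => hRn a ha y hy)
    have hRfn : F.IsFullyNormalized R :=
      ⟨hR, fun Q _ => by rw [hNR]; exact card_le_card normalizerIn_le⟩
    set AF := F.autGroup R with hAF
    obtain ⟨γ, hγ⟩ : ∃ γ : AF, ∀ x ∈ P,
        (autFun (α : MulAut P) x)⁻¹ * autFun (γ : MulAut R) x ∈ U := by
      obtain ⟨γ, -, h⟩ := exists_lift_aut hS hF hU hP hα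
      exact ⟨γ, h⟩
    let K : Subgroup AF :=
      { carrier := {a | ∀ y ∈ R, y⁻¹ * autFun (a : MulAut R) y ∈ U}
        one_mem' := fun y _ => by rw [Subgroup.coe_one, autFun_one]; simp [U.one_mem]
        mul_mem' := fun {a b} ha hb y hy => by
          rw [Subgroup.coe_mul, autFun_mul]
          simpa [mul_assoc] using U.mul_mem (hb y hy) (ha _ (autFun_mem (b : MulAut R) hy))
        inv_mem' := fun {a} ha y hy => by
          have h3 := ha _ (autFun_mem (a : MulAut R)⁻¹ hy)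
          rw [autFun_apply_inv] at h3
          rw [Subgroup.coe_inv]
          simpa using U.inv_mem h3 }
    have hKn : K.Normal := by
      refine ⟨fun a ha c y hy => ?_⟩
      have hy' := autFun_mem (c : MulAut R)⁻¹ hy
      have h3 := ha _ hy'
      have hcm := isMap_of_mem_autGroup hR c.2
      have h4 := stronglyClosed_mem hU hcm (R.mul_mem (R.inv_mem hy') (autFun_mem _ hy')) h3
      rw [hcm.map_mul (R.inv_mem hy') (autFun_mem _ hy'), hcm.map_inv hy', autFun_apply_inv] at h4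
      rw [Subgroup.coe_mul, Subgroup.coe_mul, Subgroup.coe_inv, autFun_mul, autFun_mul]
      exact h4
    obtain ⟨R₀, hR₀⟩ := (fullyNormalized_fullyAutomized hS hF hRfn).2
    have hA : ∀ a : AF, a ∈ (R₀ : Subgroup AF) →
        ∃ g ∈ S, ∀ y ∈ R, autFun (a : MulAut R) y = cj g y := fun a ha => by
      rw [hR₀] at ha
      obtain ⟨g, hg, hge⟩ := mem_autInducedBy_iff'.1 (Subgroup.mem_subgroupOf.1 ha)
      exact ⟨g, hg.1, hge⟩
    have hAK : (R₀ : Subgroup AF) ≤ K := fun a ha y hy => by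
      obtain ⟨g, hg, hge⟩ := hA a ha
      rw [hge y hy]
      exact hcomm g hg y (hR hy)
    obtain ⟨b, hb, hbe⟩ := Factor.exists_frattini (K := K) (SylIn.of_sylow R₀) γ
    set e := b * γ with he
    have hm := isMap_of_mem_autGroup hR e.2
    obtain ⟨k, hk, hke⟩ := exists_extension hS hF hm (by
      rw [autFun_img]; exact fullyNormalized_fullyCentralized hS hF hRfn)
    have hSN : S ≤ nSub S R (autFun (e : MulAut R)) := by
      intro g hg
      have hgN : g ∈ Subgroup.normalizer (R : Set Ω) := (hNR.ge hg).2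
      obtain ⟨a, ha, hae⟩ : ∃ a : AF, a ∈ (R₀ : Subgroup AF) ∧
          ∀ y ∈ R, autFun (a : MulAut R) y = cj g y := by
        refine ⟨⟨conjAut S R ⟨g, hg, hgN⟩, autInducedBy_le hR ((conjAut_range S R).le ⟨_, rfl⟩)⟩, ?_,
          fun y hy => conjAut_apply _ hy⟩
        rw [hR₀]
        exact Subgroup.mem_subgroupOf.2 ((conjAut_range S R).le ⟨_, rfl⟩)
      obtain ⟨h, hh, hhe⟩ := hA _ (hbe a ⟨ha, hAK ha⟩)
      refine ⟨hg, hgN, h, hh, fun y hy => ?_⟩
      have h5 := hhe _ (autFun_mem (e : MulAut R) hy)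
      rw [Subgroup.coe_mul, Subgroup.coe_mul, Subgroup.coe_inv, autFun_mul, autFun_mul,
        autFun_inv_apply, hae y hy, cj_apply, cj_apply] at h5
      exact h5
    have hkS := hk.restrict hSN
    obtain ⟨δ, hδ, hδe⟩ := hkS.exists_aut (eq_of_le_card hkS.img_le_S (by rw [hkS.card_img]))
    obtain ⟨g, hg, hge⟩ := mem_inn_iff.1 (hinn hδ)
    have heK : e ∈ K := fun y hy => by
      rw [← hke y hy, ← hδe y (hR hy), hge y (hR hy)]
      exact hcomm g hg y (hR hy)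
    have hγK : γ ∈ K := by
      have h6 := K.mul_mem (K.inv_mem hb) heK
      rwa [he, inv_mul_cancel_left] at h6
    have hxR : x ∈ R := Subgroup.mem_sup_left hx
    simpa [mul_assoc] using U.mul_mem (hγK x hxR) (U.inv_mem (hγ x hx))
  have h3 : F.focalSubgroup ≤ U := by
    rw [focal_eq hS hF]
    exact sup_le hhyp h₁
  exact eq_inner_of_focal hS hF
    (eq_focal_of_frattini hS hF le_rfl commutator_le_focal (h3.trans (h₂.trans le_sup_left))).le

omit [Finite S] [Fact p.Prime] in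
theorem inner_hom_congr {T : Subgroup Ω} (hT : T = S) (P : Subgroup Ω) :
    (innerFusionSystem T).Hom P = (innerFusionSystem S).Hom P := by
  subst hT; rfl

omit [Fact p.Prime] in
/-- `Aut_F(S)` is inner when the normalizer system of `S` is. -/
theorem autGroup_le_inn (h : ∀ N : FusionSystem (normalizerIn S S), F.IsNormalizerSystem S N →
      ∀ P : Subgroup Ω, N.Hom P = (innerFusionSystem (normalizerIn S S)).Hom P) :
    F.autGroup S ≤ Inn ↥S := by
  intro α hα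
  obtain ⟨N, hN⟩ := KNormalizer.exists_normalizerSystem (F := F) (le_refl S)
  have hf := isMap_of_mem_autGroup le_rfl hα
  have hNS : normalizerIn S S = S := le_antisymm normalizerIn_le (le_normalizerIn le_rfl)
  have hm : IsMap F (S ⊔ S) (autFun α) := (sup_idem S).symm ▸ hf
  have h1 : hf.hom ∈ F.normalizerHom S S := by
    refine ⟨hf.hom_mem_self, hNS.ge, fun y => hNS.ge (hf.mem y.2), hm.hom, hm.hom_mem_self,
      fun y => rfl, ?_⟩
    rw [map_subgroupOf_eq_img (f := autFun α) (fun _ => rfl) le_sup_right]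
    exact autFun_img α
  rw [← hN S, h N hN S, inner_hom_congr hNS] at h1
  obtain ⟨-, g, hg, he⟩ := h1
  exact mem_inn_iff.2 ⟨g, hg, fun x hx => he ⟨x, hx⟩⟩

/-- The criterion for a system over a subgroup equal to `S`. -/
theorem eq_inner_of_stronglyClosed' (hS : IsPGroup p S) {T : Subgroup Ω} (hT : T = S)
    {E : FusionSystem T} (hE : E.IsSaturated p) (hinn : E.autGroup S ≤ Inn ↥S)
    {U : Subgroup Ω} (hU : E.StronglyClosed U) (h₁ : ⁅S, S⁆ ≤ U)
    (h₂ : U ≤ (frattini ↥S).map S.subtype) (P : Subgroup Ω) :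
    E.Hom P = (innerFusionSystem T).Hom P := by
  subst hT
  rw [eq_inner_of_stronglyClosed hS hE hinn hU h₁ h₂]

end Cfsg.Agent.Fusion.Tate
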