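/-
A criterion for having `C_p ≀ C_p` as a quotient.
-/
import Mathlib
import Cfsg.Agent.Lib.Coprime.PGroup

set_option autoImplicit false

namespace Cfsg.Agent.Fusion.WreathQuot

variable {p : ℕ} [Fact p.Prime]

/-- The cyclic group of order `p`. -/
abbrev C (p : ℕ) := Multiplicative (ZMod p)

/-- A base element of the wreath product. -/
def base (f : C p → C p) : C p ≀ᵣ C p := ⟨f, 1⟩

theorem base_mul (f g : C p → C p) : base f * base g = base (f * g) := by
  ext <;> simp [base]

/-- The base elements concentrated at the identity. -/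
noncomputable def delta : C p →* C p ≀ᵣ C p :=
  MonoidHom.mk' (fun a => base (Pi.mulSingle 1 a)) fun a b => by
    rw [base_mul, ← Pi.mulSingle_mul]

theorem base_prod (f : C p → C p) :
    ∃ c ∈ commutator (C p ≀ᵣ C p), base f = delta (∏ g, f g) * c := by
  classical
  have hmap : ∀ t : Finset (C p), ∃ c ∈ commutator (C p ≀ᵣ C p),
      base (∏ g ∈ t, Pi.mulSingle g (f g)) = delta (∏ g ∈ t, f g) * c := by
    intro t
    induction t using Finset.induction_on with
    | empty => exact ⟨1, Subgroup.one_mem _, by simp [base]; rfl⟩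
    | @insert a t ha ih =>
      obtain ⟨c, hc, e⟩ := ih
      have hd : base (Pi.mulSingle a (f a)) =
          RegularWreathProduct.inl a * delta (f a) * (RegularWreathProduct.inl a)⁻¹ := by
        ext x
        · simp only [delta, base, RegularWreathProduct.inl, MonoidHom.coe_mk, OneHom.coe_mk,
            MonoidHom.mk'_apply, RegularWreathProduct.mul_left, RegularWreathProduct.inv_left,
            RegularWreathProduct.mul_right, one_mul, inv_one, Pi.mul_apply, Pi.one_apply, mul_one]
          by_cases h : x = a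
          · subst h; simp
          · rw [Pi.mulSingle_eq_of_ne h, Pi.mulSingle_eq_of_ne]
            intro h'
            exact h (inv_mul_eq_one.1 h').symm
        · simp [delta, base]
      have hcm : (delta (f a))⁻¹ * base (Pi.mulSingle a (f a)) ∈ commutator (C p ≀ᵣ C p) := by
        have := Subgroup.commutator_mem_commutator
          (Subgroup.mem_top (delta (f a))⁻¹) (Subgroup.mem_top (RegularWreathProduct.inl a : C p ≀ᵣ C p))
        rw [commutatorElement_def, inv_inv] at this
        rw [hd]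
        simpa [mul_assoc, commutator_def] using this
      refine ⟨(delta (∏ g ∈ t, f g))⁻¹ * ((delta (f a))⁻¹ * base (Pi.mulSingle a (f a))) *
        delta (∏ g ∈ t, f g) * c, Subgroup.mul_mem _ ?_ hc, ?_⟩
      · simpa using Subgroup.Normal.conj_mem inferInstance _ hcm (delta (∏ g ∈ t, f g))⁻¹
      · rw [Finset.prod_insert ha, Finset.prod_insert ha, ← base_mul, e, map_mul]
        group
  obtain ⟨c, hc, e⟩ := hmap Finset.univ
  exact ⟨c, hc, by rw [← e, Finset.univ_prod_mulSingle]⟩

theorem eq_top_of (K : Subgroup (C p ≀ᵣ C p))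
    (hright : ∀ g : C p, ∃ w ∈ K, w.right = g) {v : C p → C p} (hv : base v ∈ K)
    (hv1 : ∏ g, v g ≠ 1) : K = ⊤ := by
  have hcard : Nat.card (C p ≀ᵣ C p) = p ^ (p + 1) := by
    rw [RegularWreathProduct.card, Nat.card_congr (Multiplicative.toAdd (α := ZMod p)), Nat.card_zmod,
      pow_succ]
  have : Group.IsNilpotent (C p ≀ᵣ C p) := (IsPGroup.of_card hcard).isNilpotent
  refine frattini_nongenerating (eq_top_iff.2 fun w _ => ?_)
  refine sup_le_sup_left (Cfsg.Agent.Coprime.commutator_le_frattini _) K ?_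
  have hdelta : ∀ a : C p, delta a ∈ K ⊔ commutator (C p ≀ᵣ C p) := by
    obtain ⟨c, hc, e⟩ := base_prod v
    have h1 : delta (∏ g, v g) ∈ K ⊔ commutator (C p ≀ᵣ C p) := by
      rw [show delta (∏ g, v g) = base v * c⁻¹ by rw [e]; group]
      exact Subgroup.mul_mem _ (Subgroup.mem_sup_left hv) (Subgroup.mem_sup_right (inv_mem hc))
    intro a
    obtain ⟨n, rfl⟩ := Subgroup.mem_zpowers_iff.1
      (mem_zpowers_of_prime_card (G := C p) (p := p) (by
        rw [Nat.card_congr (Multiplicative.toAdd (α := ZMod p)), Nat.card_zmod]) hv1 :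
        a ∈ Subgroup.zpowers (∏ g, v g))
    rw [map_zpow]
    exact Subgroup.zpow_mem _ h1 n
  obtain ⟨k, hk, hkr⟩ := hright w.right
  obtain ⟨c, hc, e⟩ := base_prod (w * k⁻¹).left
  have hwk : w * k⁻¹ = base (w * k⁻¹).left := by
    ext
    · rfl
    · simp [base, hkr]
  rw [show w = base (w * k⁻¹).left * k by rw [← hwk]; group, e]
  exact Subgroup.mul_mem _ (Subgroup.mul_mem _ (hdelta _) (Subgroup.mem_sup_right hc))
    (Subgroup.mem_sup_left hk)

/-- If some element of the kernel of `q` has nonzero norm under `L`, the group maps onto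
`C_p ≀ C_p`. -/
theorem exists_surjective {G : Type*} [Group G] (q : G →* C p) (r : C p → G)
    (hr : ∀ g, q (r g) = g) (L : q.ker →* C p) (u : G) (hu : q u = 1)
    (hLu : ∏ g, L ⟨(r g)⁻¹ * u * r g, by simp [MonoidHom.mem_ker, hu]⟩ ≠ 1) :
    ∃ f : G →* C p ≀ᵣ C p, Function.Surjective f := by
  have hmem : ∀ x g, (r g)⁻¹ * x * r ((q x)⁻¹ * g) ∈ q.ker := fun x g => by
    rw [MonoidHom.mem_ker, map_mul, map_mul, map_inv, hr, hr]
    group
  let f : G →* C p ≀ᵣ C p := MonoidHom.mk'
    (fun x => ⟨fun g => L ⟨_, hmem x g⟩, q x⟩) fun a b => by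
      ext g
      · show L ⟨_, hmem (a * b) g⟩ = L ⟨_, hmem a g⟩ * L ⟨_, hmem b ((q a)⁻¹ * g)⟩
        rw [← map_mul]
        refine congrArg L (Subtype.ext ?_)
        simp [mul_assoc]
      · exact map_mul q a b
  refine ⟨f, MonoidHom.range_eq_top.1 (eq_top_of _ (fun g => ⟨f (r g), ⟨_, rfl⟩, hr g⟩)
    (v := (f u).left) ⟨u, ?_⟩ ?_)⟩
  · ext
    · rfl
    · exact hu
  · convert hLu using 3 with g
    show L ⟨_, hmem u g⟩ = _
    refine congrArg L (Subtype.ext ?_)
    simp [hu]

end Cfsg.Agent.Fusion.WreathQuot
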