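/-
Yoshida's transfer theorem for fusion systems.
-/
import Mathlib
import Cfsg.Agent.Lib.Fusion.TateFocal
import Cfsg.Agent.Lib.Fusion.WreathQuot
import Cfsg.Agent.Lib.Coprime.PGroup

set_option autoImplicit false

namespace Cfsg.Agent.Fusion.Yoshida

open Cfsg Cfsg.FusionSystem Cfsg.Agent.Fusion.Basic Cfsg.Agent.Fusion.Saturation
  Cfsg.Agent.Fusion.Focal Cfsg.Agent.Fusion.OrbitData Cfsg.Agent.Fusion.TateFocal
  Cfsg.Agent.Fusion.WreathQuot MulAction

universe u

section PGroup

variable {G : Type*} [Group G] [Finite G] {p : ℕ} [Fact p.Prime]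

/-- A proper subgroup of a `p`-group lies in the kernel of a homomorphism onto `C_p`. -/
theorem exists_hom (hG : IsPGroup p G) {H : Subgroup G} (hH : H ≠ ⊤) :
    ∃ q : G →* C p, Function.Surjective q ∧ H ≤ q.ker := by
  obtain ⟨a, ha⟩ := IsPGroup.iff_card.1 hG
  obtain ⟨b, hb⟩ := IsPGroup.iff_card.1 (hG.to_subgroup H)
  have hba : b < a := by
    have h1 : Nat.card H < Nat.card G := lt_of_le_of_ne (Subgroup.card_le_card_group H)
      fun h => hH (H.eq_top_of_card_eq h)
    rw [ha, hb] at h1
    exact (Nat.pow_lt_pow_iff_right (Fact.out : p.Prime).one_lt).1 h1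
  obtain ⟨M, hM, hHM⟩ := Sylow.exists_subgroup_card_pow_prime_le (G := G) p (n := b) (m := a - 1)
    (by rw [ha]; exact pow_dvd_pow p (by omega)) H hb (by omega)
  have hidx : M.index = p := by
    have h1 := Subgroup.card_mul_index M
    rw [hM, ha, show a = (a - 1) + 1 by omega, pow_succ, Nat.add_sub_cancel] at h1
    exact Nat.eq_of_mul_eq_mul_left (pow_pos (Fact.out : p.Prime).pos _) h1
  have hn : M.Normal := Subgroup.normal_of_index_eq_minFac_card (by
    rw [hidx, ha, Nat.pow_minFac (by omega), (Fact.out : p.Prime).minFac_eq])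
  have hcard : Nat.card (G ⧸ M) = p := hidx
  have hC : Nat.card (C p) = p := by
    rw [Nat.card_congr (Multiplicative.toAdd (α := ZMod p)), Nat.card_zmod]
  let e : G ⧸ M ≃* C p := mulEquivOfPrimeCardEq hcard hC
  refine ⟨e.toMonoidHom.comp (QuotientGroup.mk' M), e.surjective.comp (QuotientGroup.mk'_surjective M),
    fun x hx => ?_⟩
  show e (QuotientGroup.mk' M x) = 1
  rw [QuotientGroup.mk'_apply, (QuotientGroup.eq_one_iff x).2 (hHM hx), map_one]

omit [Finite G] in
theorem eq_one_of_forall_hom {A : Type*} [CommGroup A] (hexp : ∀ a : A, a ^ p = 1) (a : A)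
    (h : ∀ φ : A →* C p, φ a = 1) : a = 1 := by
  let iM : Module (ZMod p) (Additive A) :=
    AddCommGroup.zmodModule fun b => congrArg Additive.ofMul (hexp b.toMul)
  refine Additive.ofMul.injective (?_ : Additive.ofMul a = 0)
  let b := Module.Basis.ofVectorSpace (ZMod p) (Additive A)
  refine b.forall_coord_eq_zero_iff.1 fun i => ?_
  exact congrArg Multiplicative.toAdd
    (h (AddMonoidHom.toMultiplicativeRight (b.coord i).toAddMonoidHom))

/-- `Φ(G)` is the kernel of the homomorphisms to `C_p`. -/
theorem exists_hom_ne_one (hG : IsPGroup p G) {K : Subgroup G} (hK : commutator G ≤ K) {y : G}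
    (hy : y ∉ frattini G ⊔ K) : ∃ q : G →* C p, K ≤ q.ker ∧ q y ≠ 1 := by
  by_contra h
  push Not at h
  have hnil : Group.IsNilpotent G := hG.isNilpotent
  set N := frattini G ⊔ K
  have hNn : N.Normal := ⟨fun n hn g => by
    have h1 : g * n * g⁻¹ * n⁻¹ ∈ N := by
      refine Subgroup.mem_sup_right (hK ?_)
      have := Subgroup.commutator_mem_commutator (Subgroup.mem_top g) (Subgroup.mem_top n)
      rwa [commutatorElement_def] at this
    simpa using N.mul_mem h1 hn⟩
  have hcomm : ∀ a b : G ⧸ N, a * b = b * a := fun a b => by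
    induction a using QuotientGroup.induction_on with
    | _ a =>
      induction b using QuotientGroup.induction_on with
      | _ b =>
        rw [← QuotientGroup.mk_mul, ← QuotientGroup.mk_mul, QuotientGroup.eq]
        refine Subgroup.mem_sup_right (hK ?_)
        have := Subgroup.commutator_mem_commutator (Subgroup.mem_top b⁻¹) (Subgroup.mem_top a⁻¹)
        rw [commutatorElement_def] at this
        simpa [mul_assoc, commutator_def] using this
  have hexp : ∀ a : G ⧸ N, a ^ p = 1 := fun a => by
    induction a using QuotientGroup.induction_on with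
    | _ a =>
      rw [← QuotientGroup.mk_pow, QuotientGroup.eq_one_iff]
      refine Subgroup.mem_sup_left ?_
      show a ^ p ∈ Order.radical (Subgroup G)
      simp only [Order.radical, Subgroup.mem_iInf]
      intro M hM
      by_contra ha
      have hMt : M ≠ ⊤ := hM.1
      obtain ⟨q, hq, hMq⟩ := exists_hom hG hMt
      have hker : q.ker = M := by
        rcases hM.le_iff.1 hMq with h' | h'
        · exfalso
          obtain ⟨g, hg⟩ := hq (Multiplicative.ofAdd 1)
          have : g ∈ q.ker := h'.symm ▸ Subgroup.mem_top g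
          rw [MonoidHom.mem_ker, hg] at this
          exact one_ne_zero (ofAdd_eq_one.1 this)
        · exact h'
      refine ha (hker ▸ ?_)
      rw [MonoidHom.mem_ker, map_pow]
      refine Multiplicative.toAdd.injective ?_
      simp
  let iC : CommGroup (G ⧸ N) := { (inferInstance : Group (G ⧸ N)) with mul_comm := hcomm }
  refine hy ((QuotientGroup.eq_one_iff y).1 (eq_one_of_forall_hom hexp _ fun φ => ?_))
  refine h (φ.comp (QuotientGroup.mk' N)) fun k hk => ?_
  show φ (QuotientGroup.mk' N k) = 1
  rw [QuotientGroup.mk'_apply, (QuotientGroup.eq_one_iff k).2 (Subgroup.mem_sup_right hk), map_one]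

end PGroup

variable {Ω : Type u} [Group Ω] {S : Subgroup Ω} {F : FusionSystem S} {p : ℕ}
  [Finite S] [Fact p.Prime]

/-- Yoshida's theorem: if the automorphisms of `S` do not control transfer then `S` maps onto
`C_p ≀ C_p`. -/
theorem yoshida (hS : IsPGroup p S) (hF : F.IsSaturated p) {K : Subgroup Ω} (hK₁ : ⁅S, S⁆ ≤ K)
    (hK₂ : K ≤ F.focalSubgroup)
    (hK₃ : ∀ f : Ω → Ω, IsMap F S f → ∀ x ∈ S, x⁻¹ * f x ∈ K) (hne : K ≠ F.focalSubgroup) :
    ∃ f : ↥S →* C p ≀ᵣ C p, Function.Surjective f := by
  classical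
  by_contra hW
  obtain ⟨D⟩ := exists_data hS hF
  have hnot : ¬ F.focalSubgroup ≤ (frattini ↥S).map S.subtype ⊔ K :=
    fun h => hne (eq_focal_of_frattini hS hF hK₁ hK₂ h).symm
  obtain ⟨y, hy, hy'⟩ := SetLike.not_le_iff_exists.1 hnot
  obtain ⟨χ, hχK, hχy⟩ := exists_hom_ne_one (p := p) hS
    (K := K.subgroupOf S) (y := ⟨y, focal_le hy⟩) (by
      intro x hx
      refine hK₁ ?_
      rw [← Subgroup.map_subtype_commutator]
      exact ⟨x, hx, rfl⟩) (by
      intro h
      refine hy' ?_
      have h1 : (⟨y, focal_le hy⟩ : ↥S) ∈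
          ((frattini ↥S).map S.subtype ⊔ K).subgroupOf S := by
        rw [Subgroup.subgroupOf_sup (Subgroup.map_subtype_le _) (hK₂.trans focal_le),
          Subgroup.subgroupOf, Subgroup.comap_map_eq_self_of_injective S.subtype_injective]
        exact h
      exact h1)
  -- an element of minimal order
  have hex : ∃ n, ∃ u : ↥S, (u : Ω) ∈ F.focalSubgroup ∧ χ u ≠ 1 ∧ orderOf u = n :=
    ⟨_, ⟨y, focal_le hy⟩, hy, hχy, rfl⟩
  obtain ⟨u, huF, huχ, hun⟩ := Nat.find_spec hex
  have hsmall : ∀ z : ↥S, (z : Ω) ∈ F.focalSubgroup → orderOf z < orderOf u → χ z = 1 := by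
    intro z hz hlt
    by_contra h
    exact Nat.find_min hex (hun ▸ hlt) ⟨z, hz, h, rfl⟩
  have ht : D.transfer χ u = 1 := by
    obtain ⟨z, hz, hzu⟩ := D.focal_le χ huF
    exact Subtype.ext hzu ▸ hz
  have hpow : ∀ c : C p, c ^ p = 1 := fun c => Multiplicative.toAdd.injective (by simp)
  -- the contribution of each orbit
  let r := orbitRel ↥S D.O
  let single : D.O → Prop := fun o => ∀ x : ↥S, x • o = o
  have horb : ∀ b : D.O, ¬ single b →
      ∏ o ∈ Finset.univ.filter (fun o => o ∈ orbit ↥S b), χ (D.s u o) = 1 := by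
    intro b hb
    set W := Finset.univ.filter (fun o => o ∈ orbit ↥S b) with hWdef
    have hmemW : ∀ o, o ∈ W ↔ o ∈ orbit ↥S b := fun o => by simp [hWdef]
    obtain ⟨q, hq, hHq⟩ := exists_hom (p := p) hS (H := stabilizer ↥S b) (fun h => hb fun x => by
      have : x ∈ stabilizer ↥S b := h ▸ Subgroup.mem_top x
      exact this)
    by_cases hu : q u = 1
    · -- `u` in the maximal subgroup: reduce to its conjugates
      choose rr hr using hq
      let W₀ := Finset.univ.filter (fun o => ∃ m ∈ q.ker, m • b = o)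
      have hW₀ : ∀ o, o ∈ W₀ ↔ ∃ m ∈ q.ker, m • b = o := fun o => by simp [W₀]
      let ψ : q.ker →* C p := MonoidHom.mk' (fun m => ∏ o ∈ W₀, χ (D.s m o)) fun m m' => by
        simp only [Subgroup.coe_mul, D.cocycle, map_mul, Finset.prod_mul_distrib]
        congr 1
        refine Finset.prod_equiv (MulAction.toPerm (m' : ↥S)) (fun o => ?_) fun _ _ => rfl
        rw [hW₀, hW₀, MulAction.toPerm_apply]
        constructor
        · rintro ⟨n, hn, rfl⟩
          exact ⟨m' * n, Subgroup.mul_mem _ m'.2 hn, mul_smul _ _ _⟩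
        · rintro ⟨n, hn, e⟩
          exact ⟨(m' : ↥S)⁻¹ * n, Subgroup.mul_mem _ (Subgroup.inv_mem _ m'.2) hn,
            by rw [mul_smul, e, inv_smul_smul]⟩
      have hv : ∀ g, (rr g)⁻¹ * u * rr g ∈ q.ker := fun g => by
        simp [MonoidHom.mem_ker, hu]
      have hblock : ∏ o ∈ W, χ (D.s u o) = ∏ g, ψ ⟨_, hv g⟩ := by
        have h1 : ∏ o ∈ W, χ (D.s u o) = ∏ w ∈ Finset.univ ×ˢ W₀, χ (D.s u (rr w.1 • w.2)) := by
          refine (Finset.prod_bij (fun w _ => rr w.1 • w.2) ?_ ?_ ?_ fun _ _ => rfl).symm
          · rintro ⟨g, o⟩ hw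
            obtain ⟨m, -, rfl⟩ := (hW₀ o).1 (Finset.mem_product.1 hw).2
            exact (hmemW _).2 ⟨rr g * m, mul_smul _ _ _⟩
          · rintro ⟨g, o⟩ hw ⟨g', o'⟩ hw' e
            obtain ⟨m, hm, rfl⟩ := (hW₀ o).1 (Finset.mem_product.1 hw).2
            obtain ⟨m', hm', rfl⟩ := (hW₀ o').1 (Finset.mem_product.1 hw').2
            dsimp only at e
            have h2 : (rr g' * m')⁻¹ * (rr g * m) ∈ stabilizer ↥S b := by
              rw [mem_stabilizer_iff, mul_smul, mul_smul (rr g) m, e, ← mul_smul (rr g') m',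
                inv_smul_smul]
            have h3 := hHq h2
            rw [MonoidHom.mem_ker, map_mul, map_inv, map_mul, map_mul, hr, hr,
              MonoidHom.mem_ker.1 hm, MonoidHom.mem_ker.1 hm', mul_one, mul_one,
              inv_mul_eq_one] at h3
            subst h3
            exact Prod.ext rfl (MulAction.injective _ e)
          · intro o ho
            obtain ⟨x, rfl⟩ := (hmemW o).1 ho
            refine ⟨(q x, ((rr (q x))⁻¹ * x) • b), Finset.mem_product.2 ⟨Finset.mem_univ _,
              (hW₀ _).2 ⟨_, ?_, rfl⟩⟩, ?_⟩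
            · rw [MonoidHom.mem_ker, map_mul, map_inv, hr, inv_mul_cancel]
            · show rr (q x) • ((rr (q x))⁻¹ * x) • b = x • b
              rw [← mul_smul, mul_inv_cancel_left]
        rw [h1, Finset.prod_product]
        refine Finset.prod_congr rfl fun g _ => ?_
        show _ = ∏ o ∈ W₀, χ (D.s ((rr g)⁻¹ * u * rr g) o)
        have h4 : ∀ o, χ (D.s u (rr g • o)) = χ (D.s (rr g) (((rr g)⁻¹ * u * rr g) • o)) *
            χ (D.s ((rr g)⁻¹ * u * rr g) o) * (χ (D.s (rr g) o))⁻¹ := fun o => by
          have h5 := congrArg χ (D.cocycle u (rr g) o)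
          have h6 := congrArg χ (D.cocycle (rr g) ((rr g)⁻¹ * u * rr g) o)
          rw [show rr g * ((rr g)⁻¹ * u * rr g) = u * rr g by group] at h6
          rw [map_mul] at h5 h6
          rw [← h6, h5, mul_inv_cancel_right]
        simp only [h4, Finset.prod_mul_distrib, Finset.prod_inv_distrib]
        have h7 : ∏ o ∈ W₀, χ (D.s (rr g) (((rr g)⁻¹ * u * rr g) • o)) =
            ∏ o ∈ W₀, χ (D.s (rr g) o) := by
          refine Finset.prod_equiv (MulAction.toPerm ((rr g)⁻¹ * u * rr g)) (fun o => ?_)
            fun _ _ => rfl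
          rw [hW₀, hW₀, MulAction.toPerm_apply]
          constructor
          · rintro ⟨n, hn, rfl⟩
            exact ⟨_, Subgroup.mul_mem _ (hv g) hn, mul_smul _ _ _⟩
          · rintro ⟨n, hn, e⟩
            exact ⟨_, Subgroup.mul_mem _ (Subgroup.inv_mem _ (hv g)) hn,
              by rw [mul_smul, e, inv_smul_smul]⟩
        rw [h7, mul_inv_cancel_comm]
      rw [hblock]
      by_contra h
      exact hW (exists_surjective q rr hr ψ u hu h)
    · -- `u` fixes no point of the orbit
      have hnf : ∀ o ∈ W, u • o ≠ o := by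
        intro o ho e
        obtain ⟨x, rfl⟩ := (hmemW o).1 ho
        have h1 : x⁻¹ * u * x ∈ stabilizer ↥S b := by
          rw [mem_stabilizer_iff, mul_smul, mul_smul, e, inv_smul_smul]
        have h2 := hHq h1
        rw [MonoidHom.mem_ker, map_mul, map_mul, map_inv, mul_comm, mul_inv_cancel_left] at h2
        exact hu h2
      let L := Subgroup.zpowers u
      let r' := orbitRel L D.O
      have hex' : ∀ o : D.O, ∃ w : L, w • (Quotient.mk r' o).out = o := fun o => by
        have h1 : (Quotient.mk r' o).out ∈ orbit L o :=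
          orbitRel_apply.1 (Quotient.exact (Quotient.out_eq (Quotient.mk r' o)))
        exact mem_orbit_symm.1 h1
      choose w hw using hex'
      let c : D.O → C p := fun o => χ (D.s (w o) (Quotient.mk r' o).out)
      have hWinv : ∀ o, u • o ∈ W ↔ o ∈ W := fun o => by
        rw [hmemW, hmemW]
        exact ⟨fun ⟨x, hx⟩ => ⟨u⁻¹ * x, show (u⁻¹ * x) • b = o by
            rw [mul_smul, show x • b = u • o from hx, inv_smul_smul]⟩,
          fun ⟨x, hx⟩ => ⟨u * x, show (u * x) • b = u • o by rw [mul_smul, show x • b = o from hx]⟩⟩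
      have hkey : ∀ o ∈ W, χ (D.s u o) = c (u • o) * (c o)⁻¹ := by
        intro o ho
        have he : Quotient.mk r' (u • o) = Quotient.mk r' o :=
          Quotient.sound (orbitRel_apply.2 (mem_orbit o (⟨u, Subgroup.mem_zpowers u⟩ : L)))
        set v := (Quotient.mk r' o).out with hv
        have hwo : (w o : ↥S) • v = o := hw o
        have hwu : (w (u • o) : ↥S) • v = u • o := by
          have := hw (u • o); rwa [he] at this
        set g : ↥S := ((w (u • o) : ↥S))⁻¹ * (u * w o) with hg
        have hgv : g • v = v := by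
          rw [hg, mul_smul, mul_smul, hwo, inv_smul_eq_iff, hwu]
        have hgL : g ∈ L := L.mul_mem (L.inv_mem (w _).2) (L.mul_mem (Subgroup.mem_zpowers u) (w o).2)
        have hlt : orderOf g < orderOf u := by
          refine lt_of_le_of_ne (Nat.le_of_dvd (orderOf_pos u) (orderOf_dvd_of_mem_zpowers hgL))
            fun e => hnf o ho ?_
          have hz : Subgroup.zpowers g = L := Subgroup.eq_of_le_of_card_ge
            (Subgroup.zpowers_le.2 hgL) (le_of_eq (by
              show Nat.card (Subgroup.zpowers u) = _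
              rw [Nat.card_zpowers, Nat.card_zpowers, e]))
          have huv : u • v = v := by
            obtain ⟨k, hk⟩ := Subgroup.mem_zpowers_iff.1
              (hz.ge (Subgroup.mem_zpowers u))
            rw [← hk]
            exact (stabilizer ↥S v).zpow_mem hgv k
          obtain ⟨k, hk⟩ := Subgroup.mem_zpowers_iff.1 (w o).2
          rw [← hwo, ← mul_smul, ← hk, ← zpow_one_add, add_comm, zpow_add_one, mul_smul, huv]
        obtain ⟨Q, f, hf, hQ⟩ := D.stab v
        have hgQ := (hQ g).1.1 hgv
        have hgF : (g : Ω) ∈ F.focalSubgroup := by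
          obtain ⟨k, hk⟩ := Subgroup.mem_zpowers_iff.1 hgL
          rw [← hk, Subgroup.coe_zpow]
          exact Subgroup.zpow_mem _ huF k
        have hsg : χ (D.s g v) = 1 := by
          rw [(hQ g).2 hgQ]
          refine hsmall _ ?_ ?_
          · simpa using Subgroup.mul_mem _ hgF (mem_focal_of_isMap hf hgQ)
          · refine lt_of_le_of_lt (Nat.le_of_dvd (orderOf_pos g) ?_) hlt
            refine orderOf_dvd_of_pow_eq_one (Subtype.ext ?_)
            have h1 := map_pow hf.hom ⟨(g : Ω), hgQ⟩ (orderOf g)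
            rw [show (⟨(g : Ω), hgQ⟩ : Q) ^ orderOf g = 1 from
              Subtype.ext (show (g : Ω) ^ orderOf g = 1 from congrArg Subtype.val (pow_orderOf_eq_one g)),
              map_one] at h1
            rw [Subgroup.coe_pow]
            exact h1.symm
        have h8 := congrArg (fun z => χ (D.s z v))
          (show u * (w o : ↥S) = (w (u • o) : ↥S) * g by rw [hg]; group)
        simp only [D.cocycle, hgv, hwo, map_mul, hsg, mul_one] at h8
        show _ = χ (D.s (w (u • o)) (Quotient.mk r' (u • o)).out) * (χ (D.s (w o) v))⁻¹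
        rw [he, ← hv, ← h8, mul_inv_cancel_right]
      rw [Finset.prod_congr rfl hkey, Finset.prod_mul_distrib, Finset.prod_inv_distrib,
        show (∏ o ∈ W, c (u • o)) = ∏ o ∈ W, c o from
          Finset.prod_equiv (MulAction.toPerm u) (fun o => (hWinv o).symm) fun _ _ => rfl,
        mul_inv_cancel]
  -- split into orbits
  have : Fintype (Quotient r) := Fintype.ofFinite _
  have hsplit : D.transfer χ u = ∏ c : Quotient r,
      if single c.out then χ u else 1 := by
    rw [D.transfer_apply, ← Finset.prod_fiberwise Finset.univ (Quotient.mk r)]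
    refine Finset.prod_congr rfl fun c _ => ?_
    have hset : Finset.univ.filter (fun o => Quotient.mk r o = c) =
        Finset.univ.filter (fun o => o ∈ orbit ↥S c.out) := by
      refine Finset.filter_congr fun o _ => ⟨fun h => ?_, fun h => ?_⟩
      · exact orbitRel_apply.1 (Quotient.exact (h.trans (Quotient.out_eq c).symm))
      · exact (Quotient.sound (orbitRel_apply.2 h)).trans (Quotient.out_eq c)
    rw [hset]
    split_ifs with h
    · rw [show Finset.univ.filter (fun o => o ∈ orbit ↥S c.out) = {c.out} from by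
        ext o
        simp only [Finset.mem_filter, Finset.mem_univ, true_and, Finset.mem_singleton]
        exact ⟨fun ⟨x, hx⟩ => hx ▸ h x, fun e => e ▸ mem_orbit_self _⟩, Finset.prod_singleton]
      obtain ⟨Q, f, hf, hQ⟩ := D.stab c.out
      have huQ := (hQ u).1.1 (h u)
      rw [(hQ u).2 huQ]
      refine (inv_mul_eq_one.1 ?_).symm
      rw [← map_inv, ← map_mul]
      have hSQ : S ≤ Q := fun x hx => (hQ ⟨x, hx⟩).1.1 (h _)
      exact hχK (Subgroup.mem_subgroupOf.2 (hK₃ f (hf.restrict hSQ) u u.2))
    · exact horb c.out h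
  rw [hsplit, Finset.prod_ite, Finset.prod_const, Finset.prod_const_one, mul_one] at ht
  -- the number of fixed orbits is prime to `p`
  set N := (Finset.univ.filter fun c : Quotient r => single c.out).card with hN
  have hNeq : N = Nat.card (fixedPoints ↥S D.O) := by
    rw [Nat.card_eq_fintype_card, Fintype.card_subtype]
    refine Finset.card_bij (fun c _ => c.out) (fun c hc => ?_)
      (fun c _ c' _ e => by rw [← Quotient.out_eq c, ← Quotient.out_eq c', e]) fun o ho => ?_
    · simp only [Finset.mem_filter, Finset.mem_univ, true_and] at hc ⊢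
      exact hc
    · simp only [Finset.mem_filter, Finset.mem_univ, true_and] at ho
      have h1 : (Quotient.mk r o).out = o := by
        obtain ⟨x, hx⟩ := orbitRel_apply.1 (Quotient.exact (Quotient.out_eq (Quotient.mk r o)))
        exact hx.symm.trans (ho x)
      exact ⟨Quotient.mk r o, by
        simp only [Finset.mem_filter, Finset.mem_univ, true_and]
        intro x; rw [h1]; exact ho x, h1⟩
  have hNp : N.Coprime p := by
    rw [hNeq, Nat.coprime_comm, (Fact.out : p.Prime).coprime_iff_not_dvd]
    intro hd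
    have h1 := hS.card_modEq_card_fixedPoints D.O
    have h2 : p ∣ Nat.card D.O := (Nat.modEq_zero_iff_dvd.1 (h1.trans (Nat.modEq_zero_iff_dvd.2 hd)))
    rw [Nat.card_eq_fintype_card] at h2
    exact (Fact.out : p.Prime).coprime_iff_not_dvd.1 D.coprime.symm h2
  exact huχ (orderOf_eq_one_iff.1 (Nat.eq_one_of_dvd_coprimes hNp
    (orderOf_dvd_of_pow_eq_one ht) (orderOf_dvd_of_pow_eq_one (hpow _))))

end Cfsg.Agent.Fusion.Yoshida
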